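import Cfsg.Agent.ThType.NatData
import Cfsg.Agent.S0215
import Cfsg.Agent.S1180
import Mathlib.GroupTheory.Perm.Centralizer
import Mathlib.GroupTheory.Perm.Cycle.Type

/-!
# Thompson type (project R05): the natural-module case does not occur
-/

set_option autoImplicit false

namespace Cfsg.Agent.ThType.FusN

open Equiv Cfsg.Agent.ThType.SpinData Cfsg.Agent.ThType.NatData

/-! ### vectors with two letters -/

/-- the vector with support `{a, b}` (zero if `a = b`) -/
def pr (a b : Fin 9) : Fin 9 → ZMod 2 := fun i => (if i = a then 1 else 0) + (if i = b then 1 else 0)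

theorem wt_pr : ∀ a b : Fin 9, a ≠ b → wt (pr a b) = 2 := by decide +kernel

theorem pr_ne : ∀ a b : Fin 9, a ≠ b → pr a b ≠ 0 := by decide +kernel

theorem sum_pr : ∀ a b : Fin 9, ∑ i, pr a b i = 0 := by decide +kernel

theorem wt_pr_pr : ∀ a b c d : Fin 9, [a, b, c, d].Nodup → wt (pr a b + pr c d) = 4 := by
  decide +kernel

theorem pr_pr_ne : ∀ a b c d : Fin 9, [a, b, c, d].Nodup → pr a b + pr c d ≠ 0 := by
  decide +kernel

theorem pr_add : ∀ a b e : Fin 9, pr a e + pr b e = pr a b := by decide +kernel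

theorem pr_add' : ∀ a b e : Fin 9, pr a b + pr b e = pr a e := by decide +kernel

theorem pr_perm (σ : Perm (Fin 9)) (a b i : Fin 9) : pr (σ a) (σ b) (σ i) = pr a b i := by
  simp [pr]

theorem sum_pr_mul (a b : Fin 9) (v : Fin 9 → ZMod 2) : ∑ i, pr a b i * v i = v a + v b := by
  simp [pr, add_mul, Finset.sum_add_distrib]

/-! ### letters of an even involution -/

theorem pinv (σ : Perm (Fin 9)) (i : Fin 9) : σ (σ⁻¹ i) = i := σ.apply_symm_apply i

theorem invp (σ : Perm (Fin 9)) (i : Fin 9) : σ⁻¹ (σ i) = i := σ.symm_apply_apply i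

theorem exists_fixed (σ : Perm (Fin 9)) (h2 : σ * σ = 1) : ∃ e, σ e = e := by
  have : Fact (Nat.Prime 2) := ⟨Nat.prime_two⟩
  exact Equiv.Perm.exists_fixed_point_of_prime (p := 2) (n := 1) (by simp) (by rw [pow_one, pow_two, h2])

theorem exists_moved (σ : Perm (Fin 9)) (h1 : σ ≠ 1) : ∃ a, σ a ≠ a := by
  by_contra h
  push Not at h
  exact h1 (Equiv.ext h)

theorem exists_two_moved (σ : Perm (Fin 9)) (hσ : σ ∈ alternatingGroup (Fin 9)) (h2 : σ * σ = 1)
    (h1 : σ ≠ 1) : ∃ a b, σ a ≠ a ∧ σ b ≠ b ∧ b ≠ a ∧ b ≠ σ a := by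
  obtain ⟨a, ha⟩ := exists_moved σ h1
  refine ⟨a, ?_⟩
  by_contra h
  push Not at h
  have hs : σ = swap a (σ a) := by
    ext1 i
    by_cases hia : i = a
    · rw [hia, swap_apply_left]
    by_cases hib : i = σ a
    · rw [hib, swap_apply_right, ← Perm.mul_apply, h2, Perm.one_apply]
    rw [swap_apply_of_ne_of_ne hia hib]
    by_contra hne
    exact hib (h i ha hne hia)
  rw [Equiv.Perm.mem_alternatingGroup, hs, Equiv.Perm.sign_swap (Ne.symm ha)] at hσ
  exact absurd hσ (by decide)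

/-! ### no element of order 15 of `S₉` commutes with an involution -/

theorem no_fifteen (k τ : Perm (Fin 9)) (hk : orderOf k = 15) (hτ : τ * τ = 1) (hτ1 : τ ≠ 1)
    (hc : k * τ = τ * k) : False := by
  classical
  have hsum : k.cycleType.sum ≤ 9 := by
    rw [Equiv.Perm.sum_cycleType]
    exact (Finset.card_le_univ _).trans (by simp)
  have hlcm : k.cycleType.lcm = 15 := by rw [Equiv.Perm.lcm_cycleType, hk]
  have hmem : ∀ n ∈ k.cycleType, n = 3 ∨ n = 5 := by
    intro n hn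
    have h1 : n ∣ 15 := hlcm ▸ Multiset.dvd_lcm hn
    have h2 := Equiv.Perm.two_le_of_mem_cycleType hn
    have h3 : n ≤ 9 := (Multiset.le_sum_of_mem hn).trans hsum
    interval_cases n <;> simp_all (config := {decide := true})
  have h3 : 3 ∈ k.cycleType := by
    by_contra h
    have : k.cycleType.lcm ∣ 5 := Multiset.lcm_dvd.2 fun n hn => by
      rcases hmem n hn with rfl | rfl
      · exact absurd hn h
      · exact dvd_rfl
    rw [hlcm] at this
    revert this; decide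
  have h5 : 5 ∈ k.cycleType := by
    by_contra h
    have : k.cycleType.lcm ∣ 3 := Multiset.lcm_dvd.2 fun n hn => by
      rcases hmem n hn with rfl | rfl
      · exact dvd_rfl
      · exact absurd hn h
    rw [hlcm] at this
    revert this; decide
  obtain ⟨m1, hm1⟩ := Multiset.exists_cons_of_mem h5
  have h3' : 3 ∈ m1 := by
    rw [hm1, Multiset.mem_cons] at h3
    rcases h3 with h | h
    · exact absurd h (by decide)
    · exact h
  obtain ⟨m2, hm2⟩ := Multiset.exists_cons_of_mem h3'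
  have hm2' : m2 = 0 := by
    rw [Multiset.eq_zero_iff_forall_notMem]
    intro n hn
    have h2 := Equiv.Perm.two_le_of_mem_cycleType (σ := k) (n := n) (by rw [hm1, hm2]; simp [hn])
    have h9 : n ≤ m2.sum := Multiset.le_sum_of_mem hn
    rw [hm1, hm2, Multiset.sum_cons, Multiset.sum_cons] at hsum
    omega
  have hct : k.cycleType = {5, 3} := by rw [hm1, hm2, hm2']; rfl
  have hcard : Nat.card (Subgroup.centralizer ({k} : Set (Perm (Fin 9)))) = 15 := by
    rw [Equiv.Perm.nat_card_centralizer, hct]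
    decide
  have hτo : orderOf τ = 2 := orderOf_eq_prime (by rw [pow_two, hτ]) hτ1
  have hτm : τ ∈ Subgroup.centralizer ({k} : Set (Perm (Fin 9))) := by
    rw [Subgroup.mem_centralizer_singleton_iff]
    exact hc.symm
  have hd : orderOf (⟨τ, hτm⟩ : Subgroup.centralizer ({k} : Set (Perm (Fin 9)))) ∣ 15 := by
    rw [← hcard]; exact orderOf_dvd_natCard _
  rw [Subgroup.orderOf_mk, hτo] at hd
  revert hd; decide

/-! ### Z* for simple groups -/

theorem exists_commute_ne {G : Type*} [Group G] [Finite G] [IsSimpleGroup G] {t : G}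
    (ht : t * t = 1) (ht1 : t ≠ 1) (hc : ∃ x, x * t ≠ t * x) :
    ∃ g, g * t * g⁻¹ * t = t * (g * t * g⁻¹) ∧ g * t * g⁻¹ ≠ t := by
  classical
  have hf : Fact (Nat.Prime 2) := ⟨Nat.prime_two⟩
  have hot : orderOf t = 2 := orderOf_eq_prime (by rw [pow_two, ht]) ht1
  by_contra hcon
  push Not at hcon
  have hiso : Cfsg.IsIsolatedInvolution t := ⟨hot, fun g hg => hcon g hg.symm⟩
  have hzp : IsPGroup 2 (Subgroup.zpowers t) := by
    apply IsPGroup.of_card (n := 1)
    rw [Nat.card_zpowers, hot, pow_one]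
  obtain ⟨P, hP⟩ := hzp.exists_le_sylow
  have hzP : t ∈ P := hP (Subgroup.mem_zpowers t)
  obtain ⟨N, hN, hodd, hNz⟩ := Cfsg.Agent.S0215.result P t hot hzP
    (fun g hg => Cfsg.Agent.S1180.eq_of_conj_mem_isPGroup t hiso P P.isPGroup' hzP g hg)
  rcases hN.eq_bot_or_eq_top with h | h
  · obtain ⟨x, hx⟩ := hc
    apply hx
    have h1 := hNz x
    rw [h, Subgroup.mem_bot, mul_inv_eq_one, mul_inv_eq_iff_eq_mul] at h1
    exact h1.symm
  · rw [h, Subgroup.card_top] at hodd
    have := orderOf_dvd_natCard t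
    rw [hot] at this
    exact (Nat.not_odd_iff_even.2 (even_iff_two_dvd.2 this)) hodd

variable {G : Type*} [Group G]

/-! ### basic consequences of the structure -/

set_option linter.unusedSectionVars false

section basic

variable {z : G} (S : NatAt G z)

include S

theorem inv_z : z⁻¹ = z := inv_eq_of_mul_eq_one_left S.z_sq

theorem phi_one : S.φ 1 = 1 := (S.φ_eq_one 1 (by simp)).2 (one_mem _)

theorem commInv {x : G} (hx : x * z = z * x) : x⁻¹ * z = z * x⁻¹ := by
  have h : Commute x z := hx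
  exact h.inv_left

theorem commMul {x y : G} (hx : x * z = z * x) (hy : y * z = z * y) :
    (x * y) * z = z * (x * y) := by
  have h : Commute x z := hx
  have h' : Commute y z := hy
  exact h.mul_left h'

theorem phi_inv {x : G} (hx : x * z = z * x) : S.φ x⁻¹ = (S.φ x)⁻¹ := by
  apply eq_inv_of_mul_eq_one_left
  rw [← S.φ_mul _ _ (commInv S hx) hx, inv_mul_cancel, phi_one]

theorem phi_pow {x : G} (hx : x * z = z * x) (n : ℕ) : S.φ (x ^ n) = S.φ x ^ n := by
  induction n with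
  | zero => simp [phi_one]
  | succ n ih =>
    have h : Commute x z := hx
    rw [pow_succ, S.φ_mul _ _ (h.pow_left n) hx, ih, pow_succ]

theorem phi_Q {x : G} (hx : x ∈ S.Q) : S.φ x = 1 := (S.φ_eq_one x (S.Q_le x hx)).2 hx

theorem conj_mem_Q {c x : G} (hc : c * z = z * c) (hx : x ∈ S.Q) : c * x * c⁻¹ ∈ S.Q := by
  have h1 := commMul S (commMul S hc (S.Q_le x hx)) (commInv S hc)
  rw [← S.φ_eq_one _ h1, S.φ_mul _ _ (commMul S hc (S.Q_le x hx)) (commInv S hc),
    S.φ_mul _ _ hc (S.Q_le x hx), phi_Q S hx, phi_inv S hc, mul_one, mul_inv_cancel]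

theorem pi_one : S.π 1 = 0 := (S.π_eq_zero 1 (one_mem _)).2 (Or.inl rfl)

theorem pi_inv {x : G} (hx : x ∈ S.Q) : S.π x⁻¹ = S.π x := by
  have h := S.π_mul x hx x⁻¹ (inv_mem hx)
  rw [mul_inv_cancel, pi_one] at h
  have h2 : S.π x + S.π x = 0 := by
    funext i
    exact CharTwo.add_self_eq_zero _
  exact (add_left_cancel (h2.trans h)).symm

theorem pi_conj {c x : G} (hc : c * z = z * c) (hx : x ∈ S.Q) (i : Fin 9) :
    S.π (c * x * c⁻¹) i = S.π x ((S.φ c : Perm (Fin 9))⁻¹ i) := by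
  have h := S.act c hc x hx ((S.φ c : Perm (Fin 9))⁻¹ i)
  rwa [pinv] at h

theorem pow_four {x : G} (hx : x ∈ S.Q) : x ^ 4 = 1 := by
  have h := S.sq x hx
  have h4 : x ^ 4 = (x * x) * (x * x) := by simp only [pow_succ, pow_zero, one_mul, mul_assoc]
  rw [h4, h]
  split_ifs
  · exact one_mul 1
  · exact S.z_sq

theorem sq_cases {x : G} (hx : x ∈ S.Q) : x * x = 1 ∨ x * x = z := by
  have h := S.sq x hx
  split_ifs at h
  · exact Or.inl h
  · exact Or.inr h

theorem four_dvd_wt {x : G} (hx : x ∈ S.Q) (h2 : x * x = 1) : 4 ∣ wt (S.π x) := by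
  have h := S.sq x hx
  by_contra h4
  rw [if_neg h4, h2] at h
  exact S.z_ne h.symm

/-- the commutator of `s` with `x ∈ Q`, when the images of `x` and `s x s⁻¹` are known -/
theorem pi_comm {s x : G} (hs : s * z = z * s) (hx : x ∈ S.Q) :
    s * x * s⁻¹ * x⁻¹ ∈ S.Q ∧ S.π (s * x * s⁻¹ * x⁻¹) = S.π (s * x * s⁻¹) + S.π x := by
  have h1 := conj_mem_Q S hs hx
  refine ⟨mul_mem h1 (inv_mem hx), ?_⟩
  rw [S.π_mul _ h1 _ (inv_mem hx), pi_inv S hx]

theorem pi_conj_pr {s x : G} (hs : s * z = z * s) (hx : x ∈ S.Q) {a b : Fin 9}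
    (h : S.π x = pr a b) : S.π (s * x * s⁻¹) =
      pr ((S.φ s : Perm (Fin 9)) a) ((S.φ s : Perm (Fin 9)) b) := by
  funext i
  rw [pi_conj S hs hx, h, ← pr_perm (S.φ s : Perm (Fin 9)), pinv]

theorem phi_sq {s : G} (hs : s * z = z * s) (h2 : s * s = 1) :
    (S.φ s : Perm (Fin 9)) * (S.φ s : Perm (Fin 9)) = 1 := by
  rw [← Subgroup.coe_mul, ← S.φ_mul _ _ hs hs, h2, phi_one, Subgroup.coe_one]

theorem phi_ne {s : G} (hs : s * z = z * s) (hsQ : s ∉ S.Q) : (S.φ s : Perm (Fin 9)) ≠ 1 := by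
  intro h
  exact hsQ ((S.φ_eq_one s hs).1 (Subtype.ext h))

/-- (P1) -/
theorem P1 {s : G} (hs : s * z = z * s) (h2 : s * s = 1) (hsQ : s ∉ S.Q) :
    ∃ d, d⁻¹ * s * d = s * z := by
  obtain ⟨e, he⟩ := exists_fixed _ (phi_sq S hs h2)
  obtain ⟨a, ha⟩ := exists_moved _ (phi_ne S hs hsQ)
  obtain ⟨x, hx, hxπ⟩ := S.π_surj (pr a e) (sum_pr a e)
  obtain ⟨hd, hdπ⟩ := pi_comm S hs hx
  rw [pi_conj_pr S hs hx hxπ, hxπ, he, pr_add] at hdπ
  set d := s * x * s⁻¹ * x⁻¹ with hdd
  have hdd2 : d * d = z := by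
    rw [S.sq d hd, hdπ, wt_pr _ _ ha, if_neg (by decide)]
  have hsi : s⁻¹ = s := inv_eq_of_mul_eq_one_left h2
  have hinv : s * d * s = d⁻¹ := by
    rw [hdd, hsi]
    calc s * (s * x * s * x⁻¹) * s = (s * s) * (x * s * x⁻¹ * s) := by group
      _ = x * s * x⁻¹ * s := by rw [h2, one_mul]
      _ = (s⁻¹ * x * s⁻¹ * x⁻¹)⁻¹ := by group
      _ = _ := by rw [hsi]
  refine ⟨d, ?_⟩
  calc d⁻¹ * s * d = d⁻¹ * (s * d * s) * (s⁻¹) := by group
    _ = (d * d)⁻¹ * s := by rw [hinv, hsi]; group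
    _ = z * s := by rw [hdd2, inv_z S]
    _ = s * z := hs.symm

/-- (P2) -/
theorem P2 {s : G} (hs : s * z = z * s) (h2 : s * s = 1) (hsQ : s ∉ S.Q) :
    ∃ y d, d ∈ S.Q ∧ d * d = 1 ∧ d ≠ 1 ∧ d ≠ z ∧ s * d = y * s * y⁻¹ ∧ s * d = d * s := by
  obtain ⟨a, b, ha, hb, hba, hbs⟩ := exists_two_moved _ (S.φ s).2 (phi_sq S hs h2) (phi_ne S hs hsQ)
  obtain ⟨x, hx, hxπ⟩ := S.π_surj (pr a b) (sum_pr a b)
  obtain ⟨hd, hdπ⟩ := pi_comm S hs hx
  rw [pi_conj_pr S hs hx hxπ, hxπ] at hdπ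
  set d := s * x * s⁻¹ * x⁻¹ with hdd
  have hsi : s⁻¹ = s := inv_eq_of_mul_eq_one_left h2
  have hσ := phi_sq S hs h2
  set σ := (S.φ s : Perm (Fin 9)) with hσd
  have hnod : [σ a, σ b, a, b].Nodup := by
    have h3 : σ (σ a) = a := by rw [← Perm.mul_apply, hσ, Perm.one_apply]
    have h4 : σ b ≠ a := by
      intro h
      have : σ b = σ (σ a) := by rw [h3]; exact h
      exact hbs (σ.injective this)
    have h5 : σ a ≠ σ b := fun h => hba (σ.injective h).symm
    simp only [List.nodup_cons, List.mem_cons, List.not_mem_nil, or_false, not_or, not_false_iff,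
      List.nodup_nil, and_true]
    exact ⟨⟨h5, ha, fun h => hbs h.symm⟩, ⟨h4, hb⟩, fun h => hba h.symm⟩
  have hinv : s * d * s = d⁻¹ := by
    rw [hdd, hsi]
    calc s * (s * x * s * x⁻¹) * s = (s * s) * (x * s * x⁻¹ * s) := by group
      _ = x * s * x⁻¹ * s := by rw [h2, one_mul]
      _ = (s⁻¹ * x * s⁻¹ * x⁻¹)⁻¹ := by group
      _ = _ := by rw [hsi]
  have hd2 : d * d = 1 := by
    rw [S.sq d hd, hdπ, wt_pr_pr _ _ _ _ hnod, if_pos (by decide)]
  have hne := pr_pr_ne _ _ _ _ hnod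
  rw [← hdπ] at hne
  refine ⟨x, d, hd, hd2, ?_, ?_, ?_, ?_⟩
  · intro h
    exact hne ((S.π_eq_zero d hd).2 (Or.inl h))
  · intro h
    exact hne ((S.π_eq_zero d hd).2 (Or.inr h))
  · rw [hdd, hsi]
    calc s * (s * x * s * x⁻¹) = (s * s) * (x * s * x⁻¹) := by group
      _ = _ := by rw [h2, one_mul]
  · have h3 : d⁻¹ = d := inv_eq_of_mul_eq_one_left hd2
    rw [h3] at hinv
    calc s * d = s * d * (s * s) := by rw [h2, mul_one]
      _ = (s * d * s) * s := by group
      _ = d * s := by rw [hinv]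

end basic

/-! ### transport by conjugation -/

/-- the structure at a conjugate -/
def conj {z : G} (S : NatAt G z) (g : G) : NatAt G (g * z * g⁻¹) where
  Q := S.Q.comap (MulAut.conj g⁻¹).toMonoidHom
  φ x := S.φ (g⁻¹ * x * g)
  π x := S.π (g⁻¹ * x * g)
  z_ne := by
    intro h
    apply S.z_ne
    have : g⁻¹ * (g * z * g⁻¹) * g = g⁻¹ * 1 * g := by rw [h]
    calc z = g⁻¹ * (g * z * g⁻¹) * g := by group
      _ = g⁻¹ * 1 * g := this
      _ = 1 := by group
  z_sq := by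
    calc g * z * g⁻¹ * (g * z * g⁻¹) = g * (z * z) * g⁻¹ := by group
      _ = 1 := by rw [S.z_sq]; group
  Q_le x hx := by
    have h := S.Q_le _ hx
    simp only [MulEquiv.toMonoidHom_eq_coe, MonoidHom.coe_coe, MulAut.conj_apply, inv_inv] at h
    calc x * (g * z * g⁻¹) = g * ((g⁻¹ * x * g) * z) * g⁻¹ := by group
      _ = g * (z * (g⁻¹ * x * g)) * g⁻¹ := by rw [h]
      _ = _ := by group
  z_mem := by
    show (MulAut.conj g⁻¹) (g * z * g⁻¹) ∈ S.Q
    rw [MulAut.conj_apply, inv_inv, show g⁻¹ * (g * z * g⁻¹) * g = z by group]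
    exact S.z_mem
  φ_mul x y hx hy := by
    have e : ∀ x : G, x * (g * z * g⁻¹) = g * z * g⁻¹ * x → (g⁻¹ * x * g) * z = z * (g⁻¹ * x * g) := by
      intro x hx
      calc (g⁻¹ * x * g) * z = g⁻¹ * (x * (g * z * g⁻¹)) * g := by group
        _ = g⁻¹ * (g * z * g⁻¹ * x) * g := by rw [hx]
        _ = _ := by group
    rw [← S.φ_mul _ _ (e x hx) (e y hy)]
    congr 1
    group
  φ_surj h := by
    obtain ⟨x, hx, hxh⟩ := S.φ_surj h
    refine ⟨g * x * g⁻¹, ?_, ?_⟩
    · calc g * x * g⁻¹ * (g * z * g⁻¹) = g * (x * z) * g⁻¹ := by group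
        _ = g * (z * x) * g⁻¹ := by rw [hx]
        _ = _ := by group
    · rw [show g⁻¹ * (g * x * g⁻¹) * g = x by group, hxh]
  φ_eq_one x hx := by
    have e : (g⁻¹ * x * g) * z = z * (g⁻¹ * x * g) := by
      calc (g⁻¹ * x * g) * z = g⁻¹ * (x * (g * z * g⁻¹)) * g := by group
        _ = g⁻¹ * (g * z * g⁻¹ * x) * g := by rw [hx]
        _ = _ := by group
    rw [S.φ_eq_one _ e]
    show _ ↔ (MulAut.conj g⁻¹) x ∈ S.Q
    rw [MulAut.conj_apply, inv_inv]
  π_mul x hx y hy := by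
    have hx' : (MulAut.conj g⁻¹) x ∈ S.Q := hx
    have hy' : (MulAut.conj g⁻¹) y ∈ S.Q := hy
    rw [MulAut.conj_apply, inv_inv] at hx' hy'
    rw [← S.π_mul _ hx' _ hy']
    congr 1
    group
  π_sum x hx := by
    have hx' : (MulAut.conj g⁻¹) x ∈ S.Q := hx
    rw [MulAut.conj_apply, inv_inv] at hx'
    exact S.π_sum _ hx'
  π_surj v hv := by
    obtain ⟨x, hx, hxv⟩ := S.π_surj v hv
    refine ⟨g * x * g⁻¹, ?_, ?_⟩
    · show (MulAut.conj g⁻¹) (g * x * g⁻¹) ∈ S.Q
      rw [MulAut.conj_apply, inv_inv, show g⁻¹ * (g * x * g⁻¹) * g = x by group]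
      exact hx
    · rw [show g⁻¹ * (g * x * g⁻¹) * g = x by group, hxv]
  π_eq_zero x hx := by
    have hx' : (MulAut.conj g⁻¹) x ∈ S.Q := hx
    rw [MulAut.conj_apply, inv_inv] at hx'
    rw [S.π_eq_zero _ hx']
    constructor
    · rintro (h | h)
      · left
        calc x = g * (g⁻¹ * x * g) * g⁻¹ := by group
          _ = 1 := by rw [h]; group
      · right
        calc x = g * (g⁻¹ * x * g) * g⁻¹ := by group
          _ = _ := by rw [h]
    · rintro (h | h)
      · left; rw [h]; group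
      · right; rw [h]; group
  sq x hx := by
    have hx' : (MulAut.conj g⁻¹) x ∈ S.Q := hx
    rw [MulAut.conj_apply, inv_inv] at hx'
    have h := S.sq _ hx'
    have h2 : x * x = g * ((g⁻¹ * x * g) * (g⁻¹ * x * g)) * g⁻¹ := by group
    rw [h2, h]
    split_ifs
    · group
    · rfl
  comm x hx y hy := by
    have hx' : (MulAut.conj g⁻¹) x ∈ S.Q := hx
    have hy' : (MulAut.conj g⁻¹) y ∈ S.Q := hy
    rw [MulAut.conj_apply, inv_inv] at hx' hy'
    have h := S.comm _ hx' _ hy'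
    have h2 : x * y = g * ((g⁻¹ * x * g) * (g⁻¹ * y * g)) * g⁻¹ := by group
    rw [h2, h]
    split_ifs
    · group
    · group
  act c hc x hx i := by
    have hx' : (MulAut.conj g⁻¹) x ∈ S.Q := hx
    rw [MulAut.conj_apply, inv_inv] at hx'
    have e : (g⁻¹ * c * g) * z = z * (g⁻¹ * c * g) := by
      calc (g⁻¹ * c * g) * z = g⁻¹ * (c * (g * z * g⁻¹)) * g := by group
        _ = g⁻¹ * (g * z * g⁻¹ * c) * g := by rw [hc]
        _ = _ := by group
    have h := S.act _ e _ hx' i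
    rw [← h]
    congr 1
    group

theorem mem_conj {z : G} (S : NatAt G z) (g x : G) : x ∈ (conj S g).Q ↔ g⁻¹ * x * g ∈ S.Q := by
  show (MulAut.conj g⁻¹) x ∈ S.Q ↔ _
  rw [MulAut.conj_apply, inv_inv]

/-! ### Step A: `t` is not weakly closed in `Q` -/

theorem exists_mem [Finite G] [IsSimpleGroup G] {t : G} (S : NatAt G t) :
    ∃ g, g * t * g⁻¹ ∈ S.Q ∧ g * t * g⁻¹ ≠ t := by
  by_contra hcon
  push Not at hcon
  -- `t` is not central
  have hnc : ∃ x, x * t ≠ t * x := by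
    by_contra h
    push Not at h
    have hcen : t ∈ Subgroup.center G := Subgroup.mem_center_iff.2 h
    rcases (inferInstance : (Subgroup.center G).Normal).eq_bot_or_eq_top with h1 | h1
    · rw [h1, Subgroup.mem_bot] at hcen
      exact S.z_ne hcen
    · obtain ⟨x, hx, hxπ⟩ := S.π_surj (pr 0 1) (sum_pr 0 1)
      obtain ⟨y, hy, hyπ⟩ := S.π_surj (pr 0 2) (sum_pr 0 2)
      have hxc : x ∈ Subgroup.center G := h1 ▸ Subgroup.mem_top x
      have h2 := S.comm x hx y hy
      rw [if_neg (by rw [hxπ, hyπ]; decide +kernel), Subgroup.mem_center_iff.1 hxc y] at h2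
      exact S.z_ne (mul_eq_right.1 h2.symm)
  obtain ⟨g, hg, hgne⟩ := exists_commute_ne S.z_sq S.z_ne hnc
  obtain ⟨w, hw⟩ : ∃ w, w = g * t * g⁻¹ := ⟨_, rfl⟩
  rw [← hw] at hg hgne
  obtain ⟨S', hS'⟩ : ∃ S' : NatAt G w, ∀ x, x ∈ S'.Q ↔ g⁻¹ * x * g ∈ S.Q := by
    subst hw
    exact ⟨conj S g, mem_conj S g⟩
  have htQ : t ∉ S'.Q := by
    rw [hS']
    intro h
    have h1 := hcon g⁻¹ (by rwa [inv_inv])
    rw [inv_inv] at h1
    apply hgne
    calc w = g * (g⁻¹ * t * g) * g⁻¹ := by rw [h1, hw]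
      _ = t := by group
  obtain ⟨y, d, hd, hd2, hd1, hdw, hsd, hcd⟩ := P2 S' hg.symm S.z_sq htQ
  have hdQ : d ∉ S.Q := by
    intro h
    have h1 := hcon y (by rw [← hsd]; exact mul_mem S.z_mem h)
    rw [← hsd] at h1
    exact hd1 (mul_eq_left.1 h1)
  obtain ⟨e, he⟩ := P1 S hcd.symm hd2 hdQ
  rw [← hcd, hsd] at he
  -- `d` is a conjugate of `t` in `S'.Q`
  have h1 : d = (e * y) * t * (e * y)⁻¹ := by
    calc d = e * (e⁻¹ * d * e) * e⁻¹ := by group
      _ = e * (y * t * y⁻¹) * e⁻¹ := by rw [he]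
      _ = _ := by group
  have h2 : (g⁻¹ * (e * y)) * t * (g⁻¹ * (e * y))⁻¹ = g⁻¹ * d * g := by
    rw [h1]; group
  have h3 := hcon (g⁻¹ * (e * y)) (by rw [h2]; exact (hS' d).1 hd)
  rw [h2] at h3
  apply hdw
  calc d = g * (g⁻¹ * d * g) * g⁻¹ := by group
    _ = w := by rw [h3, hw]

/-! ### lifting elements of the stabiliser of a vector -/

theorem pi_ne {z : G} (S : NatAt G z) {u : G} (hu : u ∈ S.Q) (hu1 : u ≠ 1) (huz : u ≠ z) :
    S.π u ≠ 0 := fun h => by
  rcases (S.π_eq_zero u hu).1 h with h | h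
  · exact hu1 h
  · exact huz h

theorem exists_one_zero (v : Fin 9 → ZMod 2) (hs : ∑ i, v i = 0) (hv : v ≠ 0) :
    ∃ a b, v a = 1 ∧ v b = 0 := by
  have hz : ∀ x : ZMod 2, x = 0 ∨ x = 1 := by decide
  have h1 : ∃ a, v a = 1 := by
    by_contra h
    push Not at h
    apply hv
    funext a
    exact (hz (v a)).resolve_right (h a)
  have h2 : ∃ b, v b = 0 := by
    by_contra h
    push Not at h
    have : ∀ b, v b = 1 := fun b => (hz (v b)).resolve_left (h b)
    simp only [this] at hs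
    revert hs
    decide
  obtain ⟨a, ha⟩ := h1
  obtain ⟨b, hb⟩ := h2
  exact ⟨a, b, ha, hb⟩

theorem lift {z : G} (S : NatAt G z) {u : G} (hu : u ∈ S.Q) (hu1 : u ≠ 1) (huz : u ≠ z)
    (h : Perm (Fin 9)) (hh : h ∈ alternatingGroup (Fin 9)) (hv : ∀ i, S.π u (h i) = S.π u i) :
    ∃ c, c * z = z * c ∧ c * u = u * c ∧ (S.φ c : Perm (Fin 9)) = h := by
  obtain ⟨c, hc, hch⟩ := S.φ_surj ⟨h, hh⟩
  have hch' : (S.φ c : Perm (Fin 9)) = h := by rw [hch]
  have hcu := conj_mem_Q S hc hu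
  have h1 : S.π (c * u * c⁻¹) = S.π u := by
    funext i
    rw [pi_conj S hc hu, hch', ← hv, pinv]
  have h2 : S.π (c * u * c⁻¹ * u⁻¹) = 0 := by
    rw [S.π_mul _ hcu _ (inv_mem hu), pi_inv S hu, h1]
    funext i
    exact CharTwo.add_self_eq_zero _
  rcases (S.π_eq_zero _ (mul_mem hcu (inv_mem hu))).1 h2 with h3 | h3
  · refine ⟨c, hc, ?_, hch'⟩
    rw [mul_inv_eq_one, mul_inv_eq_iff_eq_mul] at h3
    exact h3
  · obtain ⟨a, b, ha, hb⟩ := exists_one_zero _ (S.π_sum u hu) (pi_ne S hu hu1 huz)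
    obtain ⟨x, hx, hxπ⟩ := S.π_surj (pr a b) (sum_pr a b)
    have h4 := S.comm x hx u hu
    rw [if_neg (by rw [hxπ, sum_pr_mul, ha, hb]; decide)] at h4
    have hxc : x * z = z * x := S.Q_le x hx
    refine ⟨x * c, commMul S hxc hc, ?_, ?_⟩
    · have h5 : c * u = z * u * c := by
        rw [mul_inv_eq_iff_eq_mul, mul_inv_eq_iff_eq_mul] at h3
        exact h3
      calc x * c * u = x * (c * u) := by group
        _ = x * (z * u * c) := by rw [h5]
        _ = (x * z) * u * c := by group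
        _ = z * (x * u) * c := by rw [hxc]; group
        _ = (z * z) * (u * (x * c)) := by rw [h4]; group
        _ = u * (x * c) := by rw [S.z_sq, one_mul]
    · rw [S.φ_mul _ _ hxc hc, phi_Q S hx, one_mul, hch']

/-! ### permutations between vectors of the same weight -/

theorem exists_perm (v w : Fin 9 → ZMod 2) (h : wt v = wt w) :
    ∃ σ : Perm (Fin 9), ∀ i, w (σ i) = v i := by
  classical
  have hz : ∀ x : ZMod 2, x = 0 ∨ x = 1 := by decide
  have h1 : Fintype.card {i // v i ≠ 0} = Fintype.card {i // w i ≠ 0} := by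
    rw [Fintype.card_subtype, Fintype.card_subtype]; exact h
  refine ⟨(Fintype.equivOfCardEq h1).extendSubtype, fun i => ?_⟩
  by_cases hi : v i ≠ 0
  · rw [(hz (v i)).resolve_left hi]
    exact (hz _).resolve_left ((Fintype.equivOfCardEq h1).extendSubtype_mem i hi)
  · have h4 := (Fintype.equivOfCardEq h1).extendSubtype_not_mem i hi
    rw [not_not] at h4 hi
    rw [h4, hi]

theorem wt_cases {z : G} (S : NatAt G z) {u : G} (hu : u ∈ S.Q) (hu1 : u ≠ 1) (huz : u ≠ z)
    (h2 : u * u = 1) : wt (S.π u) = 4 ∨ wt (S.π u) = 8 := by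
  have h4 := four_dvd_wt S hu h2
  have h0 : wt (S.π u) ≠ 0 := by
    intro h
    apply pi_ne S hu hu1 huz
    rw [wt, Finset.card_eq_zero, Finset.filter_eq_empty_iff] at h
    funext i
    have := h (Finset.mem_univ i)
    rwa [not_not] at this
  have h9 : wt (S.π u) ≤ 9 := (Finset.card_le_univ _).trans (by simp)
  omega

/-! ### an element of order 15 in the stabiliser -/

/-- `(0 1 2 3 4)(5 6 7)` -/
def h15 : Perm (Fin 9) := swap 0 1 * swap 1 2 * swap 2 3 * swap 3 4 * (swap 5 6 * swap 6 7)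

def w4 : Fin 9 → ZMod 2 := ![0, 0, 0, 0, 0, 1, 1, 1, 1]

def w8 : Fin 9 → ZMod 2 := ![1, 1, 1, 1, 1, 1, 1, 1, 0]

theorem h15_pow : h15 ^ 15 = 1 := by decide +kernel

theorem h15_three : h15 ^ 3 ≠ 1 := by decide +kernel

theorem h15_five : h15 ^ 5 ≠ 1 := by decide +kernel

theorem orderOf_h15 : orderOf h15 = 15 := by
  have h1 : orderOf h15 ∣ 15 := orderOf_dvd_of_pow_eq_one h15_pow
  have h3 : ¬ orderOf h15 ∣ 3 := fun h => h15_three (orderOf_dvd_iff_pow_eq_one.1 h)
  have h5 : ¬ orderOf h15 ∣ 5 := fun h => h15_five (orderOf_dvd_iff_pow_eq_one.1 h)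
  have h6 : orderOf h15 ≤ 15 := Nat.le_of_dvd (by norm_num) h1
  interval_cases h : orderOf h15 <;> revert h1 h3 h5 <;> decide

theorem h15_mem : h15 ∈ alternatingGroup (Fin 9) := by
  rw [Equiv.Perm.mem_alternatingGroup]; decide +kernel

theorem w4_h15 : ∀ i, w4 (h15 i) = w4 i := by decide +kernel

theorem w8_h15 : ∀ i, w8 (h15 i) = w8 i := by decide +kernel

theorem exists_h15 (v : Fin 9 → ZMod 2) (hv : wt v = 4 ∨ wt v = 8) :
    ∃ h : Perm (Fin 9), orderOf h = 15 ∧ h ∈ alternatingGroup (Fin 9) ∧ ∀ i, v (h i) = v i := by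
  obtain ⟨w, hw, σ, hσ⟩ : ∃ w : Fin 9 → ZMod 2, (∀ i, w (h15 i) = w i) ∧
      ∃ σ : Perm (Fin 9), ∀ i, w (σ i) = v i := by
    rcases hv with hv | hv
    · exact ⟨w4, w4_h15, exists_perm v w4 (by rw [hv]; decide +kernel)⟩
    · exact ⟨w8, w8_h15, exists_perm v w8 (by rw [hv]; decide +kernel)⟩
  refine ⟨σ⁻¹ * h15 * σ, ?_, ?_, ?_⟩
  · have h1 := MulEquiv.orderOf_eq (MulAut.conj σ⁻¹) h15
    rw [MulAut.conj_apply, inv_inv] at h1
    rw [h1, orderOf_h15]
  · have := (inferInstance : (alternatingGroup (Fin 9)).Normal).conj_mem h15 h15_mem σ⁻¹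
    rwa [inv_inv] at this
  · intro i
    rw [← hσ, Perm.mul_apply, Perm.mul_apply, pinv, hw, hσ]

/-! ### (B1) -/

theorem B1 {t u : G} (S : NatAt G t) (S' : NatAt G u) (hut : u ≠ t) (hu : u ∈ S.Q) :
    t ∈ S'.Q := by
  by_contra htQ
  have htu : t * u = u * t := (S.Q_le u hu).symm
  obtain ⟨h, ho, hA, hv⟩ := exists_h15 _ (wt_cases S hu S'.z_ne hut S'.z_sq)
  obtain ⟨c, hct, hcu, hch⟩ := lift S hu S'.z_ne hut h hA hv
  have hct4 : c ^ 4 * t = t * c ^ 4 := (show Commute c t from hct).pow_left 4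
  have hcu4 : c ^ 4 * u = u * c ^ 4 := (show Commute c u from hcu).pow_left 4
  have hφ : ∀ n : ℕ, (S.φ (c ^ n) : Perm (Fin 9)) = h ^ n := by
    intro n
    rw [phi_pow S hct, Subgroup.coe_pow, hch]
  have hc60 : c ^ 60 = 1 := by
    have h1 : c ^ 15 ∈ S.Q := by
      rw [← S.φ_eq_one _ ((show Commute c t from hct).pow_left 15)]
      apply Subtype.ext
      rw [hφ, ← ho, pow_orderOf_eq_one, Subgroup.coe_one]
    have h2 := pow_four S h1
    rwa [← pow_mul] at h2
  refine no_fifteen (S'.φ (c ^ 4)) (S'.φ t) ?_ (phi_sq S' htu S.z_sq) (phi_ne S' htu htQ) ?_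
  · apply Nat.dvd_antisymm
    · apply orderOf_dvd_of_pow_eq_one
      rw [← Subgroup.coe_pow, ← phi_pow S' hcu4, ← pow_mul, show 4 * 15 = 60 from rfl, hc60,
        phi_one, Subgroup.coe_one]
    · set m := orderOf (S'.φ (c ^ 4) : Perm (Fin 9)) with hm
      have h1 : S'.φ ((c ^ 4) ^ m) = 1 := by
        apply Subtype.ext
        rw [phi_pow S' hcu4, Subgroup.coe_pow, hm, pow_orderOf_eq_one, Subgroup.coe_one]
      have h2 := (S'.φ_eq_one _ ((show Commute (c ^ 4) u from hcu4).pow_left m)).1 h1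
      have h3 := pow_four S' h2
      rw [← pow_mul, ← pow_mul] at h3
      have h4 : h ^ (4 * (m * 4)) = 1 := by
        rw [← hφ, h3, phi_one, Subgroup.coe_one]
      have h5 := orderOf_dvd_of_pow_eq_one h4
      rw [ho] at h5
      have h6 : 15 ∣ 16 * m := by rwa [show 4 * (m * 4) = 16 * m by ring] at h5
      exact Nat.Coprime.dvd_of_dvd_mul_left (by norm_num) h6
  · rw [← Subgroup.coe_mul, ← Subgroup.coe_mul, ← S'.φ_mul _ _ hcu4 htu, ← S'.φ_mul _ _ htu hcu4,
      hct4]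

/-! ### 3-cycles -/

/-- the 3-cycle `a → b → c → a` -/
def tc (a b c : Fin 9) : Perm (Fin 9) := swap a b * swap b c

theorem tc_mem {a b c : Fin 9} (hab : a ≠ b) (hbc : b ≠ c) : tc a b c ∈ alternatingGroup (Fin 9) := by
  rw [Equiv.Perm.mem_alternatingGroup, tc, Perm.sign_mul, Perm.sign_swap hab, Perm.sign_swap hbc]
  rfl

theorem tc_a {a b c : Fin 9} (hab : a ≠ b) (hac : a ≠ c) : tc a b c a = b := by
  rw [tc, Perm.mul_apply, swap_apply_of_ne_of_ne hab hac, swap_apply_left]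

theorem tc_b {a b c : Fin 9} (hac : a ≠ c) (hbc : b ≠ c) : tc a b c b = c := by
  rw [tc, Perm.mul_apply, swap_apply_left, swap_apply_of_ne_of_ne hac.symm hbc.symm]

theorem tc_c {a b c : Fin 9} : tc a b c c = a := by
  rw [tc, Perm.mul_apply, swap_apply_right, swap_apply_right]

theorem tc_other {a b c i : Fin 9} (ha : i ≠ a) (hb : i ≠ b) (hc : i ≠ c) : tc a b c i = i := by
  rw [tc, Perm.mul_apply, swap_apply_of_ne_of_ne hb hc, swap_apply_of_ne_of_ne ha hb]

theorem tc_fix {v : Fin 9 → ZMod 2} {a b c : Fin 9} (hab : a ≠ b) (hac : a ≠ c) (hbc : b ≠ c)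
    (h1 : v a = v b) (h2 : v b = v c) (i : Fin 9) : v (tc a b c i) = v i := by
  by_cases ha : i = a
  · rw [ha, tc_a hab hac, h1]
  by_cases hb : i = b
  · rw [hb, tc_b hac hbc, h2]
  by_cases hc : i = c
  · rw [hc, tc_c, h1, h2]
  rw [tc_other ha hb hc]

theorem tc_inv : ∀ a b c : Fin 9, a ≠ b → a ≠ c → b ≠ c → tc b a c * tc a b c = 1 := by
  decide +kernel

theorem tc_cube : ∀ a b c : Fin 9, a ≠ b → a ≠ c → b ≠ c → tc a b c * tc a b c * tc a b c = 1 := by
  decide +kernel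

theorem conj_tc (r : Perm (Fin 9)) (a b c : Fin 9) : r * tc a b c = tc (r a) (r b) (r c) * r := by
  rw [tc, tc, ← mul_assoc, Equiv.mul_swap_eq_swap_mul r a b, mul_assoc,
    Equiv.mul_swap_eq_swap_mul r b c, mul_assoc]

/-! ### normal 2-subgroups of the stabiliser -/

/-- the properties of the image `R` of `C_{Q_u}(t)` -/
structure Norm (v : Fin 9 → ZMod 2) (R : Subgroup (Perm (Fin 9))) : Prop where
  four : ∀ r ∈ R, r ^ 4 = 1
  fix : ∀ r ∈ R, ∀ i, v (r i) = v i
  norm : ∀ h ∈ alternatingGroup (Fin 9), (∀ i, v (h i) = v i) → ∀ r ∈ R, h * r * h⁻¹ ∈ R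

theorem Norm.false_of_swap {v : Fin 9 → ZMod 2} {R : Subgroup (Perm (Fin 9))} (N : Norm v R)
    {r : Perm (Fin 9)} (hr : r ∈ R) {a b c : Fin 9} (ha : r a = b) (hb : r b = a) (hc : r c = c)
    (hab : a ≠ b) (hac : a ≠ c) (h1 : v a = v b) (h2 : v b = v c) : False := by
  have hbc : b ≠ c := by
    rintro rfl
    exact hab (hb.symm.trans hc)
  set h := tc a b c with hh
  have h3 : h * r⁻¹ * h⁻¹ ∈ R := N.norm h (tc_mem hab hbc) (tc_fix hab hac hbc h1 h2) _ (inv_mem hr)
  have h4 : r * (h * r⁻¹ * h⁻¹) = h := by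
    have h5 : r * h = tc b a c * r := by
      have := conj_tc r a b c
      rwa [ha, hb, hc] at this
    have h6 : tc b a c = h⁻¹ := eq_inv_of_mul_eq_one_left (tc_inv a b c hab hac hbc)
    have h7 : h * h * h = 1 := tc_cube a b c hab hac hbc
    calc r * (h * r⁻¹ * h⁻¹) = (r * h) * r⁻¹ * h⁻¹ := by group
      _ = h⁻¹ * h⁻¹ := by rw [h5, h6]; group
      _ = h * (h * h * h)⁻¹ := by group
      _ = h := by rw [h7]; group
  have h5 : h ∈ R := h4 ▸ mul_mem hr h3
  have h6 := N.four h h5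
  have h7 : h * h * h = 1 := tc_cube a b c hab hac hbc
  have h8 : h = 1 := by
    calc h = h ^ 4 * (h * h * h)⁻¹ := by group
      _ = 1 := by rw [h6, h7]; group
  have h9 := tc_a hab hac
  rw [← hh, h8, Perm.one_apply] at h9
  exact hab h9

theorem Norm.fix_of_four {v : Fin 9 → ZMod 2} {R : Subgroup (Perm (Fin 9))} (N : Norm v R)
    (hv : wt v = 4) {r : Perm (Fin 9)} (hr : r ∈ R) {a : Fin 9} (ha : v a = 0) : r a = a := by
  classical
  have : Fact (Nat.Prime 2) := ⟨Nat.prime_two⟩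
  -- the claim for elements acting as involutions on the zero set
  have key : ∀ r ∈ R, (∀ i, v i = 0 → r (r i) = i) → ∀ a, v a = 0 → r a = a := by
    intro r hr h2 a ha
    by_contra hne
    -- a fixed letter
    have hsub : ∀ i, v (r i) = 0 ↔ v i = 0 := fun i => by rw [N.fix r hr i]
    have hcard : Fintype.card {i // v i = 0} = 5 := by
      have h3 := Fintype.card_subtype_compl (fun i => v i = 0)
      have h4 : Fintype.card {i // ¬ v i = 0} = 4 := by
        rw [Fintype.card_subtype]; exact hv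
      rw [h4, Fintype.card_fin] at h3
      have h5 := Fintype.card_subtype_le (fun i => v i = 0)
      rw [Fintype.card_fin] at h5
      omega
    obtain ⟨⟨c, hc0⟩, hc⟩ := Equiv.Perm.exists_fixed_point_of_prime (p := 2) (n := 1)
      (by rw [hcard]; decide) (σ := r.subtypePerm hsub) (by
        rw [pow_one, pow_two]
        ext1 ⟨i, hi⟩
        apply Subtype.ext
        exact h2 i hi)
    rw [Perm.subtypePerm_apply] at hc
    have hc' : r c = c := congrArg Subtype.val hc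
    have hac : a ≠ c := by
      rintro rfl
      exact hne hc'
    exact N.false_of_swap hr rfl (h2 a ha) hc' (Ne.symm hne) hac (by rw [N.fix r hr])
      (by rw [N.fix r hr, ha, hc0])
  have h4 : ∀ i, r (r (r (r i))) = i := by
    intro i
    have h := congrArg (fun σ : Perm (Fin 9) => σ i) (N.four r hr)
    simpa only [pow_succ, pow_zero, one_mul, Perm.mul_apply, Perm.one_apply] using h
  have hsq : ∀ i, v i = 0 → (r * r) i = i := key (r * r) (mul_mem hr hr) (fun i _ => by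
    simp only [Perm.mul_apply]; exact h4 i)
  exact key r hr (fun i hi => by have := hsq i hi; rwa [Perm.mul_apply] at this) a ha

theorem Norm.eq_one_of_eight {v : Fin 9 → ZMod 2} {R : Subgroup (Perm (Fin 9))} (N : Norm v R)
    (hv : wt v = 8) {r : Perm (Fin 9)} (hr : r ∈ R) : r = 1 := by
  classical
  have hz : ∀ x : ZMod 2, x = 0 ∨ x = 1 := by decide
  have h01 : ∀ i j, v i = 0 → v j = 0 → i = j := by
    intro i j hi hj
    by_contra hij
    have h1 : Finset.univ.filter (fun i => v i ≠ 0) ⊆ (Finset.univ \ {i, j} : Finset (Fin 9)) := by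
      intro k hk
      rw [Finset.mem_filter] at hk
      rw [Finset.mem_sdiff]
      refine ⟨Finset.mem_univ _, ?_⟩
      rw [Finset.mem_insert, Finset.mem_singleton]
      rintro (h | h)
      · exact hk.2 (h ▸ hi)
      · exact hk.2 (h ▸ hj)
    have h2 := Finset.card_le_card h1
    have h3 : (Finset.univ \ {i, j} : Finset (Fin 9)).card = 7 := by
      rw [Finset.card_sdiff_of_subset (Finset.subset_univ _), Finset.card_pair hij]
      rfl
    rw [h3] at h2
    have h4 : 8 ≤ 7 := by rw [← hv]; exact h2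
    omega
  -- a letter with `v = 1` outside a small set
  have hex : ∀ s : Finset (Fin 9), s.card ≤ 7 → ∃ c, v c = 1 ∧ c ∉ s := by
    intro s hs
    obtain ⟨c, hc, hcs⟩ := Finset.exists_mem_notMem_of_card_lt_card
      (s := s) (t := Finset.univ.filter fun i => v i ≠ 0) (by
        have : (Finset.univ.filter fun i => v i ≠ 0).card = 8 := hv
        omega)
    rw [Finset.mem_filter] at hc
    exact ⟨c, (hz _).resolve_left hc.2, hcs⟩
  have key : ∀ r ∈ R, r * r = 1 → r = 1 := by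
    intro r hr h2
    by_contra hr1
    obtain ⟨a, ha⟩ := exists_moved r hr1
    have hrr : ∀ i, r (r i) = i := fun i => by rw [← Perm.mul_apply, h2, Perm.one_apply]
    have hva : v a = 1 := by
      rcases hz (v a) with h | h
      · exact absurd (h01 _ _ ((N.fix r hr a).trans h) h) ha
      · exact h
    have hvra : v (r a) = 1 := (N.fix r hr a).trans hva
    by_cases hfix : ∃ c, v c = 1 ∧ r c = c
    · obtain ⟨c, hvc, hc⟩ := hfix
      have hac : a ≠ c := by
        rintro rfl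
        exact ha hc
      exact N.false_of_swap hr rfl (hrr a) hc (Ne.symm ha) hac (by rw [hva, hvra])
        (by rw [hvra, hvc])
    · push Not at hfix
      obtain ⟨c, hvc, hc⟩ := hex {a, r a} (by
        exact (Finset.card_le_two).trans (by norm_num))
      rw [Finset.mem_insert, Finset.mem_singleton, not_or] at hc
      obtain ⟨hca, hcra⟩ := hc
      have hcc := hfix c hvc
      obtain ⟨g, hvg, hg⟩ := hex {a, r a, c, r c} (by
        exact (Finset.card_le_four).trans (by norm_num))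
      simp only [Finset.mem_insert, Finset.mem_singleton, not_or] at hg
      obtain ⟨hga, hgra, hgc, hgrc⟩ := hg
      set h := tc a (r a) c with hh
      have hR : r * (h * r⁻¹ * h⁻¹) ∈ R := mul_mem hr (N.norm h (tc_mem (Ne.symm ha) (Ne.symm hcra))
        (tc_fix (Ne.symm ha) (Ne.symm hca) (Ne.symm hcra) (by rw [hva, hvra]) (by rw [hvra, hvc])) _
        (inv_mem hr))
      have hri : ∀ i, r⁻¹ i = r i := fun i => by
        rw [Perm.inv_eq_iff_eq, hrr]
      have e1 : h⁻¹ a = c := by rw [Perm.inv_eq_iff_eq]; exact tc_c.symm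
      have e2 : h⁻¹ c = r a := by
        rw [Perm.inv_eq_iff_eq]; exact (tc_b (Ne.symm hca) (Ne.symm hcra)).symm
      have e3 : h⁻¹ g = g := by
        rw [Perm.inv_eq_iff_eq]; exact (tc_other hga hgra hgc).symm
      have e4 : h (r c) = r c := tc_other (fun h => hcra (by rw [← h, hrr]))
        (fun h => hca (r.injective h)) hcc
      have e5 : h a = r a := tc_a (Ne.symm ha) (Ne.symm hca)
      have e6 : h (r g) = r g := tc_other (fun h => hgra (by rw [← h, hrr]))
        (fun h => hga (r.injective h)) (fun h => hgrc (by rw [← h, hrr]))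
      refine N.false_of_swap hR (a := a) (b := c) (c := g) ?_ ?_ ?_ (Ne.symm hca) (Ne.symm hga)
        (by rw [hva, hvc]) (by rw [hvc, hvg])
      · simp only [Perm.mul_apply]
        rw [e1, hri, e4, hrr]
      · simp only [Perm.mul_apply]
        rw [e2, hri, hrr, e5, hrr]
      · simp only [Perm.mul_apply]
        rw [e3, hri, e6, hrr]
  have h2 : r * r = 1 := key (r * r) (mul_mem hr hr) (by
    rw [← N.four r hr]; simp only [pow_succ, pow_zero, one_mul, mul_assoc])
  exact key r hr h2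

theorem Norm.exists_three {v : Fin 9 → ZMod 2} {R : Subgroup (Perm (Fin 9))} (N : Norm v R)
    (hv : wt v = 4 ∨ wt v = 8) : ∃ a b c : Fin 9, a ≠ b ∧ a ≠ c ∧ b ≠ c ∧ v a = v b ∧ v b = v c ∧
      ∀ r ∈ R, r a = a ∧ r b = b ∧ r c = c := by
  classical
  rcases hv with hv | hv
  · have h3 : (Finset.univ.filter fun i => ¬ v i ≠ 0).card = 5 := by
      have h4 := Finset.card_filter_add_card_filter_not (s := (Finset.univ : Finset (Fin 9)))
        (fun i => v i ≠ 0)
      have h5 : (Finset.univ.filter fun i => v i ≠ 0).card = 4 := hv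
      rw [h5, Finset.card_univ, Fintype.card_fin] at h4
      omega
    obtain ⟨a, b, c, ha, hb, hc, hab, hac, hbc⟩ := Finset.two_lt_card_iff.1 (by rw [h3]; norm_num)
    rw [Finset.mem_filter, not_not] at ha hb hc
    exact ⟨a, b, c, hab, hac, hbc, by rw [ha.2, hb.2], by rw [hb.2, hc.2], fun r hr =>
      ⟨N.fix_of_four hv hr ha.2, N.fix_of_four hv hr hb.2, N.fix_of_four hv hr hc.2⟩⟩
  · have h3 : (Finset.univ.filter fun i => v i ≠ 0).card = 8 := hv
    have hz : ∀ x : ZMod 2, x = 0 ∨ x = 1 := by decide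
    obtain ⟨a, b, c, ha, hb, hc, hab, hac, hbc⟩ := Finset.two_lt_card_iff.1 (by rw [h3]; norm_num)
    rw [Finset.mem_filter] at ha hb hc
    have ha' := (hz _).resolve_left ha.2
    have hb' := (hz _).resolve_left hb.2
    have hc' := (hz _).resolve_left hc.2
    exact ⟨a, b, c, hab, hac, hbc, by rw [ha', hb'], by rw [hb', hc'], fun r hr => by
      rw [N.eq_one_of_eight hv hr]
      exact ⟨rfl, rfl, rfl⟩⟩

/-! ### (B2) -/

/-- the image of `C_{Q_u}(t)` in `S₉` -/
def imR {t u : G} (S : NatAt G t) (S' : NatAt G u) : Subgroup (Perm (Fin 9)) where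
  carrier := {r | ∃ x ∈ S'.Q, x * t = t * x ∧ (S.φ x : Perm (Fin 9)) = r}
  mul_mem' := by
    rintro _ _ ⟨x, hx, hxt, rfl⟩ ⟨y, hy, hyt, rfl⟩
    exact ⟨x * y, mul_mem hx hy, commMul S hxt hyt, by rw [S.φ_mul _ _ hxt hyt, Subgroup.coe_mul]⟩
  one_mem' := ⟨1, one_mem _, by simp, by rw [phi_one, Subgroup.coe_one]⟩
  inv_mem' := by
    rintro _ ⟨x, hx, hxt, rfl⟩
    exact ⟨x⁻¹, inv_mem hx, commInv S hxt, by rw [phi_inv S hxt, Subgroup.coe_inv]⟩

theorem norm_imR {t u : G} (S : NatAt G t) (S' : NatAt G u) (hut : u ≠ t) (hu : u ∈ S.Q) :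
    Norm (S.π u) (imR S S') where
  four := by
    rintro _ ⟨x, hx, hxt, rfl⟩
    rw [← Subgroup.coe_pow, ← phi_pow S hxt, pow_four S' hx, phi_one, Subgroup.coe_one]
  fix := by
    rintro _ ⟨x, hx, hxt, rfl⟩ i
    have h1 := S.act x hxt u hu i
    rwa [S'.Q_le x hx, mul_inv_cancel_right] at h1
  norm := by
    rintro h hA hv _ ⟨x, hx, hxt, rfl⟩
    obtain ⟨c, hct, hcu, rfl⟩ := lift S hu S'.z_ne hut h hA hv
    refine ⟨c * x * c⁻¹, conj_mem_Q S' hcu hx, commMul S (commMul S hct hxt) (commInv S hct), ?_⟩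
    rw [S.φ_mul _ _ (commMul S hct hxt) (commInv S hct), S.φ_mul _ _ hct hxt, phi_inv S hct]
    rfl

theorem B2 {t u : G} (S : NatAt G t) (S' : NatAt G u) (hut : u ≠ t) (hu : u ∈ S.Q)
    (ht : t ∈ S'.Q) : False := by
  obtain ⟨a, b, c, hab, hac, hbc, h1, h2, hR⟩ :=
    (norm_imR S S' hut hu).exists_three (wt_cases S hu S'.z_ne hut S'.z_sq)
  obtain ⟨f, hft, hfu, hf⟩ := lift S hu S'.z_ne hut (tc a b c) (tc_mem hab hbc)
    (tc_fix hab hac hbc h1 h2)
  have hcube : tc a b c ^ 3 = 1 := by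
    simpa only [pow_succ, pow_zero, one_mul] using tc_cube a b c hab hac hbc
  have hf3 : f ^ 3 ∈ S.Q := by
    rw [← S.φ_eq_one _ ((show Commute f t from hft).pow_left 3)]
    apply Subtype.ext
    rw [phi_pow S hft, Subgroup.coe_pow, hf, hcube, Subgroup.coe_one]
  have hf12 : f ^ 12 = 1 := by
    have h := pow_four S hf3
    rwa [← pow_mul] at h
  -- the element of order 3
  obtain ⟨g, hgt, hgu, hg3, hg⟩ : ∃ g : G, g * t = t * g ∧ g * u = u * g ∧ g ^ 3 = 1 ∧
      (S.φ g : Perm (Fin 9)) = tc a b c := by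
    refine ⟨f ^ 4, (show Commute f t from hft).pow_left 4, (show Commute f u from hfu).pow_left 4,
      by rw [← pow_mul]; exact hf12, ?_⟩
    rw [phi_pow S hft, Subgroup.coe_pow, hf, show 4 = 3 + 1 from rfl, pow_add, hcube, one_mul,
      pow_one]
  have hcomm : ∀ x ∈ S'.Q, x * t = t * x → S.φ g * S.φ x = S.φ x * S.φ g := by
    intro x hx hxt
    obtain ⟨ha, hb, hc⟩ := hR (S.φ x) ⟨x, hx, hxt, rfl⟩
    apply Subtype.ext
    rw [Subgroup.coe_mul, Subgroup.coe_mul, hg, conj_tc, ha, hb, hc]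
  have hk : (S'.φ g : Perm (Fin 9)) ≠ 1 := by
    intro h
    have h3 : g ∈ S'.Q := (S'.φ_eq_one g hgu).1 (Subtype.ext h)
    have h4 := pow_four S' h3
    rw [show 4 = 3 + 1 from rfl, pow_add, hg3, one_mul, pow_one] at h4
    rw [h4, phi_one, Subgroup.coe_one] at hg
    have h5 := tc_a hab hac
    rw [← hg, Perm.one_apply] at h5
    exact hab h5
  obtain ⟨p, hp⟩ := exists_moved _ hk
  set k := (S'.φ g : Perm (Fin 9)) with hkd
  have hk3 : k (k (k p)) = p := by
    have h3 : k ^ 3 = 1 := by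
      rw [hkd, ← Subgroup.coe_pow, ← phi_pow S' hgu, hg3, phi_one, Subgroup.coe_one]
    have h4 := congrArg (fun σ : Perm (Fin 9) => σ p) h3
    simpa only [pow_succ, pow_zero, one_mul, Perm.mul_apply, Perm.one_apply] using h4
  have hpr : k (k p) ≠ p := by
    intro h
    rw [h] at hk3
    exact hp hk3
  obtain ⟨x, hx, hxπ⟩ := S'.π_surj (pr p (k p)) (sum_pr _ _)
  have hxt : x * t = t * x := by
    have h3 := S'.comm x hx t ht
    have h4 := S'.act g hgu t ht p
    rw [hgt, mul_inv_cancel_right] at h4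
    rw [if_pos (by rw [hxπ, sum_pr_mul, h4]; exact CharTwo.add_self_eq_zero _), one_mul] at h3
    exact h3
  obtain ⟨hy, hyπ⟩ := pi_comm S' hgu hx
  rw [pi_conj_pr S' hgu hx hxπ, hxπ, ← hkd, add_comm, pr_add'] at hyπ
  have hyy := S'.sq _ hy
  rw [hyπ, wt_pr _ _ (Ne.symm hpr), if_neg (by decide)] at hyy
  have hgx : (g * x) * t = t * (g * x) := commMul S hgt hxt
  have hgi : g⁻¹ * t = t * g⁻¹ := commInv S hgt
  have hxi : x⁻¹ * t = t * x⁻¹ := commInv S hxt
  have hyQ : g * x * g⁻¹ * x⁻¹ ∈ S.Q := by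
    rw [← S.φ_eq_one _ (commMul S (commMul S hgx hgi) hxi), S.φ_mul _ _ (commMul S hgx hgi) hxi,
      S.φ_mul _ _ hgx hgi, S.φ_mul _ _ hgt hxt, phi_inv S hgt, phi_inv S hxt, hcomm x hx hxt]
    group
  rcases sq_cases S hyQ with h3 | h3
  · rw [h3] at hyy
    exact S'.z_ne hyy.symm
  · rw [h3] at hyy
    exact hut hyy.symm

/-- The natural-module case does not occur. -/
theorem false_of_nat [Finite G] [IsSimpleGroup G] {t : G} (S : NatAt G t) : False := by
  obtain ⟨g, hg, hne⟩ := exists_mem S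
  exact B2 S (conj S g) hne hg (B1 S (conj S g) hne hg)

end Cfsg.Agent.ThType.FusN
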