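import Cfsg.Agent.ThType.FusSFacts
import Cfsg.Agent.S0215
import Mathlib.Tactic

/-!
# Thompson type: the central involution is conjugate to a noncentral involution of `Q`
(project R05, helper935)
-/

set_option autoImplicit false

namespace Cfsg.Agent.ThType.FusS

open Equiv Cfsg.Agent.ThType.SpinData Cfsg.Agent.ThType.SpinFacts Cfsg.Agent.ThType.SpinRep
  Cfsg.Agent.ThType.ElemE Cfsg.Agent.ThType.FusSFacts

section core

variable {G : Type*} [Group G] {z : G} (S : SpinAt G z)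

theorem mul_comm_of {a b c : G} (h1 : a * c = c * a) (h2 : b * c = c * b) :
    a * b * c = c * (a * b) := ((show Commute a c from h1).mul_left h2).eq

theorem inv_comm_of {a c : G} (h1 : a * c = c * a) : a⁻¹ * c = c * a⁻¹ :=
  ((show Commute a c from h1).inv_left).eq

theorem pi_inv {x : G} (hx : x ∈ S.Q) : S.π x⁻¹ = S.π x := by
  have h := S.π_mul x⁻¹ (S.Q.inv_mem hx) x hx
  rw [inv_mul_cancel, pi_one S] at h
  have h2 : S.π x + S.π x⁻¹ + S.π x = S.π x + 0 := by rw [add_assoc, ← h]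
  rw [add_zero, add_comm (S.π x), add_assoc, vadd_self, add_zero] at h2
  exact h2

/-- the commutator of an involution `s` of `C_G(z)` with an element of `Q` -/
theorem kappa {s y : G} (hs : s * z = z * s) (hs2 : s * s = 1) (hy : y ∈ S.Q) :
    s * y * s * y⁻¹ ∈ S.Q ∧
      S.π (s * y * s * y⁻¹) = S.π y + (S.ρ (S.φ s)).mulVec (S.π y) := by
  have hsi : s⁻¹ = s := inv_eq_of_mul_eq_one_right hs2
  have h1 : s * y * s ∈ S.Q := by
    have := conj_mem_Q S hs hy
    rwa [hsi] at this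
  refine ⟨S.Q.mul_mem h1 (S.Q.inv_mem hy), ?_⟩
  rw [S.π_mul _ h1 _ (S.Q.inv_mem hy), pi_inv S hy, add_comm]
  congr 1
  have := S.act s hs y hy
  rwa [hsi] at this

/-- transport of statements along conjugation in `A₉` -/
theorem conj_eq (g c k : alternatingGroup (Fin 9)) (h : c * g * c⁻¹ = k) (v : V) :
    (S.ρ g).mulVec ((S.ρ c⁻¹).mulVec v) = (S.ρ c⁻¹).mulVec ((S.ρ k).mulVec v) := by
  rw [← rho_mul, ← rho_mul]
  congr 2
  rw [← h]; group

theorem exists_P2 (g : alternatingGroup (Fin 9)) (h2 : g * g = 1) (h1 : g ≠ 1) :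
    ∃ v, q0 (v + (S.ρ g).mulVec v) = 0 ∧ v + (S.ρ g).mulVec v ≠ 0 := by
  rcases Squares.type_of_invol g h2 h1 with h | h
  · obtain ⟨c, hc⟩ := Squares.conj_j0 g h
    refine ⟨(S.ρ c⁻¹).mulVec (vec 1), ?_, ?_⟩
    · rw [conj_eq S g c _ hc, ← Matrix.mulVec_add, q0_rho S.ρ_cyc, Squares.ρ_j0 S]
      exact MJ_sing _
    · rw [conj_eq S g c _ hc, ← Matrix.mulVec_add, Squares.ρ_j0 S]
      apply rho_ne_zero
      intro h'
      apply MJ_1
      exact (Squares.eq_of_add_eq_zero h').symm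
  · obtain ⟨c, hc⟩ := Squares.conj_i0 g h
    refine ⟨(S.ρ c⁻¹).mulVec (vec 8), ?_, ?_⟩
    · rw [conj_eq S g c _ hc, ← Matrix.mulVec_add, q0_rho S.ρ_cyc, Squares.ρ_i0 S]
      exact MI_P2
    · rw [conj_eq S g c _ hc, ← Matrix.mulVec_add, Squares.ρ_i0 S]
      apply rho_ne_zero
      intro h'
      apply MI_P2'
      exact (Squares.eq_of_add_eq_zero h').symm

theorem phi_sq {s : G} (hs : s * z = z * s) (hs2 : s * s = 1) : S.φ s * S.φ s = 1 := by
  rw [← S.φ_mul s s hs hs, hs2, phi_one S]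

theorem P2 {s : G} (hs : s * z = z * s) (hs2 : s * s = 1) (hsQ : s ∉ S.Q) :
    ∃ y ∈ S.Q, ∃ d ∈ S.Q, y * s * y⁻¹ = s * d ∧ d ≠ 1 ∧ d ≠ z ∧ d * d = 1 := by
  obtain ⟨v, hv1, hv2⟩ := exists_P2 S (S.φ s) (phi_sq S hs hs2)
    (fun h => hsQ ((S.φ_eq_one s hs).1 h))
  obtain ⟨y, hy, rfl⟩ := S.π_surj v
  obtain ⟨hd, hpd⟩ := kappa S hs hs2 hy
  refine ⟨y, hy, _, hd, ?_, ?_, ?_, ?_⟩
  · calc y * s * y⁻¹ = (s * s) * (y * s * y⁻¹) := by rw [hs2, one_mul]
      _ = s * (s * y * s * y⁻¹) := by group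
  · intro h
    apply hv2
    rw [← hpd, h, pi_one S]
  · intro h
    apply hv2
    rw [← hpd, h, pi_z S]
  · rw [sq_eq_one_iff S hd, hpd]
    exact hv1

/-- elements over involutions of type `2⁴` are conjugate to their product with `z` -/
theorem P1 {s : G} (hs : s * z = z * s) (hs2 : s * s = 1)
    (ht : (S.φ s : Perm (Fin 9)).cycleType = {2, 2, 2, 2}) :
    ∃ x ∈ S.Q, x * s * x⁻¹ = z * s := by
  obtain ⟨c, hc⟩ := Squares.conj_i0 _ ht
  have hsi : s⁻¹ = s := inv_eq_of_mul_eq_one_right hs2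
  have hb : b0 ((S.ρ c⁻¹).mulVec (vec 64)) ((S.ρ (S.φ s)).mulVec ((S.ρ c⁻¹).mulVec (vec 64)))
      = 1 := by
    rw [conj_eq S _ c _ hc, b0_rho S.ρ_cyc, Squares.ρ_i0 S]
    exact MI_P1
  obtain ⟨y, hy, hyv⟩ := S.π_surj ((S.ρ c⁻¹).mulVec (vec 64))
  rw [← hyv] at hb
  have h1 : s * y * s ∈ S.Q := by
    have := conj_mem_Q S hs hy
    rwa [hsi] at this
  have h2 : S.π (s * y * s) = (S.ρ (S.φ s)).mulVec (S.π y) := by
    have := S.act s hs y hy
    rwa [hsi] at this
  have h3 := S.comm y hy (s * y * s) h1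
  rw [h2, hb, if_neg (by decide)] at h3
  refine ⟨y * (s * y * s), S.Q.mul_mem hy h1, ?_⟩
  have hs3 : s * s * s = s := by rw [hs2, one_mul]
  have hyi : (s * y * s)⁻¹ = s * y⁻¹ * s := by rw [mul_inv_rev, mul_inv_rev, hsi]; group
  calc y * (s * y * s) * s * (y * (s * y * s))⁻¹
      = y * (s * y * s) * s * ((s * y * s)⁻¹ * y⁻¹) := by rw [mul_inv_rev y]
    _ = y * (s * y * s) * s * (s * y⁻¹ * s * y⁻¹) := by rw [hyi]
    _ = (y * (s * y * s)) * (s * s) * (y⁻¹ * s * y⁻¹) := by group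
    _ = (y * (s * y * s)) * (y⁻¹ * s * y⁻¹) := by rw [hs2, mul_one]
    _ = (z * (s * y * s * y)) * (y⁻¹ * s * y⁻¹) := by rw [h3]
    _ = z * (s * y * (s * s) * y⁻¹) := by group
    _ = z * s := by rw [hs2]; group

/-- fixed vectors of an involution -/
def fixSub (g : alternatingGroup (Fin 9)) : Submodule (ZMod 2) V :=
  LinearMap.ker ((S.ρ g).mulVecLin + LinearMap.id)

theorem mem_fixSub {g : alternatingGroup (Fin 9)} {v : V} :
    v ∈ fixSub S g ↔ (S.ρ g).mulVec v = v := by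
  unfold fixSub
  rw [LinearMap.mem_ker, LinearMap.add_apply, Matrix.mulVecLin_apply, LinearMap.id_apply]
  constructor
  · intro h
    exact Squares.eq_of_add_eq_zero h
  · intro h
    rw [h, vadd_self]

theorem card_fixSub (g : alternatingGroup (Fin 9)) (h2 : g * g = 1) :
    16 ≤ Nat.card (fixSub S g) := by
  set N : V →ₗ[ZMod 2] V := (S.ρ g).mulVecLin + LinearMap.id with hN
  have hle : LinearMap.range N ≤ LinearMap.ker N := by
    rintro _ ⟨v, rfl⟩
    show N v ∈ fixSub S g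
    rw [mem_fixSub, hN, LinearMap.add_apply, Matrix.mulVecLin_apply, LinearMap.id_apply,
      Matrix.mulVec_add, ← rho_mul, h2, rho_one, add_comm]
  have h1 := Submodule.finrank_mono hle
  have h3 := LinearMap.finrank_range_add_finrank_ker N
  have h4 : Module.finrank (ZMod 2) V = 8 := by simp
  have h5 : 4 ≤ Module.finrank (ZMod 2) (LinearMap.ker N) := by omega
  have : Fact (Nat.Prime 2) := ⟨Nat.prime_two⟩
  show 16 ≤ Nat.card (LinearMap.ker N)
  rw [Module.natCard_eq_pow_finrank (K := ZMod 2), Nat.card_zmod]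
  calc 16 = 2 ^ 4 := by norm_num
    _ ≤ _ := Nat.pow_le_pow_right (by norm_num) h5

/-- an involution outside `Q` centralises at least 16 elements of `Q` -/
theorem card_inf_C [Finite G] {s : G} (hs : s * z = z * s) (hs2 : s * s = 1) :
    16 ≤ Nat.card (S.Q ⊓ C s : Subgroup G) := by
  have hsi : s⁻¹ = s := inv_eq_of_mul_eq_one_right hs2
  let U : AddSubgroup V := (fixSub S (S.φ s)).toAddSubgroup
  have hU : ∀ v, v ∈ U ↔ (S.ρ (S.φ s)).mulVec v = v := fun v => mem_fixSub S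
  have hcU : 16 ≤ Nat.card U := card_fixSub S (S.φ s) (phi_sq S hs hs2)
  have hcp := card_preim S U
  have hval : ∀ x ∈ preim S U, s * x * s * x⁻¹ = 1 ∨ s * x * s * x⁻¹ = z := by
    rintro x ⟨hx, hxU⟩
    obtain ⟨h1, h2⟩ := kappa S hs hs2 hx
    rw [hU] at hxU
    rw [hxU, vadd_self] at h2
    exact (S.π_eq_zero _ h1).1 h2
  have hle : S.Q ⊓ C s ≤ preim S U := by
    rintro x ⟨hx, hxs⟩
    refine ⟨hx, (hU _).2 ?_⟩
    rw [← S.act s hs x hx]
    congr 1
    rw [mul_inv_eq_iff_eq_mul]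
    exact (mem_C.1 hxs).symm
  let f : preim S U →* G :=
    { toFun := fun x => s * x.1 * s * x.1⁻¹
      map_one' := by
        show s * 1 * s * 1⁻¹ = 1
        rw [mul_one, hs2]; group
      map_mul' := by
        intro x y
        show s * (x.1 * y.1) * s * (x.1 * y.1)⁻¹ = (s * x.1 * s * x.1⁻¹) * (s * y.1 * s * y.1⁻¹)
        have hy := hval y.1 y.2
        have hxz := S.Q_le x.1 x.2.1
        have hc : x.1 * (s * y.1 * s * y.1⁻¹) = (s * y.1 * s * y.1⁻¹) * x.1 := by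
          rcases hy with h | h
          · rw [h]; simp
          · rw [h, hxz]
        calc s * (x.1 * y.1) * s * (x.1 * y.1)⁻¹
            = (s * x.1 * (s * s) * y.1) * s * (x.1 * y.1)⁻¹ := by rw [hs2]; group
          _ = (s * x.1 * s * x.1⁻¹) * (x.1 * (s * y.1 * s * y.1⁻¹)) * x.1⁻¹ := by group
          _ = (s * x.1 * s * x.1⁻¹) * ((s * y.1 * s * y.1⁻¹) * x.1) * x.1⁻¹ := by rw [hc]
          _ = _ := by group }
  have hker : f.ker = (S.Q ⊓ C s).subgroupOf (preim S U) := by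
    ext x
    rw [MonoidHom.mem_ker, Subgroup.mem_subgroupOf, Subgroup.mem_inf, mem_C]
    have h3 : f x = 1 ↔ x.1 * s = s * x.1 := by
      show s * x.1 * s * x.1⁻¹ = 1 ↔ _
      rw [mul_inv_eq_one]
      constructor
      · intro h
        calc x.1 * s = (s * x.1 * s) * s := by rw [h]
          _ = s * x.1 * (s * s) := by group
          _ = s * x.1 := by rw [hs2, mul_one]
      · intro h
        rw [← h, mul_assoc, hs2, mul_one]
    rw [h3]
    exact ⟨fun h => ⟨x.2.1, h⟩, fun h => h.2⟩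
  have hrange : Nat.card f.range ≤ 2 := by
    have h1 : f.range ≤ Subgroup.zpowers z := by
      rintro _ ⟨x, rfl⟩
      rcases hval x.1 x.2 with h | h
      · show s * x.1 * s * x.1⁻¹ ∈ _
        rw [h]; exact Subgroup.one_mem _
      · show s * x.1 * s * x.1⁻¹ ∈ _
        rw [h]; exact Subgroup.mem_zpowers z
    have h2 : Nat.card (Subgroup.zpowers z) = 2 := by
      rw [Nat.card_zpowers]
      have : Fact (Nat.Prime 2) := ⟨Nat.prime_two⟩
      exact orderOf_eq_prime (by rw [pow_two, S.z_sq]) S.z_ne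
    rw [← h2]
    exact Nat.card_le_card_of_injective _ (Subgroup.inclusion_injective h1)
  have hmul := Subgroup.card_mul_index f.ker
  rw [Subgroup.index_ker, hker, Nat.card_congr (Subgroup.subgroupOfEquivOfLe hle).toEquiv,
    hcp] at hmul
  have h6 : Nat.card (S.Q ⊓ C s : Subgroup G) * Nat.card f.range ≤
      Nat.card (S.Q ⊓ C s : Subgroup G) * 2 := Nat.mul_le_mul_left _ hrange
  omega

end core

section red

variable {G : Type*} [Group G] [Finite G] {z : G} (S : SpinAt G z)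
  (hW : ∀ g, g * z * g⁻¹ ∈ S.Q → g * z * g⁻¹ = z)

include hW in
omit [Finite G] in
/-- the weak closure hypothesis at the conjugate `u = g z g⁻¹` -/
theorem weak_conj {g h : G} (h1 : h * z * h⁻¹ ∈ (conj S g).Q) : h * z * h⁻¹ = g * z * g⁻¹ := by
  rw [mem_conj_Q] at h1
  have h2 := hW (g⁻¹ * h) (by rwa [show g⁻¹ * h * z * (g⁻¹ * h)⁻¹ = g⁻¹ * (h * z * h⁻¹) * g by group])
  calc h * z * h⁻¹ = g * (g⁻¹ * h * z * (g⁻¹ * h)⁻¹) * g⁻¹ := by group
    _ = g * z * g⁻¹ := by rw [h2]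

include hW in
omit [Finite G] in
theorem z_notin {g : G} (hne : g * z * g⁻¹ ≠ z) : z ∉ (conj S g).Q := by
  intro h
  apply hne
  have := weak_conj S hW (g := g) (h := 1) (by
    rwa [show (1 : G) * z * 1⁻¹ = z by group])
  rw [← this]; group

omit [Finite G] in
/-- an element over the 5-cycle which commutes with `u` -/
theorem exists_five {u : G} (hu : u * z = z * u) (hu2 : u * u = 1) (hj : S.φ u = Squares.j0) :
    ∃ f, f * z = z * f ∧ f * u = u * f ∧ S.φ f = t0 := by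
  obtain ⟨w, hw, hwt⟩ := S.φ_surj t0
  have hwi := inv_comm_of hw
  have hx : (w * u * w⁻¹) * z = z * (w * u * w⁻¹) := mul_comm_of (mul_comm_of hw hu) hwi
  have hx2 : (w * u * w⁻¹) * (w * u * w⁻¹) = 1 := by
    calc (w * u * w⁻¹) * (w * u * w⁻¹) = w * (u * u) * w⁻¹ := by group
      _ = 1 := by rw [hu2]; group
  have hφ : S.φ (w * u * w⁻¹) = S.φ u := by
    rw [S.φ_mul _ _ (mul_comm_of hw hu) hwi, S.φ_mul _ _ hw hu, phi_inv S w hw, hwt, hj, t0_j0]
  obtain ⟨r, hr, hrx⟩ := Squares.coset S hu hx (by rw [hj]; exact Squares.good_j0 S) (Or.inl hu2)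
    (Or.inl hx2) hφ
  have hrz := S.Q_le r hr
  have hri := inv_comm_of hrz
  rcases hrx with h | h
  · refine ⟨r⁻¹ * w, mul_comm_of hri hw, ?_, ?_⟩
    · have h1 : (r⁻¹ * w) * u * (r⁻¹ * w)⁻¹ = u := by
        calc (r⁻¹ * w) * u * (r⁻¹ * w)⁻¹ = r⁻¹ * (w * u * w⁻¹) * r := by group
          _ = u := by rw [h]; group
      exact mul_inv_eq_iff_eq_mul.1 h1
    · rw [S.φ_mul _ _ hri hw, phi_Q S (S.Q.inv_mem hr), one_mul, hwt]
  · set r' := w * r * w⁻¹ with hr'
    have hr'Q : r' ∈ S.Q := conj_mem_Q S hw hr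
    have hr'z := S.Q_le r' hr'Q
    set q := r' * r with hq
    have hqQ : q ∈ S.Q := S.Q.mul_mem hr'Q hr
    have hqz := S.Q_le q hqQ
    have hqi := inv_comm_of hqz
    have hww : w * w * z = z * (w * w) := mul_comm_of hw hw
    have h1 : (w * w) * u * (w * w)⁻¹ = q * u * q⁻¹ := by
      calc (w * w) * u * (w * w)⁻¹ = w * (w * u * w⁻¹) * w⁻¹ := by group
        _ = w * (r * u * r⁻¹ * z) * w⁻¹ := by rw [h]
        _ = (w * r * w⁻¹) * (w * u * w⁻¹) * (w * r * w⁻¹)⁻¹ * (w * z * w⁻¹) := by group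
        _ = r' * (r * u * r⁻¹ * z) * r'⁻¹ * z := by
            rw [← hr', h, show w * z * w⁻¹ = z by rw [hw]; group]
        _ = r' * (r * u * r⁻¹) * (z * r'⁻¹) * z := by group
        _ = r' * (r * u * r⁻¹) * (r'⁻¹ * z) * z := by rw [inv_comm_of hr'z]
        _ = q * u * q⁻¹ * (z * z) := by rw [hq]; group
        _ = q * u * q⁻¹ := by rw [S.z_sq, mul_one]
    set f := q⁻¹ * (w * w) with hf
    have hfz : f * z = z * f := mul_comm_of hqi hww
    have hfu : f * u = u * f := by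
      have h2 : f * u * f⁻¹ = u := by
        calc f * u * f⁻¹ = q⁻¹ * ((w * w) * u * (w * w)⁻¹) * q := by rw [hf]; group
          _ = u := by rw [h1]; group
      exact mul_inv_eq_iff_eq_mul.1 h2
    have hfφ : S.φ f = t0 * t0 := by
      rw [hf, S.φ_mul _ _ hqi hww, phi_Q S (S.Q.inv_mem hqQ), one_mul, S.φ_mul _ _ hw hw, hwt]
    refine ⟨f * f * f, mul_comm_of (mul_comm_of hfz hfz) hfz,
      mul_comm_of (mul_comm_of hfu hfu) hfu, ?_⟩
    rw [S.φ_mul _ _ (mul_comm_of hfz hfz) hfz, S.φ_mul _ _ hfz hfz, hfφ, t0_pow]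

include hW in
/-- the case of an involution `u` of type `2²`, in standard position -/
theorem false_of_j0 {g : G} (hu : (g * z * g⁻¹) * z = z * (g * z * g⁻¹)) (hne : g * z * g⁻¹ ≠ z)
    (hj : S.φ (g * z * g⁻¹) = Squares.j0) : False := by
  set u := g * z * g⁻¹ with hudef
  set T := conj S g with hT
  have hu2 : u * u = 1 := T.z_sq
  have hui : u⁻¹ = u := inv_eq_of_mul_eq_one_right hu2
  have hzT : z ∉ T.Q := z_notin S hW hne
  have hWT : ∀ h, h * z * h⁻¹ ∈ T.Q → h * z * h⁻¹ = u := fun h hh => weak_conj S hW hh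
  obtain ⟨f, hfz, hfu, hfφ⟩ := exists_five S hu hu2 hj
  have hρj : S.ρ Squares.j0 = Squares.MJ := Squares.ρ_j0 S
  have hρt : S.ρ t0 = MT := rho_t0 S.ρ_cyc
  -- elements of `Q` commuting with `u`
  have hfix : ∀ x ∈ S.Q, x * u = u * x → Squares.MJ.mulVec (S.π x) = S.π x := by
    intro x hx hxu
    rw [← hρj, ← hj, ← S.act u hu x hx]
    congr 1
    rw [mul_inv_eq_iff_eq_mul]
    exact hxu.symm
  have hMJ2 : ∀ v, Squares.MJ.mulVec (Squares.MJ.mulVec v) = v := by
    intro v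
    have h2 := phi_sq S hu hu2
    rw [hj] at h2
    rw [← hρj, ← rho_mul, h2, rho_one]
  -- commutators with `u`
  have hκ : ∀ y ∈ S.Q, u * y * u * y⁻¹ ∈ S.Q ∧
      S.π (u * y * u * y⁻¹) = S.π y + Squares.MJ.mulVec (S.π y) := by
    intro y hy
    have := kappa S hu hu2 hy
    rwa [hj, hρj] at this
  have hκT : ∀ y ∈ S.Q, u * y * u * y⁻¹ ∈ T.Q → Squares.MJ.mulVec (S.π y) = S.π y := by
    intro y hy hyT
    have h1 : y * u * y⁻¹ ∈ T.Q := by
      have h2 := T.Q.mul_mem T.z_mem hyT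
      rwa [show g * z * g⁻¹ * (u * y * u * y⁻¹) = (u * u) * (y * u * y⁻¹) by
        rw [← hudef]; group, hu2, one_mul] at h2
    have h2 := hWT (y * g) (by
      rwa [show y * g * z * (y * g)⁻¹ = y * u * y⁻¹ by rw [hudef]; group])
    have h3 : y * u * y⁻¹ = u := by
      calc y * u * y⁻¹ = y * g * z * (y * g)⁻¹ := by rw [hudef]; group
        _ = u := h2
    exact hfix y hy (mul_inv_eq_iff_eq_mul.1 h3)
  -- the intersection is trivial
  have hD0 : ∀ x, x ∈ S.Q → x ∈ T.Q → x = 1 := by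
    by_contra hcon
    push Not at hcon
    obtain ⟨x, hxS, hxT, hx1⟩ := hcon
    have hxz : x ≠ z := fun h => hzT (h ▸ hxT)
    have hπx := pi_ne_zero S hxS hx1 hxz
    have hTstab : ∀ w ∈ WE S g, MT.mulVec w ∈ WE S g := by
      rintro _ ⟨y, hy, rfl⟩
      refine ⟨f * y * f⁻¹, ⟨conj_mem_Q S hfz hy.1, conj_mem_Q T hfu hy.2⟩, ?_⟩
      rw [S.act f hfz y hy.1, hfφ, hρt]
    have hall : ∀ w, Squares.MJ.mulVec w = w → w ∈ WE S g :=
      fun w hw => irr (WE S g) hTstab (S.π x) ⟨x, ⟨hxS, hxT⟩, rfl⟩ hπx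
        (hfix x hxS (T.Q_le x hxT)) w hw
    -- every commutator is in `Q_u` up to `z`
    have hcase : ∀ y ∈ S.Q, Squares.MJ.mulVec (S.π y) ≠ S.π y →
        ∃ x, x ∈ S.Q ∧ x ∈ T.Q ∧ u * y * u * y⁻¹ = z * x := by
      intro y hy hne
      obtain ⟨h1, h2⟩ := hκ y hy
      obtain ⟨x, hx, hxπ⟩ := hall (S.π (u * y * u * y⁻¹)) (by
        rw [h2, Matrix.mulVec_add, hMJ2, add_comm])
      rcases pi_eq S h1 hx.1 hxπ.symm with h | h
      · exfalso
        exact hne (hκT y hy (by rw [h]; exact hx.2))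
      · exact ⟨x, hx.1, hx.2, h⟩
    obtain ⟨y1, hy1, hπ1⟩ := S.π_surj (vec 1)
    obtain ⟨y2, hy2, hπ2⟩ := S.π_surj (vec 8)
    obtain ⟨x1, hx1S, hx1T, hk1⟩ := hcase y1 hy1 (by rw [hπ1]; exact MJ_1)
    obtain ⟨x2, hx2S, hx2T, hk2⟩ := hcase y2 hy2 (by rw [hπ2]; exact MJ_8)
    have hcomm : y1 * (u * y2 * u * y2⁻¹) = (u * y2 * u * y2⁻¹) * y1 := by
      rw [comm_iff S hy1 (hκ y2 hy2).1, (hκ y2 hy2).2, hπ1, hπ2]
      exact MJ_b
    have hprod : u * (y1 * y2) * u * (y1 * y2)⁻¹ = x1 * x2 := by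
      calc u * (y1 * y2) * u * (y1 * y2)⁻¹ = u * y1 * (u * u) * y2 * u * (y1 * y2)⁻¹ := by
            rw [hu2]; group
        _ = (u * y1 * u * y1⁻¹) * (y1 * (u * y2 * u * y2⁻¹)) * y1⁻¹ := by group
        _ = (u * y1 * u * y1⁻¹) * ((u * y2 * u * y2⁻¹) * y1) * y1⁻¹ := by rw [hcomm]
        _ = (u * y1 * u * y1⁻¹) * (u * y2 * u * y2⁻¹) := by group
        _ = z * x1 * (z * x2) := by rw [hk1, hk2]
        _ = z * (x1 * z) * x2 := by group
        _ = z * (z * x1) * x2 := by rw [S.Q_le x1 hx1S]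
        _ = (z * z) * (x1 * x2) := by group
        _ = x1 * x2 := by rw [S.z_sq, one_mul]
    have hfin := hκT (y1 * y2) (S.Q.mul_mem hy1 hy2) (by
      rw [hprod]; exact T.Q.mul_mem hx1T hx2T)
    rw [S.π_mul y1 hy1 y2 hy2, hπ1, hπ2] at hfin
    exact MJ_9 hfin
  -- the centraliser of `z` in `Q_u`
  have hletters : ∀ e : G, e ∈ T.Q → e * z = z * e → ∀ l : Fin 9, 4 ≤ l.1 → (S.φ e).1 l = l := by
    intro e heT hez l hl
    obtain ⟨m, -, hm1, hm2, hm3, hm4⟩ := MJ_letters l hl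
    obtain ⟨w, hw⟩ := Squares.good_j0 S (vec m) (by rw [hρj]; exact hm1)
    rw [hρj] at hw
    obtain ⟨y, hy, rfl⟩ := S.π_surj w
    obtain ⟨hdQ, hdπ⟩ := hκ y hy
    rw [← hw] at hdπ
    set d := u * y * u * y⁻¹ with hd
    have hd2 : d * d = 1 := (sq_eq_one_iff S hdQ).2 (by rw [hdπ]; exact hm2)
    have hdi : d⁻¹ = d := inv_eq_of_mul_eq_one_right hd2
    have hdu : d * u = u * d := by
      have h1 : u * d * u = d := by
        calc u * d * u = (u * u) * y * u * y⁻¹ * u := by rw [hd]; group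
          _ = y * u⁻¹ * y⁻¹ * u⁻¹ := by rw [hu2, hui, one_mul]
          _ = d⁻¹ := by rw [hd]; group
          _ = d := hdi
      calc d * u = (u * d * u) * u := by rw [h1]
        _ = u * d * (u * u) := by group
        _ = u * d := by rw [hu2, mul_one]
    have hc1 : d * e * d⁻¹ * e⁻¹ ∈ T.Q := T.Q.mul_mem (conj_mem_Q T hdu heT) (T.Q.inv_mem heT)
    have hc2 : d * e * d⁻¹ * e⁻¹ ∈ S.Q := by
      have := S.Q.mul_mem hdQ (conj_mem_Q S hez (S.Q.inv_mem hdQ))
      rwa [show d * (e * d⁻¹ * e⁻¹) = d * e * d⁻¹ * e⁻¹ by group] at this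
    have hc := hD0 _ hc2 hc1
    have hed : e * d * e⁻¹ = d := by
      have h1 : d * e = e * d := by
        calc d * e = (d * e * d⁻¹ * e⁻¹) * (e * d) := by group
          _ = e * d := by rw [hc, one_mul]
      rw [← h1]; group
    have hv : (S.ρ (S.φ e)).mulVec (vec m) = vec m := by
      rw [← hdπ, ← S.act e hez d hdQ, hed]
    have := lt_rho S.ρ_cyc (S.φ e) (vec m) hm2 hm3
    rw [hv, hm4] at this
    exact this.symm
  have hcard := card_inf_C T (s := z) hu.symm S.z_sq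
  have hinj : Function.Injective (fun e : (T.Q ⊓ C z : Subgroup G) => (S.φ e.1).1 0) := by
    intro e1 e2 h
    have h' : (S.φ e1.1).1 0 = (S.φ e2.1).1 0 := h
    have hz1 := mem_C.1 e1.2.2
    have hz2 := mem_C.1 e2.2.2
    have hzi := inv_comm_of hz1
    have hmem : e1.1⁻¹ * e2.1 ∈ T.Q := T.Q.mul_mem (T.Q.inv_mem e1.2.1) e2.2.1
    have hz3 := mul_comm_of hzi hz2
    have hφ : S.φ (e1.1⁻¹ * e2.1) = 1 := by
      apply perm_trivial
      · rw [S.φ_mul _ _ hzi hz2, phi_inv S _ hz1]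
        show (S.φ e1.1).1⁻¹ ((S.φ e2.1).1 0) = 0
        rw [← h']
        simp
      · exact hletters _ hmem hz3
      · rw [← phi_pow S _ hz3, pow_four T hmem, phi_one S]
    have := hD0 _ ((S.φ_eq_one _ hz3).1 hφ) hmem
    apply Subtype.ext
    exact inv_mul_eq_one.1 this
  have h9 := Nat.card_le_card_of_injective _ hinj
  rw [Nat.card_eq_fintype_card (α := Fin 9), Fintype.card_fin] at h9
  omega

include hW in
/-- every commuting conjugate leads to a contradiction -/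
theorem false_of_comm {g : G} (hu : (g * z * g⁻¹) * z = z * (g * z * g⁻¹))
    (hne : g * z * g⁻¹ ≠ z) : False := by
  set T := conj S g with hT
  have hzT : z ∉ T.Q := z_notin S hW hne
  obtain ⟨y, hy, a, ha, hya, ha1, hau, ha2⟩ := P2 T (s := z) hu.symm S.z_sq hzT
  -- `u₁ = z a = y z y⁻¹`
  have hai : a⁻¹ = a := inv_eq_of_mul_eq_one_right ha2
  have h1 : (z * a) * (z * a) = 1 := by rw [← hya]; exact (conj S y).z_sq
  have haz : a * z = z * a := by
    have h2 : z * a * z = a⁻¹ := eq_inv_of_mul_eq_one_left (by rw [← h1]; group)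
    rw [hai] at h2
    calc a * z = (z * a * z) * z := by rw [h2]
      _ = z * a * (z * z) := by group
      _ = z * a := by rw [S.z_sq, mul_one]
  have hu1z : (y * z * y⁻¹) * z = z * (y * z * y⁻¹) := by
    rw [hya, mul_assoc, haz]
  have hu1ne : y * z * y⁻¹ ≠ z := by
    rw [hya]
    intro h
    exact ha1 (mul_eq_left.1 h)
  have haQ : a ∉ S.Q := by
    intro h
    apply hu1ne
    apply hW
    rw [hya]
    exact S.Q.mul_mem S.z_mem h
  have hφu : S.φ (y * z * y⁻¹) = S.φ a := by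
    rw [hya, S.φ_mul z a rfl haz, phi_Q S S.z_mem, one_mul]
  have hφ1 : S.φ a ≠ 1 := fun h => haQ ((S.φ_eq_one a haz).1 h)
  rcases Squares.type_of_invol (S.φ a) (phi_sq S haz ha2) hφ1 with ht | ht
  · -- type `2²`
    obtain ⟨c, hc⟩ := Squares.conj_j0 _ ht
    obtain ⟨k, hk, rfl⟩ := S.φ_surj c
    have hki := inv_comm_of hk
    have e1 : (k * y) * z * (k * y)⁻¹ = k * (y * z * y⁻¹) * k⁻¹ := by group
    apply false_of_j0 S hW (g := k * y)
    · rw [e1]
      exact mul_comm_of (mul_comm_of hk hu1z) hki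
    · rw [e1]
      intro h
      apply hu1ne
      calc y * z * y⁻¹ = k⁻¹ * (k * (y * z * y⁻¹) * k⁻¹) * k := by group
        _ = k⁻¹ * (z * k) := by rw [h]; group
        _ = z := by rw [← hk]; group
    · rw [e1, S.φ_mul _ _ (mul_comm_of hk hu1z) hki, S.φ_mul _ _ hk hu1z, phi_inv S k hk, hφu, hc]
  · -- type `2⁴`
    obtain ⟨x, hx, hxa⟩ := P1 S haz ha2 ht
    -- `x a x⁻¹ = z a = y z y⁻¹`, so `a` is conjugate to `z`
    have e1 : (x⁻¹ * y) * z * (x⁻¹ * y)⁻¹ = a := by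
      calc (x⁻¹ * y) * z * (x⁻¹ * y)⁻¹ = x⁻¹ * (y * z * y⁻¹) * x := by group
        _ = x⁻¹ * (x * a * x⁻¹) * x := by rw [hya, hxa]
        _ = a := by group
    have h2 := weak_conj S hW (g := g) (h := x⁻¹ * y) (by rw [e1]; exact ha)
    rw [e1] at h2
    exact hau h2

end red

/-- in a finite group an involution either is isolated or commutes with another conjugate -/
theorem exists_comm_conj {G : Type*} [Group G] [Finite G] {z : G} (hz : z * z = 1)
    (hI : ¬ Cfsg.Agent.Involutions.ZStar.Iso z) :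
    ∃ g, (g * z * g⁻¹) * z = z * (g * z * g⁻¹) ∧ g * z * g⁻¹ ≠ z := by
  have hzi : z⁻¹ = z := inv_eq_of_mul_eq_one_right hz
  have h1 : ∃ g : G, ¬ Odd (orderOf (z * (g * z * g⁻¹))) := by
    by_contra hcon
    push Not at hcon
    exact hI ⟨hz, hcon⟩
  obtain ⟨g, hg⟩ := h1
  rw [Nat.not_odd_iff_even] at hg
  obtain ⟨m, hm⟩ := hg
  set v := g * z * g⁻¹ with hv
  have hvv : v * v = 1 := by
    calc v * v = g * (z * z) * g⁻¹ := by rw [hv]; group
      _ = 1 := by rw [hz]; group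
  have hvi : v⁻¹ = v := inv_eq_of_mul_eq_one_right hvv
  set r := z * v with hr
  have hri : r⁻¹ = v * z := by rw [hr, mul_inv_rev, hzi, hvi]
  have hpos : 0 < orderOf r := orderOf_pos r
  have hm0 : m ≠ 0 := by rintro rfl; omega
  have hw2 : r ^ m * r ^ m = 1 := by rw [← pow_add, ← hm, pow_orderOf_eq_one]
  have hw1 : r ^ m ≠ 1 := by
    intro h
    have := orderOf_dvd_of_pow_eq_one h
    have := Nat.le_of_dvd (Nat.pos_of_ne_zero hm0) this
    omega
  have hwi : (r ^ m)⁻¹ = r ^ m := inv_eq_of_mul_eq_one_right hw2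
  have hzr : ∀ n : ℕ, z * r ^ n * z = (r ^ n)⁻¹ := by
    intro n
    have h2 : z * r * z⁻¹ = r⁻¹ := by
      rw [hri, hzi, hr]
      calc z * (z * v) * z = (z * z) * v * z := by group
        _ = v * z := by rw [hz, one_mul]
    have h3 : z * r ^ n * z⁻¹ = (r⁻¹) ^ n := by rw [← h2, conj_pow]
    rw [hzi, inv_pow] at h3
    exact h3
  have hvr : ∀ n : ℕ, v * r ^ n * v = (r ^ n)⁻¹ := by
    intro n
    have h2 : v * r * v⁻¹ = r⁻¹ := by
      rw [hri, hvi, hr]
      calc v * (z * v) * v = v * z * (v * v) := by group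
        _ = v * z := by rw [hvv, mul_one]
    have h3 : v * r ^ n * v⁻¹ = (r⁻¹) ^ n := by rw [← h2, conj_pow]
    rw [hvi, inv_pow] at h3
    exact h3
  have hwz : r ^ m * z = z * r ^ m := by
    have h2 := hzr m
    rw [hwi] at h2
    calc r ^ m * z = (z * r ^ m * z) * z := by rw [h2]
      _ = z * r ^ m * (z * z) := by group
      _ = z * r ^ m := by rw [hz, mul_one]
  have hfin : ∃ h, h * z * h⁻¹ = r ^ m * z := by
    rcases Nat.even_or_odd' m with ⟨k, hk | hk⟩
    · refine ⟨r ^ k, ?_⟩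
      have h2 := hzr k
      calc r ^ k * z * (r ^ k)⁻¹ = r ^ k * z * (z * r ^ k * z) := by rw [h2]
        _ = r ^ k * (z * z) * r ^ k * z := by group
        _ = r ^ m * z := by rw [hz, mul_one, ← pow_add, hk, two_mul]
    · -- conjugate of `v`
      refine ⟨(r ^ k)⁻¹ * g, ?_⟩
      have h2 := hvr k
      have h3 : (r ^ k)⁻¹ * g * z * ((r ^ k)⁻¹ * g)⁻¹ = (r ^ k)⁻¹ * v * r ^ k := by
        rw [hv]; group
      rw [h3]
      calc (r ^ k)⁻¹ * v * r ^ k = (v * r ^ k * v) * v * r ^ k := by rw [h2]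
        _ = v * r ^ k * (v * v) * r ^ k := by group
        _ = v * r ^ (2 * k) := by rw [hvv, mul_one, mul_assoc, ← pow_add, two_mul]
        _ = (z * z) * v * r ^ (2 * k) := by rw [hz, one_mul]
        _ = z * (r * r ^ (2 * k)) := by rw [mul_assoc z z v, ← hr, mul_assoc]
        _ = z * r ^ m := by rw [← pow_succ', hk]
        _ = r ^ m * z := hwz.symm
  obtain ⟨h, hh⟩ := hfin
  refine ⟨h, ?_, ?_⟩
  · rw [hh, mul_assoc, hz, mul_one, ← mul_assoc, ← hwz, mul_assoc, hz, mul_one]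
  · rw [hh]
    intro h'
    exact hw1 (mul_eq_right.1 h')

/-- an isolated involution of a finite simple group is central, hence the group is abelian -/
theorem not_iso {G : Type*} [Group G] [Finite G] [IsSimpleGroup G] {z : G} (S : SpinAt G z) :
    ¬ Cfsg.Agent.Involutions.ZStar.Iso z := by
  intro hI
  have hcomm := Cfsg.Agent.S0215.iso_commutator z hI
  have hn : (Cfsg.pPrimeCore 2 G).Normal := Cfsg.Agent.Lib.Cores.pPrimeCore_normal 2
  have hcent : ∀ g, z * g = g * z := by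
    rcases hn.eq_bot_or_eq_top with h | h
    · intro g
      have h1 := hcomm g
      rw [h, Subgroup.mem_bot] at h1
      calc z * g = (z * g * z⁻¹ * g⁻¹) * (g * z) := by group
        _ = g * z := by rw [h1, one_mul]
    · exfalso
      have h1 := Nat.coprime_two_right.mp (Cfsg.Agent.Lib.Cores.pPrimeCore_coprime 2 (G := G))
      rw [h, Subgroup.card_top] at h1
      have h2 : orderOf z = 2 := by
        have : Fact (Nat.Prime 2) := ⟨Nat.prime_two⟩
        exact orderOf_eq_prime (by rw [pow_two, S.z_sq]) S.z_ne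
      have h3 := orderOf_dvd_natCard z
      rw [h2] at h3
      obtain ⟨k, hk⟩ := h3
      obtain ⟨j, hj⟩ := h1
      omega
  have hc : Subgroup.center G ≠ ⊥ := by
    intro h
    apply S.z_ne
    have h1 : z ∈ Subgroup.center G := by
      rw [Subgroup.mem_center_iff]
      intro g; exact (hcent g).symm
    rwa [h, Subgroup.mem_bot] at h1
  have htop : Subgroup.center G = ⊤ :=
    (Subgroup.Normal.eq_bot_or_eq_top (inferInstance : (Subgroup.center G).Normal)).resolve_left hc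
  -- but `Q` is not abelian
  obtain ⟨x, hx, hxv⟩ := S.π_surj (vec 1)
  have hx1 : x ≠ 1 := by
    rintro rfl
    rw [pi_one S] at hxv
    exact vec1_ne hxv.symm
  have hxz : x ≠ z := by
    rintro rfl
    rw [pi_z S] at hxv
    exact vec1_ne hxv.symm
  obtain ⟨q, hq, hqx⟩ := ElemE.swap S hx hx1 hxz
  have h1 : x ∈ Subgroup.center G := by rw [htop]; trivial
  rw [Subgroup.mem_center_iff] at h1
  have h2 := h1 q
  rw [h2, mul_inv_cancel_right] at hqx
  exact S.z_ne (right_eq_mul.1 hqx)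

/-- **fusion theorem**: `z` is conjugate to a noncentral involution of `Q` -/
theorem exists_conj_mem {G : Type*} [Group G] [Finite G] [IsSimpleGroup G] {t : G}
    (S : SpinAt G t) : ∃ g, g * t * g⁻¹ ∈ S.Q ∧ g * t * g⁻¹ ≠ t := by
  by_contra hcon
  push Not at hcon
  obtain ⟨g, hg1, hg2⟩ := exists_comm_conj S.z_sq (not_iso S)
  exact false_of_comm S hcon hg1 hg2

end Cfsg.Agent.ThType.FusS
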