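import Cfsg.Agent.ThType.BDataInst
import Cfsg.Agent.ThType.FusS
import Cfsg.Agent.ThType.FusN
import Cfsg.Agent.S1700

/-!
R05 (Thompson type): final form, from `SpinAt` or `NatAt` in a finite simple group.
-/

set_option autoImplicit false

namespace Cfsg.Agent.ThType.Final

open Cfsg.Agent.ThType.SpinData Cfsg.Agent.ThType.NatData Cfsg.Agent.ThType.Squares
  Cfsg.Agent.ThType.ElemE

variable {G : Type*} [Group G] [Finite G] [IsSimpleGroup G] {t : G}

theorem iso_of_spin (S : SpinAt G t) : Nonempty (G ≃* Cfsg.Spor.Th) :=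
  BDataInst.iso_Th S (FusS.exists_conj_mem S) Cfsg.Agent.S1700.result

theorem final_of_spin (S : SpinAt G t) :
    Nonempty (G ≃* Cfsg.Spor.Th) ∧ Cfsg.IsTh G ∧
      ∀ x y : G, orderOf x = 2 → orderOf y = 2 → IsConj x y := by
  have hF := FusS.exists_conj_mem S
  have e := iso_of_spin S
  refine ⟨e, ?_, ?_⟩
  · obtain ⟨f⟩ := e
    exact ⟨inferInstance, (Nat.card_congr f.toEquiv).trans Cfsg.Agent.S1700.result.2⟩
  · exact Close.oneClass_G S (E := El S 8) (fun y => mem_El_eight S)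
      (fun p hp hp1 => NormE.exists_trans S hF hp hp1)
      (fun y hy => NormE.centralizer_El_eight S hy) Cfsg.Agent.S1700.result e

theorem final (h : Nonempty (SpinAt G t) ∨ Nonempty (NatAt G t)) :
    Nonempty (G ≃* Cfsg.Spor.Th) ∧ Cfsg.IsTh G ∧
      ∀ x y : G, orderOf x = 2 → orderOf y = 2 → IsConj x y := by
  rcases h with ⟨⟨S⟩⟩ | ⟨⟨N⟩⟩
  · exact final_of_spin S
  · exact (FusN.false_of_nat N).elim

end Cfsg.Agent.ThType.Final
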