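import Cfsg.Agent.ThType.SpinData

/-!
# Thompson type (project R05): the interface for the natural-module case (to be excluded)

`NatAt G z` is the analogue of `SpinAt G z` for the case that `Q/⟨z⟩` is the natural module of `A₉`:
the vectors of `F₂⁹` with coordinate sum `0`, with the quadratic form "half of the weight".
-/

set_option autoImplicit false

namespace Cfsg.Agent.ThType.NatData

open Cfsg.Agent.ThType.SpinData

/-- number of nonzero coordinates -/
def wt (v : Fin 9 → ZMod 2) : ℕ := (Finset.univ.filter fun i => v i ≠ 0).card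

/-- The 2-local data at an involution `z` with natural-module action. -/
structure NatAt (G : Type*) [Group G] (z : G) where
  /-- `O₂(C_G(z))` -/
  Q : Subgroup G
  /-- the map `C_G(z) → A₉` (only its values on `C_G(z)` matter) -/
  φ : G → alternatingGroup (Fin 9)
  /-- coordinates on `Q/⟨z⟩` (only its values on `Q` matter) -/
  π : G → Fin 9 → ZMod 2
  z_ne : z ≠ 1
  z_sq : z * z = 1
  Q_le : ∀ x ∈ Q, x * z = z * x
  z_mem : z ∈ Q
  φ_mul : ∀ x y : G, x * z = z * x → y * z = z * y → φ (x * y) = φ x * φ y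
  φ_surj : ∀ g : alternatingGroup (Fin 9), ∃ x : G, x * z = z * x ∧ φ x = g
  φ_eq_one : ∀ x : G, x * z = z * x → (φ x = 1 ↔ x ∈ Q)
  π_mul : ∀ x ∈ Q, ∀ y ∈ Q, π (x * y) = π x + π y
  π_sum : ∀ x ∈ Q, ∑ i, π x i = 0
  π_surj : ∀ v : Fin 9 → ZMod 2, ∑ i, v i = 0 → ∃ x ∈ Q, π x = v
  π_eq_zero : ∀ x ∈ Q, (π x = 0 ↔ x = 1 ∨ x = z)
  sq : ∀ x ∈ Q, x * x = if 4 ∣ wt (π x) then 1 else z
  comm : ∀ x ∈ Q, ∀ y ∈ Q, x * y = (if ∑ i, π x i * π y i = 0 then 1 else z) * (y * x)
  act : ∀ c : G, c * z = z * c → ∀ x ∈ Q, ∀ i, π (c * x * c⁻¹) ((φ c : Equiv.Perm (Fin 9)) i) = π x i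

end Cfsg.Agent.ThType.NatData
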