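import Cfsg.Agent.ThType.NatGroup
import Cfsg.Agent.ThType.NatData

/-!
# Uniqueness of the invariant forms on the natural module of `A₉`
-/

set_option autoImplicit false

namespace Cfsg.Agent.ThType.NatForm

open Equiv Cfsg.Agent.ThType.SpinData Cfsg.Agent.ThType.NatData Cfsg.Agent.ThType.Fock
  Cfsg.Agent.ThType.NatGroup

/-- second elementary symmetric function -/
def s2 (c : Fin 9 → ZMod 2) : ZMod 2 := ∑ i, ∑ j, if i < j then c i * c j else 0

theorem s2_add (c d : Fin 9 → ZMod 2) :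
    s2 (c + d) = s2 c + s2 d + ((∑ i, c i) * (∑ i, d i) - ∑ i, c i * d i) := by
  simp only [s2, Pi.add_apply, Fin.sum_univ_succ, Fin.sum_univ_zero]
  simp [Fin.lt_def]
  ring

theorem s2_wt : ∀ c : Fin 9 → ZMod 2, ∑ i, c i = 0 → (s2 c = 0 ↔ 4 ∣ wt c) := by
  decide +kernel

theorem wt_comp (c : Fin 9 → ZMod 2) (σ : Perm (Fin 9)) : wt (fun i => c (σ i)) = wt c := by
  unfold wt
  refine Finset.card_bij (fun i _ => σ i) ?_ ?_ ?_
  · intro i hi
    simpa using hi
  · intro i _ j _ h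
    exact σ.injective h
  · intro j hj
    exact ⟨σ.symm j, by simpa using hj, by simp⟩

theorem s2_comp (c : Fin 9 → ZMod 2) (h : ∑ i, c i = 0) (σ : Perm (Fin 9)) :
    s2 (fun i => c (σ i)) = s2 c := by
  have h' : ∑ i, c (σ i) = 0 := by rw [Equiv.sum_comp σ c]; exact h
  have h1 := s2_wt _ h'
  have h2 := s2_wt _ h
  rw [wt_comp] at h1
  have key : ∀ a b : ZMod 2, (a = 0 ↔ b = 0) → a = b := by decide
  exact key _ _ (h1.trans h2.symm)

/-- two-letter vectors -/
def ev (i j : Fin 9) : Fin 9 → ZMod 2 := fun l => (if l = i then 1 else 0) + (if l = j then 1 else 0)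

theorem ev_sum (i j : Fin 9) : ∑ l, ev i j l = 0 := by
  have h : (1 : ZMod 2) + 1 = 0 := by decide
  simp only [ev, Finset.sum_add_distrib, Finset.sum_ite_eq', Finset.mem_univ, if_true]
  exact h

theorem ev_add (i j k : Fin 9) : ev i j + ev j k = ev i k := by
  funext l
  simp only [ev, Pi.add_apply]
  have h : ∀ a b c : ZMod 2, a + b + (b + c) = a + c := by decide
  exact h _ _ _

/-- an element of `A₉` with `0 → 0`, `j+1 → 1`, `k+1 → 2` -/
def mvp (j k : Fin 8) : A9 :=
  let p : Perm (Fin 9) := swap 1 j.succ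
  let p' : Perm (Fin 9) := swap 2 (p k.succ) * p
  if Perm.sign p' = 1 then mk p' else mk (swap 7 8 * p')

theorem mvp_spec (j k : Fin 8) (h : j ≠ k) :
    (mvp j k).1 0 = 0 ∧ (mvp j k).1 j.succ = 1 ∧ (mvp j k).1 k.succ = 2 := by
  revert j k
  decide +kernel

/-- a third letter -/
def oth (j : Fin 8) : Fin 9 := if j = 0 then 2 else 1

theorem oth_spec (j : Fin 8) : (T 0 (oth j) j.succ).1 0 = oth j ∧
    (T 0 (oth j) j.succ).1 (oth j) = j.succ := by
  revert j
  decide +kernel

section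

variable {W : Type*} [AddCommGroup W] [Module (ZMod 2) W] {ρ : A9 →* Module.End (ZMod 2) W}
  {f : W →ₗ[ZMod 2] (Fin 9 → ZMod 2)} (hinj : Function.Injective f)
  (hsum : ∀ w, ∑ i, f w i = 0)
  (hsurj : ∀ v : Fin 9 → ZMod 2, ∑ i, v i = 0 → ∃ w, f w = v)
  (hρ : ∀ (g : A9) (w : W) (i : Fin 9), f (ρ g w) (g.1 i) = f w i)

include hρ in
theorem f_ρ (g : A9) (w : W) : f (ρ g w) = fun i => f w (g.1⁻¹ i) := by
  funext i
  have := hρ g w (g.1⁻¹ i)
  have h : g.1 (g.1⁻¹ i) = i := by rw [← Perm.mul_apply, mul_inv_cancel, Perm.one_apply]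
  rwa [h] at this

/-- the vector with coordinates `ev i j` -/
noncomputable def E (i j : Fin 9) : W := (hsurj (ev i j) (ev_sum i j)).choose

theorem f_E (i j : Fin 9) : f (E hsurj i j) = ev i j := (hsurj (ev i j) (ev_sum i j)).choose_spec

include hinj hρ in
theorem ρ_E (g : A9) (i j : Fin 9) : ρ g (E hsurj i j) = E hsurj (g.1 i) (g.1 j) := by
  apply hinj
  rw [f_ρ hρ, f_E, f_E]
  funext l
  simp only [ev]
  have h : ∀ i : Fin 9, g.1⁻¹ l = i ↔ l = g.1 i := fun i => Perm.inv_eq_iff_eq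
  simp only [h]

include hinj in
theorem E_add (i j k : Fin 9) : E hsurj i j + E hsurj j k = E hsurj i k := by
  apply hinj
  rw [map_add, f_E, f_E, f_E, ev_add]

include hinj hsum in
theorem expand (w : W) : w = ∑ j : Fin 8, f w j.succ • E hsurj 0 j.succ := by
  apply hinj
  rw [map_sum]
  funext l
  rw [Finset.sum_apply]
  simp only [map_smul, f_E, Pi.smul_apply, ev, smul_eq_mul]
  have hs := hsum w
  rw [Fin.sum_univ_succ] at hs
  have key : ∀ a b : ZMod 2, a + b = 0 → a = b := by decide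
  refine Fin.cases ?_ (fun m => ?_) l
  · rw [key _ _ hs]
    refine Finset.sum_congr rfl fun j _ => ?_
    rw [if_neg (Fin.succ_ne_zero j).symm]
    simp
  · rw [Finset.sum_eq_single m]
    · rw [if_neg (Fin.succ_ne_zero m)]
      simp
    · intro b _ hb
      rw [if_neg (Fin.succ_ne_zero m), if_neg (fun e => hb (Fin.succ_injective _ e).symm)]
      simp
    · simp

variable {b : W →ₗ[ZMod 2] W →ₗ[ZMod 2] ZMod 2}

include hinj hρ in
theorem b_E (hb : ∀ g v w, b (ρ g v) (ρ g w) = b v w) {j k : Fin 8} (h : j ≠ k) :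
    b (E hsurj 0 j.succ) (E hsurj 0 k.succ) = b (E hsurj 0 1) (E hsurj 0 2) := by
  obtain ⟨h0, h1, h2⟩ := mvp_spec j k h
  rw [← hb (mvp j k), ρ_E hinj hsurj hρ, ρ_E hinj hsurj hρ, h0, h1, h2]

include hinj hsum hρ hsurj in
theorem b_eq (hself : ∀ v, b v v = 0) (hb : ∀ g v w, b (ρ g v) (ρ g w) = b v w)
    (hne : ∃ v w, b v w ≠ 0) (v w : W) : b v w = ∑ i, f v i * f w i := by
  set κ := b (E hsurj 0 1) (E hsurj 0 2) with hκ
  have hv0 : ∀ v, f v 0 = ∑ j : Fin 8, f v j.succ := by
    intro v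
    have hs := hsum v
    rw [Fin.sum_univ_succ] at hs
    have key : ∀ a b : ZMod 2, a + b = 0 → a = b := by decide
    exact key _ _ hs
  have e : ∀ v w, b v w = κ * ∑ i, f v i * f w i := by
    intro v w
    have h1 : b v w = ∑ j : Fin 8, ∑ k : Fin 8, f v j.succ * f w k.succ *
        b (E hsurj 0 j.succ) (E hsurj 0 k.succ) := by
      conv_lhs => rw [expand hinj hsum hsurj v, expand hinj hsum hsurj w]
      simp only [map_sum, map_smul, LinearMap.sum_apply, LinearMap.smul_apply, smul_eq_mul]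
      rw [Finset.sum_comm]
      refine Finset.sum_congr rfl fun j _ => ?_
      rw [Finset.mul_sum]
      refine Finset.sum_congr rfl fun k _ => ?_
      ring
    have h4 : ∑ i, f v i * f w i = f v 0 * f w 0 + ∑ j : Fin 8, f v j.succ * f w j.succ :=
      Fin.sum_univ_succ _
    rw [h1, h4, hv0 v, hv0 w, Finset.sum_mul_sum, ← Finset.sum_add_distrib,
      Finset.mul_sum]
    refine Finset.sum_congr rfl fun j _ => ?_
    have h2 : ∀ k : Fin 8, f v j.succ * f w k.succ * b (E hsurj 0 j.succ) (E hsurj 0 k.succ) =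
        κ * (f v j.succ * f w k.succ) +
          κ * (if k = j then f v j.succ * f w k.succ else 0) := by
      intro k
      by_cases hjk : k = j
      · subst hjk
        rw [hself, if_pos rfl, mul_zero]
        have : ∀ a : ZMod 2, 0 = a + a := by decide
        exact this _
      · rw [b_E hinj hsurj hρ hb (Ne.symm hjk), if_neg hjk]
        ring
    simp only [h2, Finset.sum_add_distrib, ← Finset.mul_sum, Finset.sum_ite_eq', Finset.mem_univ,
      if_true, mul_add]
  have hκ1 : κ = 1 := by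
    have two : ∀ a : ZMod 2, a = 0 ∨ a = 1 := by decide
    rcases two κ with hk | hk
    · exfalso
      obtain ⟨a, c, hac⟩ := hne
      apply hac
      rw [e, hk, zero_mul]
    · exact hk
  rw [e, hκ1, one_mul]

include hinj hsum hρ hsurj in
theorem q_eq (hself : ∀ v, b v v = 0) (hb : ∀ g v w, b (ρ g v) (ρ g w) = b v w)
    (hne : ∃ v w, b v w ≠ 0) {q : W → ZMod 2} (hq : ∀ v w, q (v + w) = q v + q w + b v w)
    (hqρ : ∀ g v, q (ρ g v) = q v) (v : W) : q v = s2 (f v) := by
  have hadd : ∀ v w, q (v + w) + s2 (f (v + w)) = (q v + s2 (f v)) + (q w + s2 (f w)) := by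
    intro v w
    rw [hq, map_add, s2_add, hsum, zero_mul, b_eq hinj hsum hsurj hρ hself hb hne]
    ring
  let d : W →+ ZMod 2 := AddMonoidHom.mk' (fun v => q v + s2 (f v)) hadd
  have hd : ∀ v, d v = q v + s2 (f v) := fun _ => rfl
  have hinv : ∀ g v, d (ρ g v) = d v := by
    intro g v
    rw [hd, hd, hqρ, f_ρ hρ, s2_comp _ (hsum v)]
  have hE : ∀ j : Fin 8, d (E hsurj 0 j.succ) = 0 := by
    intro j
    obtain ⟨h1, h2⟩ := oth_spec j
    have h3 : ρ (T 0 (oth j) j.succ) (E hsurj 0 (oth j)) = E hsurj (oth j) j.succ := by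
      rw [ρ_E hinj hsurj hρ, h1, h2]
    rw [← E_add hinj hsurj 0 (oth j) j.succ, map_add, ← h3, hinv]
    have : ∀ a : ZMod 2, a + a = 0 := by decide
    exact this _
  have hz : d v = 0 := by
    rw [expand hinj hsum hsurj v, map_sum]
    refine Finset.sum_eq_zero fun j _ => ?_
    have two : ∀ a : ZMod 2, a = 0 ∨ a = 1 := by decide
    rcases two (f v j.succ) with h | h
    · rw [h, zero_smul, map_zero]
    · rw [h, one_smul, hE]
  rw [hd] at hz
  have key : ∀ a b : ZMod 2, a + b = 0 → a = b := by decide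
  exact key _ _ hz

end

end Cfsg.Agent.ThType.NatForm
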