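import Cfsg.Agent.ThType.Fock

/-!
# Uniqueness of the invariant forms on the spin module
-/

set_option autoImplicit false

namespace Cfsg.Agent.ThType.SpinForm

open Cfsg.Agent.ThType.SpinData Cfsg.Agent.ThType.Fock

/-- vector from bits -/
def vb (n : ℕ) : V := fun j => if n.testBit j.1 then 1 else 0

/-- six operators that are self-adjoint for every invariant form -/
def Y : Fin 6 → Matrix (Fin 8) (Fin 8) (ZMod 2) :=
  ![ofRows ![73, 135, 30, 41, 176, 96, 96, 208], ofRows ![74, 132, 16, 36, 0, 16, 160, 16],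
    ofRows ![65, 130, 22, 41, 148, 104, 65, 130], ofRows ![9, 6, 6, 9, 148, 104, 97, 146],
    ofRows ![65, 131, 30, 41, 180, 104, 65, 194], ofRows ![3, 3, 12, 12, 52, 56, 193, 194]]

def qd : Fin 6 → Fin 7 × Fin 7 × Fin 7 × Fin 7 :=
  ![(0, 1, 2, 3), (1, 2, 4, 5), (1, 3, 4, 6), (0, 4, 5, 6), (1, 2, 5, 6), (2, 3, 4, 6)]

theorem Y_eq (i : Fin 6) :
    Y i = X (qd i).1 + X (qd i).2.1 + X (qd i).2.2.1 + X (qd i).2.2.2 := by
  revert i
  decide +kernel

/-- partial products of the word `Y₂ Y₅ Y₁ Y₄ Y₀ Y₃` -/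
def R : Matrix (Fin 8) (Fin 8) (ZMod 2) := ofRows ![245, 245, 245, 0, 0, 245, 245, 245]

theorem R_eq : Y 2 * (Y 5 * (Y 1 * (Y 4 * (Y 0 * Y 3)))) = R := by
  have h1 : Y 0 * Y 3 = ofRows ![97, 155, 157, 104, 110, 9, 9, 103] := by decide +kernel
  have h2 : Y 4 * ofRows ![97, 155, 157, 104, 110, 9, 9, 103] =
    ofRows ![104, 157, 0, 0, 157, 104, 104, 245] := by decide +kernel
  have h3 : Y 1 * ofRows ![104, 157, 0, 0, 157, 104, 104, 245] =
    ofRows ![245, 245, 157, 104, 0, 157, 157, 157] := by decide +kernel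
  have h4 : Y 5 * ofRows ![245, 245, 157, 104, 0, 157, 157, 157] =
    ofRows ![0, 0, 245, 245, 0, 245, 245, 245] := by decide +kernel
  have h5 : Y 2 * ofRows ![0, 0, 245, 245, 0, 245, 245, 245] = R := by decide +kernel
  rw [h1, h2, h3, h4, h5]

theorem R_mulVec (v : V) :
    (Y 2).mulVec ((Y 5).mulVec ((Y 1).mulVec ((Y 4).mulVec ((Y 0).mulVec ((Y 3).mulVec v))))) =
      R.mulVec v := by
  rw [← R_eq]
  simp only [Matrix.mulVec_mulVec]

theorem R_spec : ∀ v : V, R.mulVec v = b0 (vb 95) v • vb 231 := by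
  decide +kernel

theorem chain : (Y 2).mulVec (vb 95) = vb 134 ∧ (Y 5).mulVec (vb 134) = vb 95 ∧
    (Y 1).mulVec (vb 95) = vb 175 ∧ (Y 4).mulVec (vb 175) = vb 95 ∧
    (Y 0).mulVec (vb 95) = vb 115 ∧ (Y 3).mulVec (vb 115) = vb 95 ∧
    (Y 1).mulVec (vb 134) = vb 73 ∧ (Y 0).mulVec (vb 134) = vb 146 ∧
    (Y 0).mulVec (vb 175) = vb 236 ∧ (Y 0).mulVec (vb 73) = vb 231 := by
  decide +kernel

def fb : Fin 8 → V := ![vb 95, vb 134, vb 175, vb 73, vb 115, vb 146, vb 236, vb 231]

theorem single_eq (j : Fin 8) : (Pi.single j 1 : V) = ∑ k, pmat k j • fb k := by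
  revert j
  decide +kernel

/-- an invariant bilinear form -/
structure Form (B : V → V → ZMod 2) : Prop where
  add_left : ∀ u u' v, B (u + u') v = B u v + B u' v
  add_right : ∀ u v v', B u (v + v') = B u v + B u v'
  inv : ∀ k u v, B ((X k).mulVec u) ((X k).mulVec v) = B u v

theorem X_cube (k : Fin 7) (v : V) : (X k).mulVec ((X k).mulVec ((X k).mulVec v)) = v := by
  have h : X k * (X k * X k) = 1 := by
    rw [X_sq, mul_add, mul_one, X_sq]
    have h2 : X k + X k = 0 := by
      ext i j
      rw [Matrix.add_apply, Matrix.zero_apply]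
      have : ∀ a : ZMod 2, a + a = 0 := by decide
      exact this _
    rw [add_right_comm, h2, zero_add]
  rw [Matrix.mulVec_mulVec, Matrix.mulVec_mulVec, Matrix.mul_assoc, h, Matrix.one_mulVec]

theorem X_sq_mulVec (k : Fin 7) (v : V) :
    (X k).mulVec ((X k).mulVec v) = (X k).mulVec v + v := by
  rw [Matrix.mulVec_mulVec, X_sq, Matrix.add_mulVec, Matrix.one_mulVec]

namespace Form

variable {B : V → V → ZMod 2} (h : Form B)

include h

theorem zero_left (v : V) : B 0 v = 0 := by
  have := h.add_left 0 0 v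
  simpa using this

theorem zero_right (v : V) : B v 0 = 0 := by
  have := h.add_right v 0 0
  simpa using this

theorem smul_left (a : ZMod 2) (u v : V) : B (a • u) v = a * B u v := by
  have two : ∀ a : ZMod 2, a = 0 ∨ a = 1 := by decide
  rcases two a with rfl | rfl
  · rw [zero_smul, h.zero_left, zero_mul]
  · rw [one_smul, one_mul]

theorem smul_right (a : ZMod 2) (u v : V) : B u (a • v) = a * B u v := by
  have two : ∀ a : ZMod 2, a = 0 ∨ a = 1 := by decide
  rcases two a with rfl | rfl
  · rw [zero_smul, h.zero_right, zero_mul]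
  · rw [one_smul, one_mul]

theorem X_adj (k : Fin 7) (u v : V) :
    B ((X k).mulVec u) v = B u ((X k).mulVec v) + B u v := by
  have e := h.inv k u ((X k).mulVec ((X k).mulVec v))
  rw [X_cube, X_sq_mulVec, h.add_right] at e
  exact e

theorem Y_adj (i : Fin 6) (u v : V) : B ((Y i).mulVec u) v = B u ((Y i).mulVec v) := by
  rw [Y_eq]
  simp only [Matrix.add_mulVec, h.add_left, h.add_right, h.X_adj]
  have : ∀ a b c d e : ZMod 2, a + e + (b + e) + (c + e) + (d + e) = a + b + c + d := by decide
  exact this _ _ _ _ _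

end Form

theorem b0_form : Form b0 where
  add_left u u' v := by simp only [b0, Pi.add_apply]; ring
  add_right u v v' := by simp only [b0, Pi.add_apply]; ring
  inv := b0_X

/-- the invariant form is unique -/
theorem eq_b0 {B : V → V → ZMod 2} (h : Form B) (hne : ∃ u v, B u v ≠ 0) (u v : V) :
    B u v = b0 u v := by
  obtain ⟨c1, c2, c3, c4, c5, c6, c7, c8, c9, c10⟩ := chain
  set κ := B (vb 95) (vb 231) with hκ
  have p0 : ∀ v, B (vb 95) v = κ * b0 (vb 95) v := by
    intro v
    have e : B (vb 95) v = B (vb 95) (R.mulVec v) := by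
      rw [← R_mulVec]
      conv_lhs => rw [← c6, h.Y_adj, ← c5, h.Y_adj, ← c4, h.Y_adj, ← c3, h.Y_adj, ← c2, h.Y_adj,
        ← c1, h.Y_adj]
    rw [e, R_spec, h.smul_right, mul_comm]
  have step : ∀ (i : Fin 6) (u : V), (∀ v, B u v = κ * b0 u v) →
      ∀ v, B ((Y i).mulVec u) v = κ * b0 ((Y i).mulVec u) v := by
    intro i u hu v
    rw [h.Y_adj, hu, b0_form.Y_adj]
  have hf : ∀ k v, B (fb k) v = κ * b0 (fb k) v := by
    have p1 := step 2 _ p0
    rw [c1] at p1
    have p2 := step 1 _ p0
    rw [c3] at p2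
    have p3 := step 1 _ p1
    rw [c7] at p3
    have p4 := step 0 _ p0
    rw [c5] at p4
    have p5 := step 0 _ p1
    rw [c8] at p5
    have p6 := step 0 _ p2
    rw [c9] at p6
    have p7 := step 0 _ p3
    rw [c10] at p7
    intro k
    fin_cases k
    · exact p0
    · exact p1
    · exact p2
    · exact p3
    · exact p4
    · exact p5
    · exact p6
    · exact p7
  have hall : ∀ u v, B u v = κ * b0 u v := by
    intro u v
    let S : Submodule (ZMod 2) V :=
      { carrier := {u | B u v = κ * b0 u v}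
        zero_mem' := by
          change B 0 v = κ * b0 0 v
          rw [h.zero_left, b0_form.zero_left, mul_zero]
        add_mem' := by
          intro a b ha hb
          change B (a + b) v = κ * b0 (a + b) v
          rw [h.add_left, b0_form.add_left, mul_add]
          exact congrArg₂ _ ha hb
        smul_mem' := by
          intro c a ha
          change B (c • a) v = κ * b0 (c • a) v
          rw [h.smul_left, b0_form.smul_left, show B a v = κ * b0 a v from ha]
          ring }
    have hs : ∀ j : Fin 8, (Pi.single j 1 : V) ∈ S := by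
      intro j
      rw [single_eq]
      exact Submodule.sum_mem _ fun k _ => Submodule.smul_mem _ _ (hf k v)
    have : u ∈ S := by
      rw [pi_eq_sum_univ u]
      refine Submodule.sum_mem _ fun k _ => Submodule.smul_mem _ _ ?_
      have e : (fun j => if k = j then (1 : ZMod 2) else 0) = Pi.single k 1 := by
        funext j
        by_cases hj : k = j
        · subst hj; simp
        · rw [if_neg hj, Pi.single_eq_of_ne (Ne.symm hj)]
      rw [e]
      exact hs k
    exact this
  have hκ1 : κ = 1 := by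
    have two : ∀ a : ZMod 2, a = 0 ∨ a = 1 := by decide
    rcases two κ with hk | hk
    · exfalso
      obtain ⟨a, b, hab⟩ := hne
      apply hab
      rw [hall, hk, zero_mul]
    · exact hk
  rw [hall, hκ1, one_mul]

/-- the invariant quadratic form is unique -/
theorem eq_q0 {q : V → ZMod 2} (hq : ∀ u v, q (u + v) = q u + q v + b0 u v)
    (hinv : ∀ k v, q ((X k).mulVec v) = q v) (v : V) : q v = q0 v := by
  have two : ∀ a b c d : ZMod 2, a + b + c = d → b + c + a = d := by decide
  -- `v = x (x v) + x v`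
  set u := (X 0).mulVec v with hu
  have e : (X 0).mulVec u + u = v := by
    rw [hu, X_sq_mulVec]
    funext j
    simp only [Pi.add_apply]
    have : ∀ a b : ZMod 2, a + b + a = b := by decide
    exact this _ _
  have h1 := hq ((X 0).mulVec u) u
  have h2 := b0_eq ((X 0).mulVec u) u
  rw [e, hinv] at h1
  rw [e, q0_X] at h2
  have : ∀ a b c : ZMod 2, a + a + b = c + c + b := by decide
  rw [h1, h2]
  exact this _ _ _

end Cfsg.Agent.ThType.SpinForm
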