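import Cfsg.Agent.ThType.Build
import Cfsg.Agent.ThType.SpinForm
import Cfsg.Agent.ThType.NatForm

/-!
# Thompson type: `SpinAt` or `NatAt` from the hypotheses of S1671, S1649
-/

set_option autoImplicit false

namespace Cfsg.Agent.ThType.ModMain

open Equiv Cfsg.Agent.ThType.SpinData Cfsg.Agent.ThType.NatData Cfsg.Agent.ThType.Fock
  Cfsg.Agent.ThType.NatMod Cfsg.Agent.ThType.NatGroup Cfsg.Agent.ThType.Build
  Cfsg.Agent.Co2Type.Quad

variable {G : Type*} [Group G] {t : G} (P : Pre t)

open Classical in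
/-- the map to `A₉` as a total function -/
noncomputable def phi (s : A9 ≃* A9) (x : G) : A9 :=
  if h : x ∈ Subgroup.centralizer ({t} : Set G) then s.symm (P.φ ⟨x, h⟩) else 1

open Classical in
/-- coordinates as a total function -/
noncomputable def coord {M : Type*} [AddCommGroup M] (f : P.large.V → M) (x : G) : M :=
  if h : x ∈ P.Q then f (P.large.pr ⟨x, h⟩) else 0

theorem mem_C {x : G} (h : x * t = t * x) : x ∈ Subgroup.centralizer ({t} : Set G) :=
  Subgroup.mem_centralizer_singleton_iff.2 h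

theorem phi_of {s : A9 ≃* A9} {x : G} (h : x * t = t * x) :
    phi P s x = s.symm (P.φ ⟨x, mem_C h⟩) := by
  rw [phi, dif_pos (mem_C h)]

theorem coord_of {M : Type*} [AddCommGroup M] (f : P.large.V → M) {x : G} (h : x ∈ P.Q) :
    coord P f x = f (P.large.pr ⟨x, h⟩) := by
  rw [coord, dif_pos h]

theorem phi_mul (s : A9 ≃* A9) (x y : G) (hx : x * t = t * x) (hy : y * t = t * y) :
    phi P s (x * y) = phi P s x * phi P s y := by
  have hxy : x * y * t = t * (x * y) := by rw [mul_assoc, hy, ← mul_assoc, hx, mul_assoc]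
  rw [phi_of P hx, phi_of P hy, phi_of P hxy, ← map_mul, ← map_mul]
  rfl

theorem phi_surj (s : A9 ≃* A9) (g : A9) : ∃ x : G, x * t = t * x ∧ phi P s x = g := by
  obtain ⟨c, hc⟩ := P.surj (s g)
  have h := Subgroup.mem_centralizer_singleton_iff.1 c.2
  refine ⟨c, h, ?_⟩
  rw [phi_of P h]
  have : (⟨(c : G), mem_C h⟩ : Subgroup.centralizer ({t} : Set G)) = c := rfl
  rw [this, hc, MulEquiv.symm_apply_apply]

theorem phi_eq_one (s : A9 ≃* A9) (x : G) (h : x * t = t * x) : phi P s x = 1 ↔ x ∈ P.Q := by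
  rw [phi_of P h]
  rw [show (1 : A9) = s.symm 1 from (map_one _).symm, s.symm.injective.eq_iff, P.ker]

theorem coord_mul {M : Type*} [AddCommGroup M] [Module (ZMod 2) M] (f : P.large.V →ₗ[ZMod 2] M)
    (x : G) (hx : x ∈ P.Q) (y : G) (hy : y ∈ P.Q) :
    coord P f (x * y) = coord P f x + coord P f y := by
  rw [coord_of P _ hx, coord_of P _ hy, coord_of P _ (mul_mem hx hy), ← map_add, ← P.large.pr_mul]
  rfl

theorem coord_eq_zero {M : Type*} [AddCommGroup M] [Module (ZMod 2) M]
    (f : P.large.V →ₗ[ZMod 2] M) (hf : Function.Injective f) (x : G) (hx : x ∈ P.Q) :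
    coord P f x = 0 ↔ x = 1 ∨ x = t := by
  rw [coord_of P _ hx, map_eq_zero_iff f hf, P.large.pr_eq_zero]

theorem sq_of {a : ZMod 2} {x : G} (hx : x ∈ P.Q) (h : P.large.q (P.large.pr ⟨x, hx⟩) = a) :
    x * x = if a = 0 then 1 else t := by
  by_cases ha : a = 0
  · rw [if_pos ha]
    rw [ha] at h
    exact P.large.q_eq_zero.1 h
  · rw [if_neg ha]
    have : ∀ a : ZMod 2, a ≠ 0 → a = 1 := by decide
    rw [this a ha] at h
    exact P.large.q_eq_one.1 h

theorem comm_of' {a : ZMod 2} {x y : G} (hx : x ∈ P.Q) (hy : y ∈ P.Q)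
    (h : P.large.b (P.large.pr ⟨x, hx⟩) (P.large.pr ⟨y, hy⟩) = a) :
    x * y = (if a = 0 then 1 else t) * (y * x) := by
  by_cases ha : a = 0
  · rw [if_pos ha, one_mul]
    rw [ha] at h
    exact (P.large.b_pr _ _).1 h
  · rw [if_neg ha]
    have : ∀ a : ZMod 2, a ≠ 0 → a = 1 := by decide
    rw [this a ha] at h
    have h2 : x * y = y * x * t := (P.large.b_pr_one _ _).1 h
    rw [h2, P.large.comm_z _ (mul_mem hy hx)]

theorem coord_conj {M : Type*} [AddCommGroup M] [Module (ZMod 2) M] (s : A9 ≃* A9)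
    (f : P.large.V →ₗ[ZMod 2] M) (c : G) (hc : c * t = t * c) (x : G) (hx : x ∈ P.Q) :
    coord P f (c * x * c⁻¹) = f (P.ρ (s (phi P s c)) (P.large.pr ⟨x, hx⟩)) := by
  rw [coord_of P _ (P.large.conj_mem c hc x hx), phi_of P hc, MulEquiv.apply_symm_apply, P.ρ_apply,
    P.large.act_pr]
  rfl

/-- the spin case -/
theorem spin_of (s : A9 ≃* A9) (f : V ≃ₗ[ZMod 2] P.large.V)
    (hf : ∀ k v, f ((X k).mulVec v) = P.ρ (s (cyc k)) (f v)) : ∃ S : SpinAt G t, S.Q = P.Q := by
  classical
  have hρa : ∀ (g : A9) (v : V),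
      (LinearMap.toMatrix' (f.symm.toLinearMap ∘ₗ P.ρ (s g) ∘ₗ f.toLinearMap)).mulVec v =
        f.symm (P.ρ (s g) (f v)) := by
    intro g v
    rw [LinearMap.toMatrix'_mulVec]
    rfl
  have hB : SpinForm.Form (fun u v => P.large.b (f u) (f v)) :=
    { add_left := fun u u' v => by rw [map_add, map_add, LinearMap.add_apply]
      add_right := fun u v v' => by rw [map_add, map_add]
      inv := fun k u v => by rw [hf, hf, P.b_ρ] }
  have hne : ∃ u v, P.large.b (f u) (f v) ≠ 0 := by
    by_contra hcon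
    push Not at hcon
    have h1 : f (Pi.single 0 1) = 0 := by
      refine P.large.b_nondeg fun w => ?_
      obtain ⟨v, rfl⟩ := f.surjective w
      exact hcon _ _
    have h2 : (Pi.single 0 1 : V) = 0 := by
      rw [← map_zero f] at h1
      exact f.injective h1
    exact absurd (congrFun h2 0) (by simp)
  have hb0 : ∀ u v, P.large.b (f u) (f v) = b0 u v := fun u v => SpinForm.eq_b0 hB hne u v
  have hq0 : ∀ v, P.large.q (f v) = q0 v := by
    refine SpinForm.eq_q0 (q := fun v => P.large.q (f v)) ?_ ?_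
    · intro u v
      rw [map_add, P.large.q_add', hb0]
    · intro k v
      rw [hf, P.q_ρ]
  refine ⟨{
    Q := P.Q
    φ := phi P s
    π := coord P f.symm
    ρ :=
      { toFun := fun g => LinearMap.toMatrix' (f.symm.toLinearMap ∘ₗ P.ρ (s g) ∘ₗ f.toLinearMap)
        map_one' := by
          have : f.symm.toLinearMap ∘ₗ P.ρ (s 1) ∘ₗ f.toLinearMap = LinearMap.id := by
            ext v
            simp
          rw [this, LinearMap.toMatrix'_id]
        map_mul' := fun g g' => by
          rw [← LinearMap.toMatrix'_comp]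
          congr 1
          apply LinearMap.ext
          intro v
          simp [map_mul] }
    z_ne := P.large.z_ne
    z_sq := P.large.z_sq
    Q_le := P.large.comm_z
    z_mem := P.large.z_mem
    φ_mul := phi_mul P s
    φ_surj := phi_surj P s
    φ_eq_one := phi_eq_one P s
    π_mul := coord_mul P f.symm.toLinearMap
    π_surj := ?_
    π_eq_zero := coord_eq_zero P f.symm.toLinearMap f.symm.injective
    sq := ?_
    comm := ?_
    ρ_cyc := ?_
    act := ?_ }, rfl⟩
  · intro v
    obtain ⟨x, hx⟩ := P.large.pr_surjective (f v)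
    refine ⟨x, x.2, ?_⟩
    rw [coord_of P _ x.2]
    have : (⟨(x : G), x.2⟩ : P.Q) = x := rfl
    rw [this, hx, LinearEquiv.symm_apply_apply]
  · intro x hx
    refine sq_of P hx ?_
    rw [coord_of P _ hx, ← hq0, LinearEquiv.apply_symm_apply]
  · intro x hx y hy
    refine comm_of' P hx hy ?_
    rw [coord_of P _ hx, coord_of P _ hy, ← hb0, LinearEquiv.apply_symm_apply,
      LinearEquiv.apply_symm_apply]
  · intro k
    change LinearMap.toMatrix' (f.symm.toLinearMap ∘ₗ P.ρ (s (cyc k)) ∘ₗ f.toLinearMap) = X k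
    have : f.symm.toLinearMap ∘ₗ P.ρ (s (cyc k)) ∘ₗ f.toLinearMap = Matrix.toLin' (X k) := by
      apply LinearMap.ext
      intro v
      rw [Matrix.toLin'_apply]
      change f.symm (P.ρ (s (cyc k)) (f v)) = _
      rw [← hf, LinearEquiv.symm_apply_apply]
    rw [this, LinearMap.toMatrix'_toLin']
  · intro c hc x hx
    have h1 := coord_conj P s f.symm.toLinearMap c hc x hx
    change coord P f.symm (c * x * c⁻¹) = (LinearMap.toMatrix'
      (f.symm.toLinearMap ∘ₗ P.ρ (s (phi P s c)) ∘ₗ f.toLinearMap)).mulVec (coord P f.symm x)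
    rw [hρa, coord_of P _ hx, LinearEquiv.apply_symm_apply]
    exact h1

/-- the spin case -/
theorem spin [Finite G] (hs : ∀ k, P.ρ (cyc k) * P.ρ (cyc k) = P.ρ (cyc k) + 1) :
    ∃ S : SpinAt G t, S.Q = P.Q := by
  have hm : ∀ k l, k ≠ l → (P.ρ (cyc k) * P.ρ (cyc l)) * (P.ρ (cyc k) * P.ρ (cyc l)) = 1 := by
    intro k l h
    rw [← map_mul, ← map_mul, cyc_rel k l h, map_one]
  obtain ⟨f, hf | hf⟩ := Fock.exists_equiv P.card_V hs hm
  · exact spin_of P (MulEquiv.refl _) f hf
  · refine spin_of P (MulAut.conjNormal (swap (0 : Fin 9) 1)) f ?_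
    intro k v
    have h1 : MulAut.conjNormal (swap (0 : Fin 9) 1) (cyc k) = cyc k * cyc k := by
      apply Subtype.ext
      rw [MulAut.conjNormal_apply]
      revert k
      decide +kernel
    rw [h1, map_mul, hs, hf]
    rfl

/-- the natural case -/
theorem natural [Finite G] (h4 : ∀ k, Nat.card (LinearMap.range (P.ρ (cyc k) + 1)) = 4) :
    ∃ S : NatAt G t, S.Q = P.Q := by
  classical
  obtain ⟨f, hinj, hsum, hsurj, hρ⟩ := NatGroup.exists_nat P.ρ P.card_V h4
  have hne : ∃ v w, P.large.b v w ≠ 0 := by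
    by_contra hcon
    push Not at hcon
    have h1 : ∀ v : P.large.V, v = 0 := fun v => P.large.b_nondeg fun w => hcon v w
    have : Subsingleton P.large.V := ⟨fun a b => (h1 a).trans (h1 b).symm⟩
    have h2 := P.card_V
    rw [Nat.card_of_subsingleton (0 : P.large.V)] at h2
    exact absurd h2 (by norm_num)
  have hb : ∀ v w, P.large.b v w = ∑ i, f v i * f w i :=
    NatForm.b_eq hinj hsum hsurj hρ P.large.b_self P.b_ρ hne
  have hq : ∀ v, P.large.q v = NatForm.s2 (f v) :=
    NatForm.q_eq hinj hsum hsurj hρ P.large.b_self P.b_ρ hne P.large.q_add' P.q_ρ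
  refine ⟨{
    Q := P.Q
    φ := phi P (MulEquiv.refl _)
    π := coord P f
    z_ne := P.large.z_ne
    z_sq := P.large.z_sq
    Q_le := P.large.comm_z
    z_mem := P.large.z_mem
    φ_mul := phi_mul P _
    φ_surj := phi_surj P _
    φ_eq_one := phi_eq_one P _
    π_mul := coord_mul P f
    π_sum := ?_
    π_surj := ?_
    π_eq_zero := coord_eq_zero P f hinj
    sq := ?_
    comm := ?_
    act := ?_ }, rfl⟩
  · intro x hx
    rw [coord_of P _ hx]
    exact hsum _
  · intro v hv
    obtain ⟨w, hw⟩ := hsurj v hv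
    obtain ⟨x, hx⟩ := P.large.pr_surjective w
    refine ⟨x, x.2, ?_⟩
    rw [coord_of P _ x.2]
    have : (⟨(x : G), x.2⟩ : P.Q) = x := rfl
    rw [this, hx, hw]
  · intro x hx
    have h1 := sq_of P hx rfl
    rw [h1, hq, coord_of P _ hx]
    have h2 := NatForm.s2_wt _ (hsum (P.large.pr ⟨x, hx⟩))
    by_cases h3 : NatForm.s2 (f (P.large.pr ⟨x, hx⟩)) = 0
    · rw [if_pos h3, if_pos (h2.1 h3)]
    · rw [if_neg h3, if_neg (fun h => h3 (h2.2 h))]
  · intro x hx y hy
    refine comm_of' P hx hy ?_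
    rw [coord_of P _ hx, coord_of P _ hy, hb]
  · intro c hc x hx i
    have h1 := coord_conj P (MulEquiv.refl _) f c hc x hx
    rw [h1, coord_of P _ hx]
    exact hρ _ _ _

/-- **MOD** -/
theorem cases [Finite G] : (∃ S : SpinAt G t, S.Q = P.Q) ∨ (∃ S : NatAt G t, S.Q = P.Q) := by
  rcases Dich.dichotomy P.card_V P.ρ P.ρ_faithful with h | h
  · exact Or.inr (natural P h)
  · exact Or.inl (spin P h)

/-- from the hypotheses of S1671, S1649 -/
theorem main {G : Type*} [Group G] [Finite G] (t : G) (ht : orderOf t = 2)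
    (Q : Subgroup (Subgroup.centralizer ({t} : Set G))) [hn : Q.Normal]
    (hE : Cfsg.IsExtraspecial 2 Q) (hcard : Nat.card Q = 2 ^ 9)
    (hcc : Subgroup.centralizer (Q : Set (Subgroup.centralizer ({t} : Set G))) ≤ Q)
    (e : (Subgroup.centralizer ({t} : Set G)) ⧸ Q ≃* alternatingGroup (Fin 9)) :
    (∃ S : SpinAt G t, S.Q = Q.map (Subgroup.centralizer ({t} : Set G)).subtype) ∨
      (∃ S : NatAt G t, S.Q = Q.map (Subgroup.centralizer ({t} : Set G)).subtype) := by
  obtain ⟨P, hP⟩ := exists_pre t ht Q hE hcard hcc e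
  rw [← hP]
  exact cases P

end Cfsg.Agent.ThType.ModMain
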