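import Cfsg.Agent.ThType.ElemE
import Mathlib.Tactic

/-!
# The normaliser of `E` (project R05, helper935)

`E = El S l`: `E ≤ Q_p` for `p ∈ E#`, all transvections of `E` are induced, every automorphism of
`E` is induced by an element of `G`, `C_G(E) = E`, `N_G(⟨z, c⟩) ≤ N_G(E)`.
-/

set_option autoImplicit false

namespace Cfsg.Agent.ThType.NormE

open Equiv Cfsg.Agent.ThType.SpinData Cfsg.Agent.ThType.SpinFacts Cfsg.Agent.ThType.SpinRep
  Cfsg.Agent.ThType.ElemE

/-! ### a group of linear maps over `F₂` containing the transvections is everything -/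

section generation

variable {M : Type*} [AddCommGroup M] [Module (ZMod 2) M]

theorem madd_self (x : M) : x + x = 0 := by
  have h := add_smul (1 : ZMod 2) 1 x
  rw [show (1 : ZMod 2) + 1 = 0 by decide, zero_smul, one_smul] at h
  exact h.symm

theorem generation [Finite M] (D : (M ≃ₗ[ZMod 2] M) → Prop) (h1 : D (LinearEquiv.refl _ _))
    (hmul : ∀ α β, D α → D β → D (α.trans β)) (hinv : ∀ α, D α → D α.symm)
    (htr : ∀ (r : M) (f : M →ₗ[ZMod 2] ZMod 2), f r = 0 → ∃ τ, D τ ∧ ∀ x, τ x = x + f x • r)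
    (α : M ≃ₗ[ZMod 2] M) : D α := by
  classical
  have : Fintype M := Fintype.ofFinite M
  suffices h : ∀ n : ℕ, ∀ α : M ≃ₗ[ZMod 2] M, (Finset.univ.filter fun x => α x ≠ x).card = n →
      D α from h _ α rfl
  intro n
  induction n using Nat.strong_induction_on with
  | _ n ih =>
    intro α hα
    by_cases hid : ∀ x, α x = x
    · rwa [show α = LinearEquiv.refl _ _ from LinearEquiv.ext hid]
    · push Not at hid
      obtain ⟨w, hw⟩ := hid
      let F : Submodule (ZMod 2) M := LinearMap.eqLocus α.toLinearMap LinearMap.id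
      have hF : ∀ x, x ∈ F ↔ α x = x := fun x => Iff.rfl
      set r := w + α w with hr
      have hnot : α w ∉ F ⊔ Submodule.span (ZMod 2) {r} := by
        intro hmem
        obtain ⟨s, hs, y, hy, hsy⟩ := Submodule.mem_sup.1 hmem
        obtain ⟨a, rfl⟩ := Submodule.mem_span_singleton.1 hy
        rcases zmod2_cases a with rfl | rfl
        · rw [zero_smul, add_zero] at hsy
          rw [hF] at hs
          rw [hsy] at hs
          exact hw (α.injective hs)
        · rw [one_smul, hr] at hsy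
          have h2 : w = s := by
            have h3 : s + w + (α w + α w) = α w + α w := by
              calc s + w + (α w + α w) = s + (w + α w) + α w := by abel
                _ = α w + α w := by rw [hsy]
            rw [madd_self, add_zero] at h3
            calc w = w + (s + w) := by rw [h3, add_zero]
              _ = s + (w + w) := by abel
              _ = s := by rw [madd_self, add_zero]
          rw [hF, ← h2] at hs
          exact hw hs
      obtain ⟨f, hfv, hfp⟩ := Submodule.exists_le_ker_of_notMem hnot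
      have hfr : f r = 0 := hfp (Submodule.mem_sup_right (Submodule.mem_span_singleton_self r))
      have hfF : ∀ x ∈ F, f x = 0 := fun x hx => hfp (Submodule.mem_sup_left hx)
      have hf1 : f (α w) = 1 := (zmod2_cases _).resolve_left hfv
      obtain ⟨τ, hτ, hτx⟩ := htr r f hfr
      have hβ : ∀ x, (α.trans τ) x = τ (α x) := fun x => rfl
      have hβF : ∀ x, α x = x → (α.trans τ) x = x := by
        intro x hx
        rw [hβ, hx, hτx, hfF x hx, zero_smul, add_zero]
      have hβw : (α.trans τ) w = w := by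
        rw [hβ, hτx, hf1, one_smul, hr]
        calc α w + (w + α w) = w + (α w + α w) := by abel
          _ = w := by rw [madd_self, add_zero]
      have hlt : (Finset.univ.filter fun x => (α.trans τ) x ≠ x).card < n := by
        rw [← hα]
        apply Finset.card_lt_card
        rw [Finset.ssubset_iff_of_subset]
        · refine ⟨w, by simpa using hw, ?_⟩
          rw [Finset.mem_filter, not_and, not_not]
          exact fun _ => hβw
        · intro x hx
          rw [Finset.mem_filter] at hx ⊢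
          exact ⟨hx.1, fun h => hx.2 (hβF x h)⟩
      have h2 := ih _ hlt (α.trans τ) rfl
      have h3 := hmul _ _ h2 (hinv _ hτ)
      have h4 : (α.trans τ).trans τ.symm = α := by
        ext x
        simp
      rwa [h4] at h3

end generation

/-! ### automorphisms of an elementary abelian subgroup all of whose transvections are induced -/

section aut

variable {G : Type*} [Group G] (E : Subgroup G)

/-- the commutative group structure -/
abbrev commE (hcomm : ∀ x ∈ E, ∀ y ∈ E, x * y = y * x) : CommGroup E :=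
  { (inferInstance : Group E) with
    mul_comm := fun a b => Subtype.ext (hcomm a.1 a.2 b.1 b.2) }

/-- functionals separating: for `x ∉ ⟨r⟩` there is a functional killing `r` but not `x` -/
theorem exists_fun (hcomm : ∀ x ∈ E, ∀ y ∈ E, x * y = y * x) (hsq : ∀ x ∈ E, x * x = 1)
    {x r : G} (hx : x ∈ E) (hr : r ∈ E) (hx1 : x ≠ 1) (hxr : x ≠ r) :
    ∃ f : G → ZMod 2, (∀ a ∈ E, ∀ b ∈ E, f (a * b) = f a + f b) ∧ f r = 0 ∧ f x = 1 := by
  classical
  let _ : CommGroup E := commE E hcomm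
  let _ : Module (ZMod 2) (Additive E) := AddCommGroup.zmodModule (n := 2) (by
    intro a
    rw [two_nsmul]
    exact Additive.toMul.injective (Subtype.ext (hsq _ (Additive.toMul a).2)))
  have hnot : (Additive.ofMul ⟨x, hx⟩ : Additive E) ∉
      Submodule.span (ZMod 2) {(Additive.ofMul ⟨r, hr⟩ : Additive E)} := by
    intro hmem
    obtain ⟨a, ha⟩ := Submodule.mem_span_singleton.1 hmem
    rcases zmod2_cases a with rfl | rfl
    · rw [zero_smul] at ha
      exact hx1 (congrArg Subtype.val (congrArg Additive.toMul ha)).symm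
    · rw [one_smul] at ha
      exact hxr (congrArg Subtype.val (congrArg Additive.toMul ha)).symm
  obtain ⟨F, hF1, hF2⟩ := Submodule.exists_le_ker_of_notMem hnot
  refine ⟨fun a => if ha : a ∈ E then F (Additive.ofMul ⟨a, ha⟩) else 0, ?_, ?_, ?_⟩
  · intro a ha b hb
    simp only [dif_pos ha, dif_pos hb, dif_pos (E.mul_mem ha hb)]
    rw [← map_add]
    rfl
  · simp only [dif_pos hr]
    exact hF2 (Submodule.mem_span_singleton_self _)
  · simp only [dif_pos hx]
    exact (zmod2_cases _).resolve_left hF1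

theorem exists_aut [Finite E] (hcomm : ∀ x ∈ E, ∀ y ∈ E, x * y = y * x) (hsq : ∀ x ∈ E, x * x = 1)
    (htr : ∀ r ∈ E, r ≠ 1 → ∀ f : G → ZMod 2, (∀ a ∈ E, ∀ b ∈ E, f (a * b) = f a + f b) →
      f r = 0 → ∃ x : G, ∀ e ∈ E, x * e * x⁻¹ = (if f e = 0 then 1 else r) * e)
    (α : E ≃* E) : ∃ g : G, ∀ e : E, g * e.1 * g⁻¹ = (α e).1 := by
  classical
  let _ : CommGroup E := commE E hcomm
  let _ : Module (ZMod 2) (Additive E) := AddCommGroup.zmodModule (n := 2) (by
    intro a
    rw [two_nsmul]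
    exact Additive.toMul.injective (Subtype.ext (hsq _ (Additive.toMul a).2)))
  have key := generation (M := Additive E)
    (fun β => ∃ g : G, ∀ e : E, g * e.1 * g⁻¹ = (Additive.toMul (β (Additive.ofMul e))).1)
    ⟨1, fun e => by show 1 * e.1 * 1⁻¹ = e.1; group⟩
    (by
      rintro β γ ⟨g, hg⟩ ⟨h, hh⟩
      refine ⟨h * g, fun e => ?_⟩
      have h1 := hg e
      have h2 := hh (Additive.toMul (β (Additive.ofMul e)))
      rw [← h1] at h2
      show h * g * e.1 * (h * g)⁻¹ = (Additive.toMul (γ (β (Additive.ofMul e)))).1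
      rw [← show h * (g * e.1 * g⁻¹) * h⁻¹ = h * g * e.1 * (h * g)⁻¹ by group]
      exact h2)
    (by
      rintro β ⟨g, hg⟩
      refine ⟨g⁻¹, fun e => ?_⟩
      have h1 := hg (Additive.toMul (β.symm (Additive.ofMul e)))
      rw [ofMul_toMul, LinearEquiv.apply_symm_apply, toMul_ofMul] at h1
      rw [← h1]
      group)
    (by
      intro r F hFr
      by_cases hr : r = 0
      · refine ⟨LinearEquiv.refl _ _, ⟨1, fun e => ?_⟩, fun y => ?_⟩
        · show 1 * e.1 * 1⁻¹ = e.1
          group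
        · rw [hr, smul_zero, add_zero]; rfl
      · refine ⟨LinearEquiv.transvection hFr, ?_, fun y => LinearEquiv.transvection.apply hFr y⟩
        obtain ⟨x, hx⟩ := htr (Additive.toMul r).1 (Additive.toMul r).2 (by
            intro h
            apply hr
            exact Additive.toMul.injective (Subtype.ext h))
          (fun a => if ha : a ∈ E then F (Additive.ofMul ⟨a, ha⟩) else 0)
          (by
            intro a ha b hb
            simp only [dif_pos ha, dif_pos hb, dif_pos (E.mul_mem ha hb)]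
            rw [← map_add]
            rfl)
          (by
            simp only [dif_pos (Additive.toMul r).2]
            exact hFr)
        refine ⟨x, fun e => ?_⟩
        rw [hx e.1 e.2, LinearEquiv.transvection.apply]
        simp only [dif_pos e.2]
        rcases zmod2_cases (F (Additive.ofMul e)) with h | h
        · rw [h, zero_smul, add_zero]
          rw [if_pos rfl, one_mul]; rfl
        · rw [h, one_smul]
          rw [if_neg (by decide)]
          show (Additive.toMul r).1 * e.1 = e.1 * (Additive.toMul r).1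
          exact hcomm _ (Additive.toMul r).2 _ e.2)
  let β : Additive E ≃ₗ[ZMod 2] Additive E :=
    (MulEquiv.toAdditive α).toLinearEquiv (fun c x => ZMod.map_smul _ c x)
  obtain ⟨g, hg⟩ := key β
  exact ⟨g, fun e => hg e⟩

end aut

/-! ### elements of `A₉` acting trivially on `W8` -/

section kernel

variable {ρ : alternatingGroup (Fin 9) →* Matrix (Fin 8) (Fin 8) (ZMod 2)}
  (hρ : ∀ k, ρ (cyc k) = X k)

include hρ

theorem ker_fix (a : alternatingGroup (Fin 9)) (ha : ∀ v, (ρ a).mulVec v = v) : a = 1 := by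
  apply Subtype.ext
  ext l
  congr 1
  obtain ⟨g, rfl⟩ := exists_letter l
  have h1 := lt_rho hρ g (vec 1) q0_vec1 vec1_ne
  have h2 := lt_rho hρ a ((ρ g).mulVec (vec 1)) (by rw [q0_rho hρ, q0_vec1])
    (rho_ne_zero g vec1_ne)
  rw [ha, h1, lt_vec1] at h2
  exact h2.symm

theorem ker_sq (a : alternatingGroup (Fin 9)) (ha : ∀ v, W8 v → (ρ a).mulVec v = v) :
    a * a = 1 := by
  apply ker_fix hρ
  intro v
  have h1 : W8 ((ρ a).mulVec v + v) := by
    apply W8_perp
    intro w hw
    have h2 : b0 ((ρ a).mulVec v) w = b0 v w := by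
      conv_lhs => rw [← ha w hw]
      exact b0_rho hρ a v w
    have h3 : b0 ((ρ a).mulVec v + v) w = b0 ((ρ a).mulVec v) w + b0 v w := by
      simp only [b0, Pi.add_apply]; ring
    rw [h3, h2]
    generalize b0 v w = c
    revert c; decide
  have h2 := ha _ h1
  rw [Matrix.mulVec_add, ← rho_mul] at h2
  have h3 : (ρ (a * a)).mulVec v + ((ρ a).mulVec v + (ρ a).mulVec v) = v +
      ((ρ a).mulVec v + (ρ a).mulVec v) := by
    rw [← add_assoc, h2]; abel
  exact add_right_cancel h3

theorem ker_conj (a h : alternatingGroup (Fin 9)) (ha : ∀ v, W8 v → (ρ a).mulVec v = v)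
    (hh : h.1 8 = 8) : ∀ v, W8 v → (ρ (h * a * h⁻¹)).mulVec v = v := by
  intro v hv
  have h8 : (h⁻¹).1 8 = 8 := by
    show h.1⁻¹ 8 = 8
    rw [Equiv.Perm.inv_eq_iff_eq, hh]
  have h1 : W8 ((ρ h⁻¹).mulVec v) := by
    rw [← Wl_eight]
    have := (Wl_rho hρ h⁻¹ 8 v).2 ((Wl_eight v).2 hv)
    rwa [h8] at this
  rw [rho_mul, rho_mul, ha _ h1, rho_rho_inv]

/-- an element of `A₉` acting trivially on `W8` is trivial -/
theorem ker_trivial (a : alternatingGroup (Fin 9)) (ha : ∀ v, W8 v → (ρ a).mulVec v = v) :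
    a = 1 := by
  have hsq := ker_sq hρ a ha
  have ha2 : ∀ x, a.1 (a.1 x) = x := fun x => by
    have := congrArg (fun g : alternatingGroup (Fin 9) => g.1 x) hsq
    exact this
  have ha8 : a.1 8 = 8 := by
    have h1 := lt_rho hρ a (vec 1) q0_vec1 vec1_ne
    rw [ha _ (by decide +kernel), lt_vec1] at h1
    exact h1.symm
  by_contra hne
  -- a moved letter
  obtain ⟨i, hi⟩ : ∃ i, a.1 i ≠ i := by
    by_contra hcon
    push Not at hcon
    exact hne (Subtype.ext (Equiv.ext hcon))
  set j := a.1 i with hj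
  have hij : a.1 j = i := ha2 i
  have hi8 : i ≠ 8 := by rintro rfl; exact hi ha8
  have hj8 : j ≠ 8 := by
    intro h
    rw [h, ha8] at hij
    exact hi8 hij.symm
  -- a second moved letter
  obtain ⟨l, hli, hlj, hl⟩ : ∃ l, l ≠ i ∧ l ≠ j ∧ a.1 l ≠ l := by
    by_contra hcon
    push Not at hcon
    have h1 : a.1 = swap i j := by
      ext x
      congr 1
      by_cases hxi : x = i
      · rw [hxi, swap_apply_left]
      · by_cases hxj : x = j
        · rw [hxj, swap_apply_right, hij]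
        · rw [swap_apply_of_ne_of_ne hxi hxj, hcon x hxi hxj]
    have h2 : Perm.sign a.1 = 1 := a.2
    rw [h1, Perm.sign_swap (Ne.symm hi)] at h2
    exact absurd h2 (by decide)
  have hl8 : l ≠ 8 := by rintro rfl; exact hl ha8
  -- a further letter
  obtain ⟨k, hk⟩ : ∃ k : Fin 9, k ∉ ({i, j, l, a.1 l, 8} : Finset (Fin 9)) := by
    by_contra hcon
    push Not at hcon
    have h1 : (Finset.univ : Finset (Fin 9)) ⊆ {i, j, l, a.1 l, 8} := fun x _ => hcon x
    have h2 := Finset.card_le_card h1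
    have h3 : ({i, j, l, a.1 l, 8} : Finset (Fin 9)).card ≤ 5 := Finset.card_le_five
    rw [Finset.card_univ, Fintype.card_fin] at h2
    omega
  simp only [Finset.mem_insert, Finset.mem_singleton, not_or] at hk
  obtain ⟨hki, hkj, hkl, hkal, hk8⟩ := hk
  -- the 3-cycle (j k l)
  have hmem : swap j k * swap k l ∈ alternatingGroup (Fin 9) := by
    rw [Equiv.Perm.mem_alternatingGroup, Perm.sign_mul, Perm.sign_swap (Ne.symm hkj),
      Perm.sign_swap hkl]
    decide
  set x : alternatingGroup (Fin 9) := ⟨swap j k * swap k l, hmem⟩ with hx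
  have hx8 : x.1 8 = 8 := by
    show swap j k (swap k l 8) = 8
    rw [swap_apply_of_ne_of_ne (Ne.symm hk8) (Ne.symm hl8),
      swap_apply_of_ne_of_ne (Ne.symm hj8) (Ne.symm hk8)]
  have hb := ker_conj hρ a x ha hx8
  have hb2 := ker_sq hρ _ hb
  have hab : ∀ v, W8 v → (ρ (a * (x * a * x⁻¹))).mulVec v = v := by
    intro v hv
    rw [rho_mul, hb v hv, ha v hv]
  have hab2 := ker_sq hρ _ hab
  have hcomm : a * (x * a * x⁻¹) = (x * a * x⁻¹) * a := by
    set b := x * a * x⁻¹
    calc a * b = (a * b)⁻¹ := (inv_eq_of_mul_eq_one_right hab2).symm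
      _ = b⁻¹ * a⁻¹ := mul_inv_rev a b
      _ = b * a := by rw [inv_eq_of_mul_eq_one_right hsq, inv_eq_of_mul_eq_one_right hb2]
  have happ := congrArg (fun g : alternatingGroup (Fin 9) => g.1 i) hcomm
  -- x sends l to j, j to k, k to l
  have hxinv : ∀ y, (x⁻¹).1 y = (swap k l) ((swap j k) y) := by
    intro y
    show (swap j k * swap k l)⁻¹ y = _
    rw [mul_inv_rev, swap_inv, swap_inv]; rfl
  have hxapp : ∀ y, x.1 y = (swap j k) ((swap k l) y) := fun y => rfl
  have h1 : (x * a * x⁻¹).1 i = k := by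
    show x.1 (a.1 ((x⁻¹).1 i)) = k
    rw [hxinv, swap_apply_of_ne_of_ne (Ne.symm (Ne.symm (Ne.symm hi))) (Ne.symm hki),
      swap_apply_of_ne_of_ne (Ne.symm hki) (Ne.symm hli), ← hj, hxapp,
      swap_apply_of_ne_of_ne (Ne.symm hkj) (Ne.symm hlj), swap_apply_left]
  have h2 : (x * a * x⁻¹).1 j = x.1 (a.1 l) := by
    show x.1 (a.1 ((x⁻¹).1 j)) = _
    rw [hxinv, swap_apply_left, swap_apply_left]
  have halj : a.1 l ≠ j := by
    intro h
    apply hli
    have := congrArg a.1 h
    rw [ha2, hij] at this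
    exact this
  have h3 : x.1 (a.1 l) = a.1 l := by
    rw [hxapp, swap_apply_of_ne_of_ne (Ne.symm hkal) hl,
      swap_apply_of_ne_of_ne halj (Ne.symm hkal)]
  have happ' : a.1 ((x * a * x⁻¹).1 i) = (x * a * x⁻¹).1 (a.1 i) := happ
  rw [h1, ← hj, h2, h3] at happ'
  exact hkl (a.1.injective happ')

end kernel

/-! ### functionals -/

theorem exists_b0 (F : V →ₗ[ZMod 2] ZMod 2) : ∃ v, ∀ w, b0 v w = F w := by
  refine ⟨![F (Pi.single 4 1), F (Pi.single 5 1), F (Pi.single 6 1), F (Pi.single 7 1),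
    F (Pi.single 0 1), F (Pi.single 1 1), F (Pi.single 2 1), F (Pi.single 3 1)], ?_⟩
  intro w
  have h : F w = ∑ i, w i * F (Pi.single i 1) := by
    conv_lhs => rw [← Finset.univ_sum_single w, map_sum]
    refine Finset.sum_congr rfl fun i _ => ?_
    rw [← smul_eq_mul, ← map_smul]
    congr 1
    funext j
    by_cases hj : j = i
    · subst hj; simp
    · simp [Pi.single_eq_of_ne hj]
  rw [h]
  simp only [Fin.sum_univ_succ, b0]
  simp
  ring

section trans

variable {G : Type*} [Group G] {p : G} (T : SpinAt G p)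

/-- every functional on a subgroup of `Q` vanishing on `p` is given by commutation with an element
of `Q` -/
theorem exists_functional (W : AddSubgroup V) (f : G → ZMod 2)
    (hf : ∀ x ∈ preim T W, ∀ y ∈ preim T W, f (x * y) = f x + f y) (hfp : f p = 0) :
    ∃ x ∈ T.Q, ∀ e ∈ preim T W, b0 (T.π x) (T.π e) = f e := by
  have hp : p ∈ preim T W := ⟨T.z_mem, by rw [pi_z T]; exact W.zero_mem⟩
  have hs : ∀ w : W, ∃ x ∈ preim T W, T.π x = w.1 := by
    intro w
    obtain ⟨x, hx, hxw⟩ := T.π_surj w.1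
    exact ⟨x, ⟨hx, by rw [hxw]; exact w.2⟩, hxw⟩
  choose s hsm hsw using hs
  have hwd : ∀ x ∈ preim T W, ∀ y ∈ preim T W, T.π x = T.π y → f x = f y := by
    intro x hx y hy hxy
    rcases pi_eq T hx.1 hy.1 hxy with h | h
    · rw [h]
    · rw [h, hf p hp y hy, hfp, zero_add]
  let fb : W →+ ZMod 2 :=
    { toFun := fun w => f (s w)
      map_zero' := by
        have h0 : f 1 = 0 := by
          have := hf 1 (Subgroup.one_mem _) 1 (Subgroup.one_mem _)
          rw [mul_one] at this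
          exact left_eq_add.1 this
        rw [← h0]
        apply hwd _ (hsm _) _ (Subgroup.one_mem _)
        rw [hsw, pi_one T]; rfl
      map_add' := by
        intro a b
        rw [← hf _ (hsm a) _ (hsm b)]
        apply hwd _ (hsm _) _ (Subgroup.mul_mem _ (hsm a) (hsm b))
        rw [hsw, T.π_mul _ (hsm a).1 _ (hsm b).1, hsw, hsw]; rfl }
  obtain ⟨F, hF⟩ := LinearMap.exists_extend (K := ZMod 2) (V := V)
    (p := AddSubgroup.toZModSubmodule 2 W) (AddMonoidHom.toZModLinearMap 2 fb)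
  obtain ⟨v, hv⟩ := exists_b0 F
  obtain ⟨x, hx, rfl⟩ := T.π_surj v
  refine ⟨x, hx, fun e he => ?_⟩
  rw [hv]
  have h1 := LinearMap.congr_fun hF ⟨T.π e, he.2⟩
  have h2 : F (T.π e) = f (s ⟨T.π e, he.2⟩) := h1
  rw [h2]
  exact hwd _ (hsm _) _ he (hsw _)

end trans

section main

variable {G : Type*} [Group G] [Finite G] {z : G} (S : SpinAt G z)
  (hF : ∃ g, g * z * g⁻¹ ∈ S.Q ∧ g * z * g⁻¹ ≠ z)

include hF in
omit [Finite G] in
/-- every involution of `Q` is conjugate to `z` -/
theorem conj_all {p : G} (hp : p ∈ S.Q) (hp1 : p ≠ 1) (hp2 : p * p = 1) :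
    ∃ g, g * z * g⁻¹ = p := by
  by_cases hpz : p = z
  · exact ⟨1, by rw [hpz]; group⟩
  · obtain ⟨g, hg, hgz⟩ := hF
    obtain ⟨h, hh, hhp⟩ := conj_in_C S hg (conj S g).z_ne hgz (conj S g).z_sq hp hp1 hpz hp2
    exact ⟨h * g, by rw [← hhp]; group⟩

omit [Finite G] in
theorem El_sq {l : Fin 9} {x : G} (hx : x ∈ El S l) : x * x = 1 := by
  rw [sq_eq_one_iff S hx.1]
  rcases hx.2 with h | h
  · rw [h]; simp [q0]
  · exact h.1

omit [Finite G] in
theorem El_comm {l : Fin 9} {x y : G} (hx : x ∈ El S l) (hy : y ∈ El S l) : x * y = y * x := by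
  rw [comm_iff S hx.1 hy.1]
  exact Wl_b0 S.ρ_cyc l hx.2 hy.2

omit [Finite G] in
theorem z_mem_El (l : Fin 9) : z ∈ El S l := ⟨S.z_mem, by rw [pi_z S]; exact Or.inl rfl⟩

/-- `Q ∩ Q_p = E` for `p ∈ E`, `p ≠ z` -/
theorem El_eq_inf {l : Fin 9} {g : G} (hp : g * z * g⁻¹ ∈ El S l) (hpz : g * z * g⁻¹ ≠ z) :
    El S l = S.Q ⊓ (conj S g).Q := by
  have h := EE_eq S hp.1 hpz
  have hl : lt (S.π (g * z * g⁻¹)) = l := by
    rcases hp.2 with h0 | h0
    · exact absurd h0 (pi_ne_zero S hp.1 (conj S g).z_ne hpz)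
    · exact h0.2
  rw [hl] at h
  exact h.symm

/-- `E ≤ Q_p` for `p ∈ E`, `p ≠ 1` -/
theorem El_le_conj {l : Fin 9} {g : G} (hp : g * z * g⁻¹ ∈ El S l) : El S l ≤ (conj S g).Q := by
  by_cases hpz : g * z * g⁻¹ = z
  · rw [conj_Q_eq_self S hpz]
    exact fun x hx => hx.1
  · rw [El_eq_inf S hp hpz]
    exact inf_le_right

/-- `E` as seen from the involution `p ∈ E` -/
theorem El_conj {l : Fin 9} {g : G} (hp : g * z * g⁻¹ ∈ El S l) :
    ∃ l', El S l = El (conj S g) l' := by
  by_cases hpz : g * z * g⁻¹ = z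
  · have hg : g * z = z * g := mul_inv_eq_iff_eq_mul.1 hpz
    have hg' : g⁻¹ * z = z * g⁻¹ := ((show Commute g z from hg).inv_left).eq
    refine ⟨(S.φ g)⁻¹.1 l, ?_⟩
    ext x
    rw [mem_El, mem_El, mem_conj_Q]
    have h1 : g⁻¹ * x * g ∈ S.Q ↔ x ∈ S.Q := by
      have := conj_mem_Q_iff S (c := g⁻¹) (x := x) hg'
      rwa [inv_inv] at this
    rw [h1]
    refine and_congr_right fun hx => ?_
    have h2 : (conj S g).π x = (S.ρ (S.φ g)⁻¹).mulVec (S.π x) := by
      have h3 := S.act g⁻¹ hg' x hx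
      rw [phi_inv S g hg, inv_inv] at h3
      exact h3
    rw [h2, Wl_rho S.ρ_cyc]
  · have h1 := El_eq_inf S hp hpz
    have hz : z ∈ (conj S g).Q := z_mem_conj S hp.1 hpz
    have hback : g⁻¹ * (g * z * g⁻¹) * g⁻¹⁻¹ = z := by group
    have hc : g⁻¹ * (g * z * g⁻¹) * g⁻¹⁻¹ ∈ (conj S g).Q := by rw [hback]; exact hz
    have hcz : g⁻¹ * (g * z * g⁻¹) * g⁻¹⁻¹ ≠ g * z * g⁻¹ := by rw [hback]; exact Ne.symm hpz
    have h2 := EE_eq (conj S g) hc hcz
    refine ⟨lt ((conj S g).π (g⁻¹ * (g * z * g⁻¹) * g⁻¹⁻¹)), ?_⟩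
    rw [← h2, h1]
    unfold EE
    ext x
    rw [Subgroup.mem_inf, Subgroup.mem_inf, mem_conj_conj_Q, mem_conj_Q (S := S) (g := g⁻¹ * g)]
    rw [inv_mul_cancel, inv_one, one_mul, mul_one, and_comm]

/-- `Q_p ∩ Q_{p'} = E` for distinct `p, p' ∈ E#` -/
theorem El_eq_inf' {l : Fin 9} {g h : G} (hp : g * z * g⁻¹ ∈ El S l) (hp' : h * z * h⁻¹ ∈ El S l)
    (hne : g * z * g⁻¹ ≠ h * z * h⁻¹) : El S l = (conj S g).Q ⊓ (conj S h).Q := by
  obtain ⟨l', hl'⟩ := El_conj S hp
  have h1 : (h * g⁻¹) * (g * z * g⁻¹) * (h * g⁻¹)⁻¹ = h * z * h⁻¹ := by group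
  have h2 := El_eq_inf (conj S g) (l := l') (g := h * g⁻¹) (by rw [h1, ← hl']; exact hp')
    (by rw [h1]; exact hne.symm)
  rw [← hl'] at h2
  rw [h2]
  ext x
  rw [Subgroup.mem_inf, Subgroup.mem_inf, mem_conj_conj_Q, inv_mul_cancel_right]

/-- if `x` moves two distinct involutions `z, c` of `E` into `E` then it normalises `E` -/
theorem norm_of_two {l : Fin 9} {g x : G} (hc : g * z * g⁻¹ ∈ El S l) (hcz : g * z * g⁻¹ ≠ z)
    (h1 : x * z * x⁻¹ ∈ El S l) (h2 : x * (g * z * g⁻¹) * x⁻¹ ∈ El S l) :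
    ∀ e ∈ El S l, x * e * x⁻¹ ∈ El S l := by
  intro e he
  have h3 : (x * g) * z * (x * g)⁻¹ = x * (g * z * g⁻¹) * x⁻¹ := by group
  rw [El_eq_inf' S (g := x) (h := x * g) h1 (by rw [h3]; exact h2) (by
    rw [h3]
    intro h
    exact hcz (mul_left_cancel (mul_right_cancel h)).symm)]
  rw [El_eq_inf S hc hcz] at he
  rw [Subgroup.mem_inf]
  refine ⟨?_, ?_⟩
  · rw [mem_conj_Q, show x⁻¹ * (x * e * x⁻¹) * x = e by group]
    exact he.1
  · rw [mem_conj_Q, show (x * g)⁻¹ * (x * e * x⁻¹) * (x * g) = g⁻¹ * e * g by group, ← mem_conj_Q]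
    exact he.2

include hF in
/-- all transvections of `E` are induced by elements of `G` -/
theorem exists_transvection {l : Fin 9} {r : G} (hr : r ∈ El S l) (hr1 : r ≠ 1) (f : G → ZMod 2)
    (hf : ∀ x ∈ El S l, ∀ y ∈ El S l, f (x * y) = f x + f y) (hfr : f r = 0) :
    ∃ x : G, ∀ e ∈ El S l, x * e * x⁻¹ = (if f e = 0 then 1 else r) * e := by
  obtain ⟨g, rfl⟩ := conj_all S hF hr.1 hr1 (El_sq S hr)
  obtain ⟨l', hl'⟩ := El_conj S hr
  rw [hl'] at hf ⊢
  obtain ⟨x, hx, hxe⟩ := exists_functional (conj S g) (WlSub (conj S g) l') f hf hfr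
  refine ⟨x, fun e he => ?_⟩
  have h1 := (conj S g).comm x hx e he.1
  rw [hxe e he] at h1
  rw [mul_inv_eq_iff_eq_mul, h1]
  simp only [mul_assoc]

include hF in
/-- `N_G(E)` is transitive on `E#` -/
theorem exists_trans {l : Fin 9} {p : G} (hp : p ∈ El S l) (hp1 : p ≠ 1) :
    ∃ g : G, g * z * g⁻¹ = p ∧ ∀ e ∈ El S l, g * e * g⁻¹ ∈ El S l := by
  by_cases hpz : p = z
  · exact ⟨1, by rw [hpz]; group, fun e he => by
      rwa [show 1 * e * 1⁻¹ = e by group]⟩
  · -- transvection with centre `r = z p`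
    have hzE := z_mem_El S l
    have hr : z * p ∈ El S l := (El S l).mul_mem hzE hp
    have hp2 := El_sq S hp
    have hr1 : z * p ≠ 1 := by
      intro h
      apply hpz
      have : z⁻¹ = p := inv_eq_of_mul_eq_one_right h
      rw [← this, z_inv S]
    obtain ⟨f, hf, hfr, hfz⟩ := exists_fun (El S l) (fun x hx y hy => El_comm S hx hy)
      (fun x hx => El_sq S hx) hzE hr S.z_ne (by
        intro h
        exact hp1 (left_eq_mul.1 h))
    obtain ⟨x, hx⟩ := exists_transvection S hF hr hr1 f hf hfr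
    refine ⟨x, ?_, fun e he => ?_⟩
    · rw [hx z hzE, if_neg (by rw [hfz]; decide), El_comm S hzE hp, mul_assoc, S.z_sq, mul_one]
    · rw [hx e he]
      split_ifs
      · rw [one_mul]; exact he
      · exact (El S l).mul_mem hr he

include hF in
/-- every automorphism of `E` is induced by an element of `G` -/
theorem exists_autE (l : Fin 9) (α : El S l ≃* El S l) :
    ∃ g : G, ∀ e : El S l, g * e.1 * g⁻¹ = (α e).1 := by
  have : Finite (El S l) := inferInstance
  exact exists_aut (El S l) (fun x hx y hy => El_comm S hx hy) (fun x hx => El_sq S hx)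
    (fun r hr hr1 f hf hfr => exists_transvection S hF hr hr1 f hf hfr) α

omit [Finite G] in
/-- `C_G(E) = E` for the letter 8 -/
theorem centralizer_El_eight {x : G} (hx : ∀ e ∈ El S 8, x * e = e * x) : x ∈ El S 8 := by
  have hxz : x * z = z * x := hx z (z_mem_El S 8)
  have h1 : S.φ x = 1 := by
    apply ker_trivial S.ρ_cyc
    intro w hw
    obtain ⟨e, he, rfl⟩ := S.π_surj w
    rw [← S.act x hxz e he]
    congr 1
    rw [mul_inv_eq_iff_eq_mul]
    exact hx e ⟨he, (Wl_eight _).2 hw⟩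
  have hxQ : x ∈ S.Q := (S.φ_eq_one x hxz).1 h1
  refine ⟨hxQ, (Wl_eight _).2 (W8_perp fun w hw => ?_)⟩
  obtain ⟨e, he, rfl⟩ := S.π_surj w
  exact (comm_iff S hxQ he).1 (hx e ⟨he, (Wl_eight _).2 hw⟩)

omit [Finite G] in
/-- conjugation by elements of `C_G(z)` permutes the subgroups `El S l` -/
theorem conj_mem_El {c x : G} (hc : c * z = z * c) (l : Fin 9) :
    c * x * c⁻¹ ∈ El S ((S.φ c).1 l) ↔ x ∈ El S l := by
  rw [mem_El, mem_El, conj_mem_Q_iff S hc]
  refine and_congr_right fun hx => ?_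
  rw [S.act c hc x hx, Wl_rho S.ρ_cyc]

omit [Finite G] in
/-- `C_G(E) = E` for all letters -/
theorem centralizer_El (l : Fin 9) {x : G} (hx : ∀ e ∈ El S l, x * e = e * x) : x ∈ El S l := by
  obtain ⟨a, rfl⟩ := exists_letter l
  obtain ⟨c, hc, rfl⟩ := S.φ_surj a
  have hc' : c⁻¹ * z = z * c⁻¹ := ((show Commute c z from hc).inv_left).eq
  have h1 : c⁻¹ * x * c⁻¹⁻¹ ∈ El S 8 := by
    apply centralizer_El_eight S
    intro e he
    have h2 := hx (c * e * c⁻¹) ((conj_mem_El S hc 8).2 he)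
    calc c⁻¹ * x * c⁻¹⁻¹ * e = c⁻¹ * (x * (c * e * c⁻¹)) * c := by group
      _ = c⁻¹ * ((c * e * c⁻¹) * x) * c := by rw [h2]
      _ = e * (c⁻¹ * x * c⁻¹⁻¹) := by group
  have h2 := (conj_mem_El S hc 8).2 h1
  rwa [show c * (c⁻¹ * x * c⁻¹⁻¹) * c⁻¹ = x by group] at h2

omit [Finite G] in
/-- an element of `C_G(z)` normalises `E` if and only if it fixes the letter -/
theorem norm_iff_letter {c : G} (hc : c * z = z * c) (l : Fin 9) :
    (∀ e ∈ El S l, c * e * c⁻¹ ∈ El S l) ↔ (S.φ c).1 l = l := by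
  constructor
  · intro h
    by_contra hne
    obtain ⟨a, rfl⟩ := exists_letter l
    -- the vector `ρ a (vec 1)` has letter `l`
    have hq : q0 ((S.ρ a).mulVec (vec 1)) = 0 := by rw [q0_rho S.ρ_cyc, q0_vec1]
    have hn : (S.ρ a).mulVec (vec 1) ≠ 0 := rho_ne_zero a vec1_ne
    have hl : lt ((S.ρ a).mulVec (vec 1)) = a.1 8 := by
      rw [lt_rho S.ρ_cyc a _ q0_vec1 vec1_ne, lt_vec1]
    obtain ⟨x, hx, hxw⟩ := S.π_surj ((S.ρ a).mulVec (vec 1))
    have hxE : x ∈ El S (a.1 8) := ⟨hx, by rw [hxw]; exact Or.inr ⟨hq, hl⟩⟩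
    have h1 := h x hxE
    have h2 := (conj_mem_El S hc (a.1 8)).2 hxE
    have h3 : S.π (c * x * c⁻¹) ≠ 0 := by
      rw [S.act c hc x hx, hxw]
      exact rho_ne_zero _ hn
    rcases h1.2 with h4 | h4
    · exact h3 h4
    · rcases h2.2 with h5 | h5
      · exact h3 h5
      · exact hne (h5.2.symm.trans h4.2)
  · intro h e he
    have := (conj_mem_El S hc l).2 he
    rwa [h] at this

end main

end Cfsg.Agent.ThType.NormE
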