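import Cfsg.Agent.ThType.NormE
import Mathlib.Tactic

/-!
# Any two bases of `E` are conjugate in `G` (project R05, helper935)
-/

set_option autoImplicit false

namespace Cfsg.Agent.ThType.BasisE

open Equiv Cfsg.Agent.ThType.SpinData Cfsg.Agent.ThType.SpinFacts Cfsg.Agent.ThType.SpinRep
  Cfsg.Agent.ThType.ElemE Cfsg.Agent.ThType.NormE

section abs

variable {G : Type*} [Group G] (E : Subgroup G)

/-- automorphisms of an elementary abelian group of order 32 with prescribed values on a
generating quintuple -/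
theorem exists_aut_of_gens (hcomm : ∀ x ∈ E, ∀ y ∈ E, x * y = y * x) (hsq : ∀ x ∈ E, x * x = 1)
    (hcard : Nat.card E = 32) (v w : Fin 5 → G) (hv : Subgroup.closure (Set.range v) = E)
    (hw : Subgroup.closure (Set.range w) = E) :
    ∃ α : E ≃* E, ∀ i, ∀ h : v i ∈ E, (α ⟨v i, h⟩).1 = w i := by
  classical
  let _ : CommGroup E := commE E hcomm
  let _ : Module (ZMod 2) (Additive E) := AddCommGroup.zmodModule (n := 2) (by
    intro a
    rw [two_nsmul]
    exact Additive.toMul.injective (Subtype.ext (hsq _ (Additive.toMul a).2)))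
  have hfin : Finite E := Nat.finite_of_card_ne_zero (by rw [hcard]; norm_num)
  have hrank : Module.finrank (ZMod 2) (Additive E) = 5 := by
    have h1 := Module.natCard_eq_pow_finrank (K := ZMod 2) (V := Additive E)
    rw [Nat.card_zmod, show Nat.card (Additive E) = 32 from hcard] at h1
    have h2 : (2 : ℕ) ^ 5 = 2 ^ Module.finrank (ZMod 2) (Additive E) := by rw [← h1]; norm_num
    exact (Nat.pow_right_injective (le_refl 2) h2).symm
  have hmem : ∀ u : Fin 5 → G, Subgroup.closure (Set.range u) = E → ∀ i, u i ∈ E := by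
    intro u hu i
    rw [← hu]
    exact Subgroup.subset_closure ⟨i, rfl⟩
  have hspan : ∀ (u : Fin 5 → G) (hu : Subgroup.closure (Set.range u) = E),
      ⊤ ≤ Submodule.span (ZMod 2) (Set.range fun i =>
        (Additive.ofMul ⟨u i, hmem u hu i⟩ : Additive E)) := by
    intro u hu x _
    have key : ∀ x ∈ Subgroup.closure (Set.range u), ∀ hx : x ∈ E,
        (Additive.ofMul ⟨x, hx⟩ : Additive E) ∈ Submodule.span (ZMod 2) (Set.range fun i =>
          (Additive.ofMul ⟨u i, hmem u hu i⟩ : Additive E)) := by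
      intro x hx
      induction hx using Subgroup.closure_induction with
      | mem x hx =>
        obtain ⟨i, rfl⟩ := hx
        intro _
        exact Submodule.subset_span ⟨i, rfl⟩
      | one =>
        intro _
        exact Submodule.zero_mem _
      | mul x y hx hy ihx ihy =>
        intro _
        rw [hu] at hx hy
        exact Submodule.add_mem _ (ihx hx) (ihy hy)
      | inv x hx ih =>
        intro _
        rw [hu] at hx
        exact Submodule.neg_mem _ (ih hx)
    have := key (Additive.toMul x).1 (by rw [hu]; exact (Additive.toMul x).2) (Additive.toMul x).2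
    exact this
  have hcf : Fintype.card (Fin 5) = Module.finrank (ZMod 2) (Additive E) := by rw [hrank]; simp
  let bv : Module.Basis (Fin 5) (ZMod 2) (Additive E) :=
    basisOfTopLeSpanOfCardEqFinrank _ (hspan v hv) hcf
  let bw : Module.Basis (Fin 5) (ZMod 2) (Additive E) :=
    basisOfTopLeSpanOfCardEqFinrank _ (hspan w hw) hcf
  let β : Additive E ≃ₗ[ZMod 2] Additive E := bv.equiv bw (Equiv.refl _)
  refine ⟨MulEquiv.toAdditive.symm β.toAddEquiv, fun i h => ?_⟩
  have h1 : β (bv i) = bw i := by
    rw [Module.Basis.equiv_apply]; rfl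
  have h2 : bv i = Additive.ofMul ⟨v i, hmem v hv i⟩ := by
    rw [coe_basisOfTopLeSpanOfCardEqFinrank]
  have h3 : bw i = Additive.ofMul ⟨w i, hmem w hw i⟩ := by
    rw [coe_basisOfTopLeSpanOfCardEqFinrank]
  rw [h2, h3] at h1
  exact congrArg (fun x : Additive E => (Additive.toMul x).1) h1

end abs

section main

variable {G : Type*} [Group G] [Finite G] {z : G} (S : SpinAt G z)
  (hF : ∃ g, g * z * g⁻¹ ∈ S.Q ∧ g * z * g⁻¹ ≠ z)

include hF in
/-- any two generating quintuples of `E` are conjugate in `G` -/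
theorem exists_basis_map (l : Fin 9) (v w : Fin 5 → G)
    (hv : Subgroup.closure (Set.range v) = El S l) (hw : Subgroup.closure (Set.range w) = El S l) :
    ∃ g : G, ∀ i, g * v i * g⁻¹ = w i := by
  obtain ⟨α, hα⟩ := exists_aut_of_gens (El S l) (fun x hx y hy => El_comm S hx hy)
    (fun x hx => El_sq S hx) (card_El S l) v w hv hw
  obtain ⟨g, hg⟩ := exists_autE S hF l α
  refine ⟨g, fun i => ?_⟩
  have hi : v i ∈ El S l := by
    rw [← hv]
    exact Subgroup.subset_closure ⟨i, rfl⟩
  rw [← hα i hi, ← hg]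

/-- five elements generating `E`, two of which are swapped -/
theorem exists_swap (l : Fin 9) (hF : ∃ g, g * z * g⁻¹ ∈ S.Q ∧ g * z * g⁻¹ ≠ z)
    (a c f0 f1 f2 : G)
    (h : Subgroup.closure {a, c, f0, f1, f2} = El S l) :
    ∃ g : G, g * a * g⁻¹ = c ∧ g * c * g⁻¹ = a ∧ g * f0 * g⁻¹ = f0 ∧ g * f1 * g⁻¹ = f1 ∧
      g * f2 * g⁻¹ = f2 := by
  obtain ⟨g, hg⟩ := exists_basis_map S hF l ![a, c, f0, f1, f2] ![c, a, f0, f1, f2]
    (by
      rw [← h]
      congr 1
      ext x
      simp [eq_comm]
      tauto)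
    (by
      rw [← h]
      congr 1
      ext x
      simp [eq_comm]
      tauto)
  exact ⟨g, hg 0, hg 1, hg 2, hg 3, hg 4⟩

end main

end Cfsg.Agent.ThType.BasisE
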