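import Cfsg.Agent.ThType.CSideRel

/-!
Project R05, C-side: `C_G(z)` is generated by elements `a = z, c, d, e, s, t, u` which satisfy all
relations of the presented Thompson group not involving `b`.
-/

set_option autoImplicit false

namespace Cfsg.Agent.ThType.CSideMain

open Cfsg.Agent.ThType.SpinData Cfsg.Agent.ThType.CSideModel Cfsg.Agent.ThType.CSideBasis
  Cfsg.Agent.ThType.SqRules Cfsg.Agent.ThType.CSideWords Cfsg.Agent.ThType.CSideTab
  Cfsg.Agent.ThType.CSideRel

variable {G : Type*} [Group G] {z : G} {S : SpinAt G z} {x : Fin 8 → G} {d e s t u : G}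

theorem conj_inv_pow {g y : G} {n : ℕ} (h : y ^ n = 1) : (g⁻¹ * y * g) ^ n = 1 := by
  have h1 : (g⁻¹ * y * g) ^ n = g⁻¹ * y ^ n * g := by
    have := conj_pow (a := g⁻¹) (b := y) (i := n)
    simpa using this
  rw [h1, h]
  group

/-- all relations without `b` -/
theorem relC (h : Norm S x d e s t u) (hS : SqRules S) :
    Cfsg.Agent.Th.Base.RelC z (x 0) d e s t u := by
  have hx := h.gens.qb
  have hz2 : z * z = 1 := S.z_sq
  have hz1 : z ≠ 1 := S.z_ne
  have hzi : z⁻¹ = z := inv_eq_of_mul_eq_one_right hz2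
  have hc2 : x 0 * x 0 = 1 := hx.basis.sq 0
  have hci : (x 0)⁻¹ = x 0 := inv_eq_of_mul_eq_one_right hc2
  have hd2 := h.d2 hS
  have he2 := h.e2 hS
  have hdi : d⁻¹ = d := inv_eq_of_mul_eq_one_right hd2
  have hei : e⁻¹ = e := inv_eq_of_mul_eq_one_right he2
  have hcz : x 0 * z = z * x 0 := hx.basis.z_comm 0
  have hdz : d * z = z * d := h.gens.d.acts.z_comm
  have hez : e * z = z * e := h.gens.e.acts.z_comm
  have hsz : s * z = z * s := h.gens.s.acts.z_comm
  have htz : t * z = z * t := h.gens.t.acts.z_comm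
  have huz : u * z = z * u := h.gens.u.acts.z_comm
  have hec : e * x 0 = x 0 * e := c_comm h.gens.e (by decide)
  have hsc : s * x 0 = x 0 * s := c_comm h.gens.s (by decide)
  have htc : t * x 0 = x 0 * t := c_comm h.gens.t (by decide)
  have huc : u * x 0 = x 0 * u := c_comm h.gens.u (by decide)
  have hzc : (z * x 0)⁻¹ = z * x 0 := by rw [mul_inv_rev, hzi, hci, hcz]
  have t1 : ∀ y : G, y * z = z * y → y⁻¹ * z⁻¹ * y * z = 1 := by
    intro y hy
    rw [mul_assoc, hy]
    group
  have t2 : ∀ y : G, y * x 0 = x 0 * y → y⁻¹ * (x 0)⁻¹ * y * x 0 = 1 := by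
    intro y hy
    rw [mul_assoc, hy]
    group
  have q1 : s * (d * s * d) = 1 := by
    refine odd_mul hz2 hz1 hsz ?_ (n := 3) h.s7 ?_
    · have := gens_triv h.gens (by decide) chk_sd2
      simpa only [wval, gl, mul_one, mul_assoc] using this
    · have := conj_inv_pow (g := d) h.s7
      rwa [hdi] at this
  have q2 : t⁻¹ * (d⁻¹ * t * d) = 1 := by
    refine odd_mul hz2 hz1 (inv_comm_z htz) ?_ (n := 1) (by rw [inv_pow]; exact inv_eq_one.mpr h.t3)
      (conj_inv_pow h.t3)
    have := gens_triv h.gens (by decide) chk_td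
    simpa only [wval, gl, mul_one, mul_assoc, hdi] using this
  have q3 : t⁻¹ * (e⁻¹ * t * e) = 1 := by
    refine odd_mul hz2 hz1 (inv_comm_z htz) ?_ (n := 1) (by rw [inv_pow]; exact inv_eq_one.mpr h.t3)
      (conj_inv_pow h.t3)
    have := gens_triv h.gens (by decide) chk_te
    simpa only [wval, gl, mul_one, mul_assoc, hei] using this
  have q4 : (t⁻¹ * s * t) * (s ^ 2)⁻¹ = 1 := by
    refine odd_mul hz2 hz1 (mul_comm_z (mul_comm_z (inv_comm_z htz) hsz) htz) ?_ (n := 3)
      (conj_inv_pow h.s7) ?_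
    · have := gens_triv h.gens (by decide) chk_st
      simpa only [wval, gl, mul_one, mul_assoc, pow_two, mul_inv_rev] using this
    · rw [inv_pow, ← pow_mul, mul_comm, pow_mul, h.s7, one_pow, inv_one]
  have q5 : (u⁻¹ * t * u) * t = 1 := by
    refine odd_mul hz2 hz1 (mul_comm_z (mul_comm_z (inv_comm_z huz) htz) huz) ?_ (n := 1)
      (conj_inv_pow h.t3) h.t3
    have := gens_triv h.gens (by decide) chk_tu
    simpa only [wval, gl, mul_one, mul_assoc] using this
  constructor
  · rw [pow_two, hz2]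
  · rw [pow_two, hc2]
  · rw [pow_two, hd2]
  · rw [pow_two, he2]
  · rw [pow_two, ← mul_assoc, mul_assoc z e z, hez, ← mul_assoc, hz2, one_mul, he2]
  · rw [h.acd hS, mul_inv_cancel]
  · rw [pow_two, ← mul_assoc, mul_assoc (x 0) e, hec, ← mul_assoc, hc2, one_mul, he2]
  · exact h.de3
  · exact h.s7
  · exact t1 s hsz
  · exact t2 s hsc
  · rw [pow_two, ← q1]
    simp only [mul_assoc]
  · have h1 := h.es
    rw [hei, mul_inv_rev, mul_inv_rev, inv_inv, hei]
    rw [← h1]
    simp only [pow_succ, pow_zero, one_mul, mul_inv_rev, mul_assoc]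
  · exact h.t3
  · exact t1 t htz
  · exact t2 t htc
  · rw [mul_assoc t⁻¹ d⁻¹ t, mul_assoc t⁻¹]
    exact q2
  · rw [mul_assoc t⁻¹ e⁻¹ t, mul_assoc t⁻¹]
    exact q3
  · exact q4
  · rw [pow_two, h.u2 hS, mul_inv_cancel]
  · exact t1 u huz
  · exact t2 u huc
  · rw [mul_assoc, ← h.ue hS]
    group
  · exact h.dedu hS
  · rw [inv_inv]
    exact q5
  · have h1 := h.eus hS
    rw [mul_assoc, h1]
    group
  · have h1 := eq_inv_of_mul_eq_one_left h.us3
    rw [h1, inv_inv, hcz]
    nth_rewrite 1 [← hzc]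
    exact inv_mul_cancel _
  · rw [h.us4 hS, mul_inv_cancel]
  · rw [h.dus hS, mul_inv_cancel]

/-! ### Generation -/

/-- words of the letters of `C_G(z)` giving the permutations `cyc k` -/
def cycW : Fin 7 → List ℕ :=
  ![[2, 5, 7, 5, 8, 2, 8, 4, 7], [2, 4, 7, 8, 2, 8, 4], [2, 4, 7, 4, 8, 2, 4, 8, 4, 6],
    [6, 5, 3, 2, 8, 2, 3, 4, 8], [5, 6, 8, 2, 4, 8, 2, 5, 7], [3, 2, 4, 8, 2, 3, 4, 4, 8, 5],
    [7, 8, 2, 8, 5, 3, 2, 8, 4, 4]]

/-- words of the letters of `C_G(z)` conjugating `x 0` to `x i` -/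
def xW : Fin 8 → List ℕ :=
  ![[], [6, 4, 2, 9, 2], [4, 2, 9, 2], [5, 2, 9, 2], [3, 2, 9, 4, 3, 2], [2, 8, 5, 3, 2],
    [4, 4, 2, 8, 3, 2], [3, 5, 2, 9, 6, 5, 3, 2]]

theorem cycW_lt : ∀ k, ∀ l ∈ cycW k, l < 10 := by decide

theorem xW_lt : ∀ k, ∀ l ∈ xW k, l < 10 := by decide

theorem cycW_perm : ∀ (k : Fin 7) (j : Fin 9), wperm tabP (cycW k) j.1 = tabC k j.1 := by
  decide +kernel

theorem xW_act : ∀ i : Fin 8, wact tabL (xW i) 1 = 2 ^ i.1 := by
  decide +kernel

theorem wval_mem {H : Subgroup G} {g : ℕ → G} : ∀ {w : List ℕ}, (∀ l ∈ w, g l ∈ H) →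
    wval g w ∈ H
  | [], _ => H.one_mem
  | _ :: _, h => H.mul_mem (h _ List.mem_cons_self)
      (wval_mem fun l' hl' => h l' (List.mem_cons_of_mem _ hl'))

/-- the subgroup generated by `a, c, d, e, s, t, u` -/
def gen (z : G) (x : Fin 8 → G) (d e s t u : G) : Subgroup G :=
  Subgroup.closure {z, x 0, d, e, s, t, u}

theorem gl_mem (l : ℕ) : gl z (x 0) d e s t u l ∈ gen z x d e s t u := by
  have hsub : ∀ y ∈ ({z, x 0, d, e, s, t, u} : Set G), y ∈ gen z x d e s t u :=
    fun y hy => Subgroup.subset_closure hy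
  match l with
  | 0 => exact hsub _ (by simp [gl])
  | 1 => exact hsub _ (by simp [gl])
  | 2 => exact hsub _ (by simp [gl])
  | 3 => exact hsub _ (by simp [gl])
  | 4 => exact hsub _ (by simp [gl])
  | 5 => exact Subgroup.inv_mem _ (hsub _ (by simp))
  | 6 => exact hsub _ (by simp [gl])
  | 7 => exact Subgroup.inv_mem _ (hsub _ (by simp))
  | 8 => exact hsub _ (by simp [gl])
  | 9 => exact Subgroup.inv_mem _ (hsub _ (by simp))
  | n + 10 => exact Subgroup.one_mem _

theorem x_mem_gen (h : Gens S x d e s t u) (i : Fin 8) : x i ∈ gen z x d e s t u := by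
  have h1 := gens_conj h (xW_lt i) 1
  rw [xW_act, ι_gen, show ι z x 1 = x 0 from ι_gen (z := z) (x := x) 0] at h1
  rw [← h1]
  have hw : wval (gl z (x 0) d e s t u) (xW i) ∈ gen z x d e s t u :=
    wval_mem fun l _ => gl_mem l
  exact Subgroup.mul_mem _ (Subgroup.mul_mem _ hw (Subgroup.subset_closure (by simp)))
    (Subgroup.inv_mem _ hw)

theorem Q_le_gen (h : Gens S x d e s t u) : S.Q ≤ gen z x d e s t u := by
  intro q hq
  obtain ⟨n, rfl⟩ := exists_code h.qb hq
  exact ι_mem_of (Subgroup.subset_closure (by simp)) (x_mem_gen h) n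

/-- words in the `cyc k` giving the 3-cycle `i → j → k → i` -/
def w3 (i j k : Fin 9) : List (Fin 7) :=
  let c : Fin 9 → List (Fin 7) := fun a => if h : 2 ≤ a.1 then [⟨a.1 - 2, by omega⟩] else []
  if i = 0 then
    if j = 1 then c k
    else if k = 1 then c j ++ c j
    else c k ++ c j ++ c j
  else if j = 0 then
    if k = 1 then c i
    else if i = 1 then c k ++ c k
    else c i ++ c k ++ c k
  else if k = 0 then
    if i = 1 then c j
    else if j = 1 then c i ++ c i
    else c j ++ c i ++ c i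
  else if i = 1 then c k ++ c k ++ c j
  else if j = 1 then c i ++ c i ++ c k
  else if k = 1 then c j ++ c j ++ c i
  else c i ++ c k ++ c k ++ (c j ++ c i ++ c i)

theorem w3_perm : ∀ i j k : Fin 9, i ≠ j → j ≠ k → i ≠ k → ∀ m : Fin 9,
    cwperm (w3 i j k) m.1 = (Equiv.swap i j (Equiv.swap j k m)).1 := by
  decide +kernel

theorem cprod_mem {H : Subgroup (alternatingGroup (Fin 9))} (h : ∀ k, cyc k ∈ H) :
    ∀ l : List (Fin 7), cprod l ∈ H
  | [] => H.one_mem
  | k :: l => H.mul_mem (h k) (cprod_mem h l)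

/-- the seven permutations `cyc k` generate the alternating group -/
theorem eq_top_of_cyc {H : Subgroup (alternatingGroup (Fin 9))} (h : ∀ k, cyc k ∈ H) : H = ⊤ := by
  rw [eq_top_iff, ← alternatingGroup.closure_isThreeCycles_eq_top, Subgroup.closure_le]
  intro g hg
  have hg3 : Equiv.Perm.IsThreeCycle (g : Equiv.Perm (Fin 9)) := hg
  obtain ⟨a, ha⟩ := hg3.isCycle.nonempty_support
  have h1 := hg3.eq_swap_mul_swap_iff_mem_support.mpr ha
  have h2 := hg3.nodup_iff_mem_support.mpr ha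
  rw [List.nodup_cons, List.nodup_cons, List.mem_cons, List.mem_singleton] at h2
  obtain ⟨h3, h4, -⟩ := h2
  rw [not_or] at h3
  rw [List.mem_singleton] at h4
  have h5 : g = cprod (w3 a (g.1 a) (g.1 (g.1 a))) := by
    apply Subtype.ext
    apply Equiv.ext
    intro m
    apply Fin.ext
    rw [cprod_perm, w3_perm _ _ _ h3.1 h4 h3.2]
    conv_lhs => rw [h1]
    rfl
  rw [h5]
  exact cprod_mem h _

theorem exists_mem_gen (h : Gens S x d e s t u) (g : alternatingGroup (Fin 9)) :
    ∃ y ∈ gen z x d e s t u, y * z = z * y ∧ S.φ y = g := by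
  let H : Subgroup (alternatingGroup (Fin 9)) :=
    { carrier := {g | ∃ y ∈ gen z x d e s t u, y * z = z * y ∧ S.φ y = g}
      one_mem' := ⟨1, Subgroup.one_mem _, one_mem_comm, phi_one S⟩
      mul_mem' := by
        rintro a b ⟨y, hy, hyz, hya⟩ ⟨y', hy', hyz', hyb⟩
        exact ⟨y * y', Subgroup.mul_mem _ hy hy', mul_comm_z hyz hyz', by
          rw [S.φ_mul _ _ hyz hyz', hya, hyb]⟩
      inv_mem' := by
        rintro a ⟨y, hy, hyz, hya⟩
        exact ⟨y⁻¹, Subgroup.inv_mem _ hy, inv_comm_z hyz, by rw [phi_inv S hyz, hya]⟩ }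
  have hH : H = ⊤ := by
    refine eq_top_of_cyc fun k => ?_
    have hgood := fun l hl => h.good l (cycW_lt k l hl)
    refine ⟨wval (gl z (x 0) d e s t u) (cycW k), wval_mem fun l _ => gl_mem l,
      wval_comm hgood, ?_⟩
    apply Subtype.ext
    apply Equiv.ext
    intro j
    apply Fin.ext
    rw [wval_perm hgood, cycW_perm, cyc_tab]
  have : g ∈ H := by rw [hH]; exact Subgroup.mem_top g
  exact this

/-- `a, c, d, e, s, t, u` generate `C_G(z)` -/
theorem mem_gen_iff (h : Gens S x d e s t u) (y : G) :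
    y ∈ gen z x d e s t u ↔ y * z = z * y := by
  constructor
  · intro hy
    have hle : gen z x d e s t u ≤ Subgroup.centralizer {z} := by
      rw [gen, Subgroup.closure_le]
      intro w hw
      simp only [Set.mem_insert_iff, Set.mem_singleton_iff] at hw
      change w ∈ Subgroup.centralizer {z}
      rw [Subgroup.mem_centralizer_singleton_iff]
      rcases hw with rfl | rfl | rfl | rfl | rfl | rfl | rfl
      · rfl
      · exact (h.qb.basis.z_comm 0)
      · exact h.d.acts.z_comm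
      · exact h.e.acts.z_comm
      · exact h.s.acts.z_comm
      · exact h.t.acts.z_comm
      · exact h.u.acts.z_comm
    exact Subgroup.mem_centralizer_singleton_iff.mp (hle hy)
  · intro hy
    obtain ⟨w, hw, hwz, hφ⟩ := exists_mem_gen h (S.φ y)
    have h1 : w⁻¹ * y ∈ S.Q := by
      rw [← S.φ_eq_one _ (mul_comm_z (inv_comm_z hwz) hy), S.φ_mul _ _ (inv_comm_z hwz) hy,
        phi_inv S hwz, hφ, inv_mul_cancel]
    have h2 := Subgroup.mul_mem _ hw (Q_le_gen h h1)
    rwa [mul_inv_cancel_left] at h2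

theorem gen_eq_centralizer (h : Gens S x d e s t u) :
    gen z x d e s t u = Subgroup.centralizer {z} := by
  ext y
  rw [mem_gen_iff h, Subgroup.mem_centralizer_singleton_iff]

/-- MAIN THEOREM of the C-side: from `SpinAt` and the sign rules, generators of `C_G(z)` with
tabulated action on `Q` (`Norm`), satisfying all relations without `b`. -/
theorem main (S : SpinAt G z) (hS : SqRules S) : ∃ x d e s t u, Norm S x d e s t u ∧
    Cfsg.Agent.Th.Base.RelC z (x 0) d e s t u ∧
    Subgroup.closure {z, x 0, d, e, s, t, u} = Subgroup.centralizer {z} := by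
  obtain ⟨x, d, e, s, t, u, h⟩ := exists_norm S
  exact ⟨x, d, e, s, t, u, h, relC h hS, gen_eq_centralizer h.gens⟩

end Cfsg.Agent.ThType.CSideMain
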