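import Cfsg.Agent.ThType.SpinData

/-!
Project R05: the sign rules ("case (n)") for the squares of elements of `C_G(z)` over involutions
of `A₉`, in the form used by the files `ThType.CSide*`.
-/

set_option autoImplicit false

namespace Cfsg.Agent.ThType.SqRules

open Cfsg.Agent.ThType.SpinData

/-- sign rules: an element `x` of `C_G(z)` with `x² ∈ {1, z}` has square `z` if `φ x` is a product of
two disjoint transpositions and square `1` if `φ x` is a product of four. -/
structure SqRules {G : Type*} [Group G] {z : G} (S : SpinAt G z) : Prop where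
  sq2 : ∀ x : G, x * z = z * x → S.φ x * S.φ x = 1 → (S.φ x).1.support.card = 4 →
    (x * x = 1 ∨ x * x = z) → x * x = z
  sq4 : ∀ x : G, x * z = z * x → S.φ x * S.φ x = 1 → (S.φ x).1.support.card = 8 →
    (x * x = 1 ∨ x * x = z) → x * x = 1

theorem cycleType_of_card {σ : Equiv.Perm (Fin 9)} {n : ℕ} (h : σ * σ = 1)
    (hc : σ.support.card = 2 * n) : σ.cycleType = Multiset.replicate n 2 := by
  have : Fact (Nat.Prime 2) := ⟨Nat.prime_two⟩
  have h1 : ∀ c ∈ σ.cycleType, c = 2 :=
    Equiv.Perm.pow_prime_eq_one_iff.mp (by rw [pow_two, h])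
  have h2 := Multiset.eq_replicate_card.mpr h1
  have h3 := Equiv.Perm.sum_cycleType σ
  rw [h2, Multiset.sum_replicate, hc, smul_eq_mul] at h3
  rw [h2, show Multiset.card σ.cycleType = n by omega]

/-- the sign rules from the statements in terms of cycle types -/
theorem of_cycleType {G : Type*} [Group G] {z : G} (S : SpinAt G z)
    (h2 : ∀ x : G, x * z = z * x → (S.φ x : Equiv.Perm (Fin 9)).cycleType = {2, 2} →
      (x * x = 1 ∨ x * x = z) → x * x = z)
    (h4 : ∀ x : G, x * z = z * x → (S.φ x : Equiv.Perm (Fin 9)).cycleType = {2, 2, 2, 2} →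
      (x * x = 1 ∨ x * x = z) → x * x = 1) : SqRules S where
  sq2 x hx hφ hc hs := h2 x hx (cycleType_of_card (n := 2) (congrArg Subtype.val hφ) hc) hs
  sq4 x hx hφ hc hs := h4 x hx (cycleType_of_card (n := 4) (congrArg Subtype.val hφ) hc) hs

end Cfsg.Agent.ThType.SqRules
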