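import Cfsg.Agent.ThType.Squares
import Cfsg.Agent.ThType.SqRules

/-!
Project R05: the sign rules `SqRules S` from the data of `E` (`C_G(E) = E`, `N_G(E)` transitive on
`E#`).
-/

set_option autoImplicit false

namespace Cfsg.Agent.ThType.SqRulesMain

open Cfsg.Agent.ThType.SpinData Cfsg.Agent.ThType.SqRules Cfsg.Agent.ThType.Squares

theorem type_of_card {g : alternatingGroup (Fin 9)} (h2 : g * g = 1) (n : ℕ)
    (hn : g.1.support.card = n) (h0 : n ≠ 0) :
    (n = 4 → g.1.cycleType = {2, 2}) ∧ (n = 8 → g.1.cycleType = {2, 2, 2, 2}) := by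
  have h1 : g ≠ 1 := by
    rintro rfl
    apply h0
    rw [← hn]; simp
  have hs := g.1.sum_cycleType
  rcases type_of_invol g h2 h1 with h | h
  · refine ⟨fun _ => h, fun h8 => ?_⟩
    rw [h, hn, h8] at hs
    exact absurd hs (by decide)
  · refine ⟨fun h4 => ?_, fun _ => h⟩
    rw [h, hn, h4] at hs
    exact absurd hs (by decide)

variable {G : Type*} [Group G] [Finite G] {z : G}

/-- the sign rules -/
theorem sqRules (S : SpinAt G z) {E : Subgroup G} (hE : IsE S E) (ht : Trans z E)
    (hcent : ∀ x, (∀ e ∈ E, x * e = e * x) → x ∈ E) : SqRules S where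
  sq2 := fun _ hx h2 hc hsq =>
    SQ2 S hE ht hcent hx ((type_of_card h2 4 hc (by decide)).1 rfl) hsq
  sq4 := fun _ hx h2 hc hsq =>
    SQ4 S hE ht hcent hx ((type_of_card h2 8 hc (by decide)).2 rfl) hsq

end Cfsg.Agent.ThType.SqRulesMain
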