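import Cfsg.Agent.ThType.DSideMain
import Cfsg.Agent.ThType.CSideMain
import Cfsg.Agent.ThType.BasisE
import Cfsg.Agent.ThType.SqRulesMain

/-!
Thompson type (project R05): the input `DSideMain.Data` of the D-side from the C-side elements
`z, x 0, d, e, s, t, u` and `E = El S 8`.
-/

set_option autoImplicit false

namespace Cfsg.Agent.ThType.DSideInst

open Cfsg.Agent.ThType.SpinData Cfsg.Agent.ThType.CSideModel Cfsg.Agent.ThType.CSideBasis
  Cfsg.Agent.ThType.SqRules Cfsg.Agent.ThType.CSideWords Cfsg.Agent.ThType.CSideTab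
  Cfsg.Agent.ThType.CSideRel Cfsg.Agent.ThType.ElemE Cfsg.Agent.ThType.NormE
  Cfsg.Agent.ThType.DSideWords

variable {G : Type*} [Group G] [Finite G] {z : G} {S : SpinAt G z}

/-- `SqRules` from the fusion of `z` into `Q` -/
theorem sqRules (S : SpinAt G z) (hF : ∃ g : G, g * z * g⁻¹ ∈ S.Q ∧ g * z * g⁻¹ ≠ z) : SqRules S :=
  SqRulesMain.sqRules S (E := El S 8) (fun _ => mem_El_eight S)
    (fun _ hp hp1 => exists_trans S hF hp hp1) (fun _ hx => centralizer_El_eight S hx)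

variable {x : Fin 8 → G} {d e s t u : G}

omit [Finite G] in
theorem mem_of_code (h : Gens S x d e s t u) {n : ℕ}
    (hn : n.testBit 4 = false ∧ n.testBit 5 = false ∧ n.testBit 6 = false ∧ n.testBit 7 = false) :
    ι z x n ∈ El S 8 := by
  rw [mem_El_eight]
  refine ⟨ι_mem h.qb n, ?_⟩
  rw [pi_ι h.qb]
  refine ⟨?_, ?_, ?_, ?_⟩
  · show (if n.testBit 4 then (1 : ZMod 2) else 0) = 0
    rw [hn.1]; rfl
  · show (if n.testBit 5 then (1 : ZMod 2) else 0) = 0
    rw [hn.2.1]; rfl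
  · show (if n.testBit 6 then (1 : ZMod 2) else 0) = 0
    rw [hn.2.2.1]; rfl
  · show (if n.testBit 7 then (1 : ZMod 2) else 0) = 0
    rw [hn.2.2.2]; rfl

omit [Finite G] in
theorem F0_eq (h : Norm S x d e s t u) (hS : SqRules S) :
    F0 (x 0) d u = ι z x (nmul 1 (wact tabL [2, 9, 2] 1)) := by
  have hdi : d⁻¹ = d := inv_eq_of_mul_eq_one_right (h.d2 hS)
  have h1 := gens_conj h.gens (w := [2, 9, 2]) (by decide) 1
  have h0 : ι z x 1 = x 0 := ι_gen 0
  rw [ι_nmul h.gens.qb.basis, ← h1, h0]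
  simp only [F0, wval, gl, mul_one, mul_inv_rev, inv_inv, hdi, mul_assoc]

omit [Finite G] in
theorem F1_eq (h : Norm S x d e s t u) (hS : SqRules S) :
    F1 (x 0) d s u = ι z x (wact tabL [5] (nmul 1 (wact tabL [2, 9, 2] 1))) := by
  have h1 := gens_conj h.gens (w := [5]) (by decide) (nmul 1 (wact tabL [2, 9, 2] 1))
  rw [← h1, F1, F0_eq h hS]
  simp only [wval, gl, mul_one, inv_inv]

omit [Finite G] in
theorem F2_eq (h : Norm S x d e s t u) (hS : SqRules S) :
    F2 (x 0) d s u = ι z x (wact tabL [5, 5] (nmul 1 (wact tabL [2, 9, 2] 1))) := by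
  have h1 := gens_conj h.gens (w := [5]) (by decide) (wact tabL [5] (nmul 1 (wact tabL [2, 9, 2] 1)))
  rw [show wact tabL [5, 5] (nmul 1 (wact tabL [2, 9, 2] 1)) =
    wact tabL [5] (wact tabL [5] (nmul 1 (wact tabL [2, 9, 2] 1))) from rfl, ← h1, F2, F1_eq h hS]
  simp only [wval, gl, mul_one, inv_inv]

theorem chk : ∀ n ∈ [1, nmul 1 (wact tabL [2, 9, 2] 1),
    wact tabL [5] (nmul 1 (wact tabL [2, 9, 2] 1)),
    wact tabL [5, 5] (nmul 1 (wact tabL [2, 9, 2] 1))],
    n.testBit 4 = false ∧ n.testBit 5 = false ∧ n.testBit 6 = false ∧ n.testBit 7 = false := by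
  decide +kernel

/-- the input of the D-side -/
theorem data (hF : ∃ g : G, g * z * g⁻¹ ∈ S.Q ∧ g * z * g⁻¹ ≠ z) (h : Norm S x d e s t u) :
    DSideMain.Data z (x 0) d e s t u (El S 8) := by
  have hS := sqRules S hF
  refine ⟨CSideMain.relC h hS, S.z_ne, z_mem_El S 8, ?_, ?_, ?_, ?_, card_El S 8,
    fun y hy => centralizer_El S 8 hy, fun α => exists_autE S hF 8 α⟩
  · have h0 : ι z x 1 = x 0 := ι_gen 0
    rw [← h0]
    exact mem_of_code h.gens (chk _ (by simp))
  · rw [F0_eq h hS]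
    exact mem_of_code h.gens (chk _ (by simp))
  · rw [F1_eq h hS]
    exact mem_of_code h.gens (chk _ (by simp))
  · rw [F2_eq h hS]
    exact mem_of_code h.gens (chk _ (by simp))

end Cfsg.Agent.ThType.DSideInst
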