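import Cfsg.Agent.ThType.RelD

/-!
R05 (Thompson type): from the good hexagon to the generator `b` of the presented Thompson group.
-/

set_option autoImplicit false
set_option linter.unusedSimpArgs false

namespace Cfsg.Agent.ThType.HexB

open Cfsg.Agent.Th.Base Cfsg.Agent.Th.Word Cfsg.Agent.Th.COracleDef Cfsg.Agent.Th.COracleSound
  Cfsg.Agent.ThType.RelD

universe v

variable {G : Type v} [Group G] {a c d e s t u w : G}

section words

variable (h : RelC a c d e s t u)
include h

theorem ad : a * d = d * a := by
  have := ceq h [1,4] [4,1] (by decide +kernel)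
  simpa only [ev_cons, ev_nil, gam, mul_one, mul_assoc] using this

theorem ak : a * fE c d = fE c d * a := by
  have := ceq h [1,4,3,4] [4,3,4,1] (by decide +kernel)
  simpa only [fE, ev_cons, ev_nil, gam, mul_one, mul_assoc] using this

theorem as' : a * s = s * a := by
  have := ceq h [1,6] [6,1] (by decide +kernel)
  simpa only [ev_cons, ev_nil, gam, mul_one, mul_assoc] using this

theorem at' : a * t = t * a := by
  have := ceq h [1,8] [8,1] (by decide +kernel)
  simpa only [ev_cons, ev_nil, gam, mul_one, mul_assoc] using this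

theorem ks : fE c d * s = s * fE c d := by
  have := ceq h [4,3,4,6] [6,4,3,4] (by decide +kernel)
  simpa only [fE, ev_cons, ev_nil, gam, mul_one, mul_assoc] using this

theorem kt : fE c d * t = t * fE c d := by
  have := ceq h [4,3,4,8] [8,4,3,4] (by decide +kernel)
  simpa only [fE, ev_cons, ev_nil, gam, mul_one, mul_assoc] using this

theorem dt : d * t = t * d := by
  have := ceq h [4,8] [8,4] (by decide +kernel)
  simpa only [ev_cons, ev_nil, gam, mul_one, mul_assoc] using this

theorem dsd : d * s = s⁻¹ * d := by
  have := ceq h [4,6] [7,4] (by decide +kernel)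
  simpa only [ev_cons, ev_nil, gam, mul_one, mul_assoc] using this

theorem kck : fE c d * c * fE c d = a * c := by
  have := ceq h [4,3,4,3,4,3,4] [1,3] (by decide +kernel)
  simpa only [fE, ev_cons, ev_nil, gam, mul_one, mul_assoc] using this

theorem ckc : c * fE c d * c = a * fE c d := by
  have := ceq h [3,4,3,4,3] [1,4,3,4] (by decide +kernel)
  simpa only [fE, ev_cons, ev_nil, gam, mul_one, mul_assoc] using this

/-- `j^k = j` -/
theorem kjk : fE c d * jE c d u * fE c d = jE c d u := by
  have := ceq h ([4,3,4] ++ [3,4,3,4,10,4,3,4,10] ++ [4,3,4]) [3,4,3,4,10,4,3,4,10] (by decide +kernel)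
  simpa only [fE, jE, ev_append, ev_cons, ev_nil, gam, mul_one, mul_assoc] using this

theorem kzk : fE c d * zE c d e u * fE c d = zE c d e u := by
  have := ceq h ([4,3,4] ++ [3,4,3,4,10,4,3,4,10,3,4,3,4,5,4,3,4,5] ++ [4,3,4])
    [3,4,3,4,10,4,3,4,10,3,4,3,4,5,4,3,4,5] (by decide +kernel)
  simpa only [fE, jE, zE, ev_append, ev_cons, ev_nil, gam, mul_one, mul_assoc] using this

theorem djd : d * jE c d u * d = zE c d e u := by
  have := ceq h ([4] ++ [3,4,3,4,10,4,3,4,10] ++ [4])
    [3,4,3,4,10,4,3,4,10,3,4,3,4,5,4,3,4,5] (by decide +kernel)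
  simpa only [fE, jE, zE, ev_append, ev_cons, ev_nil, gam, mul_one, mul_assoc] using this

theorem dzd : d * zE c d e u * d = jE c d u := by
  have := ceq h ([4] ++ [3,4,3,4,10,4,3,4,10,3,4,3,4,5,4,3,4,5] ++ [4])
    [3,4,3,4,10,4,3,4,10] (by decide +kernel)
  simpa only [fE, jE, zE, ev_append, ev_cons, ev_nil, gam, mul_one, mul_assoc] using this

end words

/-- abstract algebra of the good hexagon -/
theorem core {k j z r w : G} (aa : a * a = 1) (cc : c * c = 1) (dd : d * d = 1) (kk : k * k = 1)
    (ad : a * d = d * a) (ac : a * c = c * a) (ae : a * e = e * a) (ak : a * k = k * a)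
    (as : a * s = s * a) (at' : a * t = t * a)
    (cs : c * s = s * c) (ct : c * t = t * c)
    (ks : k * s = s * k) (kt : k * t = t * k) (dt : d * t = t * d) (ds : d * s = s⁻¹ * d)
    (dk : d * c * d = k) (kck : k * c * k = a * c)
    (kjk : k * j * k = j) (kzk : k * z * k = z) (djd : d * j * d = z) (dzd : d * z * d = j)
    (aj : a * j = j * a) (az : a * z = z * a)
    (ww : w * w = 1) (wa : w * a * w = c) (wk : w * k * w = k * w * k) (we : w * e * w = e)
    (wz : w * z * w = z) (wj : w * j * w = k * e * k) (ws : w * s = s * w) (wt : w * t = t * w)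
    (hr : r = a * (k * w * k) * a) (hg : (r * d) ^ 6 = 1) :
    ∃ b : G, b * b = 1 ∧ (a * b) ^ 3 = 1 ∧ (b * c) ^ 3 = 1 ∧ b * d = d * b ∧ b * e = e * b ∧
      b * s = s * b ∧ b * t = t * b ∧ b * (a * c) * b = w := by
  have paa : ∀ X : G, a * (a * X) = X := fun X => by rw [← mul_assoc, aa, one_mul]
  have pkk : ∀ X : G, k * (k * X) = X := fun X => by rw [← mul_assoc, kk, one_mul]
  have pww : ∀ X : G, w * (w * X) = X := fun X => by rw [← mul_assoc, ww, one_mul]
  have pdd : ∀ X : G, d * (d * X) = X := fun X => by rw [← mul_assoc, dd, one_mul]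
  have pcc : ∀ X : G, c * (c * X) = X := fun X => by rw [← mul_assoc, cc, one_mul]
  have rr : r * r = 1 := by rw [hr]; simp only [mul_assoc, paa, pkk, pww, aa, kk]
  have prr : ∀ X : G, r * (r * X) = X := fun X => by rw [← mul_assoc, rr, one_mul]
  have kak : k * a * k = a := by rw [← ak, mul_assoc, kk, mul_one]
  have aca : a * c * a = c := by rw [ac, mul_assoc, aa, mul_one]
  have wc : w * c * w = a := by
    rw [← wa]; simp only [mul_assoc, pww, ww, mul_one]
  have ckc : k * (c * a) * k = c := by
    calc k * (c * a) * k = (k * c * k) * (k * a * k) := by simp only [mul_assoc, pkk]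
      _ = c := by rw [kck, kak, aca]
  have ra : r * a * r = a * c := by
    calc r * a * r = a * (k * (w * (k * (a * a * a) * k) * w) * k) * a := by
          rw [hr]; simp only [mul_assoc]
      _ = a * (k * (w * a * w) * k) * a := by rw [aa, one_mul, kak]
      _ = a * (a * c) * a := by rw [wa, kck]
      _ = a * c := by simp only [mul_assoc, paa]; exact ac.symm
  have rc : r * c * r = c := by
    calc r * c * r = a * (k * (w * (k * (a * c * a) * k) * w) * k) * a := by
          rw [hr]; simp only [mul_assoc]
      _ = a * (k * (w * (a * c) * w) * k) * a := by rw [aca, kck]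
      _ = a * (k * ((w * a * w) * (w * c * w)) * k) * a := by simp only [mul_assoc, pww]
      _ = c := by rw [wa, wc, ckc, aca]
  have aea : a * e * a = e := by rw [ae, mul_assoc, aa, mul_one]
  have aja : a * j * a = j := by rw [aj, mul_assoc, aa, mul_one]
  have aza : a * z * a = z := by rw [az, mul_assoc, aa, mul_one]
  have wkek : w * (k * e * k) * w = j := by rw [← wj]; simp only [mul_assoc, pww, ww, mul_one]
  have re : r * e * r = j := by
    calc r * e * r = a * (k * (w * (k * (a * e * a) * k) * w) * k) * a := by
          rw [hr]; simp only [mul_assoc]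
      _ = j := by rw [aea, wkek, kjk, aja]
  have rz : r * z * r = z := by
    calc r * z * r = a * (k * (w * (k * (a * z * a) * k) * w) * k) * a := by
          rw [hr]; simp only [mul_assoc]
      _ = z := by rw [aza, kzk, wz, kzk, aza]
  have rj : r * j * r = e := by rw [← re]; simp only [mul_assoc, prr, rr, mul_one]
  have krk : k * r * k = a * w * a := by
    calc k * r * k = k * a * (k * w * k) * (a * k) := by rw [hr]; simp only [mul_assoc]
      _ = a * k * (k * w * k) * (k * a) := by rw [ak]
      _ = _ := by simp only [mul_assoc, pkk]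
  have rkr : r * k * r = a * w * a := by
    calc r * k * r = a * (k * w * k) * (a * k * a) * (k * w * k) * a := by
          rw [hr]; simp only [mul_assoc]
      _ = a * (k * w * k) * k * (k * w * k) * a := by rw [ak, mul_assoc k a a, aa, mul_one]
      _ = a * k * (w * k * w) * k * a := by simp only [mul_assoc, pkk]
      _ = a * k * (k * w * k) * k * a := by rw [wk]
      _ = _ := by simp only [mul_assoc, pkk]
  have rs : r * s = s * r := by
    rw [hr]
    calc a * (k * w * k) * a * s = a * k * w * k * (a * s) := by simp only [mul_assoc]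
      _ = a * k * w * (k * s) * a := by rw [as]; simp only [mul_assoc]
      _ = a * k * (w * s) * k * a := by rw [ks]; simp only [mul_assoc]
      _ = a * (k * s) * w * k * a := by rw [ws]; simp only [mul_assoc]
      _ = (a * s) * k * w * k * a := by rw [ks]; simp only [mul_assoc]
      _ = _ := by rw [as]; simp only [mul_assoc]
  have rt : r * t = t * r := by
    rw [hr]
    calc a * (k * w * k) * a * t = a * k * w * k * (a * t) := by simp only [mul_assoc]
      _ = a * k * w * (k * t) * a := by rw [at']; simp only [mul_assoc]
      _ = a * k * (w * t) * k * a := by rw [kt]; simp only [mul_assoc]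
      _ = a * (k * t) * w * k * a := by rw [wt]; simp only [mul_assoc]
      _ = (a * t) * k * w * k * a := by rw [kt]; simp only [mul_assoc]
      _ = _ := by rw [at']; simp only [mul_assoc]
  have dad : d * a * d = a := by rw [← ad, mul_assoc, dd, mul_one]
  have dckd : d * k * d = c := by rw [← dk]; simp only [mul_assoc, pdd, dd, mul_one]
  -- the hexagon
  have hex : r * (d * r * d) * r = (d * r * d) * r * (d * r * d) := by
    have h1 : (r * (d * r * d) * r) * ((d * r * d) * r * (d * r * d)) = 1 := by
      rw [← hg]
      simp only [pow_succ, pow_zero, one_mul, mul_assoc]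
    have h2 : ((d * r * d) * r * (d * r * d)) * ((d * r * d) * r * (d * r * d)) = 1 := by
      simp only [mul_assoc, pdd, prr, dd]
    exact mul_right_cancel (h1.trans h2.symm)
  set b := r * (d * r * d) * r with hb
  have bb : b * b = 1 := by rw [hb]; simp only [mul_assoc, pdd, prr, dd, rr]
  have dbd : d * b * d = b := by
    calc d * b * d = (d * r * d) * r * (d * r * d) := by rw [hb]; simp only [mul_assoc, pdd]
      _ = b := hex.symm
  have beb : b * e * b = e := by
    calc b * e * b = r * (d * (r * (d * (r * e * r) * d) * r) * d) * r := by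
          rw [hb]; simp only [mul_assoc]
      _ = e := by rw [re, djd, rz, dzd, rj]
  have rdi : (r * d)⁻¹ = d * r := by
    rw [inv_eq_iff_mul_eq_one]
    simp only [mul_assoc, pdd, rr]
  refine ⟨b, bb, ?_, ?_, ?_, ?_, ?_, ?_, ?_⟩
  · have h1 : a * b = (r * d) * (a * k * r) * (r * d)⁻¹ := by
      rw [rdi]
      calc a * b = (r * (r * a * r) * r) * b := by simp only [mul_assoc, prr, rr, mul_one]
        _ = r * ((r * a * r) * (d * r * d)) * r := by rw [hb]; simp only [mul_assoc, prr]
        _ = r * ((a * c) * (d * r * d)) * r := by rw [ra]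
        _ = r * d * ((d * a * d) * (d * c * d) * r) * (d * r) := by simp only [mul_assoc, pdd]
        _ = _ := by rw [dad, dk]
    rw [h1, conj_pow]
    have h2 : (a * k * r) ^ 3 = 1 := by
      have h3 : (a * k * r) * (a * k * r) = a * c * r * k := by
        calc (a * k * r) * (a * k * r) = a * k * (r * a * r) * (r * k * r) := by
              simp only [mul_assoc, prr]
          _ = a * k * (a * c) * (k * r * k) := by rw [ra, rkr, krk]
          _ = a * (k * a) * c * k * r * k := by simp only [mul_assoc]
          _ = a * (a * k) * c * k * r * k := by rw [ak]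
          _ = (k * c * k) * r * k := by simp only [mul_assoc, paa]
          _ = _ := by rw [kck]
      calc (a * k * r) ^ 3 = (a * k * r) * (a * k * r) * (a * k * r) := by
            rw [pow_succ, pow_two]
        _ = a * c * r * k * (a * k * r) := by rw [h3]
        _ = a * c * r * (k * a * k) * r := by simp only [mul_assoc]
        _ = a * c * (r * a * r) := by rw [kak]; simp only [mul_assoc]
        _ = a * c * (a * c) := by rw [ra]
        _ = (a * c * a) * c := by simp only [mul_assoc]
        _ = 1 := by rw [aca, cc]
    rw [h2, mul_one, mul_inv_cancel]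
  · have h1 : b * c = (r * d) * (r * k) * (r * d)⁻¹ := by
      rw [rdi]
      calc b * c = b * (r * (r * c * r) * r) := by simp only [mul_assoc, prr, rr, mul_one]
        _ = r * ((d * r * d) * (r * c * r)) * r := by rw [hb]; simp only [mul_assoc, prr]
        _ = r * ((d * r * d) * c) * r := by rw [rc]
        _ = r * d * (r * (d * c * d)) * (d * r) := by simp only [mul_assoc, pdd]
        _ = _ := by rw [dk]
    rw [h1, conj_pow]
    have h2 : (r * k) ^ 3 = 1 := by
      calc (r * k) ^ 3 = (r * k * r) * (k * r * k) := by
            rw [pow_succ, pow_two]; simp only [mul_assoc]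
        _ = (a * w * a) * (a * w * a) := by rw [rkr, krk]
        _ = 1 := by simp only [mul_assoc, paa, pww, aa]
    rw [h2, mul_one, mul_inv_cancel]
  · calc b * d = (d * b * d) * d := by rw [dbd]
      _ = d * b := by rw [mul_assoc, dd, mul_one]
  · calc b * e = (b * e) * (b * b) := by rw [bb, mul_one]
      _ = (b * e * b) * b := by simp only [mul_assoc]
      _ = e * b := by rw [beb]
  · have r2s : (d * r * d) * s = s * (d * r * d) := by
      have hrs' : r * s⁻¹ = s⁻¹ * r := by
        rw [mul_inv_eq_iff_eq_mul, mul_assoc, rs, inv_mul_cancel_left]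
      have hsd : s * d = d * s⁻¹ := by
        calc s * d = d * (d * s) * d := by simp only [mul_assoc, pdd]
          _ = d * (s⁻¹ * d) * d := by rw [ds]
          _ = d * s⁻¹ := by simp only [mul_assoc, dd, mul_one]
      calc (d * r * d) * s = d * r * (d * s) := by simp only [mul_assoc]
        _ = d * (r * s⁻¹) * d := by rw [ds]; simp only [mul_assoc]
        _ = (d * s⁻¹) * r * d := by rw [hrs']; simp only [mul_assoc]
        _ = s * (d * r * d) := by rw [← hsd]; simp only [mul_assoc]
    rw [hb]
    calc r * (d * r * d) * r * s = r * (d * r * d) * (r * s) := by simp only [mul_assoc]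
      _ = r * ((d * r * d) * s) * r := by rw [rs]; simp only [mul_assoc]
      _ = (r * s) * (d * r * d) * r := by rw [r2s]; simp only [mul_assoc]
      _ = _ := by rw [rs]; simp only [mul_assoc]
  · have r2t : (d * r * d) * t = t * (d * r * d) := by
      calc (d * r * d) * t = d * r * (d * t) := by simp only [mul_assoc]
        _ = d * (r * t) * d := by rw [dt]; simp only [mul_assoc]
        _ = (d * t) * r * d := by rw [rt]; simp only [mul_assoc]
        _ = t * (d * r * d) := by rw [dt]; simp only [mul_assoc]
    rw [hb]
    calc r * (d * r * d) * r * t = r * (d * r * d) * (r * t) := by simp only [mul_assoc]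
      _ = r * ((d * r * d) * t) * r := by rw [rt]; simp only [mul_assoc]
      _ = (r * t) * (d * r * d) * r := by rw [r2t]; simp only [mul_assoc]
      _ = _ := by rw [rt]; simp only [mul_assoc]
  · have rac : r * (a * c) * r = a := by
      rw [← ra]; simp only [mul_assoc, prr, rr, mul_one]
    have cw : c * w = w * a := by rw [← wa]; simp only [mul_assoc, ww, mul_one]
    calc b * (a * c) * b = r * (d * (r * (d * (r * (a * c) * r) * d) * r) * d) * r := by
          rw [hb]; simp only [mul_assoc]
      _ = r * (d * (a * c) * d) * r := by rw [rac, dad, ra]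
      _ = r * ((d * a * d) * (d * c * d)) * r := by simp only [mul_assoc, pdd]
      _ = (r * a * r) * (r * k * r) := by rw [dad, dk]; simp only [mul_assoc, prr]
      _ = (a * c * a) * w * a := by rw [ra, rkr]; simp only [mul_assoc]
      _ = w := by rw [aca, cw, mul_assoc, aa, mul_one]

/-- **the generator `b`** from the good hexagon -/
theorem exists_b (h : RelC a c d e s t u) (hy : YRel a c d e u w) (ws : w * s = s * w)
    (wt : w * t = t * w)
    (hg : (((c * (d * c * d))⁻¹ * w * (c * (d * c * d))) * d) ^ 6 = 1) :
    ∃ b : G, b * b = 1 ∧ (a * b) ^ 3 = 1 ∧ (b * c) ^ 3 = 1 ∧ b * d = d * b ∧ b * e = e * b ∧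
      b * s = s * b ∧ b * t = t * b ∧ b * (a * c) * b = w := by
  have aa := a_sq h
  have cc := c_sq h
  have kk := f_sq h
  have cs : c * s = s * c := by
    have := ceq h [3,6] [6,3] (by decide +kernel)
    simpa only [ev_cons, ev_nil, gam, mul_one, mul_assoc] using this
  have ct : c * t = t * c := by
    have := ceq h [3,8] [8,3] (by decide +kernel)
    simpa only [ev_cons, ev_nil, gam, mul_one, mul_assoc] using this
  refine core (k := fE c d) (j := jE c d u) (z := zE c d e u)
    (r := (c * (d * c * d))⁻¹ * w * (c * (d * c * d))) aa cc (d_sq h) kk (ad h) (ac h) (ae h) (ak h)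
    (as' h) (at' h) cs ct (ks h) (kt h) (dt h) (dsd h) rfl (kck h) (kjk h) (kzk h) (djd h) (dzd h)
    (aj h) (az h) hy.yy hy.ya ?_ hy.ye hy.yz hy.yj ws wt ?_ hg
  · exact hy.yf
  · change (c * fE c d)⁻¹ * w * (c * fE c d) = _
    have ci : c⁻¹ = c := by rw [inv_eq_iff_mul_eq_one]; exact cc
    have ki : (fE c d)⁻¹ = fE c d := by rw [inv_eq_iff_mul_eq_one]; exact kk
    have wc : w * c * w = a := hy.yc
    have h1 : c * w * c = a * w * a := by
      have e1 : w * a = c * w := by
        rw [← hy.ya]
        rw [mul_assoc, hy.yy, mul_one]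
      have e2 : w * c = a * w := by
        rw [← wc]
        rw [mul_assoc, hy.yy, mul_one]
      rw [mul_assoc c w c, e2, mul_assoc a w a, e1, ← mul_assoc, ← mul_assoc, ac h]
    rw [mul_inv_rev, ci, ki]
    calc fE c d * c * w * (c * fE c d) = fE c d * (c * w * c) * fE c d := by
          simp only [mul_assoc]
      _ = (fE c d * a) * w * (a * fE c d) := by rw [h1]; simp only [mul_assoc]
      _ = (a * fE c d) * w * (fE c d * a) := by rw [ak h]
      _ = _ := by simp only [mul_assoc]

end Cfsg.Agent.ThType.HexB
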