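import Cfsg.Agent.ThType.RelCerts
import Cfsg.Agent.Th.Base

/-!
# [REL]: all relators of the Thompson group from the relators without `b` and a few relations of `b`

`(b c d e)^8 = 1` is redundant: it follows from the other relators of (1) and (4).
-/

set_option autoImplicit false

namespace Cfsg.Agent.ThType.RelOf

open Cfsg.Agent.ThType.RelCerts

section words

variable {G : Type*} [Group G]

theorem inv_of {x : G} (h : x * x = 1) : x⁻¹ = x := inv_eq_of_mul_eq_one_right h

/-- `(b c d e)^8 = 1` from the other relators of (1) and (4) -/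
theorem bcde8 {a b c d e u : G} (ha : a * a = 1) (hb : b * b = 1) (hc : c * c = 1) (hd : d * d = 1) (he : e * e = 1)
    (hab : a * b * a * b * a * b = 1) (hbc : b * c * b * c * b * c = 1) (hbd : b * d * b * d = 1)
    (hbe : b * e * b * e = 1) (hae : a * e * a * e = 1) (hacd : a * c * d * c * d * c * d * c * d = 1)
    (hce : c * e * c * e = 1) (hde : d * e * d * e * d * e = 1) (hac : a * c * a * c = 1) (had : a * d * a * d = 1)
    (hu2 : u * u * c * a = 1) (hua : u⁻¹ * a * u * a = 1) (huc : u⁻¹ * c * u * c = 1) (hue : u⁻¹ * e * u * e = 1)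
    (hdedu : d * e * u⁻¹ * d * u * d * e * u⁻¹ * d * u = 1)
    (w : G) (hw : w = b * (a * c) * b)
    (hr1 : w * u * w = u * e)
    (hr2 : w * (d * u * d) * w = (d * u * d) * (u * e * w * (d * u * d) * e * c)) :
    (b * c * d * e) ^ 8 = 1 := by
  have ia := inv_of ha
  have ib := inv_of hb
  have ic := inv_of hc
  have id := inv_of hd
  have ie := inv_of he
  have cab : a * c = c * a := by
    have : a * c * (c * a)⁻¹ = 1 := by
      simpa only [mul_inv_rev, ia, ic, mul_assoc] using hac
    exact mul_inv_eq_one.1 this
  have caeb : a * e = e * a := by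
    have : a * e * (e * a)⁻¹ = 1 := by
      simpa only [mul_inv_rev, ia, ie, mul_assoc] using hae
    exact mul_inv_eq_one.1 this
  have cceb : c * e = e * c := by
    have : c * e * (e * c)⁻¹ = 1 := by
      simpa only [mul_inv_rev, ic, ie, mul_assoc] using hce
    exact mul_inv_eq_one.1 this
  have cbeb : b * e = e * b := by
    have : b * e * (e * b)⁻¹ = 1 := by
      simpa only [mul_inv_rev, ib, ie, mul_assoc] using hbe
    exact mul_inv_eq_one.1 this
  have hww : w * w = 1 := by
    rw [hw]
    calc b * (a * c) * b * (b * (a * c) * b) = b * (a * c) * (b * b) * (a * c) * b := by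
          simp only [mul_assoc]
      _ = b * (a * c * a * c) * b := by rw [hb]; simp only [mul_assoc, mul_one]
      _ = 1 := by rw [hac, mul_one, hb]
  have iw := inv_of hww
  have hwe : e * w * e * w = 1 := by
    have h1 : e * w = w * e := by
      rw [hw]
      calc e * (b * (a * c) * b) = (e * b) * (a * c) * b := by simp only [mul_assoc]
        _ = b * (e * a) * c * b := by rw [← cbeb]; simp only [mul_assoc]
        _ = b * a * (e * c) * b := by rw [← caeb]; simp only [mul_assoc]
        _ = b * a * c * (e * b) := by rw [← cceb]; simp only [mul_assoc]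
        _ = b * (a * c) * b * e := by rw [← cbeb]; simp only [mul_assoc]
    rw [h1]
    calc w * e * e * w = w * (e * e) * w := by simp only [mul_assoc]
      _ = 1 := by rw [he, mul_one, hww]
  have hwaw : w * a * w * c = 1 := by
    have h := L0.rel a b c ha hb hc hab hbc hac
    rw [hw]
    simpa only [mul_assoc] using h
  have h1 := L1.rel a b c d ha hb hc hd hab hbc hbd hacd hac had
  have hw3 : w * d * c * d * w * d * c * d * w * d * c * d = 1 := by
    have h2 : d * c * d * w * (d * c * d * w) * (d * c * d * w) = 1 := by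
      rw [hw]; simpa only [mul_assoc] using h1
    calc w * d * c * d * w * d * c * d * w * d * c * d
        = w * (d * c * d * w * (d * c * d * w) * (d * c * d * w)) * w⁻¹ := by group
      _ = 1 := by rw [h2, mul_one, mul_inv_cancel]
  have hr1' : w * u * w * e * u⁻¹ = 1 := by
    rw [hr1]
    calc u * e * e * u⁻¹ = u * (e * e) * u⁻¹ := by simp only [mul_assoc]
      _ = 1 := by rw [he, mul_one, mul_inv_cancel]
  have hr2' : w * d * u * d * w * c * e * d * u⁻¹ * d * w * e * u⁻¹ * d * u⁻¹ * d = 1 := by
    have h2 : w * (d * u * d) * w * ((d * u * d) * (u * e * w * (d * u * d) * e * c))⁻¹ = 1 :=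
      mul_inv_eq_one.2 hr2
    simpa only [mul_inv_rev, ic, id, ie, iw, mul_assoc] using h2
  have hdu6 := L2.rel a c d e u w ha hc hd he hww hae hacd hce hde hac had hu2 hua huc hue hdedu hwaw hwe hr1' hr2' hw3
  have hR3 := L3.rel a c d e u w ha hc hd he hww hae hacd hce hde hac had hu2 hua huc hue hdedu hwaw hwe hr1' hr2' hw3
    hdu6
  have h4 := L4.rel a c d e u ha hc hd he hae hacd hce hde hac had hu2 hua huc hue hdedu hdu6
  have h5 := L5.rel a c d e u ha hc hd he hae hacd hce hde hac had hu2 hua huc hue hdedu hdu6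
  have h6 := L6.rel a c d e u ha hc hd he hae hacd hce hde hac had hu2 hua huc hue hdedu
  have h7 := L7.rel a c d e u ha hc hd he hae hacd hce hde hac had hu2 hua huc hue hdedu
  have h8 := L8.rel a c d e u ha hc hd he hae hacd hce hde hac had hu2 hua huc hue hdedu
  have h9 := L9.rel a c d e u ha hc hd he hae hacd hce hde hac had hu2 hua huc hue hdedu
  obtain ⟨q, hq⟩ : ∃ q, q = d * c * d * u * d * c * d * u := ⟨_, rfl⟩
  have hqq : q * q = 1 := by rw [hq]; simpa only [mul_assoc] using h6
  have iq := inv_of hqq
  have iq' : u⁻¹ * (d * (c * (d * (u⁻¹ * (d * (c * d)))))) = q := by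
    have : q⁻¹ = u⁻¹ * (d * (c * (d * (u⁻¹ * (d * (c * d)))))) := by
      rw [hq]; simp only [mul_inv_rev, ic, id, mul_assoc]
    rw [← this, iq]
  have g1 : a * q * a * q = 1 := by rw [hq]; simpa only [mul_assoc] using h7
  have g2 : c * q * c * q = 1 := by rw [hq]; simpa only [mul_assoc] using h8
  have g3 : d * q * d * q * e * d * c * d * e * a = 1 := by
    have h := h4
    have e1 : d * d * c * d * u * d * c * d * u * d * u⁻¹ * d * c * d * u⁻¹ * d * c * d * e * d * c * d * e * a =
      d * (d * c * d * u * d * c * d * u) * d * (u⁻¹ * (d * (c * (d * (u⁻¹ * (d * (c * d))))))) *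
        (e * d * c * d * e * a) := by simp only [mul_assoc]
    rw [e1, iq', ← hq] at h
    simpa only [mul_assoc] using h
  have g4 : e * q * e * q * c = 1 := by
    have h := h5
    have e1 : e * d * c * d * u * d * c * d * u * e * u⁻¹ * d * c * d * u⁻¹ * d * c * d * c =
      e * (d * c * d * u * d * c * d * u) * e * (u⁻¹ * (d * (c * (d * (u⁻¹ * (d * (c * d))))))) * c := by
        simp only [mul_assoc]
    rw [e1, iq', ← hq] at h
    exact h
  have g5 : q * d * c * d * q * d * c * d * a = 1 := by
    have h := h9
    have e1 : d * c * d * u * d * c * d * u * d * c * d * d * c * d * u * d * c * d * u * d * c * d * a =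
      (d * c * d * u * d * c * d * u) * d * c * d * (d * c * d * u * d * c * d * u) * d * c * d * a := by
        simp only [mul_assoc]
    rw [e1, ← hq] at h
    exact h
  have g6 : b * a * c * b * d * c * d * e * d * c * d * e * b * a * c * b * q * e = 1 := by
    have h := hR3
    have e1 : w * d * c * d * e * d * c * d * e * w * u⁻¹ * d * c * d * u⁻¹ * d * c * d * e =
      w * d * c * d * e * d * c * d * e * w * (u⁻¹ * (d * (c * (d * (u⁻¹ * (d * (c * d))))))) * e := by
        simp only [mul_assoc]
    rw [e1, iq', hw] at h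
    simpa only [mul_assoc] using h
  have h10 := L10.rel a b c d e q ha hb hc hd he hqq hab hae hbc hbd hbe hacd hce hde hac had g1 g2 g3 g4 g5 g6
  simpa only [pow_succ, pow_zero, one_mul, mul_assoc] using h10

end words

section main

open Cfsg.Agent.Th.Base

variable {G : Type*} [Group G]

theorem comm_of {x y : G} (h : x⁻¹ * y⁻¹ * x * y = 1) : x * y = y * x := by
  have : (y * x)⁻¹ * (x * y) = 1 := by rw [mul_inv_rev]; simpa only [mul_assoc] using h
  exact (inv_mul_eq_one.1 this).symm

theorem of_comm {x y : G} (h : x * y = y * x) : x⁻¹ * y⁻¹ * x * y = 1 := by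
  have : (y * x)⁻¹ * (x * y) = 1 := inv_mul_eq_one.2 h.symm
  rw [mul_inv_rev] at this
  simpa only [mul_assoc] using this

/-- all relators of the Thompson group from `RelC` and the relations of `b` (without `(b c d e)^8`) -/
theorem rel_of {a b c d e s t u : G} (H : RelC a c d e s t u) (hb : b * b = 1) (hab : (a * b) ^ 3 = 1)
    (hbc : (b * c) ^ 3 = 1) (hbd : b * d = d * b) (hbe : b * e = e * b) (hbs : b * s = s * b) (hbt : b * t = t * b)
    (w : G) (hw : w = b * (a * c) * b)
    (hr1 : w * u * w = u * e)
    (hr2 : w * (d * u * d) * w = (d * u * d) * (u * e * w * (d * u * d) * e * c)) :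
    Rel a b c d e s t u := by
  have ha : a * a = 1 := by rw [← pow_two]; exact H.a2
  have hc : c * c = 1 := by rw [← pow_two]; exact H.c2
  have hd : d * d = 1 := by rw [← pow_two]; exact H.d2
  have he : e * e = 1 := by rw [← pow_two]; exact H.e2
  have ia := inv_of ha
  have ib := inv_of hb
  have ic := inv_of hc
  have id := inv_of hd
  have ie := inv_of he
  have hacd : a * c * d * c * d * c * d * c * d = 1 := by
    have h1 : a = (c * d) ^ 4 := mul_inv_eq_one.1 H.acd
    have h2 : a * (c * d) ^ 4 = 1 := by rw [← h1]; exact ha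
    simpa only [pow_succ, pow_zero, one_mul, mul_assoc] using h2
  have h4 : a = c * d * c * d * c * d * c * d := by
    have h1 : a = (c * d) ^ 4 := mul_inv_eq_one.1 H.acd
    rw [h1]; simp only [pow_succ, pow_zero, one_mul, mul_assoc]
  have hac : a * c * a * c = 1 := by
    have h1 : c * a * c = a := by
      have h2 : c * a * c = a⁻¹ := by
        rw [h4]
        simp only [mul_inv_rev, ic, id, mul_assoc]
        rw [← mul_assoc c c, hc, one_mul]
      rw [h2, ia]
    calc a * c * a * c = a * (c * a * c) := by simp only [mul_assoc]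
      _ = 1 := by rw [h1, ha]
  have had : a * d * a * d = 1 := by
    have h1 : d * a * d = a := by
      have h2 : d * a * d = a⁻¹ := by
        rw [h4]
        simp only [mul_inv_rev, ic, id, mul_assoc]
        rw [hd, mul_one]
      rw [h2, ia]
    calc a * d * a * d = a * (d * a * d) := by simp only [mul_assoc]
      _ = 1 := by rw [h1, ha]
  have hbd2 : (b * d) ^ 2 = 1 := by
    rw [pow_two]
    calc b * d * (b * d) = b * d * (d * b) := by rw [hbd]
      _ = b * (d * d) * b := by simp only [mul_assoc]
      _ = 1 := by rw [hd, mul_one, hb]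
  have hbe2 : (b * e) ^ 2 = 1 := by
    rw [pow_two]
    calc b * e * (b * e) = b * e * (e * b) := by rw [hbe]
      _ = b * (e * e) * b := by simp only [mul_assoc]
      _ = 1 := by rw [he, mul_one, hb]
  have h8 : (b * c * d * e) ^ 8 = 1 := by
    refine bcde8 ha hb hc hd he ?_ ?_ ?_ ?_ ?_ hacd ?_ ?_ hac had ?_ ?_ ?_ ?_ ?_ w hw hr1 hr2
    · simpa only [pow_succ, pow_zero, one_mul, mul_assoc] using hab
    · simpa only [pow_succ, pow_zero, one_mul, mul_assoc] using hbc
    · simpa only [pow_succ, pow_zero, one_mul, mul_assoc] using hbd2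
    · simpa only [pow_succ, pow_zero, one_mul, mul_assoc] using hbe2
    · simpa only [pow_succ, pow_zero, one_mul, mul_assoc] using H.ae2
    · simpa only [pow_succ, pow_zero, one_mul, mul_assoc] using H.ce2
    · simpa only [pow_succ, pow_zero, one_mul, mul_assoc] using H.de3
    · simpa only [pow_succ, pow_zero, one_mul, mul_inv_rev, ia, ic, mul_assoc] using H.u2
    · simpa only [ia] using H.ua
    · simpa only [ic] using H.uc
    · simpa only [ie] using H.ue
    · simpa only [pow_succ, pow_zero, one_mul, mul_assoc] using H.dedu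
  have hww : w * w = 1 := by
    rw [hw]
    calc b * (a * c) * b * (b * (a * c) * b) = b * (a * c) * (b * b) * (a * c) * b := by
          simp only [mul_assoc]
      _ = b * (a * c * a * c) * b := by rw [hb]; simp only [mul_assoc, mul_one]
      _ = 1 := by rw [hac, mul_one, hb]
  have iw := inv_of hww
  have hw' : b⁻¹ * (a * c) * b = w := by rw [ib, hw]
  refine ⟨⟨H.a2, by rw [pow_two, hb], H.c2, H.d2, H.e2, hab, H.ae2, hbc, hbd2, hbe2, H.acd, H.ce2, H.de3, h8, H.s7, H.sa,
    of_comm hbs.symm, H.sc, H.sd2, H.es, H.t3, H.ta, of_comm hbt.symm, H.tc, H.td, H.te, H.st⟩, H, ?_, ?_⟩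
  · rw [hw', iw, mul_inv_eq_one]
    calc u⁻¹ * w * u * w = u⁻¹ * (w * u * w) := by simp only [mul_assoc]
      _ = e := by rw [hr1, inv_mul_cancel_left]
  · rw [hw', iw, mul_inv_eq_one, id]
    calc (d * u * d)⁻¹ * w * (d * u * d) * w = (d * u * d)⁻¹ * (w * (d * u * d) * w) := by simp only [mul_assoc]
      _ = u * e * w * (d * u * d) * e * c := by rw [hr2, inv_mul_cancel_left]

/-- images of the generators -/
def fgen (a b c d e s t u : G) : Cfsg.Spor.Th.Gen → G
  | .a => a
  | .b => b
  | .c => c
  | .d => d
  | .e => e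
  | .s => s
  | .t => t
  | .u => u

/-- the homomorphism from the presented Thompson group -/
theorem exists_hom {a b c d e s t u : G} (H : Rel a b c d e s t u) :
    ∃ f : Cfsg.Spor.Th →* G, f (gen .a) = a ∧ f (gen .b) = b ∧ f (gen .c) = c ∧ f (gen .d) = d ∧ f (gen .e) = e ∧
      f (gen .s) = s ∧ f (gen .t) = t ∧ f (gen .u) = u := by
  have hx : ∀ r ∈ Cfsg.Spor.coxRelators Cfsg.Spor.Th.edges ∪ {r | r ∈ Cfsg.Spor.Th.extra},
      FreeGroup.lift (fgen a b c d e s t u) r = 1 := by
    rintro r (⟨x, hx, _⟩ | hr)
    · exact absurd hx List.not_mem_nil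
    · have K := H.K
      have C := H.C
      have hr : r ∈ Cfsg.Spor.Th.extra := hr
      simp only [Cfsg.Spor.Th.extra, List.mem_cons, List.not_mem_nil, or_false] at hr
      rcases hr with rfl | rfl | rfl | rfl | rfl | rfl | rfl | rfl | rfl | rfl | rfl | rfl | rfl | rfl | rfl | rfl |
        rfl | rfl | rfl | rfl | rfl | rfl | rfl | rfl | rfl | rfl | rfl | rfl | rfl | rfl | rfl | rfl | rfl | rfl |
        rfl | rfl | rfl | rfl | rfl <;>
        simp only [map_mul, map_inv, map_pow, FreeGroup.lift_apply_of, fgen]
      · exact K.a2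
      · exact K.b2
      · exact K.c2
      · exact K.d2
      · exact K.e2
      · exact K.ab3
      · exact K.ae2
      · exact K.bc3
      · exact K.bd2
      · exact K.be2
      · exact K.acd
      · exact K.ce2
      · exact K.de3
      · exact K.bcde
      · exact K.s7
      · exact K.sa
      · exact K.sb
      · exact K.sc
      · exact K.sd2
      · exact K.es
      · exact K.t3
      · exact K.ta
      · exact K.tb
      · exact K.tc
      · exact K.td
      · exact K.te
      · exact K.st
      · exact C.u2
      · exact C.ua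
      · exact C.uc
      · exact C.ue
      · exact C.dedu
      · exact H.r1
      · exact H.r2
      · exact C.tu
      · exact C.eus
      · exact C.us3
      · exact C.us4
      · exact C.dus
  refine ⟨PresentedGroup.toGroup hx, ?_, ?_, ?_, ?_, ?_, ?_, ?_, ?_⟩ <;>
    exact PresentedGroup.toGroup.of hx

end main

end Cfsg.Agent.ThType.RelOf
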