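import Cfsg.Agent.ThType.Close
import Cfsg.Agent.ThType.RelOf
import Cfsg.Agent.ThType.NormE
import Cfsg.Agent.ThType.SqRulesMain
import Cfsg.Agent.ThType.CSideMain
import Cfsg.Agent.ThType.HexB

/-!
R05 (Thompson type): assembly of the recognition theorem from `SpinAt`, fusion and the order of the
presented group.
-/

set_option autoImplicit false

namespace Cfsg.Agent.ThType.Main

open Cfsg.Agent.Th.Base Cfsg.Agent.ThType.SpinData Cfsg.Agent.ThType.SqRules Cfsg.Agent.ThType.Squares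
  Cfsg.Agent.ThType.CSideRel Cfsg.Agent.ThType.RelD Cfsg.Agent.ThType.ElemE

variable {G : Type*} [Group G]

/-- the last generator: everything needed about `b` -/
def BData (a c d e s t u : G) : Prop :=
  ∃ b w : G, b * b = 1 ∧ (a * b) ^ 3 = 1 ∧ (b * c) ^ 3 = 1 ∧ b * d = d * b ∧ b * e = e * b ∧
    b * s = s * b ∧ b * t = t * b ∧ w = b * (a * c) * b ∧ w * w = 1 ∧ w * a * w = c ∧
    w * u * w = u * e ∧ w * (d * u * d) * w = (d * u * d) * (u * e * w * (d * u * d) * e * c)

/-- from all generators to the isomorphism -/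
theorem of_bdata [Finite G] {z : G} (S : SpinAt G z)
    (hF : ∃ g, g * z * g⁻¹ ∈ S.Q ∧ g * z * g⁻¹ ≠ z) (hTh : Cfsg.IsTh Cfsg.Spor.Th)
    {x : Fin 8 → G} {d e s t u : G} (hN : Norm S x d e s t u) (hR : RelC z (x 0) d e s t u)
    (hgen : Subgroup.closure {z, x 0, d, e, s, t, u} = Subgroup.centralizer {z})
    (hb : BData z (x 0) d e s t u) : Nonempty (G ≃* Cfsg.Spor.Th) := by
  obtain ⟨b, w, bb, ab3, bc3, bd, be, bs, bt, hw, ww, wa, hr1, hr2⟩ := hb
  have hrel := RelOf.rel_of hR bb ab3 bc3 bd be bs bt w hw hr1 hr2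
  obtain ⟨f, fa, fb, fc, fd, fe, fs, ft, fu⟩ := RelOf.exists_hom hrel
  have hz1 : z ≠ 1 := S.z_ne
  have hinj : Function.Injective f := by
    rw [← MonoidHom.ker_eq_bot_iff]
    have hsim : IsSimpleGroup Cfsg.Spor.Th := hTh.1
    rcases hsim.eq_bot_or_eq_top_of_normal f.ker (MonoidHom.normal_ker f) with h1 | h1
    · exact h1
    · exfalso
      have h2 : gen .a ∈ f.ker := by rw [h1]; trivial
      rw [MonoidHom.mem_ker, fa] at h2
      exact hz1 h2
  have e0 : Nonempty (f.range ≃* Cfsg.Spor.Th) := ⟨(MonoidHom.ofInjective hinj).symm⟩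
  have hE : IsE S (El S 8) := fun y => mem_El_eight S
  have ht : Trans z (El S 8) := fun p hp hp1 => NormE.exists_trans S hF hp hp1
  have hcent : ∀ y, (∀ e ∈ El S 8, y * e = e * y) → y ∈ El S 8 := fun y hy =>
    NormE.centralizer_El_eight S hy
  have hwH : w ∈ f.range := by
    rw [hw]
    refine ⟨gen .b * (gen .a * gen .c) * gen .b, ?_⟩
    rw [map_mul, map_mul, map_mul, fb, fa, fc]
  have hCK : ∀ y, y * z = z * y → y ∈ f.range := by
    intro y hy
    have h1 : y ∈ Subgroup.closure {z, x 0, d, e, s, t, u} := by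
      rw [hgen]; exact Subgroup.mem_centralizer_singleton_iff.mpr hy
    have h2 : Subgroup.closure ({z, x 0, d, e, s, t, u} : Set G) ≤ f.range := by
      rw [Subgroup.closure_le]
      rintro y (rfl | rfl | rfl | rfl | rfl | rfl | rfl)
      · exact ⟨_, fa⟩
      · exact ⟨_, fc⟩
      · exact ⟨_, fd⟩
      · exact ⟨_, fe⟩
      · exact ⟨_, fs⟩
      · exact ⟨_, ft⟩
      · exact ⟨_, fu⟩
    exact h2 h1
  have hwi : w⁻¹ = w := inv_eq_of_mul_eq_one_right ww
  have hwz : w * z * w⁻¹ = x 0 := by rw [hwi, wa]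
  have hxQ : x 0 ∈ S.Q := hN.gens.qb.mem 0
  have hxz : x 0 ≠ z := by
    intro h1
    have h2 : w * z * w⁻¹ = z := by rw [hwz, h1]
    have h3 := hN.gens.qb.pi_x 0
    rw [h1, (S.π_eq_zero z S.z_mem).mpr (Or.inr rfl)] at h3
    have h4 := congrFun h3 0
    revert h4; decide
  have htop : f.range = ⊤ :=
    Close.eq_top' S hE ht hcent hTh e0 hCK hwH (by rw [hwz]; exact hxQ) (by rw [hwz]; exact hxz)
  have hsurj : Function.Surjective f := MonoidHom.range_eq_top.mp htop
  exact ⟨(MulEquiv.ofBijective f ⟨hinj, hsurj⟩).symm⟩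

end Cfsg.Agent.ThType.Main
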