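import Cfsg.Agent.ThType.SetupGlue
import Cfsg.Agent.ThType.DSideInst
import Cfsg.Agent.ThType.Main

/-!
Project R05: from `SpinAt G z` and the fusion of `z` into `Q` to `Main.BData`, and the recognition
theorem `iso_Th` (the order and simplicity of the presented group being a hypothesis).
-/

set_option autoImplicit false

namespace Cfsg.Agent.ThType.BDataInst

open Cfsg.Agent.ThType.SpinData Cfsg.Agent.ThType.CSideRel Cfsg.Agent.ThType.SqRules

variable {G : Type*} [Group G] [Finite G] {z : G} {S : SpinAt G z}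
  {x : Fin 8 → G} {d e s t u : G}

/-- everything about the last generator -/
theorem bdata (hF : ∃ g : G, g * z * g⁻¹ ∈ S.Q ∧ g * z * g⁻¹ ≠ z) (h : Norm S x d e s t u) :
    Main.BData z (x 0) d e s t u := by
  have hD := DSideInst.data hF h
  obtain ⟨w, hy, ws, wt, -, hr1, hr2⟩ := DSideMain.exists_w hD
  obtain ⟨b, bb, ab3, bc3, bd, be, bs, bt, hw⟩ :=
    SetupGlue.exists_b h (DSideInst.sqRules S hF) hD.hC hy ws wt
  refine ⟨b, w, bb, ab3, bc3, bd, be, bs, bt, hw.symm, hy.yy, hy.ya, hr1, ?_⟩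
  simpa only [mul_assoc] using hr2

/-- **recognition**: a finite group with an involution `z` of spin type `2^(1+8).A₉`, not weakly
closed in `Q`, is the presented Thompson group -/
theorem iso_Th (S : SpinAt G z) (hF : ∃ g : G, g * z * g⁻¹ ∈ S.Q ∧ g * z * g⁻¹ ≠ z)
    (hTh : Cfsg.IsTh Cfsg.Spor.Th) : Nonempty (G ≃* Cfsg.Spor.Th) := by
  obtain ⟨x, d, e, s, t, u, hN, hR, hgen⟩ := CSideMain.main S (DSideInst.sqRules S hF)
  exact Main.of_bdata S hF hTh hN hR hgen (bdata hF hN)

end Cfsg.Agent.ThType.BDataInst
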