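import Cfsg.Agent.ThType.SpinData
import Mathlib.GroupTheory.Perm.Cycle.Type
import Mathlib.LinearAlgebra.Dimension.Finite
import Mathlib.Algebra.Algebra.Subalgebra.Lattice
import Mathlib.Tactic

/-!
Project R05: an 8-dimensional faithful representation of `A₉` over the field with two elements is of
natural type (the commutator of a 3-cycle has order 4) or of spin type (3-cycles act without fixed
vectors).
-/

set_option autoImplicit false

namespace Cfsg.Agent.ThType.Dich

open Cfsg.Agent.ThType.SpinData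

/-! ### A commutative computation -/

section Comm

variable {A : Type*} [CommRing A]

/-- the projection to the fixed points of an element of order three -/
def Ep (u : A) : A := 1 + u + u * u

theorem Ep_idem (h2 : (2 : A) = 0) {u : A} (hu : u * u * u = 1) : Ep u * Ep u = Ep u := by
  unfold Ep
  linear_combination (u + 2) * hu + (u * u + u + 1) * h2

theorem Ep_mul {u : A} (hu : u * u * u = 1) (v : A) : Ep u * Ep (u * v) = Ep u * Ep v := by
  unfold Ep
  linear_combination (v + (u + 1) * v * v) * hu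

theorem Ep_mul' {v : A} (hv : v * v * v = 1) (u : A) : Ep v * Ep (u * v) = Ep v * Ep u := by
  rw [mul_comm u v, Ep_mul hv]

theorem Ep_sq {v : A} (hv : v * v * v = 1) : Ep (v * v) = Ep v := by
  unfold Ep
  linear_combination v * hv

theorem Ep_sum (h2 : (2 : A) = 0) {u v : A} (hv : v * v * v = 1) :
    (1 : A) = Ep u + Ep v + Ep (u * v) + Ep (u * (v * v)) + Ep u * Ep v := by
  unfold Ep
  linear_combination (-(u * u * v)) * hv
    - (2 + u + u * u + v + v * v + u * v + u * v * v + u * u * v + u * u * v * v) * h2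

/-- an abstract rank function on a commutative ring of characteristic two -/
structure Rank (r : A → ℕ) : Prop where
  two : (2 : A) = 0
  one : r 1 = 8
  zero : r 0 = 0
  eq_zero : ∀ a, r a = 0 → a = 0
  split : ∀ e f : A, e * e = e → f * f = f → r e = r (e * f) + r (e * (1 + f))
  even : ∀ u a : A, u * u * u = 1 → Ep u * a = 0 → Even (r a)

variable {r : A → ℕ}

theorem Rank.formula (h : Rank r) {u v : A} (hu : u * u * u = 1) (hv : v * v * v = 1) :
    8 + 3 * r (Ep u * Ep v) = r (Ep u) + r (Ep v) + r (Ep (u * v)) + r (Ep (u * (v * v))) := by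
  have h2 := h.two
  have huv : (u * v) * (u * v) * (u * v) = 1 := by
    linear_combination (v * v * v) * hu + hv
  have huv' : (u * (v * v)) * (u * (v * v)) * (u * (v * v)) = 1 := by
    linear_combination (v * v * v * (v * v * v)) * hu + (v * v * v + 1) * hv
  set e1 := Ep u with he1
  set e2 := Ep v with he2
  set e3 := Ep (u * v) with he3
  set e4 := Ep (u * (v * v)) with he4
  have i1 : e1 * e1 = e1 := Ep_idem h2 hu
  have i2 : e2 * e2 = e2 := Ep_idem h2 hv
  have i3 : e3 * e3 = e3 := Ep_idem h2 huv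
  have i4 : e4 * e4 = e4 := Ep_idem h2 huv'
  have p13 : e1 * e3 = e1 * e2 := Ep_mul hu v
  have p14 : e1 * e4 = e1 * e2 := by
    rw [he1, he4, Ep_mul hu, Ep_sq hv]
  have p23 : e2 * e3 = e1 * e2 := by
    rw [he2, he3, Ep_mul' hv, mul_comm]
  have p34 : e3 * e4 = e1 * e2 := by
    have := Ep_mul huv v
    rw [show u * v * v = u * (v * v) by ring] at this
    rw [he3, he4, this, mul_comm, ← he2, ← he3, p23]
  have p24 : e2 * e4 = e1 * e2 := by
    have h1 : v * v * (v * v) * (v * v) = 1 := by linear_combination (v * v * v + 1) * hv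
    have := Ep_mul' h1 u
    rw [Ep_sq hv] at this
    rw [he2, he4, this, mul_comm]
  have hs : (1 : A) = e1 + e2 + e3 + e4 + e1 * e2 := Ep_sum h2 hv
  set e0 := e1 * e2 with he0
  have i0 : e0 * e0 = e0 := by
    rw [he0]
    linear_combination e2 * e2 * i1 + e1 * i2
  have p01 : e1 * e0 = e0 := by rw [he0, ← mul_assoc, i1]
  have p02 : e2 * e0 = e0 := by rw [he0, mul_comm e1 e2, ← mul_assoc, i2]
  have p03 : e3 * e0 = e0 := by
    rw [he0, ← mul_assoc, mul_comm e3 e1, p13, mul_assoc, i2]
  have p04 : e4 * e0 = e0 := by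
    rw [he0, ← mul_assoc, mul_comm e4 e1, p14, mul_assoc, i2]
  have s1 := h.split 1 e1 (one_mul 1) i1
  have s2 := h.split (1 + e1) e2 (by linear_combination i1 + e1 * h2) i2
  have s3 := h.split ((1 + e1) * (1 + e2)) e3
    (by linear_combination (1 + e2) * (1 + e2) * (i1 + e1 * h2) + (1 + e1) * (i2 + e2 * h2)) i3
  have t1 := h.split e1 e0 i1 i0
  have t2 := h.split e2 e0 i2 i0
  have t3 := h.split e3 e0 i3 i0
  have t4 := h.split e4 e0 i4 i0
  have w2 : (1 + e1) * e2 = e2 * (1 + e0) := by linear_combination he0.symm * 1 - p02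
  have w3 : (1 + e1) * (1 + e2) * e3 = e3 * (1 + e0) := by
    linear_combination p13 + p23 + e2 * p13 + e1 * i2 - he0 * 0 + e0 * h2 - p03
  have w4 : (1 + e1) * (1 + e2) * (1 + e3) = e4 * (1 + e0) := by
    linear_combination hs + (e1 + e2 + e3) * h2 - he0 + p13 + p23 + e2 * p13 + p02 - p04
      + 2 * e0 * h2
  rw [one_mul, one_mul, h.one] at s1
  rw [w2] at s2
  rw [w3, w4] at s3
  rw [p01] at t1
  rw [p02] at t2
  rw [p03] at t3
  rw [p04] at t4
  omega

/-- parity -/
theorem Rank.par (h : Rank r) {u v : A} (hu : u * u * u = 1) (hv : v * v * v = 1) :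
    ∃ k, r (Ep u) = r (Ep u * Ep v) + 2 * k := by
  have h2 := h.two
  have s1 := h.split (Ep u) (Ep v) (Ep_idem h2 hu) (Ep_idem h2 hv)
  have s2 := h.even v (Ep u * (1 + Ep v)) hv (by
    linear_combination Ep u * Ep_idem h2 hv + Ep u * Ep v * h2)
  obtain ⟨k, hk⟩ := s2
  exact ⟨k, by omega⟩

theorem cube_mul {u v : A} (hu : u * u * u = 1) (hv : v * v * v = 1) :
    (u * v) * (u * v) * (u * v) = 1 := by
  linear_combination (v * v * v) * hu + hv

/-- the abstract dichotomy -/
theorem Rank.main (h : Rank r) {x y z : A} (hx : x * x * x = 1) (hy : y * y * y = 1)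
    (hz : z * z * z = 1) (hx1 : x ≠ 1)
    (c1 : r (Ep x) = r (Ep y)) (c2 : r (Ep x) = r (Ep z))
    (c3 : r (Ep (x * y)) = r (Ep (x * (y * y))))
    (c4 : r (Ep x * Ep y) = r (Ep x * Ep z)) (c5 : r (Ep x * Ep y) = r (Ep y * Ep z))
    (c6 : r (Ep (x * y)) = r (Ep (x * z))) (c6' : r (Ep (x * y)) = r (Ep (x * (z * z))))
    (c8 : r (Ep (x * y * z)) = r (Ep (x * y * (z * z))))
    (c9 : r (Ep x) = 2 → Ep x * Ep y = Ep x) :
    r (1 + Ep x) = 2 ∨ 1 + Ep x = 1 := by
  have h2 := h.two
  have f1 := h.formula hx hy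
  obtain ⟨k1, p1⟩ := h.par hx hy
  obtain ⟨k2, p2⟩ := h.par (cube_mul hx hy) hx
  have q1 : r (Ep (x * y) * Ep x) = r (Ep x * Ep y) := by
    rw [mul_comm (Ep (x * y)), Ep_mul hx]
  have s1 := h.split 1 (Ep x) (one_mul 1) (Ep_idem h2 hx)
  rw [one_mul, one_mul, h.one] at s1
  -- cases on k1, k2
  have hk : k1 + k2 ≤ 2 := by omega
  rcases Nat.lt_or_ge k1 1 with hk1 | hk1
  · have hk1' : k1 = 0 := by omega
    subst hk1'
    rcases Nat.lt_or_ge k2 1 with hk2 | hk2
    · -- trivial action
      exfalso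
      have e1 : r (1 + Ep x) = 0 := by omega
      have e2 := h.eq_zero _ e1
      apply hx1
      have e3 : Ep x = 1 := by linear_combination e2 - h2
      unfold Ep at e3
      have e4 : x + x * x = 0 := by linear_combination e3
      linear_combination (1 - x) * e4 + hx
    · rcases Nat.lt_or_ge k2 2 with hk3 | hk3
      · exfalso
        have d1 := h.split (Ep x) (Ep y) (Ep_idem h2 hx) (Ep_idem h2 hy)
        have d2 := h.split (Ep y) (Ep x) (Ep_idem h2 hy) (Ep_idem h2 hx)
        have d3 := h.split (Ep x) (Ep z) (Ep_idem h2 hx) (Ep_idem h2 hz)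
        have d4 := h.split (Ep z) (Ep x) (Ep_idem h2 hz) (Ep_idem h2 hx)
        rw [mul_comm (Ep y) (Ep x)] at d2
        rw [mul_comm (Ep z) (Ep x)] at d4
        have g1 := h.eq_zero (Ep x * (1 + Ep y)) (by omega)
        have g2 := h.eq_zero (Ep y * (1 + Ep x)) (by omega)
        have g3 := h.eq_zero (Ep x * (1 + Ep z)) (by omega)
        have g4 := h.eq_zero (Ep z * (1 + Ep x)) (by omega)
        have exy : Ep x = Ep y := by linear_combination g1 - g2
        have exz : Ep x = Ep z := by linear_combination g3 - g4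
        have f2 := h.formula (cube_mul hx hy) hz
        obtain ⟨k3, p3⟩ := h.par (cube_mul (cube_mul hx hy) hz) hz
        have p4 : Ep (x * y * z) * Ep z = Ep (x * y) * Ep x := by
          rw [mul_comm (Ep (x * y * z)), Ep_mul' hz, ← exz, mul_comm (Ep x)]
        rw [p4, q1] at p3
        rw [← exz, q1] at f2
        omega
      · right
        have e1 : r (Ep x) = 0 := by omega
        rw [h.eq_zero _ e1, add_zero]
  · rcases Nat.lt_or_ge k1 2 with hk3 | hk3
    · rcases Nat.lt_or_ge k2 1 with hk2 | hk2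
      · left
        omega
      · exfalso
        have e1 : r (Ep x) = 2 := by omega
        have e2 := c9 e1
        rw [e2] at p1
        omega
    · exfalso
      have g1 := h.eq_zero (Ep (x * y)) (by omega)
      have g2 := h.eq_zero (Ep (x * (y * y))) (by omega)
      have g3 := h.eq_zero (Ep (x * z)) (by omega)
      have g4 := h.eq_zero (Ep (x * (z * z))) (by omega)
      have g5 := h.eq_zero (Ep x * Ep y) (by omega)
      have g6 := h.eq_zero (Ep x * Ep z) (by omega)
      have g7 := h.eq_zero (Ep y * Ep z) (by omega)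
      have m1 := Ep_sum h2 (u := x) hy
      have m2 := Ep_sum h2 (u := x) hz
      have e1 : Ep y = Ep z := by
        linear_combination m2 - m1 - g1 - g2 + g3 + g4 - g5 + g6
      have e2 : Ep y = 0 := by
        rw [← Ep_idem h2 hy]
        nth_rewrite 2 [e1]
        exact g7
      have e3 : r (Ep y) = 0 := by rw [e2, h.zero]
      omega

end Comm

/-! ### Ranks of endomorphisms -/

section Rk

variable {W : Type*} [AddCommGroup W] [Module (ZMod 2) W] [Finite W]

/-- rank of an endomorphism -/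
noncomputable def rk (M : Module.End (ZMod 2) W) : ℕ :=
  Module.finrank (ZMod 2) (LinearMap.range M)

theorem card_range (M : Module.End (ZMod 2) W) : Nat.card (LinearMap.range M) = 2 ^ rk M := by
  rw [rk, Module.natCard_eq_pow_finrank (K := ZMod 2), Nat.card_zmod]

theorem rk_zero : rk (0 : Module.End (ZMod 2) W) = 0 := by
  rw [rk, LinearMap.range_zero, finrank_bot]

theorem eq_zero_of_rk {M : Module.End (ZMod 2) W} (h : rk M = 0) : M = 0 := by
  rw [rk, Submodule.finrank_eq_zero, LinearMap.range_eq_bot] at h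
  exact h

theorem rk_le_left (P M : Module.End (ZMod 2) W) : rk (P * M) ≤ rk M := by
  rw [rk, rk, show P * M = P ∘ₗ M from rfl, LinearMap.range_comp]
  exact Submodule.finrank_map_le _ _

theorem rk_le_right (M Q : Module.End (ZMod 2) W) : rk (M * Q) ≤ rk M :=
  Submodule.finrank_mono (LinearMap.range_comp_le_range Q M)

theorem rk_conj {P Q : Module.End (ZMod 2) W} (h : Q * P = 1) (M : Module.End (ZMod 2) W) :
    rk (P * M * Q) = rk M := by
  apply le_antisymm
  · exact (rk_le_right _ _).trans (rk_le_left _ _)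
  · have h1 : M = Q * (P * M * Q) * P := by
      calc M = (Q * P) * M * (Q * P) := by rw [h, one_mul, mul_one]
        _ = _ := by simp only [mul_assoc]
    conv_lhs => rw [h1]
    exact (rk_le_right _ _).trans (rk_le_left _ _)

theorem end_add_self (M : Module.End (ZMod 2) W) : M + M = 0 := ZModModule.add_self M

theorem rk_split {e f : Module.End (ZMod 2) W} (hf : f * f = f)
    (hef : e * f = f * e) : rk e = rk (e * f) + rk (e * (1 + f)) := by
  have h1 : LinearMap.range (e * f) ⊔ LinearMap.range (e * (1 + f)) = LinearMap.range e := by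
    apply le_antisymm
    · exact sup_le (LinearMap.range_comp_le_range _ _) (LinearMap.range_comp_le_range _ _)
    · rintro _ ⟨w, rfl⟩
      refine Submodule.mem_sup.mpr ⟨(e * f) w, ⟨w, rfl⟩, (e * (1 + f)) w, ⟨w, rfl⟩, ?_⟩
      rw [← LinearMap.add_apply]
      congr 1
      rw [mul_add, mul_one, add_left_comm, end_add_self, add_zero]
  have h2 : LinearMap.range (e * f) ⊓ LinearMap.range (e * (1 + f)) = ⊥ := by
    rw [eq_bot_iff]
    rintro v ⟨⟨w, hw⟩, ⟨w', hw'⟩⟩
    have e1 : f * (e * f) = e * f := by rw [← mul_assoc, ← hef, mul_assoc, hf]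
    have e2 : f * (e * (1 + f)) = 0 := by
      rw [← mul_assoc, ← hef, mul_add, mul_one, mul_assoc, hf, end_add_self]
    have e3 : f v = v := by
      rw [← hw]
      exact LinearMap.congr_fun e1 w
    have e4 : f v = 0 := by
      rw [← hw']
      exact LinearMap.congr_fun e2 w'
    rw [Submodule.mem_bot, ← e3, e4]
  have h3 := Submodule.finrank_sup_add_finrank_inf_eq (LinearMap.range (e * f))
    (LinearMap.range (e * (1 + f)))
  rw [h1, h2, finrank_bot, add_zero] at h3
  exact h3

/-- counting fixed points of an operator of prime order on an invariant subspace -/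
theorem card_fixed {U : Submodule (ZMod 2) W} {T : Module.End (ZMod 2) W}
    (hT : ∀ w ∈ U, T w ∈ U) {p : ℕ} [Fact p.Prime] (hp : T ^ p = 1) :
    Nat.card U ≡ Nat.card {w : U // T w.1 = w.1} [MOD p] := by
  classical
  have : Fintype U := Fintype.ofFinite U
  let f : Function.End U := fun w => ⟨T w.1, hT w.1 w.2⟩
  have hf : ∀ n : ℕ, ∀ w : U, ((f ^ n) w).1 = (T ^ n) w.1 := by
    intro n
    induction n with
    | zero => intro w; rfl
    | succ n ih =>
      intro w
      rw [pow_succ', pow_succ']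
      change T ((f ^ n) w).1 = T ((T ^ n) w.1)
      rw [ih w]
  have hfp : f ^ p ^ 1 = 1 := by
    funext w
    apply Subtype.ext
    rw [pow_one, hf p w, hp]
    rfl
  have h1 := Equiv.Perm.card_fixedPoints_modEq hfp
  rw [← Nat.card_eq_fintype_card, ← Nat.card_eq_fintype_card] at h1
  refine h1.trans ?_
  rw [Nat.card_congr (Equiv.subtypeEquivRight (p := fun w => w ∈ f.fixedPoints)
    (q := fun w : U => T w.1 = w.1) fun w => ?_)]
  constructor
  · intro h
    exact congrArg Subtype.val h
  · intro h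
    exact Subtype.ext h

theorem rk_even {u a : Module.End (ZMod 2) W} (hu : u * u * u = 1) (hua : u * a = a * u)
    (h : (1 + u + u * u) * a = 0) : Even (rk a) := by
  have : Fact (Nat.Prime 3) := ⟨Nat.prime_three⟩
  have h1 := card_fixed (U := LinearMap.range a) (T := u) (p := 3) (by
    rintro _ ⟨w, rfl⟩
    exact ⟨u w, (LinearMap.congr_fun hua w).symm⟩) (by rw [pow_succ, pow_two, hu])
  have h2 : Nat.card {w : LinearMap.range a // u w.1 = w.1} = 1 := by
    rw [Nat.card_eq_one_iff_unique]
    refine ⟨⟨fun v w => ?_⟩, ⟨⟨0, by simp⟩⟩⟩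
    have key : ∀ v : {w : LinearMap.range a // u w.1 = w.1}, v.1.1 = 0 := by
      rintro ⟨⟨_, ⟨w, rfl⟩⟩, hw⟩
      have h3 := LinearMap.congr_fun h w
      change (a w + u (a w)) + u (u (a w)) = 0 at h3
      change u (a w) = a w at hw
      rw [hw, hw, ZModModule.add_self, zero_add] at h3
      exact h3
    apply Subtype.ext
    apply Subtype.ext
    rw [key v, key w]
  rw [h2, card_range] at h1
  rcases Nat.even_or_odd (rk a) with h3 | ⟨k, hk⟩
  · exact h3
  · exfalso
    rw [hk, pow_succ, pow_mul] at h1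
    have h4 : (2 ^ 2) ^ k * 2 ≡ 1 ^ k * 2 [MOD 3] :=
      Nat.ModEq.mul_right 2 (Nat.ModEq.pow k (by decide))
    have h5 := h4.symm.trans h1
    rw [one_pow, one_mul] at h5
    exact absurd h5 (by decide)

/-- an operator of order five acts trivially on an invariant subspace of order four -/
theorem five_trivial {T e : Module.End (ZMod 2) W} (hT : T ^ 5 = 1) (hTe : T * e = e * T)
    (he : rk e = 2) : T * e = e := by
  have : Fact (Nat.Prime 5) := ⟨Nat.prime_five⟩
  have h1 := card_fixed (U := LinearMap.range e) (T := T) (p := 5) (by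
    rintro _ ⟨w, rfl⟩
    exact ⟨T w, (LinearMap.congr_fun hTe w).symm⟩) hT
  have hc : Nat.card (LinearMap.range e) = 4 := by rw [card_range, he]; norm_num
  have hle : Nat.card {w : LinearMap.range e // T w.1 = w.1} ≤ 4 := by
    rw [← hc]
    exact Nat.card_le_card_of_injective _ Subtype.val_injective
  have h4 : Nat.card {w : LinearMap.range e // T w.1 = w.1} = 4 := by
    rw [hc] at h1
    generalize Nat.card {w : LinearMap.range e // T w.1 = w.1} = n at *
    interval_cases n <;> first | rfl | (exact absurd h1 (by decide))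
  have hsurj : Function.Surjective
      (Subtype.val : {w : LinearMap.range e // T w.1 = w.1} → LinearMap.range e) :=
    (Nat.bijective_iff_injective_and_card _).mpr ⟨Subtype.val_injective, by rw [h4, hc]⟩ |>.2
  apply LinearMap.ext
  intro w
  obtain ⟨⟨v, hv⟩, hvw⟩ := hsurj ⟨e w, ⟨w, rfl⟩⟩
  have : v = ⟨e w, ⟨w, rfl⟩⟩ := hvw
  rw [this] at hv
  exact hv

end Rk

/-! ### The representation -/

/-- `x = (0 → 1 → 2)` -/
def px : alternatingGroup (Fin 9) := cyc 0

/-- `y = (3 → 4 → 5)` -/
def py : alternatingGroup (Fin 9) :=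
  ⟨Equiv.swap 3 4 * Equiv.swap 4 5, by rw [Equiv.Perm.mem_alternatingGroup]; decide⟩

/-- `z = (6 → 7 → 8)` -/
def pz : alternatingGroup (Fin 9) :=
  ⟨Equiv.swap 6 7 * Equiv.swap 7 8, by rw [Equiv.Perm.mem_alternatingGroup]; decide⟩

def g1 : alternatingGroup (Fin 9) :=
  ⟨Equiv.swap 0 3 * Equiv.swap 1 4 * Equiv.swap 2 5 * Equiv.swap 6 7, by
    rw [Equiv.Perm.mem_alternatingGroup]; decide⟩

def g2 : alternatingGroup (Fin 9) :=
  ⟨Equiv.swap 3 4 * Equiv.swap 6 7, by rw [Equiv.Perm.mem_alternatingGroup]; decide⟩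

def g3 : alternatingGroup (Fin 9) :=
  ⟨Equiv.swap 0 1 * Equiv.swap 3 6 * Equiv.swap 4 7 * Equiv.swap 5 8, by
    rw [Equiv.Perm.mem_alternatingGroup]; decide⟩

def g4 : alternatingGroup (Fin 9) :=
  ⟨Equiv.swap 0 3 * Equiv.swap 3 6 * Equiv.swap 1 4 * Equiv.swap 4 7 * Equiv.swap 2 5 *
    Equiv.swap 5 8, by rw [Equiv.Perm.mem_alternatingGroup]; decide⟩

def g6 : alternatingGroup (Fin 9) :=
  ⟨Equiv.swap 6 7 * Equiv.swap 3 6 * Equiv.swap 4 7 * Equiv.swap 5 8, by
    rw [Equiv.Perm.mem_alternatingGroup]; decide⟩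

/-- `p = (3 → 5 → 4 → 6 → 7)` -/
def pp : alternatingGroup (Fin 9) :=
  ⟨Equiv.swap 3 5 * Equiv.swap 5 4 * Equiv.swap 4 6 * Equiv.swap 6 7, by
    rw [Equiv.Perm.mem_alternatingGroup]; decide⟩

/-- `q = (3 → 5 → 7 → 6 → 4)` -/
def pq : alternatingGroup (Fin 9) :=
  ⟨Equiv.swap 3 5 * Equiv.swap 5 7 * Equiv.swap 7 6 * Equiv.swap 6 4, by
    rw [Equiv.Perm.mem_alternatingGroup]; decide⟩

/-- conjugates `cyc 0` to `cyc k` -/
def gkPerm (k : Fin 7) : Equiv.Perm (Fin 9) :=
  if k = 0 then 1 else if k.1 ≤ 2 then Equiv.swap 2 ⟨k.1 + 2, by omega⟩ * Equiv.swap 7 8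
    else Equiv.swap 2 ⟨k.1 + 2, by omega⟩ * Equiv.swap 3 4

/-- conjugates `cyc 0` to `cyc k` -/
def gk (k : Fin 7) : alternatingGroup (Fin 9) :=
  ⟨gkPerm k, by
    rw [Equiv.Perm.mem_alternatingGroup]
    revert k
    decide⟩

theorem gk_mul (k : Fin 7) : gk k * cyc 0 = cyc k * gk k := by
  revert k
  decide +kernel

section Rep

variable {W : Type*} [AddCommGroup W] [Module (ZMod 2) W] [Finite W]
  (ρ : alternatingGroup (Fin 9) →* Module.End (ZMod 2) W)

/-- projection to the fixed points of an element of order three -/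
def pe (a : alternatingGroup (Fin 9)) : Module.End (ZMod 2) W := 1 + ρ a + ρ a * ρ a

variable {ρ}

omit [Finite W] in
theorem rho_inv_mul (g : alternatingGroup (Fin 9)) : ρ g⁻¹ * ρ g = 1 := by
  rw [← map_mul, inv_mul_cancel, map_one]

omit [Finite W] in
theorem pe_conj {g a b : alternatingGroup (Fin 9)} (h : g * a = b * g) :
    ρ g * pe ρ a * ρ g⁻¹ = pe ρ b := by
  have h1 : ρ g * ρ a * ρ g⁻¹ = ρ b := by
    rw [← map_mul, ← map_mul, h, mul_inv_cancel_right]
  have h2 : ρ g * (ρ a * ρ a) * ρ g⁻¹ = ρ b * ρ b := by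
    rw [← h1]
    calc ρ g * (ρ a * ρ a) * ρ g⁻¹ = ρ g * ρ a * 1 * ρ a * ρ g⁻¹ := by
          simp only [mul_assoc, mul_one]
      _ = _ := by rw [← rho_inv_mul (ρ := ρ) g]; simp only [mul_assoc]
  have h3 : ρ g * 1 * ρ g⁻¹ = 1 := by rw [mul_one, ← map_mul, mul_inv_cancel, map_one]
  rw [pe, mul_add, mul_add, add_mul, add_mul, h1, h2, h3, pe]

theorem rk_pe {g a b : alternatingGroup (Fin 9)} (h : g * a = b * g) :
    rk (pe ρ a) = rk (pe ρ b) := by
  rw [← pe_conj (ρ := ρ) h, rk_conj (rho_inv_mul g)]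

theorem rk_pe_mul {g a b c d : alternatingGroup (Fin 9)} (h : g * a = b * g)
    (h' : g * c = d * g) : rk (pe ρ a * pe ρ c) = rk (pe ρ b * pe ρ d) := by
  rw [← pe_conj (ρ := ρ) h, ← pe_conj (ρ := ρ) h',
    show ρ g * pe ρ a * ρ g⁻¹ * (ρ g * pe ρ c * ρ g⁻¹) = ρ g * (pe ρ a * pe ρ c) * ρ g⁻¹ by
      calc ρ g * pe ρ a * ρ g⁻¹ * (ρ g * pe ρ c * ρ g⁻¹)
          = ρ g * pe ρ a * (ρ g⁻¹ * ρ g) * pe ρ c * ρ g⁻¹ := by simp only [mul_assoc]
        _ = _ := by rw [rho_inv_mul, mul_one]; simp only [mul_assoc],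
    rk_conj (rho_inv_mul g)]

omit [Finite W] in
theorem pe_sq {a : alternatingGroup (Fin 9)} (h : a * a * a = 1) : pe ρ (a * a) = pe ρ a := by
  unfold pe
  rw [map_mul, show ρ a * ρ a * (ρ a * ρ a) = (ρ a * ρ a * ρ a) * ρ a by simp only [mul_assoc],
    ← map_mul ρ a a, ← map_mul ρ (a * a) a, h, map_one, one_mul, add_assoc, add_assoc,
    add_comm (ρ (a * a))]

theorem rk_one (hW : Nat.card W = 256) : rk (1 : Module.End (ZMod 2) W) = 8 := by
  have h1 := card_range (1 : Module.End (ZMod 2) W)
  have h2 : Nat.card (LinearMap.range (1 : Module.End (ZMod 2) W)) = 256 := by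
    rw [show (1 : Module.End (ZMod 2) W) = LinearMap.id from rfl, LinearMap.range_id, ← hW]
    exact Nat.card_congr (Equiv.Set.univ W)
  rw [h2] at h1
  exact (Nat.pow_right_injective (le_refl 2) (h1.symm.trans (by norm_num : 256 = 2 ^ 8)))

/-- the commutative computation applied to the algebra generated by three commuting 3-cycles -/
theorem dich_px (hW : Nat.card W = 256) (hinj : Function.Injective ρ) :
    rk (1 + pe ρ px) = 2 ∨ 1 + pe ρ px = 1 := by
  classical
  set s : Set (Module.End (ZMod 2) W) := {ρ px, ρ py, ρ pz} with hs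
  have cxy : px * py = py * px := by decide +kernel
  have cxz : px * pz = pz * px := by decide +kernel
  have cyz : py * pz = pz * py := by decide +kernel
  have hcomm : ∀ a ∈ s, ∀ b ∈ s, a * b = b * a := by
    have e1 : ρ px * ρ py = ρ py * ρ px := by rw [← map_mul, ← map_mul, cxy]
    have e2 : ρ px * ρ pz = ρ pz * ρ px := by rw [← map_mul, ← map_mul, cxz]
    have e3 : ρ py * ρ pz = ρ pz * ρ py := by rw [← map_mul, ← map_mul, cyz]
    intro a ha b hb
    simp only [hs, Set.mem_insert_iff, Set.mem_singleton_iff] at ha hb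
    rcases ha with rfl | rfl | rfl <;> rcases hb with rfl | rfl | rfl <;>
      simp only [e1, e2, e3]
  letI : CommRing (Algebra.adjoin (ZMod 2) s) := Algebra.adjoinCommRingOfComm (ZMod 2) hcomm
  let r : Algebra.adjoin (ZMod 2) s → ℕ := fun a => rk a.1
  have hr : Rank r :=
    { two := by
        have h : (1 : Algebra.adjoin (ZMod 2) s) + 1 = 0 := Subtype.ext (end_add_self 1)
        exact one_add_one_eq_two.symm.trans h
      one := rk_one hW
      zero := rk_zero
      eq_zero := fun a ha => Subtype.ext (eq_zero_of_rk ha)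
      split := fun e f he hf => by
        have h1 : e * f = f * e := mul_comm e f
        exact rk_split (congrArg Subtype.val hf) (congrArg Subtype.val h1)
      even := fun u a hu hua => by
        have h1 : u * a = a * u := mul_comm u a
        exact rk_even (congrArg Subtype.val hu) (congrArg Subtype.val h1)
          (congrArg Subtype.val hua) }
  let xA : Algebra.adjoin (ZMod 2) s := ⟨ρ px, Algebra.subset_adjoin (by simp [hs])⟩
  let yA : Algebra.adjoin (ZMod 2) s := ⟨ρ py, Algebra.subset_adjoin (by simp [hs])⟩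
  let zA : Algebra.adjoin (ZMod 2) s := ⟨ρ pz, Algebra.subset_adjoin (by simp [hs])⟩
  have cube : ∀ a : alternatingGroup (Fin 9), a * a * a = 1 → ρ a * ρ a * ρ a = 1 := by
    intro a ha
    rw [← map_mul, ← map_mul, ha, map_one]
  have ex : (Ep xA).1 = pe ρ px := rfl
  have ey : (Ep yA).1 = pe ρ py := rfl
  have ez : (Ep zA).1 = pe ρ pz := rfl
  have exy : (Ep (xA * yA)).1 = pe ρ (px * py) := by
    rw [pe, map_mul]; rfl
  have exz : (Ep (xA * zA)).1 = pe ρ (px * pz) := by
    rw [pe, map_mul]; rfl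
  have exyy : (Ep (xA * (yA * yA))).1 = pe ρ (px * (py * py)) := by
    rw [pe, map_mul, map_mul]; rfl
  have exzz : (Ep (xA * (zA * zA))).1 = pe ρ (px * (pz * pz)) := by
    rw [pe, map_mul, map_mul]; rfl
  have exyz : (Ep (xA * yA * zA)).1 = pe ρ (px * py * pz) := by
    rw [pe, map_mul, map_mul]; rfl
  have exyzz : (Ep (xA * yA * (zA * zA))).1 = pe ρ (px * py * (pz * pz)) := by
    rw [pe, map_mul, map_mul, map_mul]; rfl
  have hpx : px * px * px = 1 := by decide +kernel
  have hpy : py * py * py = 1 := by decide +kernel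
  have hpz : pz * pz * pz = 1 := by decide +kernel
  have main := hr.main (x := xA) (y := yA) (z := zA) (Subtype.ext (cube px hpx))
    (Subtype.ext (cube py hpy)) (Subtype.ext (cube pz hpz))
    (fun h => by
      have h1 : ρ px = ρ 1 := by rw [map_one]; exact congrArg Subtype.val h
      exact absurd (hinj h1) (by decide +kernel))
    (by
      change rk (Ep xA).1 = rk (Ep yA).1
      rw [ex, ey]
      exact rk_pe (g := g1) (by decide +kernel))
    (by
      change rk (Ep xA).1 = rk (Ep zA).1
      rw [ex, ez]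
      exact (rk_pe (g := g4) (by decide +kernel)).symm)
    (by
      change rk (Ep (xA * yA)).1 = rk (Ep (xA * (yA * yA))).1
      rw [exy, exyy]
      exact rk_pe (g := g2) (by decide +kernel))
    (by
      change rk ((Ep xA).1 * (Ep yA).1) = rk ((Ep xA).1 * (Ep zA).1)
      rw [ex, ey, ez]
      have h1 := rk_pe_mul (ρ := ρ) (g := g3) (a := px) (b := px * px) (c := py) (d := pz)
        (by decide +kernel) (by decide +kernel)
      rwa [pe_sq hpx] at h1)
    (by
      change rk ((Ep xA).1 * (Ep yA).1) = rk ((Ep yA).1 * (Ep zA).1)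
      rw [ex, ey, ez]
      exact rk_pe_mul (g := g4) (by decide +kernel) (by decide +kernel))
    (by
      change rk (Ep (xA * yA)).1 = rk (Ep (xA * zA)).1
      rw [exy, exz]
      exact (rk_pe (g := g6) (b := px * (pz * pz)) (by decide +kernel)).trans
        (rk_pe (g := g2) (by decide +kernel)))
    (by
      change rk (Ep (xA * yA)).1 = rk (Ep (xA * (zA * zA))).1
      rw [exy, exzz]
      exact rk_pe (g := g6) (by decide +kernel))
    (by
      change rk (Ep (xA * yA * zA)).1 = rk (Ep (xA * yA * (zA * zA))).1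
      rw [exyz, exyzz]
      exact rk_pe (g := g1) (by decide +kernel))
    (fun h => by
      change rk (Ep xA).1 = 2 at h
      rw [ex] at h
      apply Subtype.ext
      change (Ep xA).1 * (Ep yA).1 = (Ep xA).1
      rw [ex, ey]
      have com : ∀ a : alternatingGroup (Fin 9), px * a = a * px → ρ a * pe ρ px = pe ρ px * ρ a := by
        intro a ha
        have h1 : ρ a * ρ px = ρ px * ρ a := by rw [← map_mul, ← map_mul, ha]
        have h2 : ρ a * (ρ px * ρ px) = ρ px * ρ px * ρ a := by
          rw [← mul_assoc, h1, mul_assoc, h1, mul_assoc]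
        rw [pe, mul_add, mul_add, add_mul, add_mul, h1, h2, mul_one, one_mul]
      have five : ∀ a : alternatingGroup (Fin 9), a ^ 5 = 1 → ρ a ^ 5 = 1 := by
        intro a ha
        rw [← map_pow, ha, map_one]
      have hp := five_trivial (five pp (by decide +kernel)) (com pp (by decide +kernel)) h
      have hq := five_trivial (five pq (by decide +kernel)) (com pq (by decide +kernel)) h
      have hy : ρ py * pe ρ px = pe ρ px := by
        rw [show py = pp * pq by decide +kernel, map_mul, mul_assoc, hq, hp]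
      have hy' : pe ρ px * ρ py = pe ρ px := by rw [← com py cxy, hy]
      rw [show pe ρ py = 1 + ρ py + ρ py * ρ py from rfl, mul_add, mul_add, ← mul_assoc, hy',
        hy', mul_one, add_assoc, end_add_self, add_zero])
  rcases main with h | h
  · exact Or.inl h
  · exact Or.inr (congrArg Subtype.val h)

/-- THE DICHOTOMY: natural or spin type -/
theorem dichotomy {W : Type*} [AddCommGroup W] [Module (ZMod 2) W] [Finite W]
    (hW : Nat.card W = 256) (ρ : alternatingGroup (Fin 9) →* Module.End (ZMod 2) W)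
    (hinj : Function.Injective ρ) :
    (∀ k : Fin 7, Nat.card (LinearMap.range (ρ (cyc k) + 1)) = 4) ∨
      (∀ k : Fin 7, ρ (cyc k) * ρ (cyc k) = ρ (cyc k) + 1) := by
  have hc : ∀ k : Fin 7, cyc k * cyc k * cyc k = 1 := by decide +kernel
  have key : ∀ k : Fin 7, ρ (cyc k) * (ρ (cyc k) + 1) = 1 + pe ρ (cyc k) := by
    intro k
    rw [pe, mul_add, mul_one, add_assoc, ← add_assoc 1 1, end_add_self, zero_add, add_comm]
  have hk : ∀ k : Fin 7, rk (1 + pe ρ (cyc k)) = rk (1 + pe ρ px) := by
    intro k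
    rw [← pe_conj (ρ := ρ) (gk_mul k)]
    have h1 : (1 : Module.End (ZMod 2) W) + ρ (gk k) * pe ρ (cyc 0) * ρ (gk k)⁻¹ =
        ρ (gk k) * (1 + pe ρ (cyc 0)) * ρ (gk k)⁻¹ := by
      rw [mul_add, add_mul, mul_one, ← map_mul, mul_inv_cancel, map_one]
    rw [h1, rk_conj (rho_inv_mul _)]
    rfl
  rcases dich_px hW hinj with h | h
  · left
    intro k
    rw [card_range]
    have h1 : rk (ρ (cyc k) + 1) = 2 := by
      apply le_antisymm
      · have h2 : ρ (cyc k) + 1 = ρ (cyc k) * ρ (cyc k) * (ρ (cyc k) * (ρ (cyc k) + 1)) := by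
          rw [← mul_assoc, ← map_mul, ← map_mul, hc, map_one, one_mul]
        rw [h2]
        refine (rk_le_left _ _).trans ?_
        rw [key, hk, h]
      · have h5 := rk_le_left (ρ (cyc k)) (ρ (cyc k) + 1)
        rw [key, hk, h] at h5
        exact h5
    rw [h1]
    norm_num
  · right
    intro k
    have h1 : rk (pe ρ (cyc k)) = 0 := by
      rw [← rk_pe (ρ := ρ) (gk_mul k)]
      have h2 : pe ρ (cyc 0) = 0 := by
        have h3 := h
        rw [add_eq_left] at h3
        exact h3
      rw [h2, rk_zero]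
    have h2 := eq_zero_of_rk h1
    have h3 : ρ (cyc k) * ρ (cyc k) + (ρ (cyc k) + 1) = 0 := by
      rw [← h2, pe, add_comm, add_comm (ρ (cyc k)) 1]
    have h4 : (ρ (cyc k) * ρ (cyc k) + (ρ (cyc k) + 1)) + (ρ (cyc k) + 1) = ρ (cyc k) + 1 := by
      rw [h3, zero_add]
    rw [add_assoc, end_add_self, add_zero] at h4
    exact h4

end Rep

end Cfsg.Agent.ThType.Dich
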