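import Cfsg.Agent.ThType.NatGroup
import Cfsg.Agent.ThType.NatData
import Cfsg.Agent.ThType.Dich
import Cfsg.Agent.Co2Type.Quad
import Cfsg.Agent.Transfer.Extraspecial

/-!
# Thompson type: from the hypotheses to `SpinAt` or `NatAt`
-/

set_option autoImplicit false

namespace Cfsg.Agent.ThType.Build

open Equiv Cfsg.Agent.ThType.SpinData Cfsg.Agent.ThType.NatData Cfsg.Agent.ThType.Fock
  Cfsg.Agent.ThType.NatMod Cfsg.Agent.ThType.NatGroup Cfsg.Agent.Co2Type.Quad

/-- the raw data at `t` -/
structure Pre {G : Type*} [Group G] (t : G) where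
  /-- `O₂(C_G(t))` -/
  Q : Subgroup G
  large : Large Q t
  /-- the map onto `A₉` -/
  φ : Subgroup.centralizer ({t} : Set G) →* A9
  surj : Function.Surjective φ
  ker : ∀ c, φ c = 1 ↔ (c : G) ∈ Q
  card : Nat.card Q = 512

theorem exists_pre {G : Type*} [Group G] [Finite G] (t : G) (ht : orderOf t = 2)
    (Q : Subgroup (Subgroup.centralizer ({t} : Set G))) [hn : Q.Normal]
    (hE : Cfsg.IsExtraspecial 2 Q) (hcard : Nat.card Q = 2 ^ 9)
    (hcc : Subgroup.centralizer (Q : Set (Subgroup.centralizer ({t} : Set G))) ≤ Q)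
    (e : (Subgroup.centralizer ({t} : Set G)) ⧸ Q ≃* alternatingGroup (Fin 9)) :
    ∃ P : Pre t, P.Q = Q.map (Subgroup.centralizer ({t} : Set G)).subtype := by
  classical
  have hlarge : Large (Q.map (Subgroup.centralizer ({t} : Set G)).subtype) t := by
    have htt : t * t = 1 := by rw [← pow_two, ← ht]; exact pow_orderOf_eq_one t
    have ht1 : t ≠ 1 := by
      intro h; rw [h, orderOf_one] at ht; exact absurd ht (by norm_num)
    have htC : t ∈ Subgroup.centralizer ({t} : Set G) :=
      Subgroup.mem_centralizer_singleton_iff.2 rfl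
    have hcomm : ∀ c : Subgroup.centralizer ({t} : Set G), (c : G) * t = t * c :=
      fun c => Subgroup.mem_centralizer_singleton_iff.1 c.2
    have htQ : (⟨t, htC⟩ : Subgroup.centralizer ({t} : Set G)) ∈ Q := by
      apply hcc
      rw [Subgroup.mem_centralizer_iff]
      intro c _
      exact Subtype.ext (hcomm c)
    have hZ : ∀ x : Q, x ∈ Subgroup.center Q →
        (x : Subgroup.centralizer ({t} : Set G)) = 1 ∨
        (x : Subgroup.centralizer ({t} : Set G)) = ⟨t, htC⟩ := by
      intro x hx
      have hcard2 := hE.2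
      have htz : (⟨⟨t, htC⟩, htQ⟩ : Q) ∈ Subgroup.center Q := by
        rw [Subgroup.mem_center_iff]
        intro y
        exact Subtype.ext (Subtype.ext (hcomm (y : Subgroup.centralizer ({t} : Set G))))
      obtain ⟨a, b, hab, huniv⟩ := Nat.card_eq_two_iff.1 hcard2
      have h1 : (⟨⟨⟨t, htC⟩, htQ⟩, htz⟩ : Subgroup.center Q) ≠ 1 := by
        intro h
        apply ht1
        exact congrArg (fun y : Subgroup.center Q =>
          (((y : Q) : Subgroup.centralizer ({t} : Set G)) : G)) h
      have key : ∀ y : Subgroup.center Q, y = 1 ∨ y = ⟨⟨⟨t, htC⟩, htQ⟩, htz⟩ := by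
        intro y
        have ha : ∀ w : Subgroup.center Q, w = a ∨ w = b := by
          intro w
          have : w ∈ ({a, b} : Set (Subgroup.center Q)) := by rw [huniv]; trivial
          simpa using this
        rcases ha y with hy | hy <;> rcases ha 1 with h2 | h2 <;>
          rcases ha ⟨⟨⟨t, htC⟩, htQ⟩, htz⟩ with h3 | h3
        · exact absurd (h3.trans h2.symm) h1
        · left; exact hy.trans h2.symm
        · right; exact hy.trans h3.symm
        · exact absurd (h3.trans h2.symm) h1
        · exact absurd (h3.trans h2.symm) h1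
        · right; exact hy.trans h3.symm
        · left; exact hy.trans h2.symm
        · exact absurd (h3.trans h2.symm) h1
      rcases key ⟨x, hx⟩ with h | h
      · left; exact congrArg (fun y : Subgroup.center Q =>
          ((y : Q) : Subgroup.centralizer ({t} : Set G))) h
      · right; exact congrArg (fun y : Subgroup.center Q =>
          ((y : Q) : Subgroup.centralizer ({t} : Set G))) h
    refine ⟨⟨⟨t, htC⟩, htQ, rfl⟩, ht1, htt, ?_, ?_, ?_, ?_, ?_, ?_⟩
    · rintro _ ⟨x, _, rfl⟩
      exact hcomm x
    · rintro g hg _ ⟨x, hx, rfl⟩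
      have hgC : g ∈ Subgroup.centralizer ({t} : Set G) :=
        Subgroup.mem_centralizer_singleton_iff.2 hg
      exact ⟨⟨g, hgC⟩ * x * ⟨g, hgC⟩⁻¹, hn.conj_mem x hx _, rfl⟩
    · rintro _ ⟨x, hx, rfl⟩
      have h1 : (⟨x, hx⟩ : Q) ^ 2 ∈ Subgroup.center Q :=
        Cfsg.Agent.Transfer.Extraspecial.pow_mem_center hE ⟨x, hx⟩
      rcases hZ _ h1 with h | h
      · left
        have := congrArg (fun y : Subgroup.centralizer ({t} : Set G) => (y : G)) h
        rw [← pow_two]
        exact this
      · right
        have := congrArg (fun y : Subgroup.centralizer ({t} : Set G) => (y : G)) h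
        rw [← pow_two]
        exact this
    · rintro _ ⟨x, hx, rfl⟩ _ ⟨y, hy, rfl⟩
      have h1 := Cfsg.Agent.Transfer.Extraspecial.comm_mem_center hE
        (⟨y, hy⟩ : Q)⁻¹ (⟨x, hx⟩ : Q)⁻¹
      rcases hZ _ h1 with h | h
      · left
        have h2 := congrArg (fun y : Subgroup.centralizer ({t} : Set G) => (y : G)) h
        have h3 : (y : G)⁻¹ * (x : G)⁻¹ * ((y : G)⁻¹)⁻¹ * ((x : G)⁻¹)⁻¹ = 1 := h2
        calc (x : G) * y = (x * y : G) *
              ((y : G)⁻¹ * (x : G)⁻¹ * ((y : G)⁻¹)⁻¹ * ((x : G)⁻¹)⁻¹) := by rw [h3, mul_one]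
          _ = y * x := by group
      · right
        have h2 := congrArg (fun y : Subgroup.centralizer ({t} : Set G) => (y : G)) h
        have h3 : (y : G)⁻¹ * (x : G)⁻¹ * ((y : G)⁻¹)⁻¹ * ((x : G)⁻¹)⁻¹ = t := h2
        have h5 : (x : G) * y * t = y * x := by
          calc (x : G) * y * t = x * y *
                ((y : G)⁻¹ * (x : G)⁻¹ * ((y : G)⁻¹)⁻¹ * ((x : G)⁻¹)⁻¹) :=
              congrArg (fun w => (x : G) * y * w) h3.symm
            _ = y * x := by group
        calc (x : G) * y = x * y * (t * t) := by rw [htt, mul_one]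
          _ = x * y * t * t := by group
          _ = y * x * t := by rw [h5]
    · rintro _ ⟨x, hx, rfl⟩ hc
      have h1 : (⟨x, hx⟩ : Q) ∈ Subgroup.center Q := by
        rw [Subgroup.mem_center_iff]
        intro y
        apply Subtype.ext
        apply Subtype.ext
        exact (hc _ ⟨(y : Subgroup.centralizer ({t} : Set G)), y.2, rfl⟩).symm
      rcases hZ _ h1 with h | h
      · left; exact congrArg (fun y : Subgroup.centralizer ({t} : Set G) => (y : G)) h
      · right; exact congrArg (fun y : Subgroup.centralizer ({t} : Set G) => (y : G)) h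
    · intro g hg hc
      have hgC : g ∈ Subgroup.centralizer ({t} : Set G) :=
        Subgroup.mem_centralizer_singleton_iff.2 hg
      refine ⟨⟨g, hgC⟩, hcc ?_, rfl⟩
      refine Subgroup.mem_centralizer_iff.2 ?_
      intro y hy
      apply Subtype.ext
      exact (hc _ ⟨y, hy, rfl⟩).symm
  refine ⟨{
    Q := Q.map (Subgroup.centralizer ({t} : Set G)).subtype
    large := hlarge
    φ := e.toMonoidHom.comp (QuotientGroup.mk' Q)
    surj := e.surjective.comp (QuotientGroup.mk'_surjective Q)
    ker := ?_
    card := ?_ }, rfl⟩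
  · intro c
    rw [MonoidHom.comp_apply]
    have h1 : e.toMonoidHom (QuotientGroup.mk' Q c) = 1 ↔ QuotientGroup.mk' Q c = 1 := by
      constructor
      · intro h; exact e.injective (h.trans (map_one e).symm)
      · intro h; rw [h, map_one]
    rw [h1, ← MonoidHom.mem_ker, QuotientGroup.ker_mk']
    constructor
    · intro h; exact ⟨c, h, rfl⟩
    · rintro ⟨d, hd, hdc⟩
      have : d = c := Subtype.ext hdc
      rwa [← this]
  · rw [Subgroup.card_map_of_injective (Subgroup.subtype_injective _), hcard]
    norm_num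

section pre

variable {G : Type*} [Group G] {t : G} (P : Pre t)

namespace Pre

theorem act_eq {c d : Subgroup.centralizer ({t} : Set G)} (h : P.φ c = P.φ d) :
    P.large.act c = P.large.act d := by
  have h1 : P.φ (d⁻¹ * c) = 1 := by rw [map_mul, map_inv, h, inv_mul_cancel]
  have h2 := P.large.act_mem _ ((P.ker _).1 h1)
  rw [map_mul, map_inv, inv_mul_eq_one] at h2
  exact h2.symm

/-- the representation of `A₉` -/
noncomputable def ρ : A9 →* Module.End (ZMod 2) P.large.V where
  toFun g := (P.large.act (Function.surjInv P.surj g)).toLinearMap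
  map_one' := by
    have h : P.large.act (Function.surjInv P.surj 1) = P.large.act 1 := by
      apply P.act_eq
      rw [Function.surjInv_eq P.surj, map_one]
    rw [h, map_one]; rfl
  map_mul' g g' := by
    have h : P.large.act (Function.surjInv P.surj (g * g')) =
        P.large.act (Function.surjInv P.surj g * Function.surjInv P.surj g') := by
      apply P.act_eq
      rw [Function.surjInv_eq P.surj, map_mul, Function.surjInv_eq P.surj,
        Function.surjInv_eq P.surj]
    rw [h, map_mul]; rfl

theorem ρ_apply (c : Subgroup.centralizer ({t} : Set G)) (v : P.large.V) :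
    P.ρ (P.φ c) v = P.large.act c v := by
  have h : P.large.act (Function.surjInv P.surj (P.φ c)) = P.large.act c := by
    apply P.act_eq
    rw [Function.surjInv_eq P.surj]
  change (P.large.act (Function.surjInv P.surj (P.φ c))) v = _
  rw [h]

theorem q_ρ (g : A9) (v : P.large.V) : P.large.q (P.ρ g v) = P.large.q v := by
  obtain ⟨c, rfl⟩ := P.surj g
  rw [P.ρ_apply, P.large.q_act]

theorem b_ρ (g : A9) (v w : P.large.V) : P.large.b (P.ρ g v) (P.ρ g w) = P.large.b v w := by
  obtain ⟨c, rfl⟩ := P.surj g
  rw [P.ρ_apply, P.ρ_apply, P.large.b_act]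

theorem card_V [Finite G] : Nat.card P.large.V = 256 := by
  have h1 := P.large.card_eq
  rw [P.card] at h1
  omega

/-- the representation is faithful -/
theorem ρ_faithful [Finite G] : Function.Injective P.ρ := by
  have hs : IsSimpleGroup A9 := alternatingGroup.isSimpleGroup (by simp)
  rw [← MonoidHom.ker_eq_bot_iff]
  rcases hs.eq_bot_or_eq_top_of_normal P.ρ.ker inferInstance with h | h
  · exact h
  · exfalso
    have h1 : ∀ c : Subgroup.centralizer ({t} : Set G), P.φ (c * c) = 1 := by
      intro c
      rw [P.ker]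
      have ht : ∀ x : P.Q, P.large.pr (P.large.conjQ c x) = P.large.pr x := by
        intro x
        rw [← P.large.act_pr, ← P.ρ_apply]
        have : P.φ c ∈ P.ρ.ker := by rw [h]; trivial
        rw [MonoidHom.mem_ker] at this
        rw [this]; rfl
      have hc := Subgroup.mem_centralizer_singleton_iff.1 c.2
      refine P.large.self _ (by
        rw [Subgroup.coe_mul, mul_assoc, hc, ← mul_assoc, hc, mul_assoc]) ?_
      intro x hx
      have h2 := ht ⟨x, hx⟩
      rw [P.large.pr_eq_pr, P.large.conjQ_coe] at h2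
      have h3 : (c : G) * x * (c : G)⁻¹ = x ∨ (c : G) * x * (c : G)⁻¹ = x * t := h2
      rw [Subgroup.coe_mul]
      rcases h3 with h3 | h3
      · rw [mul_inv_eq_iff_eq_mul] at h3
        rw [mul_assoc, h3, ← mul_assoc, h3, mul_assoc]
      · rw [mul_inv_eq_iff_eq_mul] at h3
        have h4 : (c : G) * c * x = c * (c * x) := mul_assoc _ _ _
        rw [h4, h3, mul_assoc x t c, ← mul_assoc (c : G) x, h3, ← hc, mul_assoc (x * t) c,
          hc, ← mul_assoc (c : G), hc]
        calc x * t * (t * (c : G) * c) = x * (t * t) * (c * c) := by group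
          _ = x * (c * c) := by rw [P.large.z_sq, mul_one]
    have h2 : ∀ g : A9, g * g = 1 := by
      intro g
      obtain ⟨c, rfl⟩ := P.surj g
      rw [← map_mul]; exact h1 c
    exact absurd (h2 (cyc 0)) (by decide +kernel)

end Pre

end pre

end Cfsg.Agent.ThType.Build
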