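import Mathlib.Algebra.Group.Basic
import Mathlib.Data.Nat.Bitwise
import Mathlib.Tactic

/-!
Project R05, C-side: a nine bit model of the extraspecial group `2^(1+8)` of plus type.

`Basis z x` : `x 0, …, x 7` are involutions, `x (i+4) * x i = z * x i * x (i+4)`, all the other pairs
commute, `z` is a central involution.  The number `n` codes the element
`ι z x n = z^(bit 8) * x₀^(bit 0) * … * x₇^(bit 7)`; `nmul` is the multiplication of codes,
`app L` the endomorphism with images `L` of the `x i`.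
-/

set_option autoImplicit false

namespace Cfsg.Agent.ThType.CSideModel

variable {G : Type*} [Group G]

/-- `x` or `1` -/
def pw (x : G) (b : Bool) : G := bif b then x else 1

@[simp] theorem pw_true (x : G) : pw x true = x := rfl

@[simp] theorem pw_false (x : G) : pw x false = 1 := rfl

theorem pw_xor {x : G} (h : x * x = 1) (a b : Bool) : pw x (a ^^ b) = pw x a * pw x b := by
  cases a <;> cases b <;> simp [h]

theorem pw_comm {x y : G} (h : x * y = y * x) (a b : Bool) :
    pw x a * pw y b = pw y b * pw x a := by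
  cases a <;> cases b <;> simp [h]

theorem pw_swap {x y z : G} (h : x * y = z * (y * x)) (a b : Bool) :
    pw x a * pw y b = pw z (a && b) * (pw y b * pw x a) := by
  cases a <;> cases b <;> simp [h]

theorem pw_comm_left {x c : G} (h : c * x = x * c) (b : Bool) : c * pw x b = pw x b * c := by
  cases b <;> simp [h]

/-- the defining relations of the basis -/
structure Basis (z : G) (x : Fin 8 → G) : Prop where
  z_sq : z * z = 1
  z_comm : ∀ i, x i * z = z * x i
  sq : ∀ i, x i * x i = 1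
  swap : ∀ i : Fin 4, x ⟨i.1 + 4, by omega⟩ * x ⟨i.1, by omega⟩ =
    z * (x ⟨i.1, by omega⟩ * x ⟨i.1 + 4, by omega⟩)
  comm : ∀ i j : Fin 8, i.1 + 4 ≠ j.1 → j.1 + 4 ≠ i.1 → x i * x j = x j * x i

/-- the product of the first four -/
def lo (x : Fin 8 → G) (b0 b1 b2 b3 : Bool) : G :=
  pw (x 0) b0 * pw (x 1) b1 * (pw (x 2) b2 * pw (x 3) b3)

/-- the product of the last four -/
def hi (x : Fin 8 → G) (b4 b5 b6 b7 : Bool) : G :=
  pw (x 4) b4 * pw (x 5) b5 * (pw (x 6) b6 * pw (x 7) b7)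

/-- the element with code `n` -/
def ι (z : G) (x : Fin 8 → G) (n : ℕ) : G :=
  pw z (n.testBit 8) * (lo x (n.testBit 0) (n.testBit 1) (n.testBit 2) (n.testBit 3) *
    hi x (n.testBit 4) (n.testBit 5) (n.testBit 6) (n.testBit 7))

/-- multiplication of four commuting involutions -/
theorem four_mul {y0 y1 y2 y3 : G} (h0 : y0 * y0 = 1) (h1 : y1 * y1 = 1) (h2 : y2 * y2 = 1)
    (h3 : y3 * y3 = 1) (h01 : y0 * y1 = y1 * y0) (h02 : y0 * y2 = y2 * y0)
    (h03 : y0 * y3 = y3 * y0) (h12 : y1 * y2 = y2 * y1) (h13 : y1 * y3 = y3 * y1)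
    (h23 : y2 * y3 = y3 * y2) (a0 a1 a2 a3 b0 b1 b2 b3 : Bool) :
    pw y0 (a0 ^^ b0) * pw y1 (a1 ^^ b1) * (pw y2 (a2 ^^ b2) * pw y3 (a3 ^^ b3)) =
    pw y0 a0 * pw y1 a1 * (pw y2 a2 * pw y3 a3) *
      (pw y0 b0 * pw y1 b1 * (pw y2 b2 * pw y3 b3)) := by
  rw [pw_xor h0, pw_xor h1, pw_xor h2, pw_xor h3]
  have e01 : Commute (pw y1 a1) (pw y0 b0) := (pw_comm h01 b0 a1).symm
  have e23 : Commute (pw y3 a3) (pw y2 b2) := (pw_comm h23 b2 a3).symm
  have e20 : Commute (pw y2 a2) (pw y0 b0) := (pw_comm h02 b0 a2).symm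
  have e30 : Commute (pw y3 a3) (pw y0 b0) := (pw_comm h03 b0 a3).symm
  have e21 : Commute (pw y2 a2) (pw y1 b1) := (pw_comm h12 b1 a2).symm
  have e31 : Commute (pw y3 a3) (pw y1 b1) := (pw_comm h13 b1 a3).symm
  rw [← e01.mul_mul_mul_comm, ← e23.mul_mul_mul_comm]
  have e : Commute (pw y2 a2 * pw y3 a3) (pw y0 b0 * pw y1 b1) :=
    ((e20.mul_right e21).mul_left (e30.mul_right e31))
  rw [e.mul_mul_mul_comm]

variable {z : G} {x : Fin 8 → G}

theorem lo_mul (h : Basis z x) (a0 a1 a2 a3 b0 b1 b2 b3 : Bool) :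
    lo x (a0 ^^ b0) (a1 ^^ b1) (a2 ^^ b2) (a3 ^^ b3) = lo x a0 a1 a2 a3 * lo x b0 b1 b2 b3 :=
  four_mul (h.sq 0) (h.sq 1) (h.sq 2) (h.sq 3)
    (h.comm 0 1 (by decide) (by decide)) (h.comm 0 2 (by decide) (by decide))
    (h.comm 0 3 (by decide) (by decide)) (h.comm 1 2 (by decide) (by decide))
    (h.comm 1 3 (by decide) (by decide)) (h.comm 2 3 (by decide) (by decide)) _ _ _ _ _ _ _ _

theorem hi_mul (h : Basis z x) (a0 a1 a2 a3 b0 b1 b2 b3 : Bool) :
    hi x (a0 ^^ b0) (a1 ^^ b1) (a2 ^^ b2) (a3 ^^ b3) = hi x a0 a1 a2 a3 * hi x b0 b1 b2 b3 :=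
  four_mul (h.sq 4) (h.sq 5) (h.sq 6) (h.sq 7)
    (h.comm 4 5 (by decide) (by decide)) (h.comm 4 6 (by decide) (by decide))
    (h.comm 4 7 (by decide) (by decide)) (h.comm 5 6 (by decide) (by decide))
    (h.comm 5 7 (by decide) (by decide)) (h.comm 6 7 (by decide) (by decide)) _ _ _ _ _ _ _ _

/-- an element which commutes with `x 0, …` up to `z` commutes with a product up to `z` -/
theorem swap_mul {w u v : G} {a b : Bool} (hz : z * z = 1) (hzu : u * z = z * u)
    (h1 : w * u = pw z a * (u * w)) (h2 : w * v = pw z b * (v * w)) :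
    w * (u * v) = pw z (a ^^ b) * ((u * v) * w) := by
  have h3 : u * pw z b = pw z b * u := pw_comm_left hzu b
  rw [pw_xor hz, ← mul_assoc, h1, mul_assoc (pw z a), mul_assoc u, h2, ← mul_assoc u, h3]
  simp only [mul_assoc]

theorem swap_lo_one (h : Basis z x) (i : Fin 4) (b0 b1 b2 b3 : Bool) :
    x ⟨i.1 + 4, by omega⟩ * lo x b0 b1 b2 b3 =
      pw z ((i == 0 && b0) ^^ (i == 1 && b1) ^^ ((i == 2 && b2) ^^ (i == 3 && b3))) *
        (lo x b0 b1 b2 b3 * x ⟨i.1 + 4, by omega⟩) := by
  have key : ∀ (j : Fin 4) (b : Bool), x ⟨i.1 + 4, by omega⟩ * pw (x ⟨j.1, by omega⟩) b =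
      pw z (i == j && b) * (pw (x ⟨j.1, by omega⟩) b * x ⟨i.1 + 4, by omega⟩) := by
    intro j b
    cases b
    · simp
    · by_cases hij : i = j
      · subst hij
        simpa using h.swap i
      · have : (i == j) = false := by simpa using hij
        simp only [this, Bool.false_and, pw_false, one_mul, pw_true]
        refine h.comm _ _ (by simp; omega) ?_
        simp only [ne_eq]
        intro h2
        exact hij (Fin.ext (by omega))
  have zc : ∀ (j : Fin 8) (b : Bool), pw (x j) b * z = z * pw (x j) b := by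
    intro j b
    cases b
    · simp
    · exact h.z_comm j
  have e0 := key 0 b0
  have e1 := key 1 b1
  have e2 := key 2 b2
  have e3 := key 3 b3
  exact swap_mul h.z_sq (by rw [mul_assoc, zc, ← mul_assoc, zc, mul_assoc])
    (swap_mul h.z_sq (zc _ _) e0 e1) (swap_mul h.z_sq (zc _ _) e2 e3)

/-- `swap_mul` on the other side -/
theorem swap_mul' {w u v : G} {a b : Bool} (hz : z * z = 1) (hzu : u * z = z * u)
    (h1 : u * w = pw z a * (w * u)) (h2 : v * w = pw z b * (w * v)) :
    (u * v) * w = pw z (a ^^ b) * (w * (u * v)) := by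
  have h3 : u * pw z b = pw z b * u := pw_comm_left hzu b
  rw [mul_assoc, h2, ← mul_assoc, h3, mul_assoc, ← mul_assoc u w v, h1, Bool.xor_comm, pw_xor hz]
  simp only [mul_assoc]

theorem hi_lo (h : Basis z x) (a0 a1 a2 a3 b0 b1 b2 b3 : Bool) :
    hi x a0 a1 a2 a3 * lo x b0 b1 b2 b3 =
      pw z ((a0 && b0) ^^ (a1 && b1) ^^ ((a2 && b2) ^^ (a3 && b3))) *
        (lo x b0 b1 b2 b3 * hi x a0 a1 a2 a3) := by
  have zc : ∀ (j : Fin 8) (b : Bool), pw (x j) b * z = z * pw (x j) b := by
    intro j b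
    cases b
    · simp
    · exact h.z_comm j
  have key : ∀ (i : Fin 4) (a : Bool), pw (x ⟨i.1 + 4, by omega⟩) a * lo x b0 b1 b2 b3 =
      pw z (a && ((i == 0 && b0) ^^ (i == 1 && b1) ^^ ((i == 2 && b2) ^^ (i == 3 && b3)))) *
        (lo x b0 b1 b2 b3 * pw (x ⟨i.1 + 4, by omega⟩) a) := by
    intro i a
    cases a
    · simp
    · exact swap_lo_one h i b0 b1 b2 b3
  have e0 := key 0 a0
  have e1 := key 1 a1
  have e2 := key 2 a2
  have e3 := key 3 a3
  simp only [show ((0 : Fin 4) == 0) = true from rfl, show ((0 : Fin 4) == 1) = false from rfl,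
    show ((0 : Fin 4) == 2) = false from rfl, show ((0 : Fin 4) == 3) = false from rfl,
    show ((1 : Fin 4) == 0) = false from rfl, show ((1 : Fin 4) == 1) = true from rfl,
    show ((1 : Fin 4) == 2) = false from rfl, show ((1 : Fin 4) == 3) = false from rfl,
    show ((2 : Fin 4) == 0) = false from rfl, show ((2 : Fin 4) == 1) = false from rfl,
    show ((2 : Fin 4) == 2) = true from rfl, show ((2 : Fin 4) == 3) = false from rfl,
    show ((3 : Fin 4) == 0) = false from rfl, show ((3 : Fin 4) == 1) = false from rfl,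
    show ((3 : Fin 4) == 2) = false from rfl, show ((3 : Fin 4) == 3) = true from rfl,
    Bool.true_and, Bool.false_and, Bool.xor_false, Bool.false_xor] at e0 e1 e2 e3
  exact swap_mul' h.z_sq (by rw [mul_assoc, zc, ← mul_assoc, zc, mul_assoc])
    (swap_mul' h.z_sq (zc _ _) e0 e1) (swap_mul' h.z_sq (zc _ _) e2 e3)

/-- parity of the last four bits -/
def par4 (k : ℕ) : ℕ :=
  Nat.land (Nat.xor (Nat.xor k (Nat.shiftRight k 1))
    (Nat.xor (Nat.shiftRight k 2) (Nat.shiftRight k 3))) 1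

/-- multiplication of codes -/
def nmul (m n : ℕ) : ℕ :=
  Nat.xor (Nat.xor m n) (Nat.shiftLeft (par4 (Nat.land (Nat.shiftRight m 4) n)) 8)

theorem par4_testBit (k i : ℕ) : (par4 k).testBit i =
    (decide (i = 0) && ((k.testBit 0 ^^ k.testBit 1) ^^ (k.testBit 2 ^^ k.testBit 3))) := by
  change (((k ^^^ (k >>> 1)) ^^^ ((k >>> 2) ^^^ (k >>> 3))) &&& 1).testBit i = _
  rw [Nat.testBit_and, Nat.testBit_xor, Nat.testBit_xor, Nat.testBit_xor,
    Nat.testBit_shiftRight, Nat.testBit_shiftRight, Nat.testBit_shiftRight]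
  by_cases hi : i = 0
  · subst hi
    simp
  · have h1 : Nat.testBit 1 i = false := by
      obtain ⟨j, rfl⟩ := Nat.exists_eq_succ_of_ne_zero hi
      simp [Nat.testBit_succ]
    simp [hi, h1]

theorem nmul_testBit_lt (m n i : ℕ) (hi : i < 8) :
    (nmul m n).testBit i = (m.testBit i ^^ n.testBit i) := by
  change ((m ^^^ n) ^^^ ((par4 _) <<< 8)).testBit i = _
  rw [Nat.testBit_xor, Nat.testBit_xor, Nat.testBit_shiftLeft]
  have : decide (i ≥ 8) = false := by simpa using hi
  simp [this]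

theorem nmul_testBit_eight (m n : ℕ) :
    (nmul m n).testBit 8 = ((m.testBit 8 ^^ n.testBit 8) ^^
      (((m.testBit 4 && n.testBit 0) ^^ (m.testBit 5 && n.testBit 1)) ^^
        ((m.testBit 6 && n.testBit 2) ^^ (m.testBit 7 && n.testBit 3)))) := by
  change ((m ^^^ n) ^^^ ((par4 ((m >>> 4) &&& n)) <<< 8)).testBit 8 = _
  rw [Nat.testBit_xor, Nat.testBit_xor, Nat.testBit_shiftLeft, par4_testBit]
  simp

/-- the multiplication of codes is the multiplication of elements -/
theorem ι_nmul (h : Basis z x) (m n : ℕ) : ι z x (nmul m n) = ι z x m * ι z x n := by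
  have zc : ∀ (j : Fin 8) (b : Bool), pw (x j) b * z = z * pw (x j) b := by
    intro j b
    cases b
    · simp
    · exact h.z_comm j
  have zlo : ∀ b0 b1 b2 b3 : Bool, ∀ c : Bool, Commute (lo x b0 b1 b2 b3) (pw z c) := by
    intro b0 b1 b2 b3 c
    cases c
    · exact Commute.one_right _
    · exact ((show Commute _ z from zc 0 b0).mul_left (zc 1 b1)).mul_left
        ((show Commute _ z from zc 2 b2).mul_left (zc 3 b3))
  have zhi : ∀ b0 b1 b2 b3 : Bool, ∀ c : Bool, Commute (hi x b0 b1 b2 b3) (pw z c) := by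
    intro b0 b1 b2 b3 c
    cases c
    · exact Commute.one_right _
    · exact ((show Commute _ z from zc 4 b0).mul_left (zc 5 b1)).mul_left
        ((show Commute _ z from zc 6 b2).mul_left (zc 7 b3))
  unfold ι
  rw [nmul_testBit_eight]
  simp only [nmul_testBit_lt m n _ (show 0 < 8 by norm_num),
    nmul_testBit_lt m n _ (show 1 < 8 by norm_num), nmul_testBit_lt m n _ (show 2 < 8 by norm_num),
    nmul_testBit_lt m n _ (show 3 < 8 by norm_num), nmul_testBit_lt m n _ (show 4 < 8 by norm_num),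
    nmul_testBit_lt m n _ (show 5 < 8 by norm_num), nmul_testBit_lt m n _ (show 6 < 8 by norm_num),
    nmul_testBit_lt m n _ (show 7 < 8 by norm_num)]
  rw [lo_mul h, hi_mul h, pw_xor h.z_sq, pw_xor h.z_sq]
  generalize m.testBit 8 = m8
  generalize n.testBit 8 = n8
  have e1 := hi_lo h (m.testBit 4) (m.testBit 5) (m.testBit 6) (m.testBit 7) (n.testBit 0)
    (n.testBit 1) (n.testBit 2) (n.testBit 3)
  set lm := lo x (m.testBit 0) (m.testBit 1) (m.testBit 2) (m.testBit 3)
  set hm := hi x (m.testBit 4) (m.testBit 5) (m.testBit 6) (m.testBit 7)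
  set ln := lo x (n.testBit 0) (n.testBit 1) (n.testBit 2) (n.testBit 3)
  set hn := hi x (n.testBit 4) (n.testBit 5) (n.testBit 6) (n.testBit 7)
  generalize (((m.testBit 4 && n.testBit 0) ^^ (m.testBit 5 && n.testBit 1)) ^^
        ((m.testBit 6 && n.testBit 2) ^^ (m.testBit 7 && n.testBit 3))) = β at e1 ⊢
  have c1 : Commute hm (pw z n8) := zhi _ _ _ _ _
  have c2 : Commute lm (pw z n8) := zlo _ _ _ _ _
  have c3 : Commute lm (pw z β) := zlo _ _ _ _ _
  calc pw z m8 * pw z n8 * pw z β * (lm * ln * (hm * hn))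
      = pw z m8 * pw z n8 * ((pw z β * lm) * ((ln * hm) * hn)) := by simp only [mul_assoc]
    _ = pw z m8 * pw z n8 * ((lm * pw z β) * ((ln * hm) * hn)) := by rw [c3.eq]
    _ = pw z m8 * pw z n8 * (lm * ((pw z β * (ln * hm)) * hn)) := by simp only [mul_assoc]
    _ = pw z m8 * pw z n8 * (lm * ((hm * ln) * hn)) := by rw [e1]
    _ = pw z m8 * (pw z n8 * (lm * hm)) * (ln * hn) := by simp only [mul_assoc]
    _ = pw z m8 * ((lm * hm) * pw z n8) * (ln * hn) := by rw [(c2.mul_left c1).eq]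
    _ = _ := by simp only [mul_assoc]

theorem ι_zero : ι z x 0 = 1 := by
  simp [ι, lo, hi]

theorem ι_z : ι z x 256 = z := by
  simp [ι, lo, hi, show Nat.testBit 256 8 = true by decide, show Nat.testBit 256 0 = false by decide,
    show Nat.testBit 256 1 = false by decide, show Nat.testBit 256 2 = false by decide,
    show Nat.testBit 256 3 = false by decide, show Nat.testBit 256 4 = false by decide,
    show Nat.testBit 256 5 = false by decide, show Nat.testBit 256 6 = false by decide,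
    show Nat.testBit 256 7 = false by decide]

theorem ι_gen (i : Fin 8) : ι z x (2 ^ i.1) = x i := by
  fin_cases i <;> simp [ι, lo, hi, pw, Nat.testBit]

/-- the images of the generators, packed in a list -/
def img (L : List ℕ) (i : ℕ) : ℕ := L.getD i 0

/-- the endomorphism with images `L` -/
def app (L : List ℕ) (n : ℕ) : ℕ :=
  nmul (bif n.testBit 8 then 256 else 0)
    (nmul (nmul (nmul (bif n.testBit 0 then img L 0 else 0) (bif n.testBit 1 then img L 1 else 0))
        (nmul (bif n.testBit 2 then img L 2 else 0) (bif n.testBit 3 then img L 3 else 0)))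
      (nmul (nmul (bif n.testBit 4 then img L 4 else 0) (bif n.testBit 5 then img L 5 else 0))
        (nmul (bif n.testBit 6 then img L 6 else 0) (bif n.testBit 7 then img L 7 else 0))))

/-- `c` normalises the extraspecial group with images `L` -/
structure Acts (z : G) (x : Fin 8 → G) (c : G) (L : List ℕ) : Prop where
  z_comm : c * z = z * c
  gen : ∀ i : Fin 8, c * x i * c⁻¹ = ι z x (img L i.1)

theorem Acts.conj (h : Basis z x) {c : G} {L : List ℕ} (hc : Acts z x c L) (n : ℕ) :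
    c * ι z x n * c⁻¹ = ι z x (app L n) := by
  have e : ∀ (i : Fin 8) (b : Bool), c * pw (x i) b * c⁻¹ = ι z x (bif b then img L i.1 else 0) := by
    intro i b
    cases b
    · simp [ι_zero]
    · exact hc.gen i
  have ez : ∀ b : Bool, c * pw z b * c⁻¹ = ι z x (bif b then 256 else 0) := by
    intro b
    cases b
    · simp [ι_zero]
    · simp only [pw_true, cond_true, ι_z, hc.z_comm, mul_inv_cancel_right]
  have m : ∀ u v : G, c * (u * v) * c⁻¹ = (c * u * c⁻¹) * (c * v * c⁻¹) := by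
    intro u v
    group
  have e0 : ∀ b, c * pw (x 0) b * c⁻¹ = ι z x (bif b then img L 0 else 0) := e 0
  have e1 : ∀ b, c * pw (x 1) b * c⁻¹ = ι z x (bif b then img L 1 else 0) := e 1
  have e2 : ∀ b, c * pw (x 2) b * c⁻¹ = ι z x (bif b then img L 2 else 0) := e 2
  have e3 : ∀ b, c * pw (x 3) b * c⁻¹ = ι z x (bif b then img L 3 else 0) := e 3
  have e4 : ∀ b, c * pw (x 4) b * c⁻¹ = ι z x (bif b then img L 4 else 0) := e 4
  have e5 : ∀ b, c * pw (x 5) b * c⁻¹ = ι z x (bif b then img L 5 else 0) := e 5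
  have e6 : ∀ b, c * pw (x 6) b * c⁻¹ = ι z x (bif b then img L 6 else 0) := e 6
  have e7 : ∀ b, c * pw (x 7) b * c⁻¹ = ι z x (bif b then img L 7 else 0) := e 7
  unfold app
  rw [ι_nmul h, ι_nmul h, ι_nmul h, ι_nmul h, ι_nmul h, ι_nmul h, ι_nmul h, ι_nmul h,
    ← ez, ← e0, ← e1, ← e2, ← e3, ← e4, ← e5, ← e6, ← e7]
  simp only [ι, lo, hi, m]

theorem Acts.inv (h : Basis z x) {c : G} {L L' : List ℕ} (hc : Acts z x c L)
    (hL : ∀ i : Fin 8, app L (img L' i.1) = 2 ^ i.1) : Acts z x c⁻¹ L' := by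
  refine ⟨?_, fun i => ?_⟩
  · have := hc.z_comm
    rw [inv_mul_eq_iff_eq_mul, ← mul_assoc, this, mul_inv_cancel_right]
  · have := hc.conj h (img L' i.1)
    rw [hL i, ι_gen] at this
    rw [← this]
    group

end Cfsg.Agent.ThType.CSideModel
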