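import Cfsg.Agent.ThType.SpinData
import Cfsg.Agent.ThType.CSideModel
import Batteries.Data.Nat.Lemmas

/-!
Project R05, C-side: a basis `x` of `Q` for a `SpinAt G z`, codes of the elements of `Q`, and
existence of elements of `C_G(z)` with prescribed image in `A₉` and prescribed action on `Q`.
-/

set_option autoImplicit false

namespace Cfsg.Agent.ThType.CSideBasis

open Cfsg.Agent.ThType.SpinData Cfsg.Agent.ThType.CSideModel

/-- the vector of the low eight bits -/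
def vec (n : ℕ) : V := fun i => if n.testBit i.1 then 1 else 0

theorem vec_nmul (m n : ℕ) : vec (nmul m n) = vec m + vec n := by
  funext i
  simp only [vec, Pi.add_apply, nmul_testBit_lt m n i.1 i.2]
  cases m.testBit i.1 <;> cases n.testBit i.1 <;> decide

theorem vec_zero : vec 0 = 0 := by
  funext i
  simp [vec]

theorem vec_z : vec 256 = 0 := by
  decide

theorem vec_surj (v : V) : ∃ n : ℕ, vec n = v := by
  refine ⟨Nat.ofBits (fun i : Fin 8 => decide (v i = 1)), ?_⟩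
  funext i
  simp only [vec, Nat.testBit_ofBits_lt _ i.1 i.2, decide_eq_true_eq]
  generalize v i = w
  revert w
  decide

variable {G : Type*} [Group G] {z : G}

/-- `x` is a basis of `Q` lying over the standard basis of `V` -/
structure QB (S : SpinAt G z) (x : Fin 8 → G) : Prop where
  basis : Basis z x
  mem : ∀ i, x i ∈ S.Q
  pi_x : ∀ i : Fin 8, S.π (x i) = vec (2 ^ i.1)

theorem exists_basis (S : SpinAt G z) : ∃ x : Fin 8 → G, QB S x := by
  choose x hx hπ using fun i : Fin 8 => S.π_surj (vec (2 ^ i.1))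
  refine ⟨x, ⟨⟨S.z_sq, fun i => S.Q_le _ (hx i), fun i => ?_, fun i => ?_, fun i j h1 h2 => ?_⟩,
    hx, hπ⟩⟩
  · rw [S.sq _ (hx i), hπ i, if_pos]
    revert i
    decide
  · rw [S.comm _ (hx _) _ (hx _), hπ, hπ, if_neg]
    revert i
    decide
  · rw [S.comm _ (hx _) _ (hx _), hπ, hπ, if_pos, one_mul]
    revert h1 h2 i j
    decide

theorem one_mem_comm : (1 : G) * z = z * 1 := by simp

theorem mul_comm_z {a b : G} (ha : a * z = z * a) (hb : b * z = z * b) :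
    (a * b) * z = z * (a * b) :=
  (show Commute a z from ha).mul_left hb

theorem inv_comm_z {a : G} (ha : a * z = z * a) : a⁻¹ * z = z * a⁻¹ :=
  (show Commute a z from ha).inv_left

theorem phi_one (S : SpinAt G z) : S.φ 1 = 1 :=
  (S.φ_eq_one 1 one_mem_comm).mpr S.Q.one_mem

theorem phi_inv (S : SpinAt G z) {a : G} (ha : a * z = z * a) : S.φ a⁻¹ = (S.φ a)⁻¹ := by
  rw [eq_inv_iff_mul_eq_one, ← S.φ_mul _ _ (inv_comm_z ha) ha, inv_mul_cancel, phi_one]

theorem phi_mem (S : SpinAt G z) {q : G} (hq : q ∈ S.Q) : S.φ q = 1 :=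
  (S.φ_eq_one q (S.Q_le q hq)).mpr hq

theorem conj_mem (S : SpinAt G z) {c q : G} (hc : c * z = z * c) (hq : q ∈ S.Q) :
    c * q * c⁻¹ ∈ S.Q := by
  have h1 : (c * q) * z = z * (c * q) := mul_comm_z hc (S.Q_le q hq)
  rw [← S.φ_eq_one _ (mul_comm_z h1 (inv_comm_z hc)), S.φ_mul _ _ h1 (inv_comm_z hc),
    S.φ_mul _ _ hc (S.Q_le q hq), phi_inv S hc, phi_mem S hq, mul_one, mul_inv_cancel]

theorem pi_one (S : SpinAt G z) : S.π 1 = 0 :=
  (S.π_eq_zero 1 S.Q.one_mem).mpr (Or.inl rfl)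

theorem pi_z (S : SpinAt G z) : S.π z = 0 :=
  (S.π_eq_zero z S.z_mem).mpr (Or.inr rfl)

theorem pi_eq_iff (S : SpinAt G z) {p q : G} (hp : p ∈ S.Q) (hq : q ∈ S.Q)
    (h : S.π p = S.π q) : p = q ∨ p = z * q := by
  have h1 : S.π (p * q⁻¹) = 0 := by
    have h2 : S.π (p * q⁻¹) + S.π q = S.π p := by
      rw [← S.π_mul _ (S.Q.mul_mem hp (S.Q.inv_mem hq)) _ hq, inv_mul_cancel_right]
    rw [← h] at h2
    simpa using h2
  rcases (S.π_eq_zero _ (S.Q.mul_mem hp (S.Q.inv_mem hq))).mp h1 with h2 | h2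
  · exact Or.inl (mul_inv_eq_one.mp h2)
  · exact Or.inr (mul_inv_eq_iff_eq_mul.mp h2)

variable {S : SpinAt G z} {x : Fin 8 → G}

theorem pw_mem {H : Subgroup G} {y : G} (hy : y ∈ H) (b : Bool) : pw y b ∈ H := by
  cases b
  · exact H.one_mem
  · exact hy

theorem lo_mem {H : Subgroup G} (h : ∀ i, x i ∈ H) (a b c d : Bool) : lo x a b c d ∈ H :=
  H.mul_mem (H.mul_mem (pw_mem (h _) _) (pw_mem (h _) _))
    (H.mul_mem (pw_mem (h _) _) (pw_mem (h _) _))

theorem hi_mem {H : Subgroup G} (h : ∀ i, x i ∈ H) (a b c d : Bool) : hi x a b c d ∈ H :=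
  H.mul_mem (H.mul_mem (pw_mem (h _) _) (pw_mem (h _) _))
    (H.mul_mem (pw_mem (h _) _) (pw_mem (h _) _))

theorem ι_mem_of {H : Subgroup G} (hz : z ∈ H) (h : ∀ i, x i ∈ H) (n : ℕ) : ι z x n ∈ H :=
  H.mul_mem (pw_mem hz _) (H.mul_mem (lo_mem h _ _ _ _) (hi_mem h _ _ _ _))

theorem ι_mem (h : QB S x) (n : ℕ) : ι z x n ∈ S.Q := ι_mem_of S.z_mem h.mem n

theorem ι_comm (h : QB S x) (n : ℕ) : ι z x n * z = z * ι z x n := S.Q_le _ (ι_mem h n)

theorem pi_pw (h : QB S x) (i : Fin 8) (b : Bool) :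
    S.π (pw (x i) b) = if b then vec (2 ^ i.1) else 0 := by
  cases b
  · simpa using pi_one S
  · simpa using h.pi_x i

theorem pi_ι (h : QB S x) (n : ℕ) : S.π (ι z x n) = vec n := by
  have m : ∀ (i : Fin 8) (b : Bool), pw (x i) b ∈ S.Q := fun i b => pw_mem (h.mem i) b
  have ez : S.π (pw z (n.testBit 8)) = 0 := by
    cases n.testBit 8
    · exact pi_one S
    · exact pi_z S
  unfold ι
  rw [S.π_mul _ (pw_mem S.z_mem _) _ (S.Q.mul_mem (lo_mem h.mem _ _ _ _) (hi_mem h.mem _ _ _ _)),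
    S.π_mul _ (lo_mem h.mem _ _ _ _) _ (hi_mem h.mem _ _ _ _), ez, zero_add]
  unfold lo hi
  rw [S.π_mul _ (S.Q.mul_mem (m _ _) (m _ _)) _ (S.Q.mul_mem (m _ _) (m _ _)),
    S.π_mul _ (S.Q.mul_mem (m _ _) (m _ _)) _ (S.Q.mul_mem (m _ _) (m _ _)),
    S.π_mul _ (m _ _) _ (m _ _), S.π_mul _ (m _ _) _ (m _ _), S.π_mul _ (m _ _) _ (m _ _),
    S.π_mul _ (m _ _) _ (m _ _), pi_pw h, pi_pw h, pi_pw h, pi_pw h, pi_pw h, pi_pw h, pi_pw h,
    pi_pw h]
  have key : ∀ b0 b1 b2 b3 b4 b5 b6 b7 : Bool, ∀ j : Fin 8,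
      (((if b0 then vec (2 ^ (0 : Fin 8).1) else 0) + (if b1 then vec (2 ^ (1 : Fin 8).1) else 0) +
        ((if b2 then vec (2 ^ (2 : Fin 8).1) else 0) + (if b3 then vec (2 ^ (3 : Fin 8).1) else 0)) +
       ((if b4 then vec (2 ^ (4 : Fin 8).1) else 0) + (if b5 then vec (2 ^ (5 : Fin 8).1) else 0) +
        ((if b6 then vec (2 ^ (6 : Fin 8).1) else 0) +
          (if b7 then vec (2 ^ (7 : Fin 8).1) else 0))) : V)) j =
      if (![b0, b1, b2, b3, b4, b5, b6, b7] j) then (1 : ZMod 2) else 0 := by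
    have v : ∀ i j : Fin 8, vec (2 ^ i.1) j = if i = j then 1 else 0 := by decide
    intro b0 b1 b2 b3 b4 b5 b6 b7 j
    simp only [Pi.add_apply]
    have w : ∀ (i : Fin 8) (b : Bool), (if b then vec (2 ^ i.1) else 0 : V) j =
        if b ∧ i = j then 1 else 0 := by
      intro i b
      cases b
      · simp
      · simp [v]
    rw [w, w, w, w, w, w, w, w]
    fin_cases j <;> simp <;> split_ifs <;> simp_all
  funext j
  rw [key, vec]
  fin_cases j <;> rfl

theorem exists_code (h : QB S x) {q : G} (hq : q ∈ S.Q) : ∃ n, q = ι z x n := by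
  obtain ⟨n, hn⟩ := vec_surj (S.π q)
  rcases pi_eq_iff S hq (ι_mem h n) (by rw [pi_ι h, hn]) with h1 | h1
  · exact ⟨n, h1⟩
  · exact ⟨nmul 256 n, by rw [ι_nmul h.basis, ι_z, ← h1]⟩

theorem b0_gen (v : V) (i : Fin 8) : b0 v (vec (2 ^ i.1)) = v (i + 4) := by
  have v' : ∀ i j : Fin 8, vec (2 ^ i.1) j = if i = j then 1 else 0 := by decide
  simp only [b0, v']
  fin_cases i <;> simp

/-- an element of `C_G(z)` with trivial image in `A₉` and trivial action on `Q` is `1` or `z` -/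
theorem eq_one_or_z (h : QB S x) {c : G} (hc : c * z = z * c) (hφ : S.φ c = 1)
    (hx : ∀ i, c * x i * c⁻¹ = x i) : c = 1 ∨ c = z := by
  have hQ : c ∈ S.Q := (S.φ_eq_one c hc).mp hφ
  rw [← S.π_eq_zero c hQ]
  have h1 : ∀ i : Fin 8, b0 (S.π c) (vec (2 ^ i.1)) = 0 := by
    intro i
    by_contra hne
    have h2 := S.comm c hQ (x i) (h.mem i)
    rw [h.pi_x i, if_neg hne, ← mul_inv_eq_iff_eq_mul.mp (hx i), right_eq_mul] at h2
    exact S.z_ne h2
  funext j
  have h2 := h1 (j - 4)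
  rw [b0_gen, sub_add_cancel] at h2
  simpa using h2

/-- the code of the element of `Q` which changes the signs `δ` -/
theorem exists_sign (h : QB S x) (δ : Fin 8 → Bool) :
    ∃ q ∈ S.Q, ∀ i, q * x i * q⁻¹ = pw z (δ i) * x i := by
  refine ⟨ι z x (Nat.ofBits (fun i : Fin 8 => δ (i - 4))), ι_mem h _, fun i => ?_⟩
  rw [mul_inv_eq_iff_eq_mul, S.comm _ (ι_mem h _) _ (h.mem i), pi_ι h, h.pi_x, b0_gen, vec,
    Nat.testBit_ofBits_lt _ _ (i + 4).2, ← mul_assoc]
  congr 1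
  congr 1
  simp only [Fin.eta, add_sub_cancel_right]
  cases δ i <;> simp

/-- existence of elements with prescribed image and action -/
theorem exists_lift (h : QB S x) (p : alternatingGroup (Fin 9)) (L : List ℕ)
    (hL : ∀ i : Fin 8, (S.ρ p).mulVec (vec (2 ^ i.1)) = vec (img L i.1)) :
    ∃ c, c * z = z * c ∧ S.φ c = p ∧ Acts z x c L := by
  obtain ⟨c0, hc0, hp⟩ := S.φ_surj p
  have h1 : ∀ i : Fin 8, ∃ b : Bool, c0 * x i * c0⁻¹ = pw z b * ι z x (img L i.1) := by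
    intro i
    have h2 : S.π (c0 * x i * c0⁻¹) = S.π (ι z x (img L i.1)) := by
      rw [S.act c0 hc0 _ (h.mem i), hp, h.pi_x, hL, pi_ι h]
    rcases pi_eq_iff S (conj_mem S hc0 (h.mem i)) (ι_mem h _) h2 with h3 | h3
    · exact ⟨false, by simpa using h3⟩
    · exact ⟨true, by simpa using h3⟩
  choose δ hδ using h1
  obtain ⟨q, hq, hqx⟩ := exists_sign h δ
  have hqz := S.Q_le q hq
  refine ⟨c0 * q, mul_comm_z hc0 hqz, ?_, ⟨mul_comm_z hc0 hqz, fun i => ?_⟩⟩
  · rw [S.φ_mul _ _ hc0 hqz, phi_mem S hq, mul_one, hp]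
  · have h2 : c0 * pw z (δ i) = pw z (δ i) * c0 := pw_comm_left hc0 (δ i)
    calc c0 * q * x i * (c0 * q)⁻¹ = c0 * (q * x i * q⁻¹) * c0⁻¹ := by group
      _ = pw z (δ i) * (c0 * x i * c0⁻¹) := by
          rw [hqx i, ← mul_assoc c0, h2]
          simp only [mul_assoc]
      _ = ι z x (img L i.1) := by
          rw [hδ i, ← mul_assoc, ← pw_xor h.basis.z_sq]
          cases δ i <;> simp

end Cfsg.Agent.ThType.CSideBasis
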