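import Cfsg.Agent.ThType.CSideTab
import Cfsg.Agent.Th.Base

/-!
Project R05, C-side: choice of the signs of `d, e, s, t, u` and all relations of the presented
Thompson group which do not involve `b`.
-/

set_option autoImplicit false

namespace Cfsg.Agent.ThType.CSideRel

open Cfsg.Agent.ThType.SpinData Cfsg.Agent.ThType.CSideModel Cfsg.Agent.ThType.CSideBasis
  Cfsg.Agent.ThType.SqRules Cfsg.Agent.ThType.CSideWords Cfsg.Agent.ThType.CSideTab

variable {G : Type*} [Group G] {z : G} {S : SpinAt G z} {x : Fin 8 → G}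

/-- if `X Y ∈ {1, z}` and both have odd order, then `X Y = 1` -/
theorem odd_mul (hz : z * z = 1) (hz1 : z ≠ 1) {X Y : G} (hXz : X * z = z * X)
    (h : X * Y = 1 ∨ X * Y = z) {n : ℕ} (hX : X ^ (2 * n + 1) = 1) (hY : Y ^ (2 * n + 1) = 1) :
    X * Y = 1 := by
  rcases h with h | h
  · exact h
  · exfalso
    have h1 : Y = X⁻¹ * z := by rw [← h]; group
    have h2 : Commute X⁻¹ z := (show Commute X z from hXz).inv_left
    have h3 : z ^ (2 * n + 1) = z := by
      rw [pow_succ, pow_mul, pow_two, hz, one_pow, one_mul]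
    rw [h1, h2.mul_pow, inv_pow, hX, inv_one, one_mul, h3] at hY
    exact hz1 hY

/-- adjusting the sign of a letter with odd multiplicity -/
theorem adjust (hz : z * z = 1) {g g' : ℕ → G} {ε : ℕ → Bool} {w : List ℕ}
    (hg : ∀ l ∈ w, g l * z = z * g l) (hε : w.foldr (fun l b => ε l ^^ b) false = true)
    (h : wval g w = z) (h' : ∀ l ∈ w, g' l = pw z (ε l) * g l) : wval g' w = 1 := by
  rw [wval_twist hz hg h', hε, h, pw_true, hz]

/-- one step of the choice of signs: `f g` is the family of letters belonging to the choice `g` -/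
theorem choose_sign (hx : QB S x) {P : G → Prop} (hP : ∀ g, P g → P (z * g))
    (f : G → ℕ → G) (w : List ℕ) (hw : ∀ l ∈ w, l < 10) (ε : ℕ → Bool)
    (hf : ∀ g, P g → ∀ l, l < 10 → Good S x (f g) tabL tabP l)
    (hε : w.foldr (fun l b => ε l ^^ b) false = true)
    (hf' : ∀ g, P g → ∀ l, l < 10 → f (z * g) l = pw z (ε l) * f g l)
    (ht : trivW tabL tabP w = true) {g : G} (hg : P g) : ∃ g', P g' ∧ wval (f g') w = 1 := by
  rcases triv hx (fun l hl => hf g hg l (hw l hl)) ht with h | h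
  · exact ⟨g, hg, h⟩
  · exact ⟨z * g, hP g hg, adjust hx.basis.z_sq (fun l hl => (hf g hg l (hw l hl)).acts.z_comm) hε h
      fun l hl => hf' g hg l (hw l hl)⟩

theorem zinv (hz : z * z = 1) {g : G} (hg : g * z = z * g) : (z * g)⁻¹ = z * g⁻¹ := by
  have h1 : z⁻¹ = z := inv_eq_of_mul_eq_one_right hz
  rw [mul_inv_rev, h1]
  exact inv_comm_z hg

/-- the words checked -/
def wes : List ℕ := [3, 5, 3, 4, 5, 5, 5, 3, 4, 4, 4]

theorem chk_s7 : trivW tabL tabP [4, 4, 4, 4, 4, 4, 4] = true := by decide +kernel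
theorem chk_t3 : trivW tabL tabP [6, 6, 6] = true := by decide +kernel
theorem chk_es : trivW tabL tabP wes = true := by decide +kernel
theorem chk_de3 : trivW tabL tabP [2, 3, 2, 3, 2, 3] = true := by decide +kernel
theorem chk_us3 : trivW tabL tabP [8, 4, 8, 4, 8, 4, 1, 0] = true := by decide +kernel
theorem chk_sd2 : trivW tabL tabP [4, 2, 4, 2] = true := by decide +kernel
theorem chk_td : trivW tabL tabP [7, 2, 6, 2] = true := by decide +kernel
theorem chk_te : trivW tabL tabP [7, 3, 6, 3] = true := by decide +kernel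
theorem chk_st : trivW tabL tabP [7, 4, 6, 5, 5] = true := by decide +kernel
theorem chk_tu : trivW tabL tabP [9, 6, 8, 6] = true := by decide +kernel
theorem chk_d2 : sqW tabL tabP [2] 0 0 8 0 = true := by decide +kernel
theorem chk_e2 : sqW tabL tabP [3] 0 0 8 0 = true := by decide +kernel
theorem chk_u2 : sqW tabL tabP [8] 12 257 4 256 = true := by decide +kernel
theorem chk_ue : sqW tabL tabP [8, 3] 68 257 8 0 = true := by decide +kernel
theorem chk_dedu : sqW tabL tabP [2, 3, 9, 2, 8] 0 0 8 0 = true := by decide +kernel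
theorem chk_eus : sqW tabL tabP [3, 5, 5, 8, 4, 4] 96 257 8 0 = true := by decide +kernel
theorem chk_us4 : sqW tabL tabP [9, 5, 8, 4, 9, 5, 8, 4] 8 257 4 256 = true := by decide +kernel
theorem chk_dus : sqW tabL tabP [2, 5, 5, 8, 4, 4, 2, 5, 5, 8, 4, 4] 35 125 4 256 = true := by
  decide +kernel

variable {d e s t u : G}

theorem gens_z_comm (h : Gens S x d e s t u) {l : ℕ} (hl : l < 10) :
    gl z (x 0) d e s t u l * z = z * gl z (x 0) d e s t u l := (h.good l hl).acts.z_comm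

theorem step_s (h : Gens S x d e s t u) : ∃ s', Gens S x d e s' t u ∧ s' ^ 7 = 1 := by
  obtain ⟨s', hs', h'⟩ := choose_sign h.qb (P := fun s => Gens S x d e s t u)
    (fun g hg => { hg with s := hg.s.mul_z h.qb }) (fun s => gl z (x 0) d e s t u)
    [4, 4, 4, 4, 4, 4, 4] (by decide) (fun l => l == 4 || l == 5) (fun g hg => hg.good) (by decide)
    (fun g hg l hl => by
      match l, hl with
      | 0, _ => simp [gl]
      | 1, _ => simp [gl]
      | 2, _ => simp [gl]
      | 3, _ => simp [gl]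
      | 4, _ => simp [gl]
      | 5, _ => exact zinv h.qb.basis.z_sq hg.s.acts.z_comm
      | 6, _ => simp [gl]
      | 7, _ => simp [gl]
      | 8, _ => simp [gl]
      | 9, _ => simp [gl]
      | n + 10, hn => omega) chk_s7 h
  refine ⟨s', hs', ?_⟩
  rw [← h']
  simp only [wval, gl, mul_one, mul_assoc, pow_succ, pow_zero, one_mul]

theorem step_t (h : Gens S x d e s t u) : ∃ t', Gens S x d e s t' u ∧ t' ^ 3 = 1 := by
  obtain ⟨s', hs', h'⟩ := choose_sign h.qb (P := fun t => Gens S x d e s t u)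
    (fun g hg => { hg with t := hg.t.mul_z h.qb }) (fun t => gl z (x 0) d e s t u)
    [6, 6, 6] (by decide) (fun l => l == 6 || l == 7) (fun g hg => hg.good) (by decide)
    (fun g hg l hl => by
      match l, hl with
      | 0, _ => simp [gl]
      | 1, _ => simp [gl]
      | 2, _ => simp [gl]
      | 3, _ => simp [gl]
      | 4, _ => simp [gl]
      | 5, _ => simp [gl]
      | 6, _ => simp [gl]
      | 7, _ => exact zinv h.qb.basis.z_sq hg.t.acts.z_comm
      | 8, _ => simp [gl]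
      | 9, _ => simp [gl]
      | n + 10, hn => omega) chk_t3 h
  refine ⟨s', hs', ?_⟩
  rw [← h']
  simp only [wval, gl, mul_one, mul_assoc, pow_succ, pow_zero, one_mul]

theorem step_e (h : Gens S x d e s t u) : ∃ e', Gens S x d e' s t u ∧
    e' * s⁻¹ * e' * s * (s⁻¹ * s⁻¹ * s⁻¹ * e' * s * s * s) = 1 := by
  obtain ⟨s', hs', h'⟩ := choose_sign h.qb (P := fun e => Gens S x d e s t u)
    (fun g hg => { hg with e := hg.e.mul_z h.qb }) (fun e => gl z (x 0) d e s t u)
    wes (by decide) (fun l => l == 3) (fun g hg => hg.good) (by decide)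
    (fun g hg l hl => by
      match l, hl with
      | 0, _ => simp [gl]
      | 1, _ => simp [gl]
      | 2, _ => simp [gl]
      | 3, _ => simp [gl]
      | 4, _ => simp [gl]
      | 5, _ => simp [gl]
      | 6, _ => simp [gl]
      | 7, _ => simp [gl]
      | 8, _ => simp [gl]
      | 9, _ => simp [gl]
      | n + 10, hn => omega) chk_es h
  refine ⟨s', hs', ?_⟩
  rw [← h']
  simp only [wval, gl, wes, mul_one, mul_assoc]

theorem step_d (h : Gens S x d e s t u) : ∃ d', Gens S x d' e s t u ∧ (d' * e) ^ 3 = 1 := by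
  obtain ⟨s', hs', h'⟩ := choose_sign h.qb (P := fun d => Gens S x d e s t u)
    (fun g hg => { hg with d := hg.d.mul_z h.qb }) (fun d => gl z (x 0) d e s t u)
    [2, 3, 2, 3, 2, 3] (by decide) (fun l => l == 2) (fun g hg => hg.good) (by decide)
    (fun g hg l hl => by
      match l, hl with
      | 0, _ => simp [gl]
      | 1, _ => simp [gl]
      | 2, _ => simp [gl]
      | 3, _ => simp [gl]
      | 4, _ => simp [gl]
      | 5, _ => simp [gl]
      | 6, _ => simp [gl]
      | 7, _ => simp [gl]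
      | 8, _ => simp [gl]
      | 9, _ => simp [gl]
      | n + 10, hn => omega) chk_de3 h
  refine ⟨s', hs', ?_⟩
  rw [← h']
  simp only [wval, gl, mul_one, mul_assoc, pow_succ, pow_zero, one_mul]

theorem step_u (h : Gens S x d e s t u) : ∃ u', Gens S x d e s t u' ∧
    (u' * s) ^ 3 * (x 0 * z) = 1 := by
  obtain ⟨s', hs', h'⟩ := choose_sign h.qb (P := fun u => Gens S x d e s t u)
    (fun g hg => { hg with u := hg.u.mul_z h.qb }) (fun u => gl z (x 0) d e s t u)
    [8, 4, 8, 4, 8, 4, 1, 0] (by decide) (fun l => l == 8 || l == 9) (fun g hg => hg.good)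
    (by decide)
    (fun g hg l hl => by
      match l, hl with
      | 0, _ => simp [gl]
      | 1, _ => simp [gl]
      | 2, _ => simp [gl]
      | 3, _ => simp [gl]
      | 4, _ => simp [gl]
      | 5, _ => simp [gl]
      | 6, _ => simp [gl]
      | 7, _ => simp [gl]
      | 8, _ => simp [gl]
      | 9, _ => exact zinv h.qb.basis.z_sq hg.u.acts.z_comm
      | n + 10, hn => omega) chk_us3 h
  refine ⟨s', hs', ?_⟩
  rw [← h']
  simp only [wval, gl, mul_one, mul_assoc, pow_succ, pow_zero, one_mul]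

/-- the normalised generators -/
structure Norm (S : SpinAt G z) (x : Fin 8 → G) (d e s t u : G) : Prop where
  gens : Gens S x d e s t u
  s7 : s ^ 7 = 1
  t3 : t ^ 3 = 1
  es : e * s⁻¹ * e * s * (s⁻¹ * s⁻¹ * s⁻¹ * e * s * s * s) = 1
  de3 : (d * e) ^ 3 = 1
  us3 : (u * s) ^ 3 * (x 0 * z) = 1

theorem exists_norm (S : SpinAt G z) : ∃ x d e s t u, Norm S x d e s t u := by
  obtain ⟨x, d, e, s, t, u, h⟩ := exists_gens S
  obtain ⟨s, h, hs⟩ := step_s h
  obtain ⟨t, h, ht⟩ := step_t h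
  obtain ⟨e, h, he⟩ := step_e h
  obtain ⟨d, h, hd⟩ := step_d h
  obtain ⟨u, h, hu⟩ := step_u h
  exact ⟨x, d, e, s, t, u, h, hs, ht, he, hd, hu⟩

theorem gens_triv (h : Gens S x d e s t u) {w : List ℕ} (hw : ∀ l ∈ w, l < 10)
    (ht : trivW tabL tabP w = true) :
    wval (gl z (x 0) d e s t u) w = 1 ∨ wval (gl z (x 0) d e s t u) w = z :=
  CSideWords.triv h.qb (fun l hl => h.good l (hw l hl)) ht

theorem gens_sq_eq (h : Gens S x d e s t u) (hS : SqRules S) {w : List ℕ} (hw : ∀ l ∈ w, l < 10)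
    {q r k e' : ℕ} (hke : (k = 4 ∧ e' = 256) ∨ (k = 8 ∧ e' = 0))
    (ht : sqW tabL tabP w q r k e' = true) :
    wval (gl z (x 0) d e s t u) w * wval (gl z (x 0) d e s t u) w = ι z x r :=
  CSideWords.sq_eq h.qb hS (fun l hl => h.good l (hw l hl)) hke ht

theorem ι_257 (hx : QB S x) : ι z x 257 = z * x 0 := by
  rw [show (257 : ℕ) = nmul 256 (2 ^ (0 : Fin 8).1) by decide, ι_nmul hx.basis, ι_z, ι_gen]

theorem comm_of_conj {g y : G} (h : g * y * g⁻¹ = y) : g * y = y * g := mul_inv_eq_iff_eq_mul.mp h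

theorem gens_conj (h : Gens S x d e s t u) {w : List ℕ} (hw : ∀ l ∈ w, l < 10) (n : ℕ) :
    wval (gl z (x 0) d e s t u) w * ι z x n * (wval (gl z (x 0) d e s t u) w)⁻¹ =
      ι z x (wact tabL w n) :=
  wval_conj h.qb (fun l hl => h.good l (hw l hl)) n

theorem Norm.d2 (h : Norm S x d e s t u) (hS : SqRules S) : d * d = 1 := by
  have h1 := gens_sq_eq h.gens hS (w := [2]) (by decide) (Or.inr ⟨rfl, rfl⟩) chk_d2
  simpa only [wval, gl, mul_one, ι_zero] using h1

theorem Norm.e2 (h : Norm S x d e s t u) (hS : SqRules S) : e * e = 1 := by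
  have h1 := gens_sq_eq h.gens hS (w := [3]) (by decide) (Or.inr ⟨rfl, rfl⟩) chk_e2
  simpa only [wval, gl, mul_one, ι_zero] using h1

theorem Norm.u2 (h : Norm S x d e s t u) (hS : SqRules S) : u * u = z * x 0 := by
  have h1 := gens_sq_eq h.gens hS (w := [8]) (by decide) (Or.inl ⟨rfl, rfl⟩) chk_u2
  simpa only [wval, gl, mul_one, ι_257 h.gens.qb] using h1

theorem Norm.ue (h : Norm S x d e s t u) (hS : SqRules S) : e * u = u * e := by
  have h1 := gens_sq_eq h.gens hS (w := [8, 3]) (by decide) (Or.inr ⟨rfl, rfl⟩) chk_ue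
  simp only [wval, gl, mul_one, ι_257 h.gens.qb] at h1
  rw [← h.u2 hS, mul_assoc] at h1
  have h2 := mul_left_cancel h1
  -- e * (u * e) = u
  have h3 : e * (e * (u * e)) = e * u := by rw [h2]
  rw [← mul_assoc, h.e2 hS, one_mul] at h3
  exact h3.symm

theorem c_comm {g : G} {l : ℕ} (hg : LG S x g l)
    (hl : Nat.beq (img (tabL l) 0) 1 = true) : g * x 0 = x 0 * g := by
  apply comm_of_conj
  have h1 := hg.acts.gen 0
  rw [show img (tabL l) ((0 : Fin 8).1) = 1 from Nat.eq_of_beq_eq_true hl] at h1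
  rw [h1]
  exact ι_gen (z := z) (x := x) 0

theorem Norm.dedu (h : Norm S x d e s t u) (hS : SqRules S) :
    (d * e * (u⁻¹ * d * u)) ^ 2 = 1 := by
  have h1 := gens_sq_eq h.gens hS (w := [2, 3, 9, 2, 8]) (by decide) (Or.inr ⟨rfl, rfl⟩) chk_dedu
  simp only [wval, gl, mul_one, ι_zero] at h1
  rw [← h1, pow_two]
  simp only [mul_assoc]

theorem Norm.eus (h : Norm S x d e s t u) (hS : SqRules S) :
    e * ((s ^ 2)⁻¹ * u * s ^ 2) = ((s ^ 2)⁻¹ * u * s ^ 2) * e := by
  have h1 := gens_sq_eq h.gens hS (w := [3, 5, 5, 8, 4, 4]) (by decide) (Or.inr ⟨rfl, rfl⟩) chk_eus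
  simp only [wval, gl, mul_one, ι_257 h.gens.qb] at h1
  have hsc : s * x 0 = x 0 * s := c_comm h.gens.s (by decide)
  have hsz : s * z = z * s := h.gens.s.acts.z_comm
  set v := (s ^ 2)⁻¹ * u * s ^ 2 with hv
  have hv2 : v * v = z * x 0 := by
    have h2 : Commute (s ^ 2) (z * x 0) :=
      ((show Commute s z from hsz).mul_right (show Commute s (x 0) from hsc)).pow_left 2
    calc v * v = (s ^ 2)⁻¹ * (u * u) * s ^ 2 := by rw [hv]; group
      _ = (s ^ 2)⁻¹ * (s ^ 2 * (z * x 0)) := by rw [h.u2 hS, mul_assoc, h2.eq]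
      _ = z * x 0 := by group
  have h3 : (e * v) * (e * v) = z * x 0 := by
    rw [← h1, hv]
    simp only [pow_two, mul_inv_rev, mul_assoc]
  rw [← hv2, ← mul_assoc, mul_left_inj] at h3
  -- e * v * e = v
  have h4 : (e * v) * e * e = v * e := by rw [h3]
  rw [mul_assoc (e * v), h.e2 hS, mul_one] at h4
  exact h4

theorem Norm.us4 (h : Norm S x d e s t u) (hS : SqRules S) :
    (u⁻¹ * s⁻¹ * u * s) ^ 4 = z * x 0 := by
  have h1 := gens_sq_eq h.gens hS (w := [9, 5, 8, 4, 9, 5, 8, 4]) (by decide) (Or.inl ⟨rfl, rfl⟩) chk_us4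
  simp only [wval, gl, mul_one, ι_257 h.gens.qb] at h1
  rw [← h1]
  simp only [pow_succ, pow_zero, one_mul, mul_assoc]

theorem ι_125 (h : Norm S x d e s t u) (hS : SqRules S) : ι z x 125 =
    z * x 0 * (d⁻¹ * x 0 * d) * ((d * e * s⁻¹)⁻¹ * x 0 * (d * e * s⁻¹)) *
      ((d * e * s ^ 2)⁻¹ * x 0 * (d * e * s ^ 2)) := by
  have hx := h.gens.qb
  have hd : d⁻¹ = d := inv_eq_of_mul_eq_one_right (h.d2 hS)
  have he : e⁻¹ = e := inv_eq_of_mul_eq_one_right (h.e2 hS)
  have c1 := gens_conj h.gens (w := [2]) (by decide) 1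
  have c2 := gens_conj h.gens (w := [4, 3, 2]) (by decide) 1
  have c3 := gens_conj h.gens (w := [5, 5, 3, 2]) (by decide) 1
  have x0 : ι z x 1 = x 0 := ι_gen (z := z) (x := x) 0
  simp only [wval, gl, mul_one, x0] at c1 c2 c3
  have e1 : d⁻¹ * x 0 * d = ι z x 246 := by
    rw [show (246 : ℕ) = wact tabL [2] 1 by decide +kernel, ← c1, hd]
  have e2 : (d * e * s⁻¹)⁻¹ * x 0 * (d * e * s⁻¹) = ι z x 24 := by
    rw [show (24 : ℕ) = wact tabL [4, 3, 2] 1 by decide +kernel, ← c2]
    simp only [mul_inv_rev, inv_inv, hd, he, mul_assoc]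
  have e3 : (d * e * s ^ 2)⁻¹ * x 0 * (d * e * s ^ 2) = ι z x 402 := by
    rw [show (402 : ℕ) = wact tabL [5, 5, 3, 2] 1 by decide +kernel, ← c3]
    simp only [mul_inv_rev, inv_inv, hd, he, mul_assoc, pow_two]
  rw [e1, e2, e3, ← ι_257 hx, ← ι_nmul hx.basis, ← ι_nmul hx.basis, ← ι_nmul hx.basis]
  rw [show nmul (nmul (nmul 257 246) 24) 402 = 125 by decide +kernel]

theorem Norm.dus (h : Norm S x d e s t u) (hS : SqRules S) :
    (d * ((s ^ 2)⁻¹ * u * s ^ 2)) ^ 4 = z * x 0 * (d⁻¹ * x 0 * d) *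
      ((d * e * s⁻¹)⁻¹ * x 0 * (d * e * s⁻¹)) * ((d * e * s ^ 2)⁻¹ * x 0 * (d * e * s ^ 2)) := by
  have h1 := gens_sq_eq h.gens hS (w := [2, 5, 5, 8, 4, 4, 2, 5, 5, 8, 4, 4]) (by decide)
    (Or.inl ⟨rfl, rfl⟩) chk_dus
  rw [← ι_125 h hS, ← h1]
  simp only [wval, gl, mul_one, pow_succ, pow_zero, one_mul, mul_assoc, mul_inv_rev]

theorem Norm.acd (h : Norm S x d e s t u) (hS : SqRules S) : (x 0 * d) ^ 4 = z := by
  have hx := h.gens.qb
  have hd : d⁻¹ = d := inv_eq_of_mul_eq_one_right (h.d2 hS)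
  have c1 := gens_conj h.gens (w := [2]) (by decide) 1
  have x0 : ι z x 1 = x 0 := ι_gen (z := z) (x := x) 0
  simp only [wval, gl, mul_one, x0] at c1
  rw [hd, show wact tabL [2] 1 = 246 by decide +kernel] at c1
  have h2 : (x 0 * d) ^ 4 = (x 0 * (d * x 0 * d)) * (x 0 * (d * x 0 * d)) := by
    simp only [pow_succ, pow_zero, one_mul, mul_assoc]
  rw [h2, c1, ← x0, ← ι_nmul hx.basis, ← ι_nmul hx.basis,
    show nmul (nmul 1 246) (nmul 1 246) = 256 by decide +kernel, ι_z]

end Cfsg.Agent.ThType.CSideRel
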