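import Cfsg.Agent.ThType.CSideWords

/-!
Project R05, C-side: the tables of the seven generators `a c d e s t u` of `C_G(z)`.

Letters: `0 = a = z`, `1 = c = x 0`, `2 = d`, `3 = e`, `4 = s`, `5 = s⁻¹`, `6 = t`, `7 = t⁻¹`,
`8 = u`, `9 = u⁻¹`.
-/

set_option autoImplicit false

namespace Cfsg.Agent.ThType.CSideTab

open Cfsg.Agent.ThType.SpinData Cfsg.Agent.ThType.CSideModel Cfsg.Agent.ThType.CSideBasis
  Cfsg.Agent.ThType.SqRules Cfsg.Agent.ThType.CSideWords

/-- images of `x 0, …, x 7` under conjugation by the letters -/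
def tabL : ℕ → List ℕ
  | 0 => [1, 2, 4, 8, 16, 32, 64, 128]
  | 1 => [1, 2, 4, 8, 272, 32, 64, 128]
  | 2 => [246, 308, 349, 28, 73, 278, 250, 205]
  | 3 => [1, 2, 4, 265, 155, 37, 322, 129]
  | 4 => [1, 13, 7, 14, 446, 103, 195, 230]
  | 5 => [1, 11, 14, 13, 118, 463, 235, 161]
  | 6 => [1, 7, 2, 11, 215, 330, 235, 133]
  | 7 => [1, 4, 7, 13, 445, 487, 297, 134]
  | 8 => [1, 2, 7, 10, 336, 224, 320, 384]
  | 9 => [1, 2, 7, 10, 80, 224, 320, 384]
  | _ => []

/-- permutations of the letters, packed in hexadecimal digits -/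
def packP : ℕ → ℕ
  | 0 => 0x876543210
  | 1 => 0x876543210
  | 2 => 0x784061235
  | 3 => 0x820315746
  | 4 => 0x872035461
  | 5 => 0x871324605
  | 6 => 0x875104263
  | 7 => 0x871630254
  | 8 => 0x871503264
  | 9 => 0x871503264
  | _ => 0

/-- image of the point `j` -/
def tabP (l j : ℕ) : ℕ := Nat.land (Nat.shiftRight (packP l) (Nat.mul 4 j)) 15

/-- columns of the matrices `X k` -/
def colTab : Fin 7 → List ℕ :=
  ![[11, 4, 6, 5, 128, 112, 160, 144],
    [8, 6, 2, 9, 148, 72, 97, 18],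
    [2, 3, 10, 13, 176, 80, 192, 64],
    [10, 7, 8, 12, 48, 16, 224, 80],
    [3, 1, 12, 4, 32, 48, 128, 192],
    [9, 5, 14, 1, 160, 96, 32, 208],
    [72, 134, 18, 41, 144, 64, 96, 16]]

/-- the permutations `cyc k`, packed -/
def packC : Fin 7 → ℕ :=
  ![0x876543021, 0x876540231, 0x876503241, 0x876043251, 0x870543261, 0x806543271, 0x76543281]

/-- image of the point `j` under `cyc k` -/
def tabC (k : Fin 7) (j : ℕ) : ℕ := Nat.land (Nat.shiftRight (packC k) (Nat.mul 4 j)) 15

theorem X_gen (k : Fin 7) (i : Fin 8) :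
    (X k).mulVec (vec (2 ^ i.1)) = vec (img (colTab k) i.1) := by
  revert k i
  decide +kernel

theorem cyc_tab (k : Fin 7) (j : Fin 9) : ((cyc k).1 j).1 = tabC k j.1 := by
  revert k j
  decide +kernel

/-- decomposition of a vector along the standard basis -/
theorem vec_decomp (n : ℕ) : vec n =
    ((if n.testBit 0 then vec (2 ^ (0 : Fin 8).1) else 0) +
      (if n.testBit 1 then vec (2 ^ (1 : Fin 8).1) else 0) +
    ((if n.testBit 2 then vec (2 ^ (2 : Fin 8).1) else 0) +
      (if n.testBit 3 then vec (2 ^ (3 : Fin 8).1) else 0))) +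
    ((if n.testBit 4 then vec (2 ^ (4 : Fin 8).1) else 0) +
      (if n.testBit 5 then vec (2 ^ (5 : Fin 8).1) else 0) +
    ((if n.testBit 6 then vec (2 ^ (6 : Fin 8).1) else 0) +
      (if n.testBit 7 then vec (2 ^ (7 : Fin 8).1) else 0))) := by
  have v : ∀ i j : Fin 8, vec (2 ^ i.1) j = if i = j then 1 else 0 := by decide
  funext j
  have w : ∀ (i : Fin 8) (b : Bool), (if b then vec (2 ^ i.1) else 0 : V) j =
      if b ∧ i = j then 1 else 0 := by
    intro i b
    cases b
    · simp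
    · simp [v]
  simp only [Pi.add_apply]
  rw [w, w, w, w, w, w, w, w, vec]
  fin_cases j <;> simp

/-- a matrix acts on vectors like the endomorphism with its columns as images acts on codes -/
theorem mulVec_vec {M : Matrix (Fin 8) (Fin 8) (ZMod 2)} {L : List ℕ}
    (h : ∀ i : Fin 8, M.mulVec (vec (2 ^ i.1)) = vec (img L i.1)) (n : ℕ) :
    M.mulVec (vec n) = vec (app L n) := by
  have e : ∀ (i : Fin 8) (b : Bool), M.mulVec (if b then vec (2 ^ i.1) else 0) =
      vec (bif b then img L i.1 else 0) := by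
    intro i b
    cases b
    · simp [vec_zero]
    · exact h i
  have ez : ∀ b : Bool, vec (bif b then 256 else 0) = 0 := by
    intro b
    cases b
    · exact vec_zero
    · exact vec_z
  rw [vec_decomp n]
  simp only [Matrix.mulVec_add, e]
  unfold app
  rw [vec_nmul, ez, zero_add]
  simp only [vec_nmul]
  rfl

/-- product of the permutations `cyc k` -/
def cprod : List (Fin 7) → alternatingGroup (Fin 9)
  | [] => 1
  | k :: l => cyc k * cprod l

/-- action of a product of the `cyc k` on codes -/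
def cwact : List (Fin 7) → ℕ → ℕ
  | [], n => n
  | k :: l, n => app (colTab k) (cwact l n)

/-- action of a product of the `cyc k` on letters -/
def cwperm : List (Fin 7) → ℕ → ℕ
  | [], j => j
  | k :: l, j => tabC k (cwperm l j)

theorem cprod_perm : ∀ (l : List (Fin 7)) (j : Fin 9), ((cprod l).1 j).1 = cwperm l j.1
  | [], _ => rfl
  | k :: l, j => by
      have h := cyc_tab k ((cprod l).1 j)
      rw [cprod_perm l j] at h
      exact h

variable {G : Type*} [Group G] {z : G} {S : SpinAt G z} {x : Fin 8 → G}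

theorem rho_cprod (S : SpinAt G z) : ∀ (l : List (Fin 7)) (n : ℕ),
    (S.ρ (cprod l)).mulVec (vec n) = vec (cwact l n)
  | [], n => by
      rw [cprod, map_one, Matrix.one_mulVec, cwact]
  | k :: l, n => by
      rw [cprod, map_mul, ← Matrix.mulVec_mulVec, rho_cprod S l n, S.ρ_cyc,
        mulVec_vec (X_gen k), cwact]

/-- the permutation and action of `g` are those of the letter `l` -/
structure LG (S : SpinAt G z) (x : Fin 8 → G) (g : G) (l : ℕ) : Prop where
  acts : Acts z x g (tabL l)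
  perm : ∀ j : Fin 9, ((S.φ g).1 j).1 = tabP l j.1

/-- check of the product of the `cyc k` against the tables -/
def chkC (w : List (Fin 7)) (l : ℕ) : Bool :=
  (List.range 8).all (fun i => Nat.beq (Nat.land (cwact w (2 ^ i)) 255)
    (Nat.land (img (tabL l) i) 255)) &&
  (List.range 9).all (fun j => Nat.beq (cwperm w j) (tabP l j))

theorem vec_land (m : ℕ) : vec (Nat.land m 255) = vec m := by
  funext i
  unfold vec
  have : (Nat.land m 255).testBit i.1 = (m.testBit i.1 && Nat.testBit 255 i.1) :=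
    Nat.testBit_and m 255 i.1
  rw [this]
  have h : ∀ i : Fin 8, Nat.testBit 255 i.1 = true := by decide
  rw [h i, Bool.and_true]

theorem exists_LG (hx : QB S x) {w : List (Fin 7)} {l : ℕ} (h : chkC w l = true) :
    ∃ g, LG S x g l := by
  rw [chkC, Bool.and_eq_true, List.all_eq_true, List.all_eq_true] at h
  obtain ⟨g, -, hg, hA⟩ := exists_lift hx (cprod w) (tabL l) fun i => by
    rw [rho_cprod, ← vec_land (cwact _ _), Nat.eq_of_beq_eq_true (h.1 i.1 (List.mem_range.mpr i.2)),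
      vec_land]
  refine ⟨g, hA, fun j => ?_⟩
  rw [hg, cprod_perm, Nat.eq_of_beq_eq_true (h.2 j.1 (List.mem_range.mpr j.2))]

theorem LG.mul_z (hx : QB S x) {g : G} {l : ℕ} (h : LG S x g l) : LG S x (z * g) l := by
  refine ⟨⟨mul_comm_z rfl h.acts.z_comm, fun i => ?_⟩, fun j => ?_⟩
  · rw [← h.acts.gen i]
    have h1 : (g * x i * g⁻¹) * z = z * (g * x i * g⁻¹) :=
      mul_comm_z (mul_comm_z h.acts.z_comm (S.Q_le _ (hx.mem i))) (inv_comm_z h.acts.z_comm)
    calc z * g * x i * (z * g)⁻¹ = z * (g * x i * g⁻¹) * z⁻¹ := by group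
      _ = g * x i * g⁻¹ := by rw [← h1, mul_inv_cancel_right]
  · rw [S.φ_mul _ _ rfl h.acts.z_comm, phi_mem S S.z_mem, one_mul]
    exact h.perm j

/-- check that the tables of `l` and `l'` are inverse to each other -/
def chkI (l l' : ℕ) : Bool :=
  (List.range 8).all (fun i => Nat.beq (app (tabL l) (img (tabL l') i)) (2 ^ i)) &&
  (List.range 9).all (fun j => Nat.blt (tabP l' j) 9 && Nat.beq (tabP l (tabP l' j)) j)

theorem LG.inv (hx : QB S x) {g : G} {l l' : ℕ} (hg : LG S x g l) (h : chkI l l' = true) :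
    LG S x g⁻¹ l' := by
  rw [chkI, Bool.and_eq_true, List.all_eq_true, List.all_eq_true] at h
  refine ⟨hg.acts.inv hx.basis fun i =>
    Nat.eq_of_beq_eq_true (h.1 i.1 (List.mem_range.mpr i.2)), fun j => ?_⟩
  have h1 := h.2 j.1 (List.mem_range.mpr j.2)
  rw [Bool.and_eq_true] at h1
  have hlt : tabP l' j.1 < 9 := Nat.le_of_ble_eq_true h1.1
  have h2 := hg.perm ⟨tabP l' j.1, hlt⟩
  rw [Nat.eq_of_beq_eq_true h1.2] at h2
  have h3 : (S.φ g).1 ⟨tabP l' j.1, hlt⟩ = j := Fin.ext h2
  rw [phi_inv S hg.acts.z_comm]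
  change (((S.φ g).1)⁻¹ j).1 = _
  rw [Equiv.Perm.inv_eq_iff_eq.mpr h3.symm]

/-- the letters -/
def gl (a c d e s t u : G) : ℕ → G
  | 0 => a
  | 1 => c
  | 2 => d
  | 3 => e
  | 4 => s
  | 5 => s⁻¹
  | 6 => t
  | 7 => t⁻¹
  | 8 => u
  | 9 => u⁻¹
  | _ => 1

/-- `d, e, s, t, u` have the tabulated images and actions -/
structure Gens (S : SpinAt G z) (x : Fin 8 → G) (d e s t u : G) : Prop where
  qb : QB S x
  d : LG S x d 2
  e : LG S x e 3
  s : LG S x s 4
  t : LG S x t 6
  u : LG S x u 8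

theorem exists_gens (S : SpinAt G z) : ∃ x d e s t u, Gens S x d e s t u := by
  obtain ⟨x, hx⟩ := exists_basis S
  obtain ⟨d, hd⟩ := exists_LG hx (w := [2, 1, 4, 5, 2, 6, 3, 5]) (l := 2) (by decide +kernel)
  obtain ⟨e, he⟩ := exists_LG hx (w := [0, 1, 5, 3, 0, 1, 4, 2]) (l := 3) (by decide +kernel)
  obtain ⟨s, hs⟩ := exists_LG hx (w := [3, 2, 1, 0, 2, 4]) (l := 4) (by decide +kernel)
  obtain ⟨t, ht⟩ := exists_LG hx (w := [2, 3, 1, 4]) (l := 6) (by decide +kernel)
  obtain ⟨u, hu⟩ := exists_LG hx (w := [2, 4]) (l := 8) (by decide +kernel)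
  exact ⟨x, d, e, s, t, u, hx, hd, he, hs, ht, hu⟩

theorem LG_z (hx : QB S x) : LG S x z 0 := by
  refine ⟨⟨rfl, fun i => ?_⟩, fun j => ?_⟩
  · have h1 : ∀ i : Fin 8, img (tabL 0) i.1 = 2 ^ i.1 := by decide
    rw [h1, ι_gen, ← hx.basis.z_comm, mul_inv_cancel_right]
  · rw [phi_mem S S.z_mem]
    revert j
    decide +kernel

theorem LG_c (hx : QB S x) : LG S x (x 0) 1 := by
  refine ⟨⟨hx.basis.z_comm 0, fun i => ?_⟩, fun j => ?_⟩
  · have h1 : ∀ i : Fin 8, img (tabL 1) i.1 = nmul (nmul 1 (2 ^ i.1)) (ninv 1) := by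
      decide +kernel
    rw [h1, ι_nmul hx.basis, ι_nmul hx.basis, ι_ninv hx.basis, ι_gen,
      show ι z x 1 = x 0 from ι_gen (z := z) (x := x) 0]
  · rw [phi_mem S (hx.mem 0)]
    revert j
    decide +kernel

theorem Gens.good {d e s t u : G} (h : Gens S x d e s t u) (l : ℕ) (hl : l < 10) :
    Good S x (gl z (x 0) d e s t u) tabL tabP l := by
  have key : LG S x (gl z (x 0) d e s t u l) l := by
    match l, hl with
    | 0, _ => exact LG_z h.qb
    | 1, _ => exact LG_c h.qb
    | 2, _ => exact h.d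
    | 3, _ => exact h.e
    | 4, _ => exact h.s
    | 5, _ => exact h.s.inv h.qb (by decide +kernel)
    | 6, _ => exact h.t
    | 7, _ => exact h.t.inv h.qb (by decide +kernel)
    | 8, _ => exact h.u
    | 9, _ => exact h.u.inv h.qb (by decide +kernel)
    | n + 10, hn => omega
  exact ⟨key.acts, key.perm⟩

end Cfsg.Agent.ThType.CSideTab
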