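import Cfsg.Agent.ThType.CSideBasis
import Cfsg.Agent.ThType.SqRules

/-!
Project R05, C-side: words in elements of `C_G(z)` with tabulated action on `Q` and on nine letters.

`tabL l` = the images of `x 0, …, x 7` under conjugation by the `l`-th element, `tabP l` = its
permutation of `{0, …, 8}`.  All checks are computations with natural numbers.
-/

set_option autoImplicit false

namespace Cfsg.Agent.ThType.CSideWords

open Cfsg.Agent.ThType.SpinData Cfsg.Agent.ThType.CSideModel Cfsg.Agent.ThType.CSideBasis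
  Cfsg.Agent.ThType.SqRules

/-- action of a word on codes -/
def wact (tabL : ℕ → List ℕ) : List ℕ → ℕ → ℕ
  | [], n => n
  | l :: w, n => app (tabL l) (wact tabL w n)

/-- action of a word on letters -/
def wperm (tabP : ℕ → ℕ → ℕ) : List ℕ → ℕ → ℕ
  | [], j => j
  | l :: w, j => tabP l (wperm tabP w j)

variable {G : Type*} [Group G] {z : G}

/-- value of a word -/
def wval (g : ℕ → G) : List ℕ → G
  | [] => 1
  | l :: w => g l * wval g w

/-- the tables describe the `l`-th element -/
structure Good (S : SpinAt G z) (x : Fin 8 → G) (g : ℕ → G) (tabL : ℕ → List ℕ)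
    (tabP : ℕ → ℕ → ℕ) (l : ℕ) : Prop where
  acts : Acts z x (g l) (tabL l)
  perm : ∀ j : Fin 9, ((S.φ (g l)).1 j).1 = tabP l j.1

variable {S : SpinAt G z} {x : Fin 8 → G} {g : ℕ → G} {tabL : ℕ → List ℕ} {tabP : ℕ → ℕ → ℕ}

theorem wval_comm : ∀ {w : List ℕ}, (∀ l ∈ w, Good S x g tabL tabP l) →
    wval g w * z = z * wval g w
  | [], _ => one_mem_comm
  | l :: _, h => mul_comm_z (h l List.mem_cons_self).acts.z_comm
      (wval_comm fun l' hl' => h l' (List.mem_cons_of_mem _ hl'))

theorem wval_conj (hx : QB S x) : ∀ {w : List ℕ}, (∀ l ∈ w, Good S x g tabL tabP l) → ∀ n,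
    wval g w * ι z x n * (wval g w)⁻¹ = ι z x (wact tabL w n)
  | [], _, n => by simp [wval, wact]
  | l :: w, h, n => by
      have h1 := wval_conj hx (w := w) (fun l' hl' => h l' (List.mem_cons_of_mem _ hl')) n
      have h2 := (h l List.mem_cons_self).acts.conj hx.basis (wact tabL w n)
      rw [wact, ← h2, ← h1, wval]
      group

theorem wval_perm : ∀ {w : List ℕ}, (∀ l ∈ w, Good S x g tabL tabP l) → ∀ j : Fin 9,
    ((S.φ (wval g w)).1 j).1 = wperm tabP w j.1
  | [], _, j => by
      rw [wval, phi_one]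
      rfl
  | l :: w, h, j => by
      have hw : ∀ l' ∈ w, Good S x g tabL tabP l' := fun l' hl' => h l' (List.mem_cons_of_mem _ hl')
      have h1 := wval_perm (w := w) hw j
      have h2 := (h l List.mem_cons_self).perm ((S.φ (wval g w)).1 j)
      rw [h1] at h2
      rw [wval, S.φ_mul _ _ (h l List.mem_cons_self).acts.z_comm (wval_comm hw), wperm, ← h2]
      rfl

theorem wval_append (v w : List ℕ) : wval g (v ++ w) = wval g v * wval g w := by
  induction v with
  | nil => simp [wval]
  | cons l v ih => simp only [List.cons_append, wval, ih, mul_assoc]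

/-- check that a word acts trivially on letters and codes -/
def trivW (tabL : ℕ → List ℕ) (tabP : ℕ → ℕ → ℕ) (w : List ℕ) : Bool :=
  (List.range 8).all (fun i => Nat.beq (wact tabL w (2 ^ i)) (2 ^ i)) &&
    (List.range 9).all (fun j => Nat.beq (wperm tabP w j) j)

theorem phi_eq_one_of_perm {w : List ℕ} (hg : ∀ l ∈ w, Good S x g tabL tabP l)
    (h : ∀ j < 9, wperm tabP w j = j) : S.φ (wval g w) = 1 := by
  apply Subtype.ext
  apply Equiv.ext
  intro j
  apply Fin.ext
  rw [wval_perm hg, h _ j.2]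
  rfl

theorem triv (hx : QB S x) {w : List ℕ} (hg : ∀ l ∈ w, Good S x g tabL tabP l)
    (h : trivW tabL tabP w = true) : wval g w = 1 ∨ wval g w = z := by
  rw [trivW, Bool.and_eq_true, List.all_eq_true, List.all_eq_true] at h
  refine eq_one_or_z hx (wval_comm hg) (phi_eq_one_of_perm hg fun j hj =>
    Nat.eq_of_beq_eq_true (h.2 j (List.mem_range.mpr hj))) fun i => ?_
  rw [← ι_gen (z := z) (x := x) i, wval_conj hx hg,
    Nat.eq_of_beq_eq_true (h.1 i.1 (List.mem_range.mpr i.2))]

/-- multiplying letters by powers of `z` -/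
theorem wval_twist {g' : ℕ → G} {ε : ℕ → Bool} (hz : z * z = 1) : ∀ {w : List ℕ},
    (∀ l ∈ w, g l * z = z * g l) → (∀ l ∈ w, g' l = pw z (ε l) * g l) →
    wval g' w = pw z (w.foldr (fun l b => ε l ^^ b) false) * wval g w
  | [], _, _ => by simp [wval]
  | l :: w, h, h' => by
      have h1 := wval_twist hz (w := w) (fun l' hl' => h l' (List.mem_cons_of_mem _ hl'))
        (fun l' hl' => h' l' (List.mem_cons_of_mem _ hl'))
      have h2 : ∀ b, g l * pw z b = pw z b * g l := pw_comm_left (h l List.mem_cons_self)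
      rw [wval, wval, h1, h' l List.mem_cons_self, List.foldr_cons, pw_xor hz]
      simp only [mul_assoc]
      rw [← mul_assoc (g l), h2]
      simp only [mul_assoc]

/-- inverse code -/
def ninv (q : ℕ) : ℕ := Nat.xor q (Nat.shiftLeft (par4 (Nat.land (Nat.shiftRight q 4) q)) 8)

theorem nmul_ninv (q i : ℕ) (hi : i < 9) : (nmul q (ninv q)).testBit i = false := by
  have h8 : ∀ j < 8, (ninv q).testBit j = q.testBit j := by
    intro j hj
    change (q ^^^ ((par4 _) <<< 8)).testBit j = _
    rw [Nat.testBit_xor, Nat.testBit_shiftLeft]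
    have : decide (j ≥ 8) = false := by simpa using hj
    simp [this]
  rcases Nat.lt_succ_iff_lt_or_eq.mp hi with h | h
  · rw [nmul_testBit_lt _ _ _ h, h8 _ h, Bool.xor_self]
  · subst h
    rw [nmul_testBit_eight, h8 0 (by norm_num), h8 1 (by norm_num), h8 2 (by norm_num),
      h8 3 (by norm_num)]
    have : (ninv q).testBit 8 = (q.testBit 8 ^^ (((q.testBit 4 && q.testBit 0) ^^
        (q.testBit 5 && q.testBit 1)) ^^ ((q.testBit 6 && q.testBit 2) ^^
        (q.testBit 7 && q.testBit 3)))) := by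
      change (q ^^^ ((par4 ((q >>> 4) &&& q)) <<< 8)).testBit 8 = _
      rw [Nat.testBit_xor, Nat.testBit_shiftLeft, par4_testBit]
      simp
    rw [this, ← Bool.xor_assoc (q.testBit 8), Bool.xor_self, Bool.false_xor, Bool.xor_self]

theorem ι_congr {m n : ℕ} (h : ∀ i < 9, m.testBit i = n.testBit i) : ι z x m = ι z x n := by
  unfold ι
  rw [h 0 (by norm_num), h 1 (by norm_num), h 2 (by norm_num), h 3 (by norm_num),
    h 4 (by norm_num), h 5 (by norm_num), h 6 (by norm_num), h 7 (by norm_num), h 8 (by norm_num)]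

theorem ι_ninv (hx : Basis z x) (q : ℕ) : ι z x (ninv q) = (ι z x q)⁻¹ := by
  symm
  rw [inv_eq_iff_mul_eq_one, ← ι_nmul hx, ← ι_zero (z := z) (x := x)]
  exact ι_congr fun i hi => by rw [nmul_ninv q i hi, Nat.zero_testBit]

/-- action of `w q w q` on codes -/
def sqact (tabL : ℕ → List ℕ) (w : List ℕ) (q n : ℕ) : ℕ :=
  wact tabL w (nmul (nmul q (wact tabL w (nmul (nmul q n) (ninv q)))) (ninv q))

/-- number of moved letters -/
def moved (tabP : ℕ → ℕ → ℕ) (w : List ℕ) : ℕ :=
  ((List.range 9).filter fun j => !Nat.beq (wperm tabP w j) j).length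

/-- check for the determination of a square: the word `w` has a square acting trivially on letters,
`w q w q` acts trivially on `Q`, moves `k` letters, and `w(q) r q = e` -/
def sqW (tabL : ℕ → List ℕ) (tabP : ℕ → ℕ → ℕ) (w : List ℕ) (q r k e : ℕ) : Bool :=
  ((List.range 8).all (fun i => Nat.beq (sqact tabL w q (2 ^ i)) (2 ^ i)) &&
    (List.range 9).all (fun j => Nat.beq (wperm tabP w (wperm tabP w j)) j)) &&
    (Nat.beq (moved tabP w) k && Nat.beq (nmul (nmul (wact tabL w q) r) q) e)

theorem support_card {w : List ℕ} (hg : ∀ l ∈ w, Good S x g tabL tabP l) :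
    (S.φ (wval g w)).1.support.card = moved tabP w := by
  have h : ∀ f : ℕ → ℕ, (Finset.univ.filter fun j : Fin 9 => f j.1 ≠ j.1).card =
      ((List.range 9).filter fun j => !Nat.beq (f j) j).length := by
    intro f
    have h1 : ((List.range 9).filter fun j => !Nat.beq (f j) j).length =
        ((Finset.range 9).filter fun j => f j ≠ j).card := by
      rw [← List.toFinset_card_of_nodup (List.Nodup.filter _ List.nodup_range)]
      congr 1
      ext j
      rw [List.mem_toFinset, List.mem_filter, List.mem_range, Finset.mem_filter, Finset.mem_range,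
        Bool.not_eq_true', Bool.eq_false_iff, ne_eq, ne_eq, Nat.beq_eq]
    rw [h1]
    exact Finset.card_bij (fun j _ => j.1) (fun j hj => by
      simp only [Finset.mem_filter, Finset.mem_univ, true_and, Finset.mem_range] at hj ⊢
      exact ⟨j.2, hj⟩) (fun a _ b _ hab => Fin.ext hab) (fun b hb => by
      simp only [Finset.mem_filter, Finset.mem_range] at hb
      exact ⟨⟨b, hb.1⟩, by simpa using hb.2, rfl⟩)
  rw [moved, ← h (wperm tabP w)]
  congr 1
  ext j
  rw [Equiv.Perm.mem_support, Finset.mem_filter, ← wval_perm hg j]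
  simp only [ne_eq, Finset.mem_univ, true_and, Fin.ext_iff]

/-- squares over involutions of `A₉` are determined by the sign rules -/
theorem sq_eq (hx : QB S x) (hS : SqRules S) {w : List ℕ}
    (hg : ∀ l ∈ w, Good S x g tabL tabP l) {q r k e : ℕ}
    (hke : (k = 4 ∧ e = 256) ∨ (k = 8 ∧ e = 0)) (h : sqW tabL tabP w q r k e = true) :
    wval g w * wval g w = ι z x r := by
  rw [sqW, Bool.and_eq_true, Bool.and_eq_true, Bool.and_eq_true, List.all_eq_true,
    List.all_eq_true] at h
  obtain ⟨⟨h1, h2⟩, h3, h4⟩ := h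
  replace h3 := Nat.eq_of_beq_eq_true h3
  replace h4 := Nat.eq_of_beq_eq_true h4
  set W := wval g w with hW
  have hWz : W * z = z * W := wval_comm hg
  have hq := ι_mem hx q
  have hqz := ι_comm hx q
  have hyz : (W * ι z x q) * z = z * (W * ι z x q) := mul_comm_z hWz hqz
  have hφ : S.φ (W * ι z x q) = S.φ W := by
    rw [S.φ_mul _ _ hWz hqz, phi_mem S hq, mul_one]
  have hφ2 : S.φ W * S.φ W = 1 := by
    apply Subtype.ext
    apply Equiv.ext
    intro j
    apply Fin.ext
    change ((S.φ W).1 ((S.φ W).1 j)).1 = j.1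
    rw [hW, wval_perm hg, wval_perm hg, Nat.eq_of_beq_eq_true (h2 j.1 (List.mem_range.mpr j.2))]
  have hcard : (S.φ W).1.support.card = k := by rw [hW, support_card hg, h3]
  have key : (W * ι z x q) * (W * ι z x q) = 1 ∨ (W * ι z x q) * (W * ι z x q) = z := by
    refine eq_one_or_z hx (mul_comm_z hyz hyz) ?_ fun i => ?_
    · rw [S.φ_mul _ _ hyz hyz, hφ, hφ2]
    · have e1 := Nat.eq_of_beq_eq_true (h1 i.1 (List.mem_range.mpr i.2))
      rw [sqact] at e1
      have c1 : ∀ n, ι z x q * ι z x n * (ι z x q)⁻¹ = ι z x (nmul (nmul q n) (ninv q)) := by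
        intro n
        rw [ι_nmul hx.basis, ι_nmul hx.basis, ι_ninv hx.basis]
      have c2 : ∀ n, W * ι z x n * W⁻¹ = ι z x (wact tabL w n) := wval_conj hx hg
      have c3 := congrArg (ι z x) e1
      rw [← c2, ← c1, ← c2, ← c1, ι_gen] at c3
      refine Eq.trans ?_ c3
      group
  have fin : (W * ι z x q) * (W * ι z x q) = ι z x e := by
    rcases hke with ⟨hk, he⟩ | ⟨hk, he⟩
    · rw [he, ι_z]
      exact hS.sq2 _ hyz (by rw [hφ, hφ2]) (by rw [hφ, hcard, hk]) key
    · rw [he, ι_zero]
      exact hS.sq4 _ hyz (by rw [hφ, hφ2]) (by rw [hφ, hcard, hk]) key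
  have c2 : W * ι z x q * W⁻¹ = ι z x (wact tabL w q) := wval_conj hx hg q
  rw [← h4, ι_nmul hx.basis, ι_nmul hx.basis, ← c2] at fin
  have e2 : (W * ι z x q) * (W * ι z x q) = (W * ι z x q * W⁻¹) * (W * W) * ι z x q := by group
  rw [e2] at fin
  exact mul_left_cancel (mul_right_cancel fin)

end Cfsg.Agent.ThType.CSideWords
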