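import Mathlib
import Cfsg.Agent.S0848
import Cfsg.Agent.S0495
import Cfsg.Agent.Lib.Dihedral

/-!
# R05 (Thompson type): groups with one class of involutions and involution centralizer `D₈`
-/

set_option autoImplicit false

namespace Cfsg.Agent.ThType.CentSevenAbs

open Subgroup
open scoped commutatorElement

variable {Y : Type*} [Group Y]

/-- hypotheses: `c`, `c'` involutions with `(c c')² = a` an involution, the centralizer of `a` has
order eight, and `c`, `c'` are conjugate to `a` -/
structure Hyp (Y : Type*) [Group Y] (a c c' : Y) : Prop where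
  c2 : c * c = 1
  c2' : c' * c' = 1
  ha : a = (c * c') * (c * c')
  a2 : a * a = 1
  a1 : a ≠ 1
  card : Nat.card (centralizer ({a} : Set Y)) = 8
  conj_c : ∃ g : Y, g * a * g⁻¹ = c
  conj_c' : ∃ g : Y, g * a * g⁻¹ = c'

namespace Hyp

variable {a c c' : Y}

theorem inv_c (h : Hyp Y a c c') : c⁻¹ = c := inv_eq_of_mul_eq_one_left h.c2
theorem inv_c' (h : Hyp Y a c c') : c'⁻¹ = c' := inv_eq_of_mul_eq_one_left h.c2'
theorem inv_a (h : Hyp Y a c c') : a⁻¹ = a := inv_eq_of_mul_eq_one_left h.a2

theorem c_ne (h : Hyp Y a c c') : c ≠ 1 := by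
  rintro rfl
  apply h.a1
  rw [h.ha, one_mul, h.c2']

theorem c'_ne (h : Hyp Y a c c') : c' ≠ 1 := by
  rintro rfl
  apply h.a1
  rw [h.ha, mul_one, h.c2]

/-- `c` commutes with `a` -/
theorem comm_c (h : Hyp Y a c c') : c * a = a * c := by
  have h1 : c * a * c = a⁻¹ := by
    rw [h.ha]
    simp only [mul_inv_rev, h.inv_c, h.inv_c', ← mul_assoc, h.c2, one_mul]
  rw [h.inv_a] at h1
  calc c * a = c * a * (c * c) := by rw [h.c2, mul_one]
    _ = (c * a * c) * c := by simp only [mul_assoc]
    _ = a * c := by rw [h1]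

theorem comm_c' (h : Hyp Y a c c') : c' * a = a * c' := by
  have h1 : c' * a * c' = a⁻¹ := by
    rw [h.ha]
    simp only [mul_inv_rev, h.inv_c, h.inv_c', mul_assoc, h.c2', mul_one]
  rw [h.inv_a] at h1
  calc c' * a = c' * a * (c' * c') := by rw [h.c2', mul_one]
    _ = (c' * a * c') * c' := by simp only [mul_assoc]
    _ = a * c' := by rw [h1]

/-- `c'` conjugates `c` to `a c` -/
theorem c_conj (h : Hyp Y a c c') : c' * c * c' = a * c := by
  rw [h.comm_c.symm, h.ha]
  simp only [← mul_assoc, h.c2, one_mul]

theorem a_eq_comm (h : Hyp Y a c c') : a = ⁅c, c'⁆ := by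
  rw [commutatorElement_def, h.inv_c, h.inv_c', h.ha]
  simp only [mul_assoc]

theorem mem_cent {x : Y} : x ∈ centralizer ({a} : Set Y) ↔ x * a = a * x := by
  rw [mem_centralizer_singleton_iff]

theorem c_ne_c' (h : Hyp Y a c c') : c ≠ c' := by
  rintro rfl
  apply h.a1
  rw [h.ha, h.c2, mul_one]

/-- the elements of the subgroup generated by `c`, `c'` -/
theorem mem_closure_cases (h : Hyp Y a c c') :
    ∀ y ∈ closure ({c, c'} : Set Y), (y = 1 ∨ y = a ∨ y = c ∨ y = a * c ∨ y = c' ∨
      y = a * c' ∨ y = c * c' ∨ y = a * (c * c')) := by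
  have e1 : c * c' * c = a * c' := by
    rw [h.ha]
    calc c * c' * c = c * c' * c * (c' * c') := by rw [h.c2', mul_one]
      _ = c * c' * (c * c') * c' := by group
  have e2 : c' * c = a * (c * c') := by
    have : a * (c * c') * (c * c') = 1 := by rw [mul_assoc, ← h.ha, h.a2]
    calc c' * c = (c * c')⁻¹ := by rw [mul_inv_rev, h.inv_c, h.inv_c']
      _ = a * (c * c') := (eq_inv_of_mul_eq_one_left this).symm
  have e3 : a * c * c = a := by rw [mul_assoc, h.c2, mul_one]
  have e4 : a * c' * c' = a := by rw [mul_assoc, h.c2', mul_one]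
  have ea : ∀ y : Y, a * (a * y) = y := fun y => by rw [← mul_assoc, h.a2, one_mul]
  intro y hy
  induction hy using closure_induction_right with
  | one => left; rfl
  | mul_right x hx y hy ih =>
    rcases hy with rfl | rfl
    · rcases ih with h0 | h0 | h0 | h0 | h0 | h0 | h0 | h0 <;> rw [h0]
      · right; right; left; rw [one_mul]
      · right; right; right; left; rfl
      · left; exact h.c2
      · right; left; exact e3
      · right; right; right; right; right; right; right; exact e2
      · right; right; right; right; right; right; left; rw [mul_assoc, e2, ea]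
      · right; right; right; right; right; left; exact e1
      · right; right; right; right; left; rw [mul_assoc, e1, ea]
    · rcases ih with h0 | h0 | h0 | h0 | h0 | h0 | h0 | h0 <;> rw [h0]
      · right; right; right; right; left; rw [one_mul]
      · right; right; right; right; right; left; rfl
      · right; right; right; right; right; right; left; rfl
      · right; right; right; right; right; right; right; rw [mul_assoc]
      · left; exact h.c2'
      · right; left; exact e4
      · right; right; left; rw [mul_assoc, h.c2', mul_one]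
      · right; right; right; left; rw [mul_assoc, mul_assoc c, h.c2', mul_one]
  | mul_inv_cancel x hx y hy ih =>
    rcases hy with rfl | rfl
    · rw [h.inv_c]
      rcases ih with h0 | h0 | h0 | h0 | h0 | h0 | h0 | h0 <;> rw [h0]
      · right; right; left; rw [one_mul]
      · right; right; right; left; rfl
      · left; exact h.c2
      · right; left; exact e3
      · right; right; right; right; right; right; right; exact e2
      · right; right; right; right; right; right; left; rw [mul_assoc, e2, ea]
      · right; right; right; right; right; left; exact e1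
      · right; right; right; right; left; rw [mul_assoc, e1, ea]
    · rw [h.inv_c']
      rcases ih with h0 | h0 | h0 | h0 | h0 | h0 | h0 | h0 <;> rw [h0]
      · right; right; right; right; left; rw [one_mul]
      · right; right; right; right; right; left; rfl
      · right; right; right; right; right; right; left; rfl
      · right; right; right; right; right; right; right; rw [mul_assoc]
      · left; exact h.c2'
      · right; left; exact e4
      · right; right; left; rw [mul_assoc, h.c2', mul_one]
      · right; right; right; left; rw [mul_assoc, mul_assoc c, h.c2', mul_one]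

/-- the centralizer of `a` consists of the eight elements `1, a, c, ac, c', ac', cc', acc'` -/
theorem closure_eq (h : Hyp Y a c c') [Finite Y] :
    closure ({c, c'} : Set Y) = centralizer ({a} : Set Y) := by
  have hle : closure ({c, c'} : Set Y) ≤ centralizer ({a} : Set Y) := by
    rw [closure_le]
    rintro x (rfl | rfl)
    · exact mem_cent.2 h.comm_c
    · exact mem_cent.2 h.comm_c'
  have hc : c ∈ closure ({c, c'} : Set Y) := subset_closure (by simp)
  have hc' : c' ∈ closure ({c, c'} : Set Y) := subset_closure (by simp)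
  -- order: divides 8, and contains the cyclic group of order four generated by `c c'`, and `c`
  have hd : Nat.card (closure ({c, c'} : Set Y)) ∣ 8 := by
    rw [← h.card]
    exact card_dvd_of_le hle
  set r : Y := c * c' with hr
  have hr4 : orderOf r = 4 := by
    apply orderOf_eq_prime_pow (p := 2) (n := 1)
    · rw [pow_one, pow_two, ← h.ha]; exact h.a1
    · show r ^ (2 ^ 2) = 1
      rw [show (2 : ℕ) ^ 2 = 2 + 2 from rfl, pow_add, pow_two, ← h.ha, h.a2]
  have hrm : r ∈ closure ({c, c'} : Set Y) := mul_mem hc hc'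
  have hz : zpowers r ≤ closure ({c, c'} : Set Y) := by
    rw [zpowers_le]; exact hrm
  have h4 : 4 ∣ Nat.card (closure ({c, c'} : Set Y)) := by
    have := card_dvd_of_le hz
    rwa [Nat.card_zpowers, hr4] at this
  have hcz : c ∉ zpowers r := by
    intro hcz
    have h1 : Commute c r := by
      obtain ⟨k, hk⟩ := mem_zpowers_iff.1 hcz
      rw [← hk]; exact (Commute.refl r).zpow_left k
    have h2 : c * r = r * c := h1
    have h3 : r * r = 1 := by
      have h4 : c * r * c = r := by rw [h2, mul_assoc, h.c2, mul_one]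
      have h5 : c * r * c = c' * c := by rw [hr, ← mul_assoc, h.c2, one_mul]
      have h6 : r = c' * c := by rw [← h4, h5]
      calc r * r = c * c' * (c' * c) := by rw [← h6]
        _ = 1 := by rw [mul_assoc, ← mul_assoc c', h.c2', one_mul, h.c2]
    exact h.a1 (by rw [h.ha]; exact h3)
  have h8 : Nat.card (closure ({c, c'} : Set Y)) ≠ 4 := by
    intro h4'
    have : zpowers r = closure ({c, c'} : Set Y) := by
      apply eq_of_le_of_card_ge hz
      rw [h4', Nat.card_zpowers, hr4]
    exact hcz (this ▸ hc)
  have h9 : Nat.card (closure ({c, c'} : Set Y)) = 8 := by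
    have hle8 := Nat.le_of_dvd (by norm_num) hd
    generalize Nat.card (closure ({c, c'} : Set Y)) = m at *
    interval_cases m <;> omega
  apply eq_of_le_of_card_ge hle
  rw [h9, h.card]

/-- elements normalizing the centralizer of `a` lie in it -/
theorem normalizer_le (h : Hyp Y a c c') [Finite Y] :
    normalizer ((centralizer ({a} : Set Y) : Subgroup Y) : Set Y) ≤ centralizer ({a} : Set Y) := by
  intro x hx
  rw [mem_normalizer_iff] at hx
  -- `x a x⁻¹` commutes with `c`, `c'`
  have hb : x * a * x⁻¹ ∈ centralizer ({a} : Set Y) := (hx a).1 (mem_cent.2 rfl)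
  have hall : ∀ y ∈ centralizer ({a} : Set Y), y * (x * a * x⁻¹) = (x * a * x⁻¹) * y := by
    intro y hy
    have h1 : x⁻¹ * y * x ∈ centralizer ({a} : Set Y) := by
      rw [hx]
      simpa [mul_assoc] using hy
    have h2 := mem_cent.1 h1
    calc y * (x * a * x⁻¹) = x * (x⁻¹ * y * x * a) * x⁻¹ := by group
      _ = x * (a * (x⁻¹ * y * x)) * x⁻¹ := by rw [h2]
      _ = (x * a * x⁻¹) * y := by group
  set b := x * a * x⁻¹ with hbdef
  have hb2 : b * b = 1 := by
    rw [hbdef]
    calc x * a * x⁻¹ * (x * a * x⁻¹) = x * (a * a) * x⁻¹ := by group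
      _ = 1 := by rw [h.a2]; group
  have hb1 : b ≠ 1 := by
    intro hb1
    apply h.a1
    rw [hbdef] at hb1
    calc a = x⁻¹ * (x * a * x⁻¹) * x := by group
      _ = 1 := by rw [hb1]; group
  -- `b` is in `⟨c, c'⟩`, central: it is a power of `r = c c'` or a reflection
  rw [← h.closure_eq] at hb
  have hcb := hall c (mem_cent.2 h.comm_c)
  have hcb' := hall c' (mem_cent.2 h.comm_c')
  have key := h.mem_closure_cases
  have hnc : c * c' ≠ c' * c := by
    intro e
    apply h.a1
    rw [h.ha]
    calc c * c' * (c * c') = c * c' * (c' * c) := by rw [e]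
      _ = 1 := by rw [mul_assoc, ← mul_assoc c', h.c2', one_mul, h.c2]
  have hca : c * a = a * c := h.comm_c
  have hca' : c' * a = a * c' := h.comm_c'
  have hba : b = a := by
    rcases key b hb with h0 | h0 | h0 | h0 | h0 | h0 | h0 | h0
    · exact absurd h0 hb1
    · exact h0
    · rw [h0] at hcb'
      exact absurd hcb'.symm hnc
    · rw [h0] at hcb'
      have : c' * c = c * c' := by
        have h3 : a * (c' * c) = a * (c * c') := by
          calc a * (c' * c) = c' * (a * c) := by rw [← mul_assoc, ← hca', mul_assoc]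
            _ = a * (c * c') := by rw [hcb', mul_assoc]
        exact mul_left_cancel h3
      exact absurd this.symm hnc
    · rw [h0] at hcb
      exact absurd hcb hnc
    · rw [h0] at hcb
      have : c * c' = c' * c := by
        have h3 : a * (c * c') = a * (c' * c) := by
          calc a * (c * c') = c * (a * c') := by rw [← mul_assoc, ← hca, mul_assoc]
            _ = a * (c' * c) := by rw [hcb, mul_assoc]
        exact mul_left_cancel h3
      exact absurd this hnc
    · rw [h0] at hb2
      rw [← h.ha] at hb2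
      exact absurd hb2 h.a1
    · rw [h0] at hb2
      have : a * (c * c') * (a * (c * c')) = a := by
        calc a * (c * c') * (a * (c * c')) = a * c * (c' * a) * (c * c') := by group
          _ = a * (c * a) * c' * (c * c') := by rw [hca']; group
          _ = (a * a) * ((c * c') * (c * c')) := by rw [hca]; group
          _ = a := by rw [h.a2, one_mul, ← h.ha]
      rw [this] at hb2
      exact absurd hb2 h.a1
  rw [mem_cent]
  calc x * a = (x * a * x⁻¹) * x := by group
    _ = a * x := by rw [← hbdef, hba]

/-- `16` does not divide the group order -/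
theorem not_sixteen (h : Hyp Y a c c') [Finite Y] : ¬ 16 ∣ Nat.card Y := by
  intro h16
  have : Fact (Nat.Prime 2) := ⟨Nat.prime_two⟩
  have h1 := Sylow.prime_dvd_card_quotient_normalizer (p := 2) (n := 3)
    (by simpa using h16) (H := centralizer ({a} : Set Y)) (by rw [h.card]; rfl)
  have h2 : Nat.card (↥(normalizer ((centralizer ({a} : Set Y) : Subgroup Y) : Set Y)) ⧸
      comap (normalizer ((centralizer ({a} : Set Y) : Subgroup Y) : Set Y)).subtype
        (centralizer ({a} : Set Y))) = 1 := by
    have : comap (normalizer ((centralizer ({a} : Set Y) : Subgroup Y) : Set Y)).subtype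
        (centralizer ({a} : Set Y)) = ⊤ := by
      rw [eq_top_iff]
      intro x _
      exact h.normalizer_le x.2
    rw [this]
    exact Subgroup.index_top
  rw [h2] at h1
  norm_num at h1

theorem isPGroup (h : Hyp Y a c c') : IsPGroup 2 (centralizer ({a} : Set Y)) :=
  IsPGroup.of_card (n := 3) (by rw [h.card]; rfl)

theorem not_dvd_index (h : Hyp Y a c c') [Finite Y] : ¬ 2 ∣ (centralizer ({a} : Set Y)).index := by
  intro h2
  apply h.not_sixteen
  rw [← (centralizer ({a} : Set Y)).card_mul_index, h.card]
  exact mul_dvd_mul (by norm_num : 8 ∣ 8) h2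

/-- all involutions are conjugate to `a` -/
theorem conj (h : Hyp Y a c c') [Finite Y] (x : Y) (hx : x * x = 1) (hx1 : x ≠ 1) :
    ∃ g : Y, g * a * g⁻¹ = x := by
  have : Fact (Nat.Prime 2) := ⟨Nat.prime_two⟩
  let P : Sylow 2 Y := h.isPGroup.toSylow h.not_dvd_index
  have hP : ((P : Sylow 2 Y) : Subgroup Y) = centralizer ({a} : Set Y) := rfl
  have h2 : IsPGroup 2 (zpowers x) := by
    apply IsPGroup.of_card (n := 1)
    rw [Nat.card_zpowers, pow_one]
    exact orderOf_eq_prime (by rw [pow_two, hx]) hx1
  obtain ⟨Q, hQ⟩ := h2.exists_le_sylow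
  obtain ⟨g, hg⟩ := MulAction.exists_smul_eq Y Q P
  have hxg : g * x * g⁻¹ ∈ centralizer ({a} : Set Y) := by
    rw [← hP, ← hg]
    exact Subgroup.smul_mem_pointwise_smul x (MulAut.conj g) _ (hQ (mem_zpowers x))
  have hxg2 : g * x * g⁻¹ * (g * x * g⁻¹) = 1 := by
    calc g * x * g⁻¹ * (g * x * g⁻¹) = g * (x * x) * g⁻¹ := by group
      _ = 1 := by rw [hx]; group
  have hxg1 : g * x * g⁻¹ ≠ 1 := by
    intro e
    apply hx1
    calc x = g⁻¹ * (g * x * g⁻¹) * g := by group
      _ = 1 := by rw [e]; group
  -- it suffices to treat `g x g⁻¹`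
  suffices hs : ∃ k : Y, k * a * k⁻¹ = g * x * g⁻¹ by
    obtain ⟨k, hk⟩ := hs
    refine ⟨g⁻¹ * k, ?_⟩
    calc g⁻¹ * k * a * (g⁻¹ * k)⁻¹ = g⁻¹ * (k * a * k⁻¹) * g := by group
      _ = x := by rw [hk]; group
  obtain ⟨gc, hgc⟩ := h.conj_c
  obtain ⟨gc', hgc'⟩ := h.conj_c'
  generalize g * x * g⁻¹ = y at *
  rw [← h.closure_eq] at hxg
  rcases h.mem_closure_cases y hxg with h0 | h0 | h0 | h0 | h0 | h0 | h0 | h0
  · exact absurd h0 hxg1
  · exact ⟨1, by rw [h0]; group⟩
  · exact ⟨gc, by rw [hgc, h0]⟩
  · refine ⟨c' * gc, ?_⟩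
    calc c' * gc * a * (c' * gc)⁻¹ = c' * (gc * a * gc⁻¹) * c'⁻¹ := by group
      _ = c' * c * c' := by rw [hgc, h.inv_c']
      _ = y := by rw [h.c_conj, h0]
  · exact ⟨gc', by rw [hgc', h0]⟩
  · refine ⟨c * gc', ?_⟩
    calc c * gc' * a * (c * gc')⁻¹ = c * (gc' * a * gc'⁻¹) * c⁻¹ := by group
      _ = c * c' * c := by rw [hgc', h.inv_c]
      _ = y := by
        rw [h0, h.ha]
        calc c * c' * c = c * c' * c * (c' * c') := by rw [h.c2', mul_one]
          _ = c * c' * (c * c') * c' := by group
  · rw [h0, ← h.ha] at hxg2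
    exact absurd hxg2 h.a1
  · rw [h0] at hxg2
    have : a * (c * c') * (a * (c * c')) = a := by
      calc a * (c * c') * (a * (c * c')) = a * c * (c' * a) * (c * c') := by group
        _ = a * (c * a) * c' * (c * c') := by rw [h.comm_c']; group
        _ = (a * a) * ((c * c') * (c * c')) := by rw [h.comm_c]; group
        _ = a := by rw [h.a2, one_mul, ← h.ha]
    rw [this] at hxg2
    exact absurd hxg2 h.a1

/-- involutions have centralizers of order eight -/
theorem card_cent (h : Hyp Y a c c') [Finite Y] (x : Y) (hx : x * x = 1) (hx1 : x ≠ 1) :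
    Nat.card (centralizer ({x} : Set Y)) = 8 := by
  obtain ⟨g, rfl⟩ := h.conj x hx hx1
  rw [← h.card]
  refine Nat.card_congr ⟨fun y => ⟨g⁻¹ * y * g, ?_⟩, fun y => ⟨g * y * g⁻¹, ?_⟩, ?_, ?_⟩
  · have := mem_centralizer_singleton_iff.1 y.2
    rw [mem_centralizer_singleton_iff]
    calc g⁻¹ * y * g * a = g⁻¹ * (y * (g * a * g⁻¹)) * g := by group
      _ = g⁻¹ * ((g * a * g⁻¹) * y) * g := by rw [this]
      _ = a * (g⁻¹ * y * g) := by group
  · have := mem_centralizer_singleton_iff.1 y.2
    rw [mem_centralizer_singleton_iff]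
    calc g * y * g⁻¹ * (g * a * g⁻¹) = g * (y * a) * g⁻¹ := by group
      _ = g * (a * y) * g⁻¹ := by rw [this]
      _ = g * a * g⁻¹ * (g * y * g⁻¹) := by group
  · intro y; ext; simp [mul_assoc]
  · intro y; ext; simp [mul_assoc]

/-- an involution inverts every normal subgroup of odd order -/
theorem inverts (h : Hyp Y a c c') [Finite Y] (N : Subgroup Y) [N.Normal]
    (hN : Odd (Nat.card N)) (x : Y) (hx : x * x = 1) (hx1 : x ≠ 1) (n : Y) (hn : n ∈ N) :
    x * n * x = n⁻¹ := by
  have hxi : x⁻¹ = x := inv_eq_of_mul_eq_one_left hx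
  let φ : N →* N :=
    { toFun := fun m => ⟨x * m * x, by
        have := (inferInstance : N.Normal).conj_mem m m.2 x
        rwa [hxi] at this⟩
      map_one' := by ext; simp [hx]
      map_mul' := by
        intro m m'
        ext
        simp only [Subgroup.coe_mul]
        calc x * (m * m') * x = x * m * (x * x) * m' * x := by rw [hx]; group
          _ = x * m * x * (x * m' * x) := by group }
  have hfp : MonoidHom.FixedPointFree φ := by
    intro m hm
    have h1 : x * m * x = (m : Y) := congrArg Subtype.val hm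
    have h2 : (m : Y) ∈ centralizer ({x} : Set Y) := by
      rw [mem_centralizer_singleton_iff]
      calc (m : Y) * x = x * m * x * x := by rw [h1]
        _ = x * m := by rw [mul_assoc, hx, mul_one]
    have h3 : orderOf (m : Y) ∣ 8 := by
      rw [← h.card_cent x hx hx1]
      have := orderOf_dvd_natCard (⟨m, h2⟩ : centralizer ({x} : Set Y))
      rwa [Subgroup.orderOf_mk] at this
    have h4 : orderOf (m : Y) ∣ Nat.card N := by
      have := orderOf_dvd_natCard m
      rwa [← Subgroup.orderOf_coe] at this
    have h5 : Nat.Coprime 8 (Nat.card N) := by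
      rw [show 8 = 2 ^ 3 from rfl]
      exact Nat.Coprime.pow_left 3 (Nat.coprime_two_left.2 hN)
    have h6 : orderOf (m : Y) = 1 := Nat.eq_one_of_dvd_coprimes h5 h3 h4
    ext
    exact orderOf_eq_one_iff.1 h6
  have hinv : Function.Involutive φ := by
    intro m
    ext
    show x * (x * m * x) * x = m
    calc x * (x * (m : Y) * x) * x = (x * x) * m * (x * x) := by group
      _ = m := by rw [hx]; group
  have := hfp.coe_eq_inv_of_involutive hinv
  have h7 := congrFun this ⟨n, hn⟩
  exact congrArg Subtype.val h7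

theorem ac_sq (h : Hyp Y a c c') : (a * c) * (a * c) = 1 := by
  calc (a * c) * (a * c) = a * (c * a) * c := by group
    _ = (a * a) * (c * c) := by rw [h.comm_c]; group
    _ = 1 := by rw [h.a2, h.c2, one_mul]

theorem ac_ne (h : Hyp Y a c c') : a * c ≠ 1 := by
  intro hac
  have : c' * c * c' = 1 := by rw [h.c_conj, hac]
  apply h.c_ne
  calc c = c' * (c' * c * c') * c' := by
        simp only [← mul_assoc, h.c2', one_mul]; rw [mul_assoc, h.c2', mul_one]
    _ = 1 := by rw [this, mul_one, h.c2']

/-- there is no non-trivial normal subgroup of odd order -/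
theorem odd_eq_bot (h : Hyp Y a c c') [Finite Y] (N : Subgroup Y) [N.Normal]
    (hN : Odd (Nat.card N)) : N = ⊥ := by
  rw [eq_bot_iff]
  intro n hn
  have h1 := h.inverts N hN a h.a2 h.a1 n hn
  have h2 := h.inverts N hN c h.c2 h.c_ne n⁻¹ (inv_mem hn)
  have h3 := h.inverts N hN (a * c) h.ac_sq h.ac_ne n hn
  have h4 : a * c * n * (a * c) = n := by
    calc a * c * n * (a * c) = a * c * n * (c * a) := by rw [h.comm_c]
      _ = a * (c * n * c) * a := by simp only [mul_assoc]
      _ = a * n⁻¹ * a := by
          have h2' := h.inverts N hN c h.c2 h.c_ne n hn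
          rw [h2']
      _ = n := by
          have h1' := h.inverts N hN a h.a2 h.a1 n⁻¹ (inv_mem hn)
          rw [h1', inv_inv]
  rw [h4] at h3
  have h5 : n * n = 1 := by
    nth_rw 2 [h3]
    exact mul_inv_cancel n
  -- n has order dividing 2 and odd order
  have h6 : orderOf n ∣ 2 := orderOf_dvd_of_pow_eq_one (by rw [pow_two, h5])
  have h7 : orderOf n ∣ Nat.card N := by
    have := orderOf_dvd_natCard (⟨n, hn⟩ : N)
    rwa [Subgroup.orderOf_mk] at this
  have h8 : orderOf n = 1 := Nat.eq_one_of_dvd_coprimes (Nat.coprime_two_left.2 hN) h6 h7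
  rw [mem_bot]
  exact orderOf_eq_one_iff.1 h8

/-- `Y` is a simple group. -/
theorem isSimple (h : Hyp Y a c c') [Finite Y] : IsSimpleGroup Y := by
  have : Fact (Nat.Prime 2) := ⟨Nat.prime_two⟩
  refine { exists_pair_ne := ⟨a, 1, h.a1⟩, eq_bot_or_eq_top_of_normal := ?_ }
  intro N hN
  by_cases hodd : Odd (Nat.card N)
  · left; exact h.odd_eq_bot N hodd
  right
  rw [Nat.not_odd_iff_even] at hodd
  obtain ⟨x, hx⟩ := exists_prime_orderOf_dvd_card' (G := N) 2 (even_iff_two_dvd.1 hodd)
  have hx2 : (x : Y) * x = 1 := by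
    have := pow_orderOf_eq_one x
    rw [hx, pow_two] at this
    exact congrArg Subtype.val this
  have hx1 : (x : Y) ≠ 1 := by
    intro e
    have : x = 1 := Subtype.ext e
    rw [this, orderOf_one] at hx
    norm_num at hx
  have hall : ∀ y : Y, y * y = 1 → y ∈ N := by
    intro y hy
    by_cases hy1 : y = 1
    · rw [hy1]; exact one_mem N
    obtain ⟨g, hg⟩ := h.conj x hx2 hx1
    obtain ⟨g', hg'⟩ := h.conj y hy hy1
    have ha : a ∈ N := by
      have := hN.conj_mem x x.2 g⁻¹
      rw [← hg] at this
      simpa [mul_assoc] using this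
    rw [← hg']
    exact hN.conj_mem a ha g'
  have hT : centralizer ({a} : Set Y) ≤ N := by
    rw [← h.closure_eq, closure_le]
    rintro y (rfl | rfl)
    · exact hall _ h.c2
    · exact hall _ h.c2'
  let P : Sylow 2 Y := h.isPGroup.toSylow h.not_dvd_index
  have hP : ((P : Sylow 2 Y) : Subgroup Y) = centralizer ({a} : Set Y) := rfl
  have h1 := Sylow.normalizer_sup_eq_top' P (N := N) (by rw [hP]; exact hT)
  rw [eq_top_iff, ← h1, sup_le_iff]
  refine ⟨?_, le_rfl⟩
  exact (h.normalizer_le).trans hT

theorem not_comm (h : Hyp Y a c c') : ¬ IsMulCommutative Y := by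
  intro hc
  apply h.a1
  rw [h.a_eq_comm, commutatorElement_eq_one_iff_mul_comm]
  exact hc.is_comm.comm c c'

theorem commutator_eq_top (h : Hyp Y a c c') [Finite Y] : commutator Y = ⊤ := by
  have := h.isSimple
  rcases IsSimpleGroup.eq_bot_or_eq_top_of_normal (commutator Y) inferInstance with h1 | h1
  · exfalso
    apply h.not_comm
    refine ⟨⟨fun x y => ?_⟩⟩
    have h2 : ⁅x, y⁆ ∈ commutator Y := commutator_mem_commutator (mem_top x) (mem_top y)
    rw [h1, mem_bot, commutatorElement_eq_one_iff_mul_comm] at h2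
    exact h2
  · exact h1

theorem nonempty_dihedral (h : Hyp Y a c c') [Finite Y] :
    Nonempty (centralizer ({a} : Set Y) ≃* DihedralGroup 4) := by
  set T := centralizer ({a} : Set Y) with hT
  let r : T := ⟨c * c', by
    rw [hT, ← h.closure_eq]
    exact mul_mem (subset_closure (by simp)) (subset_closure (by simp))⟩
  let s : T := ⟨c, by
    rw [hT, ← h.closure_eq]
    exact subset_closure (by simp)⟩
  have hss : s * s = 1 := Subtype.ext h.c2
  have hrr : r * r = ⟨a, Hyp.mem_cent.2 rfl⟩ := Subtype.ext h.ha.symm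
  have hr : orderOf r = 4 := by
    apply orderOf_eq_prime_pow (p := 2) (n := 1)
    · rw [pow_one, pow_two, hrr]
      intro e
      exact h.a1 (congrArg Subtype.val e)
    · show r ^ (2 ^ 2) = 1
      rw [show (2 : ℕ) ^ 2 = 2 + 2 from rfl, pow_add, pow_two, hrr]
      exact Subtype.ext h.a2
  have hsr : s * r * s = r⁻¹ := by
    ext
    show c * (c * c') * c = (c * c')⁻¹
    rw [mul_inv_rev, h.inv_c, h.inv_c', ← mul_assoc, h.c2, one_mul]
  have hnot : s ∉ zpowers r := by
    intro hz
    have h1 : Commute s r := by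
      obtain ⟨k, hk⟩ := mem_zpowers_iff.1 hz
      rw [← hk]; exact (Commute.refl r).zpow_left k
    have h2 : r = r⁻¹ := by
      rw [← hsr, h1.eq, mul_assoc, hss, mul_one]
    have h3 : r * r = 1 := by nth_rw 2 [h2]; exact mul_inv_cancel r
    rw [hrr] at h3
    exact h.a1 (congrArg Subtype.val h3)
  exact Cfsg.Agent.Lib.Dihedral.nonempty_mulEquiv (by norm_num) r s hr hss hsr hnot
    (by rw [h.card])

/-- the order of `Y` -/
theorem card_eq (h : Hyp Y a c c') [Finite Y] : Nat.card Y = 168 ∨ Nat.card Y = 360 := by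
  obtain ⟨e⟩ := h.nonempty_dihedral
  refine Cfsg.Agent.S0848.result h.commutator_eq_top a ?_ e
  apply orderOf_eq_prime
  · rw [pow_two, h.a2]
  · exact h.a1

end Hyp

end Cfsg.Agent.ThType.CentSevenAbs
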