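import Mathlib
import Cfsg.Agent.ThType.CentSevenAbs

/-!
# R05 (Thompson type): coordinates of `L₃(2)` in `GL₃(2)`
-/

set_option autoImplicit false
set_option maxRecDepth 100000

namespace Cfsg.Agent.ThType.CentSevenGL

open Matrix Cfsg.Agent.ThType.CentSevenAbs

abbrev M3 : Type := Matrix (Fin 3) (Fin 3) (ZMod 2)
abbrev G3 : Type := GL (Fin 3) (ZMod 2)

def m12 : M3 := !![1,1,0;0,1,0;0,0,1]
def m23 : M3 := !![1,0,0;0,1,1;0,0,1]
def m13 : M3 := !![1,0,1;0,1,0;0,0,1]
def m31 : M3 := !![1,0,0;0,1,0;1,0,1]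
/-- transposition of coordinates 2, 3 -/
def mW : M3 := !![1,0,0;0,0,1;0,1,0]
/-- transposition of coordinates 1, 2 -/
def mV : M3 := !![0,1,0;1,0,0;0,0,1]
def mJ : M3 := !![0,0,1;0,1,0;1,0,0]

def x12 : G3 := ⟨m12, m12, by decide +kernel, by decide +kernel⟩
def x23 : G3 := ⟨m23, m23, by decide +kernel, by decide +kernel⟩
def x13 : G3 := ⟨m13, m13, by decide +kernel, by decide +kernel⟩
def x31 : G3 := ⟨m31, m31, by decide +kernel, by decide +kernel⟩
def W : G3 := ⟨mW, mW, by decide +kernel, by decide +kernel⟩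
def V : G3 := ⟨mV, mV, by decide +kernel, by decide +kernel⟩
def J : G3 := ⟨mJ, mJ, by decide +kernel, by decide +kernel⟩

theorem sq_of_mul {g : G3} (h : (g : M3) * g = 1) : g⁻¹ = g := by
  apply inv_eq_of_mul_eq_one_left
  ext1
  simpa using h

@[simp] theorem x12_inv : x12⁻¹ = x12 := sq_of_mul (by decide +kernel)
@[simp] theorem x23_inv : x23⁻¹ = x23 := sq_of_mul (by decide +kernel)
@[simp] theorem x13_inv : x13⁻¹ = x13 := sq_of_mul (by decide +kernel)
@[simp] theorem W_inv : W⁻¹ = W := sq_of_mul (by decide +kernel)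
@[simp] theorem V_inv : V⁻¹ = V := sq_of_mul (by decide +kernel)
@[simp] theorem J_inv : J⁻¹ = J := sq_of_mul (by decide +kernel)

/-- the determinant by the explicit formula -/
def d3 (A : M3) : ZMod 2 :=
  A 0 0 * A 1 1 * A 2 2 - A 0 0 * A 1 2 * A 2 1 - A 0 1 * A 1 0 * A 2 2 + A 0 1 * A 1 2 * A 2 0 +
    A 0 2 * A 1 0 * A 2 1 - A 0 2 * A 1 1 * A 2 0

theorem d3_eq (A : M3) : d3 A = A.det := (Matrix.det_fin_three A).symm

theorem d3_ne (g : G3) : d3 (g : M3) ≠ 0 := by
  rw [d3_eq]
  have : IsUnit ((g : M3).det) := (Matrix.isUnit_iff_isUnit_det _).1 g.isUnit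
  exact this.ne_zero

theorem cent13 : ∀ A : M3, d3 A ≠ 0 → A * m13 = m13 * A → A * A * (A * A) = 1 := by
  decide +kernel

theorem card13 : Fintype.card {A : M3 // A * A * (A * A) = 1 ∧ A * m13 = m13 * A} = 8 := by
  decide +kernel

theorem card_cent : Nat.card (Subgroup.centralizer ({x13} : Set G3)) = 8 := by
  rw [← card13, ← Nat.card_eq_fintype_card]
  refine Nat.card_congr ⟨fun g => ⟨(g : G3), ?_⟩, fun A => ⟨⟨A.1, A.1 * A.1 * A.1, ?_, ?_⟩, ?_⟩, ?_, ?_⟩
  · have h1 := Subgroup.mem_centralizer_singleton_iff.1 g.2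
    have h2 : ((g : G3) : M3) * m13 = m13 * (g : G3) := congrArg Units.val h1
    exact ⟨cent13 _ (d3_ne _) h2, h2⟩
  · have h1 : A.1 * (A.1 * A.1 * A.1) = A.1 * A.1 * (A.1 * A.1) := by simp only [mul_assoc]
    exact h1.trans A.2.1
  · have h1 : A.1 * A.1 * A.1 * A.1 = A.1 * A.1 * (A.1 * A.1) := by simp only [mul_assoc]
    exact h1.trans A.2.1
  · rw [Subgroup.mem_centralizer_singleton_iff]
    ext1
    exact A.2.2
  · intro g
    ext1; ext1
    rfl
  · intro A
    rfl

theorem hypG3 : Hyp G3 x13 x12 x23 where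
  c2 := by ext1; decide +kernel
  c2' := by ext1; decide +kernel
  ha := by ext1; decide +kernel
  a2 := by ext1; decide +kernel
  a1 := by
    intro e
    have : m13 = 1 := congrArg Units.val e
    revert this
    decide +kernel
  card := card_cent
  conj_c := ⟨W, by rw [W_inv]; ext1; decide +kernel⟩
  conj_c' := ⟨V, by rw [V_inv]; ext1; decide +kernel⟩

theorem card_G3 : Nat.card G3 = 168 := by
  rw [Matrix.card_GL_field]
  simp [Fin.prod_univ_three]

/-- a simple group of order `168` is isomorphic to `GL₃(2)` -/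
theorem nonempty_equiv {Y : Type*} [Group Y] [Finite Y] [IsSimpleGroup Y]
    (h : Nat.card Y = 168) : Nonempty (Y ≃* G3) := by
  have : IsSimpleGroup G3 := hypG3.isSimple
  have : Fact (Nat.Prime 7) := ⟨by norm_num⟩
  obtain ⟨e1⟩ := Cfsg.Agent.S0495.result (G := Y) h (F := ZMod 7) (ZMod.card 7)
  obtain ⟨e2⟩ := Cfsg.Agent.S0495.result (G := G3) card_G3 (F := ZMod 7) (ZMod.card 7)
  exact ⟨e1.trans e2.symm⟩

/-- inverse transpose -/
def it : G3 ≃* G3 where
  toFun g := ⟨(g⁻¹ : G3).valᵀ, (g : M3)ᵀ, by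
    rw [← Matrix.transpose_mul, ← Units.val_mul, mul_inv_cancel, Units.val_one, transpose_one], by
    rw [← Matrix.transpose_mul, ← Units.val_mul, inv_mul_cancel, Units.val_one, transpose_one]⟩
  invFun g := ⟨(g⁻¹ : G3).valᵀ, (g : M3)ᵀ, by
    rw [← Matrix.transpose_mul, ← Units.val_mul, mul_inv_cancel, Units.val_one, transpose_one], by
    rw [← Matrix.transpose_mul, ← Units.val_mul, inv_mul_cancel, Units.val_one, transpose_one]⟩
  left_inv g := by ext1; simp [Units.inv_mk]
  right_inv g := by ext1; simp [Units.inv_mk]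
  map_mul' g h := by
    ext1
    simp only [_root_.mul_inv_rev, Units.val_mul, transpose_mul]

theorem it_val (g : G3) : (it g : M3) = (g⁻¹ : G3).valᵀ := rfl

/-- the polarity `g ↦ J (g⁻¹)ᵀ J` -/
def th : G3 ≃* G3 := it.trans (MulAut.conj J)

theorem th_apply (g : G3) : th g = J * it g * J := by
  show J * it g * J⁻¹ = _
  rw [J_inv]

theorem th_val (g : G3) : (th g : M3) = mJ * (g⁻¹ : G3).valᵀ * mJ := by
  rw [th_apply]; rfl

/-- the involutions `v` with `x12 v` of order four form two orbits under the centralizer of `x12` -/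
theorem orbit_cases : ∀ v : M3, v * v = 1 → (m12 * v) * (m12 * v) ≠ 1 →
    ((m12 * v) * (m12 * v)) * ((m12 * v) * (m12 * v)) = 1 →
      ∃ g : M3, g * g = 1 ∧ g * m12 = m12 * g ∧ (g * v = m23 * g ∨ g * v = m31 * g) := by
  decide +kernel

variable {Y : Type*} [Group Y] {a c c' : Y}

theorem exists_equiv [Finite Y] (h : Hyp Y a c c') (hY : Nat.card Y = 168) :
    ∃ f : Y ≃* G3, f c = x12 ∧ f c' = x23 := by
  have := h.isSimple
  obtain ⟨e⟩ := nonempty_equiv (Y := Y) hY
  obtain ⟨g1, hg1⟩ := hypG3.conj (e c) (by rw [← map_mul, h.c2, map_one]) (by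
    rw [Ne, map_eq_one_iff e e.injective]; exact h.c_ne)
  obtain ⟨g2, hg2⟩ := hypG3.conj_c
  -- first normalisation
  obtain ⟨f, hf⟩ : ∃ f : Y ≃* G3, f c = x12 := by
    refine ⟨e.trans (MulAut.conj (g2 * g1⁻¹)), ?_⟩
    show g2 * g1⁻¹ * e c * (g2 * g1⁻¹)⁻¹ = x12
    rw [← hg2, ← hg1]
    group
  have h1 : (f c' : M3) * (f c' : M3) = 1 := by
    rw [← Units.val_mul, ← map_mul, h.c2', map_one, Units.val_one]
  have hfa : ∀ y : G3, (m12 * (y : M3)) * (m12 * y) = ((x12 * y) * (x12 * y) : G3).val := fun y => rfl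
  have h2 : (m12 * (f c' : M3)) * (m12 * (f c' : M3)) ≠ 1 := by
    rw [hfa, ← hf, ← map_mul, ← map_mul, ← h.ha]
    intro e1
    have e2 : f a = 1 := by ext1; exact e1
    exact h.a1 ((map_eq_one_iff f f.injective).1 e2)
  have h3 : ((m12 * (f c' : M3)) * (m12 * (f c' : M3))) * ((m12 * (f c' : M3)) * (m12 * (f c' : M3))) = 1 := by
    rw [hfa, ← hf, ← map_mul, ← map_mul, ← h.ha, ← Units.val_mul, ← map_mul, h.a2, map_one,
      Units.val_one]
  obtain ⟨g, hg1, hg2, hg3⟩ := orbit_cases _ h1 h2 h3
  let gu : G3 := ⟨g, g, hg1, hg1⟩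
  have hgi : gu⁻¹ = gu := sq_of_mul hg1
  have hgc : gu * x12 * gu = x12 := by
    ext1
    show g * m12 * g = m12
    rw [hg2, mul_assoc, hg1, mul_one]
  rcases hg3 with hg3 | hg3
  · refine ⟨f.trans (MulAut.conj gu), ?_, ?_⟩
    · show gu * f c * gu⁻¹ = x12
      rw [hf, hgi, hgc]
    · show gu * f c' * gu⁻¹ = x23
      rw [hgi]
      ext1
      show g * (f c' : M3) * g = m23
      rw [hg3, mul_assoc, hg1, mul_one]
  · refine ⟨(f.trans (MulAut.conj gu)).trans (it.trans (MulAut.conj V)), ?_, ?_⟩
    · show V * it (gu * f c * gu⁻¹) * V⁻¹ = x12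
      rw [hf, hgi, hgc, V_inv]
      ext1
      show mV * (x12⁻¹ : G3).valᵀ * mV = m12
      rw [x12_inv]
      decide +kernel
    · show V * it (gu * f c' * gu⁻¹) * V⁻¹ = x23
      have : gu * f c' * gu⁻¹ = x31 := by
        rw [hgi]
        ext1
        show g * (f c' : M3) * g = m31
        rw [hg3, mul_assoc, hg1, mul_one]
      rw [this, V_inv]
      ext1
      have hx31 : x31⁻¹ = x31 := sq_of_mul (by decide +kernel)
      show mV * (x31⁻¹ : G3).valᵀ * mV = m23
      rw [hx31]
      decide +kernel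

/-- images of the transposition `W` under an automorphism exchanging `x12`, `x23` -/
theorem imW : ∀ X : M3, X * X = 1 → X * m23 = m13 * X → X = mV ∨ X = mV * m13 * m23 := by
  decide +kernel

theorem imV : ∀ X : M3, X * X = 1 → X * m12 = m13 * X → X = mW ∨ X = mW * m13 * m12 := by
  decide +kernel

theorem closure_eq_top : Subgroup.closure ({x12, x23, W, V} : Set G3) = ⊤ := by
  set S := Subgroup.closure ({x12, x23, W, V} : Set G3) with hS
  have m1 : x12 ∈ S := Subgroup.subset_closure (by simp)
  have m2 : x23 ∈ S := Subgroup.subset_closure (by simp)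
  have m3 : W ∈ S := Subgroup.subset_closure (by simp)
  have m4 : V ∈ S := Subgroup.subset_closure (by simp)
  have h8 : 8 ∣ Nat.card S := by
    have h1 : Subgroup.centralizer ({x13} : Set G3) ≤ S := by
      rw [← hypG3.closure_eq, Subgroup.closure_le]
      rintro y (rfl | rfl)
      · exact m1
      · exact m2
    have := Subgroup.card_dvd_of_le h1
    rwa [card_cent] at this
  have h3 : 3 ∣ Nat.card S := by
    have h1 : orderOf (W * V) = 3 := by
      apply orderOf_eq_prime
      · rw [pow_succ, pow_two]; ext1; decide +kernel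
      · intro e
        have : mW * mV = 1 := congrArg Units.val e
        revert this; decide +kernel
    have h2 : W * V ∈ S := mul_mem m3 m4
    have := orderOf_dvd_natCard (⟨_, h2⟩ : S)
    rwa [Subgroup.orderOf_mk, h1] at this
  have h7 : 7 ∣ Nat.card S := by
    have : Fact (Nat.Prime 7) := ⟨by norm_num⟩
    have h1 : orderOf (x12 * W * V) = 7 := by
      apply orderOf_eq_prime
      · simp only [pow_succ, pow_zero, one_mul]; ext1; decide +kernel
      · intro e
        have : m12 * mW * mV = 1 := congrArg Units.val e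
        revert this; decide +kernel
    have h2 : x12 * W * V ∈ S := mul_mem (mul_mem m1 m3) m4
    have := orderOf_dvd_natCard (⟨_, h2⟩ : S)
    rwa [Subgroup.orderOf_mk, h1] at this
  have hd : Nat.card S ∣ 168 := by
    rw [← card_G3]; exact Subgroup.card_subgroup_dvd_card S
  have h168 : 168 ∣ Nat.card S := by
    have h24 : 8 * 3 ∣ Nat.card S := Nat.Coprime.mul_dvd_of_dvd_of_dvd (by norm_num) h8 h3
    exact Nat.Coprime.mul_dvd_of_dvd_of_dvd (by norm_num) h24 h7
  apply Subgroup.eq_top_of_card_eq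
  rw [card_G3]
  exact Nat.dvd_antisymm hd h168

theorem hom_ext {M : Type*} [Group M] {D D' : G3 →* M} (h1 : D x12 = D' x12) (h2 : D x23 = D' x23)
    (h3 : D W = D' W) (h4 : D V = D' V) : D = D' := by
  apply MonoidHom.eq_of_eqOn_dense closure_eq_top
  rintro x (rfl | rfl | rfl | rfl)
  · exact h1
  · exact h2
  · exact h3
  · exact h4

/-- an endomorphism of `GL₃(2)` exchanging `x12` and `x23` is the polarity `th`, or `th` times the
conjugation by `x13` -/
theorem hom_cases (D : G3 →* G3) (h1 : D x12 = x23) (h2 : D x23 = x12) :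
    (∀ g, D g = th g) ∨ (∀ g, D g = th (x13 * g * x13)) := by
  have e13 : x13 = (x12 * x23) * (x12 * x23) := hypG3.ha
  have h3 : D x13 = x13 := by
    have e13' : x13 = (x23 * x12) * (x23 * x12) := by ext1; decide +kernel
    rw [e13, map_mul, map_mul, h1, h2, ← e13', e13]
  have hWW : W * W = 1 := by ext1; decide +kernel
  have hVV : V * V = 1 := by ext1; decide +kernel
  have hW1 : (D W : M3) * (D W : M3) = 1 := by
    rw [← Units.val_mul, ← map_mul, hWW, map_one, Units.val_one]
  have hV1 : (D V : M3) * (D V : M3) = 1 := by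
    rw [← Units.val_mul, ← map_mul, hVV, map_one, Units.val_one]
  have hW2 : (D W : M3) * m23 = m13 * (D W : M3) := by
    have e : W * x12 = x13 * W := by ext1; decide +kernel
    have := congrArg D e
    rw [map_mul, map_mul, h1, h3] at this
    exact congrArg Units.val this
  have hV2 : (D V : M3) * m12 = m13 * (D V : M3) := by
    have e : V * x23 = x13 * V := by ext1; decide +kernel
    have := congrArg D e
    rw [map_mul, map_mul, h2, h3] at this
    exact congrArg Units.val this
  have hrel : (D W : M3) * (D V : M3) * ((D W : M3) * (D V : M3)) * ((D W : M3) * (D V : M3)) = 1 := by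
    have e : (W * V) * (W * V) * (W * V) = 1 := by ext1; decide +kernel
    have := congrArg D e
    rw [map_mul, map_mul, map_mul, map_one] at this
    exact congrArg Units.val this
  have key1 : (th : G3 →* G3) x12 = x23 := by
    show th x12 = x23
    ext1; rw [th_val, x12_inv]; decide +kernel
  have key2 : (th : G3 →* G3) x23 = x12 := by
    show th x23 = x12
    ext1; rw [th_val, x23_inv]; decide +kernel
  have key3 : (th : G3 →* G3) W = V := by
    show th W = V
    ext1; rw [th_val, W_inv]; decide +kernel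
  have key4 : (th : G3 →* G3) V = W := by
    show th V = W
    ext1; rw [th_val, V_inv]; decide +kernel
  rcases imW _ hW1 hW2 with hW | hW <;> rcases imV _ hV1 hV2 with hV | hV
  · left
    have : D = (th : G3 →* G3) := by
      apply hom_ext
      · rw [h1, key1]
      · rw [h2, key2]
      · rw [key3]; ext1; exact hW
      · rw [key4]; ext1; exact hV
    intro g
    rw [this]; rfl
  · exfalso
    rw [hW, hV] at hrel
    revert hrel
    decide +kernel
  · exfalso
    rw [hW, hV] at hrel
    revert hrel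
    decide +kernel
  · right
    let c13 : G3 →* G3 := (MulAut.conj x13 : G3 ≃* G3)
    have hc13 : ∀ g, c13 g = x13 * g * x13 := by
      intro g
      show x13 * g * x13⁻¹ = _
      rw [x13_inv]
    have : D = (th : G3 →* G3).comp c13 := by
      apply hom_ext
      · rw [h1, MonoidHom.comp_apply, hc13]
        have : x13 * x12 * x13 = x12 := by ext1; decide +kernel
        rw [this, key1]
      · rw [h2, MonoidHom.comp_apply, hc13]
        have : x13 * x23 * x13 = x23 := by ext1; decide +kernel
        rw [this, key2]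
      · rw [MonoidHom.comp_apply, hc13]
        have e1 : x13 * W * x13 = W * x13 * x12 := by ext1; decide +kernel
        have e2 : (th : G3 →* G3) x13 = x13 := by
          rw [e13, map_mul, map_mul, key1, key2]; ext1; decide +kernel
        rw [e1, map_mul, map_mul, key3, e2, key1]
        ext1; exact hW
      · rw [MonoidHom.comp_apply, hc13]
        have e1 : x13 * V * x13 = V * x13 * x23 := by ext1; decide +kernel
        have e2 : (th : G3 →* G3) x13 = x13 := by
          rw [e13, map_mul, map_mul, key1, key2]; ext1; decide +kernel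
        rw [e1, map_mul, map_mul, key4, e2, key2]
        ext1; exact hV
    intro g
    rw [this, MonoidHom.comp_apply, hc13]; rfl

end Cfsg.Agent.ThType.CentSevenGL
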