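import Mathlib
import Cfsg.Agent.ThType.CentSevenGL
import Cfsg.Agent.Lib.Dihedral
import Cfsg.Agent.S0088

/-!
# R05 (Thompson type), part (5a): the centralizer of an element of order seven
-/

set_option autoImplicit false

namespace Cfsg.Agent.ThType.CentSeven

open Subgroup Cfsg.Agent.ThType.CentSevenAbs Cfsg.Agent.ThType.CentSevenGL
open scoped commutatorElement

/-- the input: `s` of order seven, `d` an involution inverting `s`, `c` an involution commuting with
`s`, `a = (c c^d)²` an involution, `C(s) ∩ C(a) = ⟨s⟩ ⟨c, c^d⟩`, and `c` is conjugate to `a` in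
`C(s)`. -/
structure Setup {G : Type*} [Group G] (s a c d : G) : Prop where
  s7 : orderOf s = 7
  cs : c * s = s * c
  c2 : c * c = 1
  d2 : d * d = 1
  ds : d * s * d = s⁻¹
  ha : a = (c * (d * c * d)) * (c * (d * c * d))
  a2 : a * a = 1
  a1 : a ≠ 1
  hC : ∀ x : G, x * s = s * x → x * a = a * x →
    ∃ i : ℤ, ∃ y ∈ closure ({c, d * c * d} : Set G), x = s ^ i * y
  fus : ∃ y : G, y * s = s * y ∧ y * a * y⁻¹ = c

/-- the dihedral group generated by two involutions with product of order four has order eight -/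
theorem card_closure {G : Type*} [Group G] {a c c' : G} (c2 : c * c = 1) (c2' : c' * c' = 1)
    (ha : a = (c * c') * (c * c')) (a2 : a * a = 1) (a1 : a ≠ 1) :
    Nat.card (closure ({c, c'} : Set G)) = 8 := by
  have ic : c⁻¹ = c := inv_eq_of_mul_eq_one_left c2
  have ic' : c'⁻¹ = c' := inv_eq_of_mul_eq_one_left c2'
  set r := c * c' with hr
  have hr4 : orderOf r = 4 := by
    apply orderOf_eq_prime_pow (p := 2) (n := 1)
    · rw [pow_one, pow_two, ← ha]; exact a1
    · show r ^ (2 ^ 2) = 1
      rw [show (2 : ℕ) ^ 2 = 2 + 2 from rfl, pow_add, pow_two, ← ha, a2]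
  have hsr : c * r * c = r⁻¹ := by
    rw [hr, mul_inv_rev, ic, ic', ← mul_assoc, c2, one_mul]
  have hnot : c ∉ zpowers r := by
    intro hz
    have h1 : Commute c r := by
      obtain ⟨k, hk⟩ := mem_zpowers_iff.1 hz
      rw [← hk]; exact (Commute.refl r).zpow_left k
    have h2 : r = r⁻¹ := by
      rw [← hsr, h1.eq, mul_assoc, c2, mul_one]
    have h3 : r * r = 1 := by nth_rw 2 [h2]; exact mul_inv_cancel r
    rw [← ha] at h3
    exact a1 h3
  have hr' : r ^ 4 = 1 := hr4 ▸ pow_orderOf_eq_one r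
  have h1 := Cfsg.Agent.Lib.Dihedral.lift_range (n := 4) r c hr' c2 hsr
  have h2 := Cfsg.Agent.Lib.Dihedral.lift_injective (n := 4) r c hr4 c2 hsr hnot
  have h3 : closure ({c, c'} : Set G) = closure ({r, c} : Set G) := by
    apply le_antisymm
    · rw [closure_le]
      have hc : c ∈ closure ({r, c} : Set G) := subset_closure (by simp)
      have hr'' : r ∈ closure ({r, c} : Set G) := subset_closure (by simp)
      rintro x (rfl | rfl)
      · exact hc
      · have : x = c * r := by rw [hr, ← mul_assoc, c2, one_mul]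
        rw [this]; exact mul_mem hc hr''
    · rw [closure_le]
      have hc : c ∈ closure ({c, c'} : Set G) := subset_closure (by simp)
      have hc' : c' ∈ closure ({c, c'} : Set G) := subset_closure (by simp)
      rintro x (rfl | rfl)
      · exact mul_mem hc hc'
      · exact hc
  rw [h3, ← h1]
  have h4 : Nat.card (DihedralGroup 4) = 8 := by rw [DihedralGroup.nat_card]
  rw [← h4]
  exact (Nat.card_congr (Equiv.ofInjective _ h2)).symm

namespace Setup

variable {G : Type*} [Group G] {s a c d : G}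

theorem inv_d (h : Setup s a c d) : d⁻¹ = d := inv_eq_of_mul_eq_one_left h.d2

theorem f2 (h : Setup s a c d) : (d * c * d) * (d * c * d) = 1 := by
  calc (d * c * d) * (d * c * d) = d * c * (d * d) * c * d := by group
    _ = d * (c * c) * d := by rw [h.d2]; group
    _ = 1 := by rw [h.c2, mul_one, h.d2]

theorem ds' (h : Setup s a c d) : d * s = s⁻¹ * d := by
  rw [← h.ds, mul_assoc, mul_assoc, h.d2, mul_one]

/-- conjugation by `d` preserves the centralizer of `s` -/
theorem conj_d (h : Setup s a c d) {x : G} (hx : x * s = s * x) :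
    (d * x * d) * s = s * (d * x * d) := by
  have h1 : d * s⁻¹ = s * d := by
    have := h.ds'
    calc d * s⁻¹ = s * (s⁻¹ * d) * s⁻¹ := by group
      _ = s * (d * s) * s⁻¹ := by rw [this]
      _ = s * d := by group
  have h2 : x * s⁻¹ = s⁻¹ * x := by
    calc x * s⁻¹ = s⁻¹ * (s * x) * s⁻¹ := by group
      _ = s⁻¹ * (x * s) * s⁻¹ := by rw [hx]
      _ = s⁻¹ * x := by group
  calc (d * x * d) * s = d * x * (d * s) := by group
    _ = d * (x * s⁻¹) * d := by rw [h.ds']; group
    _ = (d * s⁻¹) * x * d := by rw [h2]; group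
    _ = s * (d * x * d) := by rw [h1]; group

theorem fs (h : Setup s a c d) : (d * c * d) * s = s * (d * c * d) := h.conj_d h.cs

theorem as (h : Setup s a c d) : a * s = s * a := by
  have hc : Commute c s := h.cs
  have hf : Commute (d * c * d) s := h.fs
  have : Commute a s := by
    rw [h.ha]
    exact (hc.mul_left hf).mul_left (hc.mul_left hf)
  exact this

theorem dad (h : Setup s a c d) : d * a * d = a := by
  have ic : c⁻¹ = c := inv_eq_of_mul_eq_one_left h.c2
  have ia : a⁻¹ = a := inv_eq_of_mul_eq_one_left h.a2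
  have if' : (d * c * d)⁻¹ = d * c * d := inv_eq_of_mul_eq_one_left h.f2
  have h1 : d * a * d = a⁻¹ := by
    rw [h.ha]
    simp only [mul_inv_rev, if', ic]
    calc d * (c * (d * c * d) * (c * (d * c * d))) * d
        = (d * c * d) * c * (d * (c * (d * c * d)) * d) := by group
      _ = (d * c * d) * c * ((d * c * d) * c * (d * d)) := by group
      _ = d * c * d * c * (d * c * d * c) := by rw [h.d2, mul_one]
  rw [h1, ia]

/-- the centralizer of `s`, as a group -/
abbrev H (s : G) : Subgroup G := centralizer ({s} : Set G)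

theorem memH {x : G} : x ∈ H s ↔ x * s = s * x := mem_centralizer_singleton_iff

/-- `s` as an element of its centralizer -/
def sH (s : G) : H s := ⟨s, memH.2 rfl⟩

theorem sH_central (x : H s) : x * sH s = sH s * x := Subtype.ext (memH.1 x.2)

instance normalZ : (zpowers (sH s)).Normal := by
  refine ⟨fun n hn g => ?_⟩
  obtain ⟨k, rfl⟩ := mem_zpowers_iff.1 hn
  have h1 : Commute g (sH s) := sH_central g
  have h2 : g * sH s ^ k * g⁻¹ = sH s ^ k := by
    rw [(h1.zpow_right k).eq, mul_inv_cancel_right]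
  rw [h2]
  exact hn

/-- the quotient group -/
abbrev Y (s : G) : Type _ := H s ⧸ zpowers (sH s)

def pr (s : G) : H s →* Y s := QuotientGroup.mk' (zpowers (sH s))

theorem pr_surj (s : G) : Function.Surjective (pr s) := QuotientGroup.mk'_surjective _

theorem pr_eq_one {x : H s} : pr s x = 1 ↔ ∃ k : ℤ, (x : G) = s ^ k := by
  rw [pr, QuotientGroup.mk'_apply, QuotientGroup.eq_one_iff, mem_zpowers_iff]
  constructor
  · rintro ⟨k, hk⟩
    refine ⟨k, ?_⟩
    rw [← hk]; rfl
  · rintro ⟨k, hk⟩
    refine ⟨k, ?_⟩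
    ext
    rw [hk]; rfl

def cH (h : Setup s a c d) : H s := ⟨c, memH.2 h.cs⟩
def fH (h : Setup s a c d) : H s := ⟨d * c * d, memH.2 h.fs⟩
def aH (h : Setup s a c d) : H s := ⟨a, memH.2 h.as⟩

theorem aH_eq (h : Setup s a c d) : h.aH = (h.cH * h.fH) * (h.cH * h.fH) := Subtype.ext h.ha

theorem zpow_two (h : Setup s a c d) {k : ℤ} (hk : s ^ (2 * k) = 1) : s ^ k = 1 := by
  rw [← orderOf_dvd_iff_zpow_eq_one, h.s7] at hk ⊢
  push_cast at *
  exact (IsCoprime.dvd_of_dvd_mul_left (by norm_num) hk)

theorem pr_a_ne (h : Setup s a c d) : pr s h.aH ≠ 1 := by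
  intro e
  obtain ⟨k, hk⟩ := pr_eq_one.1 e
  have hk' : a = s ^ k := hk
  apply h.a1
  rw [hk']
  apply h.zpow_two
  rw [two_mul, zpow_add, ← hk', h.a2]

theorem cent_pr (h : Setup s a c d) :
    centralizer ({pr s h.aH} : Set (Y s)) = closure ({pr s h.cH, pr s h.fH} : Set (Y s)) := by
  apply le_antisymm
  · intro x hx
    obtain ⟨x, rfl⟩ := pr_surj s x
    rw [mem_centralizer_singleton_iff, ← map_mul, ← map_mul] at hx
    have h1 : pr s (x * h.aH * x⁻¹ * h.aH⁻¹) = 1 := by
      rw [map_mul, map_mul, hx, ← map_mul, ← map_mul]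
      have : h.aH * x * x⁻¹ * h.aH⁻¹ = 1 := by group
      rw [this, map_one]
    obtain ⟨k, hk⟩ := pr_eq_one.1 h1
    have hk' : (x : G) * a * (x : G)⁻¹ * a⁻¹ = s ^ k := hk
    have hk2 : (x : G) * a * (x : G)⁻¹ = s ^ k * a := by rw [← hk']; group
    have hsa : Commute a (s ^ k) := (show Commute a s from h.as).zpow_right k
    have h2 : s ^ (2 * k) = 1 := by
      have e1 : ((x : G) * a * (x : G)⁻¹) * ((x : G) * a * (x : G)⁻¹) = 1 := by
        calc ((x : G) * a * (x : G)⁻¹) * ((x : G) * a * (x : G)⁻¹) = x * (a * a) * (x : G)⁻¹ := by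
              group
          _ = 1 := by rw [h.a2]; group
      rw [hk2] at e1
      calc s ^ (2 * k) = s ^ k * s ^ k * (a * a) := by rw [h.a2, mul_one, two_mul, zpow_add]
        _ = s ^ k * (s ^ k * a) * a := by group
        _ = s ^ k * (a * s ^ k) * a := by rw [hsa.eq]
        _ = s ^ k * a * (s ^ k * a) := by group
        _ = 1 := e1
    have h3 := h.zpow_two h2
    rw [h3, one_mul] at hk2
    have h4 : (x : G) * a = a * x := by
      calc (x : G) * a = ((x : G) * a * (x : G)⁻¹) * x := by group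
        _ = a * x := by rw [hk2]
    obtain ⟨i, y, hy, hxy⟩ := h.hC x (memH.1 x.2) h4
    -- `y` lies in the image of the closure in `H`
    have hle : closure ({c, d * c * d} : Set G) ≤ (closure ({h.cH, h.fH} : Set (H s))).map (H s).subtype := by
      rw [closure_le]
      rintro z (rfl | rfl)
      · exact ⟨h.cH, subset_closure (by simp), rfl⟩
      · exact ⟨h.fH, subset_closure (by simp), rfl⟩
    obtain ⟨y', hy', hyy⟩ := hle hy
    have h5 : pr s x = pr s y' := by
      have : pr s (x * y'⁻¹) = 1 := by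
        rw [pr_eq_one]
        refine ⟨i, ?_⟩
        show (x : G) * (y' : G)⁻¹ = s ^ i
        have hyy' : (y' : G) = y := hyy
        rw [hyy', hxy]; group
      rw [map_mul, map_inv, mul_inv_eq_one] at this
      exact this
    rw [h5]
    have h6 : (closure ({h.cH, h.fH} : Set (H s))).map (pr s) =
        closure ({pr s h.cH, pr s h.fH} : Set (Y s)) := by
      rw [MonoidHom.map_closure, Set.image_pair]
    rw [← h6]
    exact mem_map_of_mem _ hy'
  · rw [closure_le]
    have hc2 : h.cH * h.cH = 1 := Subtype.ext h.c2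
    have hf2 : h.fH * h.fH = 1 := Subtype.ext h.f2
    have ha2 : h.aH * h.aH = 1 := Subtype.ext h.a2
    have ia : h.aH⁻¹ = h.aH := inv_eq_of_mul_eq_one_left ha2
    have ic : h.cH⁻¹ = h.cH := inv_eq_of_mul_eq_one_left hc2
    have if' : h.fH⁻¹ = h.fH := inv_eq_of_mul_eq_one_left hf2
    rintro x (rfl | rfl)
    · show pr s h.cH ∈ centralizer ({pr s h.aH} : Set (Y s))
      rw [mem_centralizer_singleton_iff, ← map_mul, ← map_mul]
      congr 1
      have h1 : h.cH * h.aH * h.cH = h.aH⁻¹ := by
        rw [h.aH_eq]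
        simp only [mul_inv_rev, ic, if', ← mul_assoc, hc2, one_mul]
      rw [ia] at h1
      calc h.cH * h.aH = h.cH * h.aH * (h.cH * h.cH) := by rw [hc2, mul_one]
        _ = (h.cH * h.aH * h.cH) * h.cH := by group
        _ = h.aH * h.cH := by rw [h1]
    · show pr s h.fH ∈ centralizer ({pr s h.aH} : Set (Y s))
      rw [mem_centralizer_singleton_iff, ← map_mul, ← map_mul]
      congr 1
      have h1 : h.fH * h.aH * h.fH = h.aH⁻¹ := by
        rw [h.aH_eq]
        simp only [mul_inv_rev, ic, if', mul_assoc, hf2, mul_one]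
      rw [ia] at h1
      calc h.fH * h.aH = h.fH * h.aH * (h.fH * h.fH) := by rw [hf2, mul_one]
        _ = (h.fH * h.aH * h.fH) * h.fH := by group
        _ = h.aH * h.fH := by rw [h1]

/-- the quotient satisfies the hypotheses of the abstract theory -/
theorem hyp (h : Setup s a c d) : Hyp (Y s) (pr s h.aH) (pr s h.cH) (pr s h.fH) := by
  have hc2 : h.cH * h.cH = 1 := Subtype.ext h.c2
  have hf2 : h.fH * h.fH = 1 := Subtype.ext h.f2
  have ha2 : h.aH * h.aH = 1 := Subtype.ext h.a2
  have e1 : pr s h.cH * pr s h.cH = 1 := by rw [← map_mul, hc2, map_one]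
  have e2 : pr s h.fH * pr s h.fH = 1 := by rw [← map_mul, hf2, map_one]
  have e3 : pr s h.aH = (pr s h.cH * pr s h.fH) * (pr s h.cH * pr s h.fH) := by
    rw [h.aH_eq]; simp only [map_mul]
  have e4 : pr s h.aH * pr s h.aH = 1 := by rw [← map_mul, ha2, map_one]
  obtain ⟨y, hy, hya⟩ := h.fus
  refine ⟨e1, e2, e3, e4, h.pr_a_ne, ?_, ?_, ?_⟩
  · rw [h.cent_pr]
    exact card_closure e1 e2 e3 e4 h.pr_a_ne
  · refine ⟨pr s ⟨y, memH.2 hy⟩, ?_⟩
    rw [← map_inv, ← map_mul, ← map_mul]
    congr 1
    exact Subtype.ext hya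
  · refine ⟨pr s ⟨d * y * d, memH.2 (h.conj_d hy)⟩, ?_⟩
    rw [← map_inv, ← map_mul, ← map_mul]
    congr 1
    ext
    show d * y * d * a * (d * y * d)⁻¹ = d * c * d
    rw [mul_inv_rev, mul_inv_rev, h.inv_d]
    calc d * y * d * a * (d * (y⁻¹ * d)) = d * y * (d * a * d) * y⁻¹ * d := by group
      _ = d * (y * a * y⁻¹) * d := by rw [h.dad]; group
      _ = d * c * d := by rw [hya]

theorem card_Z (h : Setup s a c d) : Nat.card (zpowers (sH s)) = 7 := by
  rw [Nat.card_zpowers, ← h.s7, ← Subgroup.orderOf_coe]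
  rfl

theorem card_H (h : Setup s a c d) : Nat.card (H s) = Nat.card (Y s) * 7 := by
  rw [card_eq_card_quotient_mul_card_subgroup (zpowers (sH s)), h.card_Z]

/-- OUTPUT 1: the order of the centralizer of `s` -/
theorem card_cases (h : Setup s a c d) [Finite G] :
    Nat.card (centralizer ({s} : Set G)) = 7 * 168 ∨ Nat.card (centralizer ({s} : Set G)) = 7 * 360 := by
  have h1 := h.card_H
  rcases h.hyp.card_eq with h2 | h2
  · left; rw [h1, h2]
  · right; rw [h1, h2]

theorem card_Y (h : Setup s a c d) (h168 : Nat.card (centralizer ({s} : Set G)) = 7 * 168) :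
    Nat.card (Y s) = 168 := by
  have h1 := h.card_H
  rw [h168] at h1
  omega

theorem c_mem (h : Setup s a c d) : h.aH ∈ commutator (H s) ∧ h.cH ∈ commutator (H s) ∧
    h.fH ∈ commutator (H s) := by
  have hc2 : h.cH * h.cH = 1 := Subtype.ext h.c2
  have hf2 : h.fH * h.fH = 1 := Subtype.ext h.f2
  have ha : h.aH ∈ commutator (H s) := by
    have h1 : h.aH = ⁅h.cH, h.fH⁆ := by
      rw [commutatorElement_def, inv_eq_of_mul_eq_one_left hc2, inv_eq_of_mul_eq_one_left hf2,
        h.aH_eq]
      group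
    rw [h1]
    exact commutator_mem_commutator (mem_top _) (mem_top _)
  obtain ⟨y, hy, hya⟩ := h.fus
  refine ⟨ha, ?_, ?_⟩
  · have h1 : h.cH = ⟨y, memH.2 hy⟩ * h.aH * (⟨y, memH.2 hy⟩ : H s)⁻¹ := Subtype.ext hya.symm
    rw [h1]
    exact (inferInstance : (commutator (H s)).Normal).conj_mem _ ha _
  · have h1 : h.fH = ⟨d * y * d, memH.2 (h.conj_d hy)⟩ * h.aH *
        (⟨d * y * d, memH.2 (h.conj_d hy)⟩ : H s)⁻¹ := by
      ext
      show d * c * d = d * y * d * a * (d * y * d)⁻¹
      rw [mul_inv_rev, mul_inv_rev, h.inv_d]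
      calc d * c * d = d * (y * a * y⁻¹) * d := by rw [hya]
        _ = d * y * (d * a * d) * y⁻¹ * d := by rw [h.dad]; group
        _ = d * y * d * a * (d * (y⁻¹ * d)) := by group
    rw [h1]
    exact (inferInstance : (commutator (H s)).Normal).conj_mem _ ha _

/-- the commutator subgroup of `C(s)` meets `⟨s⟩` trivially -/
theorem disj (h : Setup s a c d) [Finite G]
    (h168 : Nat.card (centralizer ({s} : Set G)) = 7 * 168) (x : H s)
    (hx : x ∈ commutator (H s)) (hx1 : pr s x = 1) : x = 1 := by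
  have : Fact (Nat.Prime 7) := ⟨by norm_num⟩
  obtain ⟨P⟩ : Nonempty (Sylow 7 (H s)) := inferInstance
  have hPcard : Nat.card P = 7 ^ 2 := by
    rw [P.card_eq_multiplicity, h168]
    congr 1
    rw [show (7 * 168 : ℕ) = 7 ^ 2 * 24 by norm_num, Nat.factorization_mul (by norm_num) (by norm_num),
        Nat.Prime.factorization_pow (by norm_num)]
    simp [Nat.factorization_eq_zero_of_not_dvd (show ¬ 7 ∣ 24 by decide)]
  have hPc : IsMulCommutative (P : Subgroup (H s)) :=
    IsPGroup.isMulCommutative_of_card_eq_prime_sq hPcard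
  have hPi : (P : Subgroup (H s)).index = 24 := by
    have := (P : Subgroup (H s)).card_mul_index
    rw [h168] at this
    change Nat.card (P : Subgroup (H s)) = 7 ^ 2 at hPcard
    rw [hPcard] at this
    omega
  have h1 := Cfsg.Agent.S0088.result (P : Subgroup (H s)) hPc (by
    change Nat.card (P : Subgroup (H s)) = 7 ^ 2 at hPcard
    rw [hPcard, hPi]; norm_num)
  have hxz : x ∈ zpowers (sH s) := by
    rw [pr, QuotientGroup.mk'_apply, QuotientGroup.eq_one_iff] at hx1
    exact hx1
  have hxP : x ∈ (P : Subgroup (H s)) := by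
    have h2 : IsPGroup 7 (zpowers (sH s)) := IsPGroup.of_card (n := 1) (by rw [h.card_Z]; rfl)
    obtain ⟨Q, hQ⟩ := h2.exists_le_sylow
    obtain ⟨g, hg⟩ := MulAction.exists_smul_eq (H s) Q P
    rw [← hg]
    have h3 : g * (g⁻¹ * x * g) * g⁻¹ = x := by group
    rw [← h3]
    refine Subgroup.smul_mem_pointwise_smul _ (MulAut.conj g) _ (hQ ?_)
    have := (normalZ (s := s)).conj_mem x hxz g⁻¹
    simpa using this
  have hxc : x ∈ center (H s) := by
    rw [mem_center_iff]
    intro g
    obtain ⟨k, rfl⟩ := mem_zpowers_iff.1 hxz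
    have h1 : Commute g (sH s) := sH_central g
    exact (h1.zpow_right k).eq
  have : x ∈ (P : Subgroup (H s)) ⊓ commutator (H s) ⊓ center (H s) := ⟨⟨hxP, hx⟩, hxc⟩
  rw [h1] at this
  exact mem_bot.1 this

/-- the commutator subgroup of `C(s)` maps onto the quotient -/
theorem pr_comm_surj (h : Setup s a c d) [Finite G] (y : Y s) :
    ∃ x : H s, x ∈ commutator (H s) ∧ pr s x = y := by
  have h1 : (commutator (H s)).map (pr s) = ⊤ := by
    rw [commutator_def, map_commutator, ← MonoidHom.range_eq_map,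
      MonoidHom.range_eq_top.2 (pr_surj s), ← commutator_def]
    exact h.hyp.commutator_eq_top
  have h2 : y ∈ (commutator (H s)).map (pr s) := by rw [h1]; exact mem_top y
  obtain ⟨x, hx, hxy⟩ := h2
  exact ⟨x, hx, hxy⟩

/-- the isomorphism of the commutator subgroup with the quotient -/
noncomputable def eqv (h : Setup s a c d) [Finite G]
    (h168 : Nat.card (centralizer ({s} : Set G)) = 7 * 168) : commutator (H s) ≃* Y s :=
  MulEquiv.ofBijective ((pr s).comp (commutator (H s)).subtype) (by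
    constructor
    · rw [injective_iff_map_eq_one]
      intro x hx
      ext1
      exact h.disj h168 x x.2 hx
    · intro y
      obtain ⟨x, hx, hxy⟩ := h.pr_comm_surj y
      exact ⟨⟨x, hx⟩, hxy⟩)

theorem eqv_apply (h : Setup s a c d) [Finite G]
    (h168 : Nat.card (centralizer ({s} : Set G)) = 7 * 168) (x : commutator (H s)) :
    h.eqv h168 x = pr s x := rfl

/-- conjugation by `d` on `C(s)` -/
def conjH (h : Setup s a c d) : H s →* H s where
  toFun x := ⟨d * x * d, memH.2 (h.conj_d (memH.1 x.2))⟩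
  map_one' := by ext; show d * 1 * d = 1; rw [mul_one, h.d2]
  map_mul' x y := by
    ext
    show d * (x * y) * d = d * x * d * (d * y * d)
    calc d * ((x : G) * y) * d = d * x * (d * d) * y * d := by rw [h.d2]; group
      _ = d * x * d * (d * y * d) := by group

theorem conjH_coe (h : Setup s a c d) (x : H s) : (h.conjH x : G) = d * x * d := rfl

theorem conjH_mem (h : Setup s a c d) {x : H s} (hx : x ∈ commutator (H s)) :
    h.conjH x ∈ commutator (H s) := by
  have h1 : (commutator (H s)).map h.conjH ≤ commutator (H s) := by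
    rw [commutator_def, map_commutator]
    exact commutator_mono le_top le_top
  exact h1 (mem_map_of_mem _ hx)

/-- conjugation by `d` on the quotient -/
def conjY (h : Setup s a c d) : Y s →* Y s :=
  QuotientGroup.map (zpowers (sH s)) (zpowers (sH s)) h.conjH (by
    rw [zpowers_le, mem_comap, mem_zpowers_iff]
    refine ⟨-1, ?_⟩
    ext
    show (((sH s) ^ (-1 : ℤ) : H s) : G) = d * s * d
    rw [h.ds, zpow_neg, zpow_one]; rfl)

theorem conjY_pr (h : Setup s a c d) (x : H s) : h.conjY (pr s x) = pr s (h.conjH x) := rfl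

/-- OUTPUT 2: `C(s) = ⟨s⟩ × F(GL₃(2))`, with two possibilities for the action of `d`. -/
theorem main (h : Setup s a c d) [Finite G]
    (h168 : Nat.card (centralizer ({s} : Set G)) = 7 * 168) :
    ∃ F : G3 →* G, Function.Injective F ∧ (∀ g, F g * s = s * F g) ∧
      F x13 = a ∧ F x12 = c ∧ F x23 = d * c * d ∧
      (∀ x, x * s = s * x → ∃ (i : ℤ) (g : G3), x = s ^ i * F g) ∧
      (∀ (i : ℤ) (g : G3), F g = s ^ i → g = 1) ∧
      ((∀ g, d * F g * d = F (th g)) ∨ (∀ g, d * F g * d = F (th (x13 * g * x13)))) := by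
  have : Finite (Y s) := inferInstance
  obtain ⟨f, hf1, hf2⟩ := exists_equiv h.hyp (h.card_Y h168)
  obtain ⟨ha, hc, hf⟩ := h.c_mem
  let ι : commutator (H s) →* G := (H s).subtype.comp (commutator (H s)).subtype
  have hι : Function.Injective ι := (Subtype.coe_injective).comp Subtype.coe_injective
  let F : G3 →* G := ι.comp (((h.eqv h168).symm : Y s ≃* commutator (H s)).toMonoidHom.comp
    (f.symm : G3 ≃* Y s).toMonoidHom)
  have hF : ∀ g, F g = ι ((h.eqv h168).symm (f.symm g)) := fun g => rfl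
  have hFpr : ∀ (x : commutator (H s)), F (f (pr s x)) = ((x : H s) : G) := by
    intro x
    rw [hF, MulEquiv.symm_apply_apply, ← h.eqv_apply h168, MulEquiv.symm_apply_apply]
    rfl
  have hcom : ∀ g, F g * s = s * F g := by
    intro g
    rw [hF]
    exact memH.1 ((h.eqv h168).symm (f.symm g)).1.2
  have hinj : Function.Injective F :=
    hι.comp ((h.eqv h168).symm.injective.comp f.symm.injective)
  have hexi : ∀ g, ∃ x : commutator (H s), g = f (pr s x) := by
    intro g
    refine ⟨(h.eqv h168).symm (f.symm g), ?_⟩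
    rw [← h.eqv_apply h168, MulEquiv.apply_symm_apply, MulEquiv.apply_symm_apply]
  refine ⟨F, hinj, hcom, ?_, ?_, ?_, ?_, ?_, ?_⟩
  · have e : x13 = f (pr s h.aH) := by
      rw [h.aH_eq]
      simp only [map_mul]
      rw [hf1, hf2]
      exact hypG3.ha
    rw [e]; exact hFpr ⟨_, ha⟩
  · rw [← hf1]; exact hFpr ⟨_, hc⟩
  · rw [← hf2]; exact hFpr ⟨_, hf⟩
  · intro x hx
    obtain ⟨k, hk, hkx⟩ := h.pr_comm_surj (pr s ⟨x, memH.2 hx⟩)
    have h1 : pr s (⟨x, memH.2 hx⟩ * k⁻¹) = 1 := by
      rw [map_mul, map_inv, hkx, mul_inv_cancel]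
    obtain ⟨i, hi⟩ := pr_eq_one.1 h1
    refine ⟨i, f (pr s k), ?_⟩
    have h2 := hFpr ⟨k, hk⟩
    have h3 : x * (k : G)⁻¹ = s ^ i := hi
    have h4 : F (f (pr s k)) = (k : G) := h2
    rw [h4, ← h3]; group
  · intro i g hg
    obtain ⟨x, rfl⟩ := hexi g
    rw [hFpr] at hg
    have h1 : pr s (x : H s) = 1 := pr_eq_one.2 ⟨i, hg⟩
    rw [h1, map_one]
  · -- the action of `d`
    let D : G3 →* G3 := (f : Y s ≃* G3).toMonoidHom.comp (h.conjY.comp (f.symm : G3 ≃* Y s).toMonoidHom)
    have hD : ∀ g, D g = f (h.conjY (f.symm g)) := fun g => rfl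
    have hDF : ∀ g, d * F g * d = F (D g) := by
      intro g
      obtain ⟨x, rfl⟩ := hexi g
      rw [hFpr, hD, MulEquiv.symm_apply_apply, h.conjY_pr]
      exact (hFpr ⟨_, h.conjH_mem x.2⟩).symm
    have hD1 : D x12 = x23 := by
      apply hinj
      rw [← hDF]
      have e1 : F x12 = c := by rw [← hf1]; exact hFpr ⟨_, hc⟩
      have e2 : F x23 = d * c * d := by rw [← hf2]; exact hFpr ⟨_, hf⟩
      rw [e1, e2]
    have hD2 : D x23 = x12 := by
      apply hinj
      rw [← hDF]
      have e1 : F x12 = c := by rw [← hf1]; exact hFpr ⟨_, hc⟩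
      have e2 : F x23 = d * c * d := by rw [← hf2]; exact hFpr ⟨_, hf⟩
      rw [e1, e2]
      calc d * (d * c * d) * d = (d * d) * c * (d * d) := by group
        _ = c := by rw [h.d2, one_mul, mul_one]
    rcases hom_cases D hD1 hD2 with h1 | h1
    · left
      intro g
      rw [hDF, h1]
    · right
      intro g
      rw [hDF, h1]

end Setup

end Cfsg.Agent.ThType.CentSeven
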