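import Mathlib
import Cfsg.Agent.ThType.CentSeven
import Cfsg.Agent.S0497

/-!
# R05 (Thompson type), part (5a): consequences for words in `w`, `c`, `d`
-/

set_option autoImplicit false
set_option maxRecDepth 1000000

namespace Cfsg.Agent.ThType.CentSevenWords

open Subgroup Cfsg.Agent.ThType.CentSevenAbs Cfsg.Agent.ThType.CentSevenGL
open Cfsg.Agent.ThType.CentSeven Equiv

/-! ### the group of order 360 -/

def a0 : Perm (Fin 6) := swap 0 1 * swap 2 3

/-- the eight involutions `p` with `p a₀ p ≠ a₀` commuting with `a₀` -/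
def L8 : Fin 8 → Perm (Fin 6) :=
  ![swap 2 4 * swap 3 5, swap 2 5 * swap 3 4, swap 1 2 * swap 4 5, swap 1 3 * swap 4 5,
    swap 0 2 * swap 4 5, swap 0 3 * swap 4 5, swap 0 4 * swap 1 5, swap 0 5 * swap 1 4]

theorem mem_L8 : ∀ p : Perm (Fin 6),
    (p * p = 1 ∧ (p * a0 * p) * a0 = a0 * (p * a0 * p) ∧ p * a0 * p ≠ a0 ∧ Perm.sign p = 1) →
      ∃ i, p = L8 i := by
  decide +kernel

theorem prod_L8 : ∀ i j : Fin 8,
    ((L8 i * a0 * L8 i) * (L8 j * a0 * L8 j)) * ((L8 i * a0 * L8 i) * (L8 j * a0 * L8 j)) = a0 →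
      (L8 i * L8 j) * (L8 i * L8 j) * (L8 i * L8 j) * (L8 i * L8 j) * (L8 i * L8 j) = 1 ∧
      (L8 i * L8 j * (L8 i * a0 * L8 i)) * (L8 i * L8 j * (L8 i * a0 * L8 i)) *
        ((L8 i * L8 j * (L8 i * a0 * L8 i)) * (L8 i * L8 j * (L8 i * a0 * L8 i))) = 1 := by
  decide +kernel

/-- `a₀` as an element of `A₆` -/
def a0' : alternatingGroup (Fin 6) := ⟨a0, by rw [Perm.mem_alternatingGroup]; decide +kernel⟩

theorem pow_five_Y {Y : Type*} [Group Y] [Finite Y] {a c c' : Y} (h : Hyp Y a c c')
    (h360 : Nat.card Y = 360) (w x : Y) (hw : w * w = 1) (hx : x * x = 1)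
    (hwa : w * a * w = c) (hxa : x * a * x = c') : (w * x) ^ 5 = 1 ∧ (w * x * c) ^ 4 = 1 := by
  have := h.isSimple
  obtain ⟨f⟩ := Cfsg.Agent.S0497.result (G := Y) h360
  have ha0 : a0' * a0' = 1 := by ext1; show a0 * a0 = 1; decide +kernel
  have ha01 : a0' ≠ 1 := by
    intro e
    have : a0 = 1 := congrArg Subtype.val e
    revert this; decide +kernel
  obtain ⟨g, hg⟩ := h.conj (f.symm a0') (by rw [← map_mul, ha0, map_one]) (by
    rw [Ne, map_eq_one_iff f.symm f.symm.injective]; exact ha01)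
  let e : Y ≃* alternatingGroup (Fin 6) := (MulAut.conj g).trans f
  have he : e a = a0' := by
    show f (g * a * g⁻¹) = a0'
    rw [hg, MulEquiv.apply_symm_apply]
  have hca : c ≠ a := by
    intro hca
    have h1 : c * c' = c' * c := by rw [hca, h.comm_c'.symm]
    apply h.a1
    rw [h.ha]
    calc c * c' * (c * c') = c * c' * (c' * c) := by rw [h1]
      _ = 1 := by rw [mul_assoc, ← mul_assoc c', h.c2', one_mul, h.c2]
  have hca' : c' ≠ a := by
    intro hca
    have h1 : c * c' = c' * c := by rw [hca, h.comm_c]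
    apply h.a1
    rw [h.ha]
    calc c * c' * (c * c') = c * c' * (c' * c) := by rw [h1]
      _ = 1 := by rw [mul_assoc, ← mul_assoc c', h.c2', one_mul, h.c2]
  have key : ∀ (p y : Y), p * p = 1 → p * a * p = y → y * a = a * y → y ≠ a →
      ∃ i, (e p : Perm (Fin 6)) = L8 i := by
    intro p y hp hpa hya hne
    apply mem_L8
    have e1 : (e p : Perm (Fin 6)) * a0 * (e p) = (e y : Perm (Fin 6)) := by
      have : e p * a0' * e p = e y := by rw [← he, ← map_mul, ← map_mul, hpa]
      exact congrArg Subtype.val this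
    refine ⟨?_, ?_, ?_, ?_⟩
    · have : e p * e p = 1 := by rw [← map_mul, hp, map_one]
      exact congrArg Subtype.val this
    · rw [e1]
      have : e y * a0' = a0' * e y := by rw [← he, ← map_mul, ← map_mul, hya]
      exact congrArg Subtype.val this
    · rw [e1]
      intro h1
      apply hne
      apply e.injective
      rw [he]
      exact Subtype.ext h1
    · exact Perm.mem_alternatingGroup.1 (e p).2
  obtain ⟨i, hi⟩ := key w c hw hwa h.comm_c hca
  obtain ⟨j, hj⟩ := key x c' hx hxa h.comm_c' hca'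
  have h1 := prod_L8 i j (by
    rw [← hi, ← hj]
    have : (e w * a0' * e w) * (e x * a0' * e x) * ((e w * a0' * e w) * (e x * a0' * e x)) = a0' := by
      rw [← he]
      simp only [← map_mul]
      rw [hwa, hxa, ← h.ha]
    exact congrArg Subtype.val this)
  rw [← hi, ← hj] at h1
  have h2 : (e w * e x) * (e w * e x) * (e w * e x) * (e w * e x) * (e w * e x) = 1 :=
    Subtype.ext h1.1
  have h3 : (e w * e x * (e w * a0' * e w)) * (e w * e x * (e w * a0' * e w)) *
      ((e w * e x * (e w * a0' * e w)) * (e w * e x * (e w * a0' * e w))) = 1 :=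
    Subtype.ext h1.2
  constructor
  · apply e.injective
    rw [map_pow, map_one, map_mul, ← h2]
    simp only [pow_succ, pow_zero, one_mul]
  · apply e.injective
    have e1 : e w * a0' * e w = e c := by rw [← he, ← map_mul, ← map_mul, hwa]
    rw [map_pow, map_one, map_mul, map_mul, ← h3, e1]
    simp only [pow_succ, pow_zero, one_mul, mul_assoc]

/-- the commutator subgroup of `C(s)` meets `⟨s⟩` trivially -/
theorem disj360 {G : Type*} [Group G] [Finite G] {s a c d : G} (h : Setup s a c d)
    (h360 : Nat.card (centralizer ({s} : Set G)) = 7 * 360) (x : Setup.H s)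
    (hx : x ∈ commutator (Setup.H s)) (hx1 : Setup.pr s x = 1) : x = 1 := by
  have hxz : x ∈ zpowers (Setup.sH s) := by
    rw [Setup.pr, QuotientGroup.mk'_apply, QuotientGroup.eq_one_iff] at hx1
    exact hx1
  have hPi : (zpowers (Setup.sH s)).index = 360 := by
    have := (zpowers (Setup.sH s)).card_mul_index
    rw [h360, h.card_Z] at this
    omega
  have h1 := Cfsg.Agent.S0088.result (zpowers (Setup.sH s)) inferInstance (by
    rw [h.card_Z, hPi]; norm_num)
  have hxc : x ∈ center (Setup.H s) := by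
    rw [mem_center_iff]
    intro g
    obtain ⟨k, rfl⟩ := mem_zpowers_iff.1 hxz
    have h1 : Commute g (Setup.sH s) := Setup.sH_central g
    exact (h1.zpow_right k).eq
  have : x ∈ zpowers (Setup.sH s) ⊓ commutator (Setup.H s) ⊓ center (Setup.H s) := ⟨⟨hxz, hx⟩, hxc⟩
  rw [h1] at this
  exact mem_bot.1 this

/-- involutions of `C(s)` lie in the commutator subgroup -/
theorem mem_comm360 {G : Type*} [Group G] [Finite G] {s a c d : G} (h : Setup s a c d)
    (h360 : Nat.card (centralizer ({s} : Set G)) = 7 * 360) (x : Setup.H s) (hx : x * x = 1) :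
    x ∈ commutator (Setup.H s) := by
  obtain ⟨k, hk, hkx⟩ := h.pr_comm_surj (Setup.pr s x)
  have h1 : Setup.pr s (x * k⁻¹) = 1 := by rw [map_mul, map_inv, hkx, mul_inv_cancel]
  obtain ⟨i, hi⟩ := Setup.pr_eq_one.1 h1
  have hi' : x = (Setup.sH s) ^ i * k := by
    ext
    show (x : G) = (((Setup.sH s) ^ i : Setup.H s) : G) * k
    have : (((Setup.sH s) ^ i : Setup.H s) : G) = s ^ i := rfl
    rw [this, ← hi]
    show (x : G) = x * (k : G)⁻¹ * k
    group
  have hc : Commute k (Setup.sH s ^ i) := (show Commute k (Setup.sH s) from Setup.sH_central k).zpow_right i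
  have h2 : k * k = (Setup.sH s) ^ (-(2 * i)) := by
    have h3 : (Setup.sH s) ^ i * k * ((Setup.sH s) ^ i * k) = 1 := by rw [← hi']; exact hx
    have h4 : (Setup.sH s) ^ i * k * ((Setup.sH s) ^ i * k) = (Setup.sH s) ^ (2 * i) * (k * k) := by
      calc (Setup.sH s) ^ i * k * ((Setup.sH s) ^ i * k) = (Setup.sH s) ^ i * (k * (Setup.sH s) ^ i) * k := by
            group
        _ = (Setup.sH s) ^ i * ((Setup.sH s) ^ i * k) * k := by rw [hc.eq]
        _ = (Setup.sH s) ^ (2 * i) * (k * k) := by rw [two_mul, zpow_add]; group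
    rw [h4] at h3
    rw [zpow_neg]
    exact eq_inv_of_mul_eq_one_right h3
  have h5 : k * k = 1 := by
    apply disj360 h h360
    · exact mul_mem hk hk
    · rw [Setup.pr_eq_one]
      exact ⟨-(2 * i), by rw [h2]; rfl⟩
  rw [h5] at h2
  have h6 : s ^ (2 * i) = 1 := by
    have : (1 : Setup.H s) = (Setup.sH s) ^ (2 * i) := by
      rw [zpow_neg] at h2
      rw [← inv_inv ((Setup.sH s) ^ (2 * i)), ← h2, inv_one]
    exact (congrArg Subtype.val this).symm
  have h7 := h.zpow_two h6
  have h8 : (Setup.sH s) ^ i = 1 := Subtype.ext h7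
  rw [hi', h8, one_mul]
  exact hk

/-- the 360 case: relations of `A₆` -/
theorem pow_four {G : Type*} [Group G] [Finite G] {s a c d : G} (h : Setup s a c d)
    (h360 : Nat.card (centralizer ({s} : Set G)) = 7 * 360) (w : G) (hws : w * s = s * w)
    (hw : w * w = 1) (hwa : w * a * w = c) :
    (w * (d * w * d)) ^ 5 = 1 ∧ (w * (d * w * d) * c) ^ 4 = 1 := by
  have hY : Nat.card (Setup.Y s) = 360 := by
    have h1 := h.card_H
    rw [h360] at h1
    omega
  have hx : (d * w * d) * (d * w * d) = 1 := by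
    calc (d * w * d) * (d * w * d) = d * w * (d * d) * w * d := by group
      _ = d * (w * w) * d := by rw [h.d2]; group
      _ = 1 := by rw [hw, mul_one, h.d2]
  have hxa : (d * w * d) * a * (d * w * d) = d * c * d := by
    calc (d * w * d) * a * (d * w * d) = d * w * (d * a * d) * w * d := by group
      _ = d * (w * a * w) * d := by rw [h.dad]; group
      _ = d * c * d := by rw [hwa]
  let wH : Setup.H s := ⟨w, Setup.memH.2 hws⟩
  let xH : Setup.H s := ⟨d * w * d, Setup.memH.2 (h.conj_d hws)⟩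
  have hwH : wH * wH = 1 := Subtype.ext hw
  have hxH : xH * xH = 1 := Subtype.ext hx
  have hcH : h.cH * h.cH = 1 := Subtype.ext h.c2
  have mw := mem_comm360 h h360 wH hwH
  have mx := mem_comm360 h h360 xH hxH
  have mc := mem_comm360 h h360 h.cH hcH
  obtain ⟨h5, h4⟩ := pow_five_Y h.hyp hY (Setup.pr s wH) (Setup.pr s xH)
    (by rw [← map_mul, hwH, map_one])
    (by rw [← map_mul, hxH, map_one])
    (by rw [← map_mul, ← map_mul]; exact congrArg _ (Subtype.ext hwa))
    (by rw [← map_mul, ← map_mul]; exact congrArg _ (Subtype.ext hxa))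
  rw [← map_mul, ← map_pow] at h5
  rw [← map_mul, ← map_mul, ← map_pow] at h4
  have e5 := disj360 h h360 _ (pow_mem (mul_mem mw mx) 5) h5
  have e4 := disj360 h h360 _ (pow_mem (mul_mem (mul_mem mw mx) mc) 4) h4
  exact ⟨congrArg Subtype.val e5, congrArg Subtype.val e4⟩

/-! ### the group of order 168 -/

theorem mat_case1 : ∀ X : M3, X = mW ∨ X = mW * m13 * m12 →
    (X * (mJ * X.transpose * mJ)) * (X * (mJ * X.transpose * mJ)) * (X * (mJ * X.transpose * mJ)) = 1 ∨
    ∀ Z : M3, Z = m23 * m12 * X * m12 * m23 →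
      (Z * (mJ * Z.transpose * mJ)) * (Z * (mJ * Z.transpose * mJ)) * (Z * (mJ * Z.transpose * mJ)) = 1 := by
  decide +kernel

theorem mat_case2 : ∀ X : M3, X = mW ∨ X = mW * m13 * m12 →
    (X * (mJ * (m13 * X * m13).transpose * mJ)) * (X * (mJ * (m13 * X * m13).transpose * mJ)) *
      (X * (mJ * (m13 * X * m13).transpose * mJ)) = 1 ∨
    ∀ Z : M3, Z = m23 * m12 * X * m12 * m23 →
      (Z * (mJ * (m13 * Z * m13).transpose * mJ)) * (Z * (mJ * (m13 * Z * m13).transpose * mJ)) *
        (Z * (mJ * (m13 * Z * m13).transpose * mJ)) = 1 := by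
  decide +kernel

/-- an involution `w ∈ C(s)` with `w a w = c` is `F W` or `F (W x13 x12)` -/
theorem exists_mat {G : Type*} [Group G] [Finite G] {s a c d : G} (h : Setup s a c d)
    (F : G3 →* G) (hinj : Function.Injective F) (hcom : ∀ g, F g * s = s * F g)
    (h13 : F x13 = a) (h12 : F x12 = c)
    (hall : ∀ x, x * s = s * x → ∃ (i : ℤ) (g : G3), x = s ^ i * F g)
    (hdis : ∀ (i : ℤ) (g : G3), F g = s ^ i → g = 1) (w : G) (hws : w * s = s * w)
    (hw : w * w = 1) (hwa : w * a * w = c) :
    ∃ g : G3, w = F g ∧ g * g = 1 ∧ ((g : M3) = mW ∨ (g : M3) = mW * m13 * m12) := by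
  obtain ⟨i, g, hg⟩ := hall w hws
  have hc : Commute (F g) (s ^ i) := (show Commute (F g) s from hcom g).zpow_right i
  have h1 : F (g * g) = s ^ (-(2 * i)) := by
    have h2 : s ^ i * F g * (s ^ i * F g) = 1 := by rw [← hg]; exact hw
    have h3 : s ^ i * F g * (s ^ i * F g) = s ^ (2 * i) * F (g * g) := by
      calc s ^ i * F g * (s ^ i * F g) = s ^ i * (F g * s ^ i) * F g := by group
        _ = s ^ i * (s ^ i * F g) * F g := by rw [hc.eq]
        _ = s ^ (2 * i) * F (g * g) := by rw [two_mul, zpow_add, map_mul]; group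
    rw [h3] at h2
    rw [zpow_neg]
    exact eq_inv_of_mul_eq_one_right h2
  have h2 : g * g = 1 := hdis _ _ h1
  rw [h2, map_one] at h1
  have h3 : s ^ (2 * i) = 1 := by
    rw [zpow_neg] at h1
    rw [← inv_inv (s ^ (2 * i)), ← h1, inv_one]
  have h4 := h.zpow_two h3
  have hwg : w = F g := by rw [hg, h4, one_mul]
  refine ⟨g, hwg, h2, ?_⟩
  have h5 : g * x13 * g = x12 := by
    apply hinj
    rw [map_mul, map_mul, ← hwg, h13, h12, hwa]
  have h6 : g * x12 = x13 * g := by
    rw [← h5]
    calc g * (g * x13 * g) = (g * g) * x13 * g := by group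
      _ = x13 * g := by rw [h2, one_mul]
  exact imV _ (congrArg Units.val h2) (congrArg Units.val h6)

theorem wd6 {G : Type*} [Group G] (w d : G) : (w * d) ^ 6 = (w * (d * w * d)) * (w * (d * w * d)) * (w * (d * w * d)) := by
  rw [show (6 : ℕ) = 2 * 3 from rfl, pow_mul, pow_two, pow_succ, pow_two]
  group

/-- the 168 case: `w d` or `w^v d` has order dividing six (`v = c (d c d)`) -/
theorem pow_six {G : Type*} [Group G] [Finite G] {s a c d : G} (h : Setup s a c d)
    (h168 : Nat.card (centralizer ({s} : Set G)) = 7 * 168) (w : G) (hws : w * s = s * w)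
    (hw : w * w = 1) (hwa : w * a * w = c) :
    (w * d) ^ 6 = 1 ∨ (((c * (d * c * d))⁻¹ * w * (c * (d * c * d))) * d) ^ 6 = 1 := by
  obtain ⟨F, hinj, hcom, h13, h12, h23, hall, hdis, hF⟩ := h.main h168
  obtain ⟨g, hwg, hgg, hg⟩ := exists_mat h F hinj hcom h13 h12 hall hdis w hws hw hwa
  have hgi : g⁻¹ = g := inv_eq_of_mul_eq_one_left hgg
  obtain ⟨z, hzdef⟩ : ∃ z : G3, z = x23 * x12 * g * x12 * x23 := ⟨_, rfl⟩
  have hz : (c * (d * c * d))⁻¹ * w * (c * (d * c * d)) = F z := by
    have e1 : F z = F x23 * F x12 * F g * F x12 * F x23 := by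
      rw [hzdef, map_mul, map_mul, map_mul, map_mul]
    have ic : c⁻¹ = c := inv_eq_of_mul_eq_one_left h.c2
    have if' : (d * c * d)⁻¹ = d * c * d := inv_eq_of_mul_eq_one_left h.f2
    rw [e1, h23, h12, ← hwg, mul_inv_rev, ic, if']
    simp only [mul_assoc]
  have hzz : z * z = 1 := by
    have e12 : x12 * x12 = 1 := by ext1; decide +kernel
    have e23 : x23 * x23 = 1 := by ext1; decide +kernel
    calc z * z = x23 * x12 * g * x12 * (x23 * x23) * x12 * g * x12 * x23 := by
          rw [hzdef]; group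
      _ = x23 * x12 * g * (x12 * x12) * g * x12 * x23 := by rw [e23]; group
      _ = x23 * x12 * (g * g) * x12 * x23 := by rw [e12]; group
      _ = x23 * (x12 * x12) * x23 := by rw [hgg]; group
      _ = 1 := by rw [e12, mul_one, e23]
  have hzi : z⁻¹ = z := inv_eq_of_mul_eq_one_left hzz
  have hzv : (z : M3) = m23 * m12 * (g : M3) * m12 * m23 := by rw [hzdef]; rfl
  rcases hF with hF | hF
  · have key : ∀ y : G3, y⁻¹ = y →
        ((y : M3) * (mJ * (y : M3).transpose * mJ)) * ((y : M3) * (mJ * (y : M3).transpose * mJ)) *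
          ((y : M3) * (mJ * (y : M3).transpose * mJ)) = 1 → (F y * d) ^ 6 = 1 := by
      intro y hy h1
      rw [wd6, hF, ← map_mul, ← map_mul, ← map_mul]
      have : y * th y * (y * th y) * (y * th y) = 1 := by
        apply Units.ext
        simp only [Units.val_mul, Units.val_one]
        rw [th_val, hy]
        exact h1
      rw [this, map_one]
    rcases mat_case1 _ hg with h1 | h1
    · left; rw [hwg]; exact key g hgi h1
    · right; rw [hz]; exact key z hzi (h1 _ hzv)
  · have key : ∀ y : G3, y⁻¹ = y →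
        ((y : M3) * (mJ * (m13 * (y : M3) * m13).transpose * mJ)) *
          ((y : M3) * (mJ * (m13 * (y : M3) * m13).transpose * mJ)) *
          ((y : M3) * (mJ * (m13 * (y : M3) * m13).transpose * mJ)) = 1 → (F y * d) ^ 6 = 1 := by
      intro y hy h1
      rw [wd6, hF, ← map_mul, ← map_mul, ← map_mul]
      have hyi : (x13 * y * x13)⁻¹ = x13 * y * x13 := by
        rw [mul_inv_rev, mul_inv_rev, x13_inv, hy, mul_assoc]
      have hval : ((x13 * y * x13 : G3) : M3) = m13 * (y : M3) * m13 := rfl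
      have : y * th (x13 * y * x13) * (y * th (x13 * y * x13)) * (y * th (x13 * y * x13)) = 1 := by
        apply Units.ext
        have e2 : (th (x13 * y * x13) : M3) = mJ * (m13 * (y : M3) * m13).transpose * mJ := by
          rw [th_val, hyi, hval]
        simp only [Units.val_mul, Units.val_one]
        rw [e2]
        exact h1
      rw [this, map_one]
    rcases mat_case2 _ hg with h1 | h1
    · left; rw [hwg]; exact key g hgi h1
    · right; rw [hz]; exact key z hzi (h1 _ hzv)

end Cfsg.Agent.ThType.CentSevenWords
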