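import Cfsg.Agent.ThType.SpinRep
import Mathlib.GroupTheory.Sylow
import Mathlib.Tactic

/-!
# The elementary abelian subgroup `E = Q ∩ Q_c` of order 32 (project R05, helper935)
-/

set_option autoImplicit false

namespace Cfsg.Agent.ThType.ElemE

open Equiv Cfsg.Agent.ThType.SpinData Cfsg.Agent.ThType.SpinFacts Cfsg.Agent.ThType.SpinRep

theorem zmod2_cases : ∀ a : ZMod 2, a = 0 ∨ a = 1 := by decide

theorem b0_symm (v w : V) : b0 v w = b0 w v := by
  simp only [b0]; ring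

theorem b0_nondeg (v : V) (hv : v ≠ 0) : ∃ w, b0 w v = 1 := by
  by_contra hcon
  push Not at hcon
  apply hv
  have h : v ∈ LinearMap.ker B := by
    rw [LinearMap.mem_ker]
    ext i
    show b0 v (Pi.single i 1) = 0
    rcases zmod2_cases (b0 v (Pi.single i 1)) with h | h
    · exact h
    · exact absurd (by rw [b0_symm]; exact h) (hcon (Pi.single i 1))
  rw [ker_B, Submodule.mem_bot] at h
  exact h

section basic

variable {G : Type*} [Group G] {z : G} (S : SpinAt G z)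

include S in
theorem z_inv : z⁻¹ = z := inv_eq_of_mul_eq_one_right S.z_sq

theorem phi_one : S.φ 1 = 1 := (S.φ_eq_one 1 (by simp)).2 S.Q.one_mem

theorem phi_inv (x : G) (hx : x * z = z * x) : S.φ x⁻¹ = (S.φ x)⁻¹ := by
  have hx' : x⁻¹ * z = z * x⁻¹ := ((show Commute x z from hx).inv_left).eq
  have h := S.φ_mul x⁻¹ x hx' hx
  rw [inv_mul_cancel, phi_one S] at h
  exact eq_inv_of_mul_eq_one_left h.symm

/-- the centraliser of `z` -/
def C (z : G) : Subgroup G := Subgroup.centralizer {z}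

theorem mem_C {x : G} : x ∈ C z ↔ x * z = z * x := by
  unfold C
  rw [Subgroup.mem_centralizer_singleton_iff]

/-- the homomorphism `C_G(z) → A₉` -/
def phiHom : C z →* alternatingGroup (Fin 9) where
  toFun x := S.φ x.1
  map_one' := phi_one S
  map_mul' x y := S.φ_mul x.1 y.1 (mem_C.1 x.2) (mem_C.1 y.2)

theorem phi_pow (x : G) (hx : x * z = z * x) (n : ℕ) : S.φ (x ^ n) = (S.φ x) ^ n := by
  have := map_pow (phiHom S) ⟨x, mem_C.2 hx⟩ n
  exact this

theorem Q_le_C : S.Q ≤ C z := fun x hx => mem_C.2 (S.Q_le x hx)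

theorem phi_Q {x : G} (hx : x ∈ S.Q) : S.φ x = 1 := (S.φ_eq_one x (S.Q_le x hx)).2 hx

theorem conj_mem_Q {c x : G} (hc : c * z = z * c) (hx : x ∈ S.Q) : c * x * c⁻¹ ∈ S.Q := by
  have hc' : c⁻¹ * z = z * c⁻¹ := ((show Commute c z from hc).inv_left).eq
  have hx' := S.Q_le x hx
  have hcx : c * x * z = z * (c * x) := ((show Commute c z from hc).mul_left hx').eq
  rw [← S.φ_eq_one _ (((show Commute (c * x) z from hcx).mul_left hc').eq),
    S.φ_mul _ _ hcx hc', S.φ_mul _ _ hc hx', phi_inv S c hc, phi_Q S hx, mul_one, mul_inv_cancel]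

theorem conj_mem_Q_iff {c x : G} (hc : c * z = z * c) : c * x * c⁻¹ ∈ S.Q ↔ x ∈ S.Q := by
  refine ⟨fun h => ?_, conj_mem_Q S hc⟩
  have hc' : c⁻¹ * z = z * c⁻¹ := ((show Commute c z from hc).inv_left).eq
  have := conj_mem_Q S hc' h
  rwa [show c⁻¹ * (c * x * c⁻¹) * c⁻¹⁻¹ = x by group] at this

theorem pi_one : S.π 1 = 0 := (S.π_eq_zero 1 S.Q.one_mem).2 (Or.inl rfl)

theorem pi_z : S.π z = 0 := (S.π_eq_zero z S.z_mem).2 (Or.inr rfl)

theorem pi_zmul {x : G} (hx : x ∈ S.Q) : S.π (z * x) = S.π x := by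
  rw [S.π_mul z S.z_mem x hx, pi_z S, zero_add]

theorem vadd_self (v : V) : v + v = 0 := by
  funext i
  rw [Pi.add_apply, Pi.zero_apply]
  generalize v i = a
  revert a; decide

theorem pi_eq {x y : G} (hx : x ∈ S.Q) (hy : y ∈ S.Q) (h : S.π x = S.π y) : x = y ∨ x = z * y := by
  have h1 : S.π (x * y⁻¹) = 0 := by
    have h2 := S.π_mul (x * y⁻¹) (S.Q.mul_mem hx (S.Q.inv_mem hy)) y hy
    rw [inv_mul_cancel_right, h] at h2
    have h3 : S.π (x * y⁻¹) + S.π y + S.π y = S.π y + S.π y := by rw [← h2]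
    rwa [add_assoc, vadd_self, add_zero] at h3
  rcases (S.π_eq_zero _ (S.Q.mul_mem hx (S.Q.inv_mem hy))).1 h1 with h2 | h2
  · left; exact mul_inv_eq_one.1 h2
  · right; rw [← h2]; group

theorem sq_eq_one_iff {x : G} (hx : x ∈ S.Q) : x * x = 1 ↔ q0 (S.π x) = 0 := by
  rw [S.sq x hx]
  constructor
  · intro h
    by_contra h0
    rw [if_neg h0] at h
    exact S.z_ne h
  · intro h
    rw [if_pos h]

theorem sq_cases {x : G} (hx : x ∈ S.Q) : x * x = 1 ∨ x * x = z := by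
  rw [S.sq x hx]
  split_ifs
  · left; rfl
  · right; rfl

theorem pow_four {x : G} (hx : x ∈ S.Q) : x ^ 4 = 1 := by
  have h : x ^ 4 = (x * x) * (x * x) := by rw [← pow_two, ← pow_two, ← pow_mul]
  rw [h]
  rcases sq_cases S hx with h | h
  · rw [h, one_mul]
  · rw [h, S.z_sq]

theorem comm_iff {x y : G} (hx : x ∈ S.Q) (hy : y ∈ S.Q) :
    x * y = y * x ↔ b0 (S.π x) (S.π y) = 0 := by
  rw [S.comm x hx y hy]
  constructor
  · intro h
    by_contra h0
    rw [if_neg h0] at h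
    exact S.z_ne (mul_eq_right.1 h)
  · intro h
    rw [if_pos h, one_mul]

theorem not_comm {x y : G} (hx : x ∈ S.Q) (hy : y ∈ S.Q) (h : b0 (S.π x) (S.π y) = 1) :
    x * y * x⁻¹ = z * y := by
  have h1 := S.comm x hx y hy
  rw [h, if_neg (by decide)] at h1
  rw [h1]; group

theorem pi_ne_zero {x : G} (hx : x ∈ S.Q) (h1 : x ≠ 1) (hz : x ≠ z) : S.π x ≠ 0 := by
  intro h
  rcases (S.π_eq_zero x hx).1 h with h | h
  · exact h1 h
  · exact hz h

/-- a noncentral element of `Q` is conjugate in `Q` to its product with `z` -/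
theorem swap {x : G} (hx : x ∈ S.Q) (h1 : x ≠ 1) (hz : x ≠ z) : ∃ q ∈ S.Q, q * x * q⁻¹ = z * x := by
  obtain ⟨w, hw⟩ := b0_nondeg _ (pi_ne_zero S hx h1 hz)
  obtain ⟨q, hq, rfl⟩ := S.π_surj w
  exact ⟨q, hq, not_comm S hq hx hw⟩

/-- lifting an element of `A₉` which fixes `π x` to an element of `C_G(z) ∩ C_G(x)` -/
theorem lift_fix {x : G} (hx : x ∈ S.Q) (h1 : x ≠ 1) (hz : x ≠ z) (g : alternatingGroup (Fin 9))
    (hg : (S.ρ g).mulVec (S.π x) = S.π x) :
    ∃ h : G, h * z = z * h ∧ h * x = x * h ∧ S.φ h = g := by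
  obtain ⟨h, hh, rfl⟩ := S.φ_surj g
  have h2 : S.π (h * x * h⁻¹) = S.π x := by rw [S.act h hh x hx, hg]
  rcases pi_eq S (conj_mem_Q S hh hx) hx h2 with h3 | h3
  · exact ⟨h, hh, by rw [← mul_inv_eq_iff_eq_mul]; exact h3, rfl⟩
  · obtain ⟨q, hq, hqx⟩ := swap S hx h1 hz
    have hqz := S.Q_le q hq
    refine ⟨q * h, ((show Commute q z from hqz).mul_left hh).eq, ?_, ?_⟩
    · have h4 : (q * h) * x * (q * h)⁻¹ = x := by
        calc (q * h) * x * (q * h)⁻¹ = q * (h * x * h⁻¹) * q⁻¹ := by group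
          _ = q * (z * x) * q⁻¹ := by rw [h3]
          _ = (q * z) * x * q⁻¹ := by group
          _ = (z * q) * x * q⁻¹ := by rw [hqz]
          _ = z * (q * x * q⁻¹) := by group
          _ = z * (z * x) := by rw [hqx]
          _ = (z * z) * x := by group
          _ = x := by rw [S.z_sq, one_mul]
      calc q * h * x = (q * h) * x * (q * h)⁻¹ * (q * h) := by group
        _ = x * (q * h) := by rw [h4]
    · rw [S.φ_mul q h hqz hh, phi_Q S hq, one_mul]

/-- all noncentral involutions of `Q` are conjugate in `C_G(z)` -/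
theorem conj_in_C {x y : G} (hx : x ∈ S.Q) (hx1 : x ≠ 1) (hxz : x ≠ z) (hx2 : x * x = 1)
    (hy : y ∈ S.Q) (hy1 : y ≠ 1) (hyz : y ≠ z) (hy2 : y * y = 1) :
    ∃ h : G, h * z = z * h ∧ h * x * h⁻¹ = y := by
  obtain ⟨g, hg⟩ := trans_vec' S.ρ_cyc (S.π x) (S.π y) ((sq_eq_one_iff S hx).1 hx2)
    (pi_ne_zero S hx hx1 hxz) ((sq_eq_one_iff S hy).1 hy2) (pi_ne_zero S hy hy1 hyz)
  obtain ⟨h, hh, rfl⟩ := S.φ_surj g
  have h2 : S.π (h * x * h⁻¹) = S.π y := by rw [S.act h hh x hx, hg]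
  rcases pi_eq S (conj_mem_Q S hh hx) hy h2 with h3 | h3
  · exact ⟨h, hh, h3⟩
  · obtain ⟨q, hq, hqy⟩ := swap S hy hy1 hyz
    have hqz := S.Q_le q hq
    refine ⟨q * h, ((show Commute q z from hqz).mul_left hh).eq, ?_⟩
    calc (q * h) * x * (q * h)⁻¹ = q * (h * x * h⁻¹) * q⁻¹ := by group
      _ = q * (z * y) * q⁻¹ := by rw [h3]
      _ = (q * z) * y * q⁻¹ := by group
      _ = (z * q) * y * q⁻¹ := by rw [hqz]
      _ = z * (q * y * q⁻¹) := by group
      _ = z * (z * y) := by rw [hqy]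
      _ = (z * z) * y := by group
      _ = y := by rw [S.z_sq, one_mul]

/-! ### transport by conjugation -/

/-- the same data at the involution `g z g⁻¹` -/
def conj (g : G) : SpinAt G (g * z * g⁻¹) where
  Q := S.Q.map (MulAut.conj g).toMonoidHom
  φ := fun x => S.φ (g⁻¹ * x * g)
  π := fun x => S.π (g⁻¹ * x * g)
  ρ := S.ρ
  z_ne := by
    intro h
    apply S.z_ne
    calc z = g⁻¹ * (g * z * g⁻¹) * g := by group
      _ = 1 := by rw [h]; group
  z_sq := by
    calc g * z * g⁻¹ * (g * z * g⁻¹) = g * (z * z) * g⁻¹ := by group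
      _ = 1 := by rw [S.z_sq]; group
  Q_le := by
    rintro x ⟨y, hy, rfl⟩
    show g * y * g⁻¹ * (g * z * g⁻¹) = g * z * g⁻¹ * (g * y * g⁻¹)
    calc g * y * g⁻¹ * (g * z * g⁻¹) = g * (y * z) * g⁻¹ := by group
      _ = g * (z * y) * g⁻¹ := by rw [S.Q_le y hy]
      _ = g * z * g⁻¹ * (g * y * g⁻¹) := by group
  z_mem := ⟨z, S.z_mem, rfl⟩
  φ_mul := by
    intro x y hx hy
    have h1 : ∀ x, x * (g * z * g⁻¹) = g * z * g⁻¹ * x → g⁻¹ * x * g * z = z * (g⁻¹ * x * g) := by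
      intro x hx
      calc g⁻¹ * x * g * z = g⁻¹ * (x * (g * z * g⁻¹)) * g := by group
        _ = g⁻¹ * (g * z * g⁻¹ * x) * g := by rw [hx]
        _ = z * (g⁻¹ * x * g) := by group
    rw [← S.φ_mul _ _ (h1 x hx) (h1 y hy)]
    congr 1
    group
  φ_surj := by
    intro a
    obtain ⟨x, hx, rfl⟩ := S.φ_surj a
    refine ⟨g * x * g⁻¹, ?_, ?_⟩
    · calc g * x * g⁻¹ * (g * z * g⁻¹) = g * (x * z) * g⁻¹ := by group
        _ = g * (z * x) * g⁻¹ := by rw [hx]
        _ = g * z * g⁻¹ * (g * x * g⁻¹) := by group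
    · congr 1
      group
  φ_eq_one := by
    intro x hx
    have h1 : g⁻¹ * x * g * z = z * (g⁻¹ * x * g) := by
      calc g⁻¹ * x * g * z = g⁻¹ * (x * (g * z * g⁻¹)) * g := by group
        _ = g⁻¹ * (g * z * g⁻¹ * x) * g := by rw [hx]
        _ = z * (g⁻¹ * x * g) := by group
    rw [S.φ_eq_one _ h1]
    constructor
    · intro h
      exact ⟨_, h, by show g * (g⁻¹ * x * g) * g⁻¹ = x; group⟩
    · rintro ⟨y, hy, rfl⟩
      show g⁻¹ * (g * y * g⁻¹) * g ∈ S.Q
      rwa [show g⁻¹ * (g * y * g⁻¹) * g = y by group]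
  π_mul := by
    rintro x ⟨x, hx, rfl⟩ y ⟨y, hy, rfl⟩
    show S.π (g⁻¹ * (g * x * g⁻¹ * (g * y * g⁻¹)) * g) = S.π (g⁻¹ * (g * x * g⁻¹) * g) +
      S.π (g⁻¹ * (g * y * g⁻¹) * g)
    rw [show g⁻¹ * (g * x * g⁻¹ * (g * y * g⁻¹)) * g = x * y by group,
      show g⁻¹ * (g * x * g⁻¹) * g = x by group, show g⁻¹ * (g * y * g⁻¹) * g = y by group]
    exact S.π_mul x hx y hy
  π_surj := by
    intro v
    obtain ⟨x, hx, rfl⟩ := S.π_surj v
    exact ⟨g * x * g⁻¹, ⟨x, hx, rfl⟩, by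
      rw [show g⁻¹ * (g * x * g⁻¹) * g = x by group]⟩
  π_eq_zero := by
    rintro x ⟨x, hx, rfl⟩
    show S.π (g⁻¹ * (g * x * g⁻¹) * g) = 0 ↔ g * x * g⁻¹ = 1 ∨ g * x * g⁻¹ = g * z * g⁻¹
    rw [show g⁻¹ * (g * x * g⁻¹) * g = x by group, S.π_eq_zero x hx]
    constructor
    · rintro (h | h)
      · left; rw [h]; group
      · right; rw [h]
    · rintro (h | h)
      · left
        calc x = g⁻¹ * (g * x * g⁻¹) * g := by group
          _ = 1 := by rw [h]; group
      · right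
        exact mul_left_cancel (mul_right_cancel h)
  sq := by
    rintro x ⟨x, hx, rfl⟩
    show g * x * g⁻¹ * (g * x * g⁻¹) = if q0 (S.π (g⁻¹ * (g * x * g⁻¹) * g)) = 0 then 1 else
      g * z * g⁻¹
    rw [show g⁻¹ * (g * x * g⁻¹) * g = x by group,
      show g * x * g⁻¹ * (g * x * g⁻¹) = g * (x * x) * g⁻¹ by group, S.sq x hx]
    split_ifs
    · group
    · rfl
  comm := by
    rintro x ⟨x, hx, rfl⟩ y ⟨y, hy, rfl⟩
    show g * x * g⁻¹ * (g * y * g⁻¹) = (if b0 (S.π (g⁻¹ * (g * x * g⁻¹) * g))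
      (S.π (g⁻¹ * (g * y * g⁻¹) * g)) = 0 then 1 else g * z * g⁻¹) *
      (g * y * g⁻¹ * (g * x * g⁻¹))
    rw [show g⁻¹ * (g * x * g⁻¹) * g = x by group, show g⁻¹ * (g * y * g⁻¹) * g = y by group,
      show g * x * g⁻¹ * (g * y * g⁻¹) = g * (x * y) * g⁻¹ by group, S.comm x hx y hy]
    split_ifs
    · group
    · group
  ρ_cyc := S.ρ_cyc
  act := by
    rintro c hc x ⟨x, hx, rfl⟩
    show S.π (g⁻¹ * (c * (g * x * g⁻¹) * c⁻¹) * g) = (S.ρ (S.φ (g⁻¹ * c * g))).mulVec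
      (S.π (g⁻¹ * (g * x * g⁻¹) * g))
    rw [show g⁻¹ * (g * x * g⁻¹) * g = x by group,
      show g⁻¹ * (c * (g * x * g⁻¹) * c⁻¹) * g = (g⁻¹ * c * g) * x * (g⁻¹ * c * g)⁻¹ by group]
    apply S.act _ _ x hx
    calc g⁻¹ * c * g * z = g⁻¹ * (c * (g * z * g⁻¹)) * g := by group
      _ = g⁻¹ * (g * z * g⁻¹ * c) * g := by rw [hc]
      _ = z * (g⁻¹ * c * g) := by group

theorem mem_conj_Q {g x : G} : x ∈ (conj S g).Q ↔ g⁻¹ * x * g ∈ S.Q := by
  constructor
  · rintro ⟨y, hy, rfl⟩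
    show g⁻¹ * (g * y * g⁻¹) * g ∈ S.Q
    rwa [show g⁻¹ * (g * y * g⁻¹) * g = y by group]
  · intro h
    exact ⟨_, h, by show g * (g⁻¹ * x * g) * g⁻¹ = x; group⟩

/-- `(conj S g).Q` only depends on the involution `g z g⁻¹` -/
theorem conj_Q_eq {g h : G} (hgh : g * z * g⁻¹ = h * z * h⁻¹) : (conj S g).Q = (conj S h).Q := by
  ext x
  rw [mem_conj_Q, mem_conj_Q]
  have hc : (h⁻¹ * g) * z = z * (h⁻¹ * g) := by
    calc h⁻¹ * g * z = h⁻¹ * (g * z * g⁻¹) * g := by group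
      _ = h⁻¹ * (h * z * h⁻¹) * g := by rw [hgh]
      _ = z * (h⁻¹ * g) := by group
  rw [← conj_mem_Q_iff S hc,
    show h⁻¹ * g * (g⁻¹ * x * g) * (h⁻¹ * g)⁻¹ = h⁻¹ * x * h by group]

theorem conj_Q_eq_self {g : G} (hg : g * z * g⁻¹ = z) : (conj S g).Q = S.Q := by
  have := conj_Q_eq S (g := g) (h := 1) (by rw [hg]; group)
  rw [this]
  ext x
  rw [mem_conj_Q]
  simp

theorem mem_conj_conj_Q {g h x : G} : x ∈ (conj (conj S g) h).Q ↔ x ∈ (conj S (h * g)).Q := by
  rw [mem_conj_Q, mem_conj_Q, mem_conj_Q,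
    show g⁻¹ * (h⁻¹ * x * h) * g = (h * g)⁻¹ * x * (h * g) by group]

end basic

section finite

variable {G : Type*} [Group G] [Finite G] {z : G} (S : SpinAt G z)

omit [Finite G] in
theorem orderOf_ne_seven {x : G} (hx : x ∈ S.Q) : orderOf x ≠ 7 := by
  intro h
  have h1 := orderOf_dvd_of_pow_eq_one (pow_four S hx)
  rw [h] at h1
  norm_num at h1

/-- an element of `C_G(z) ∩ C_G(x)` of order 7 acting with order 7 -/
theorem exists_seven_fix {x : G} (hx : x ∈ S.Q) (h1 : x ≠ 1) (hz : x ≠ z) (h2 : x * x = 1) :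
    ∃ w : G, orderOf w = 7 ∧ w * z = z * w ∧ w * x = x * w ∧ orderOf (S.φ w) = 7 := by
  obtain ⟨σ, hσ, hfix⟩ := exists_seven S.ρ_cyc (S.π x) ((sq_eq_one_iff S hx).1 h2)
    (pi_ne_zero S hx h1 hz)
  obtain ⟨h, hhz, hhx, rfl⟩ := lift_fix S hx h1 hz σ hfix
  have h7 : 7 ∣ orderOf h := by
    rw [← hσ]
    apply orderOf_dvd_of_pow_eq_one
    rw [← phi_pow S h hhz, pow_orderOf_eq_one, phi_one S]
  obtain ⟨m, hm⟩ := h7
  have hm0 : m ≠ 0 := by
    rintro rfl
    exact (orderOf_pos h).ne' (by rw [hm])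
  have hw : orderOf (h ^ m) = 7 := by
    rw [orderOf_pow_of_dvd hm0 (by rw [hm]; exact dvd_mul_left _ _), hm]
    exact Nat.mul_div_cancel _ (Nat.pos_of_ne_zero hm0)
  have hwz : h ^ m * z = z * h ^ m := ((show Commute h z from hhz).pow_left m).eq
  refine ⟨h ^ m, hw, hwz, ((show Commute h x from hhx).pow_left m).eq, ?_⟩
  have : Fact (Nat.Prime 7) := ⟨by norm_num⟩
  apply orderOf_eq_prime
  · rw [← phi_pow S _ hwz, ← hw, pow_orderOf_eq_one, phi_one S]
  · intro h3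
    exact orderOf_ne_seven S ((S.φ_eq_one _ hwz).1 h3) hw

/-- if the conjugate `c = g z g⁻¹` of `z` lies in `Q` then `z ∈ Q_c` -/
theorem z_mem_conj {g : G} (hc : g * z * g⁻¹ ∈ S.Q) (hcz : g * z * g⁻¹ ≠ z) :
    z ∈ (conj S g).Q := by
  have T := conj S g
  have hc1 : g * z * g⁻¹ ≠ 1 := (conj S g).z_ne
  obtain ⟨w, hw, hwz, hwc, -⟩ := exists_seven_fix S hc hc1 hcz (conj S g).z_sq
  have hzc : z * (g * z * g⁻¹) = g * z * g⁻¹ * z := (S.Q_le _ hc).symm
  rw [← (conj S g).φ_eq_one z hzc]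
  have hord : orderOf ((conj S g).φ w) = 7 := by
    have : Fact (Nat.Prime 7) := ⟨by norm_num⟩
    apply orderOf_eq_prime
    · rw [← phi_pow (conj S g) _ hwc, ← hw, pow_orderOf_eq_one, phi_one (conj S g)]
    · intro h3
      exact orderOf_ne_seven (conj S g) (((conj S g).φ_eq_one _ hwc).1 h3) hw
  apply comm_seven _ _ hord
  · rw [← (conj S g).φ_mul z z hzc hzc, S.z_sq, phi_one]
  · show (conj S g).φ w * (conj S g).φ z = (conj S g).φ z * (conj S g).φ w
    rw [← (conj S g).φ_mul w z hwc hzc, ← (conj S g).φ_mul z w hzc hwc, hwz]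

/-! ### orders -/

/-- `Q → F₂⁸` as a homomorphism -/
def piHom : S.Q →* Multiplicative V where
  toFun x := Multiplicative.ofAdd (S.π x.1)
  map_one' := by
    show Multiplicative.ofAdd (S.π 1) = 1
    rw [pi_one S]; rfl
  map_mul' x y := by
    show Multiplicative.ofAdd (S.π (x.1 * y.1)) = _
    rw [S.π_mul x.1 x.2 y.1 y.2]; rfl

/-- the elements of `Q` with `π x` in an additive set -/
def preim (W : AddSubgroup V) : Subgroup G where
  carrier := {x | x ∈ S.Q ∧ S.π x ∈ W}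
  one_mem' := ⟨S.Q.one_mem, by rw [pi_one S]; exact W.zero_mem⟩
  mul_mem' := by
    rintro x y ⟨hx, hx'⟩ ⟨hy, hy'⟩
    exact ⟨S.Q.mul_mem hx hy, by rw [S.π_mul x hx y hy]; exact W.add_mem hx' hy'⟩
  inv_mem' := by
    rintro x ⟨hx, hx'⟩
    refine ⟨S.Q.inv_mem hx, ?_⟩
    have h := S.π_mul x⁻¹ (S.Q.inv_mem hx) x hx
    rw [inv_mul_cancel, pi_one S] at h
    rw [eq_neg_of_add_eq_zero_left h.symm]
    exact W.neg_mem hx'

omit [Finite G] in
theorem mem_preim {W : AddSubgroup V} {x : G} : x ∈ preim S W ↔ x ∈ S.Q ∧ S.π x ∈ W := Iff.rfl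

omit [Finite G] in
theorem card_preim (W : AddSubgroup V) : Nat.card (preim S W) = 2 * Nat.card W := by
  -- the homomorphism from the preimage onto W
  let f : preim S W →* Multiplicative W :=
    { toFun := fun x => Multiplicative.ofAdd ⟨S.π x.1, x.2.2⟩
      map_one' := by
        show Multiplicative.ofAdd (⟨S.π 1, _⟩ : W) = 1
        rw [← ofAdd_zero]
        congr 1
        exact Subtype.ext (pi_one S)
      map_mul' := by
        intro x y
        show Multiplicative.ofAdd (⟨S.π (x.1 * y.1), _⟩ : W) = _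
        rw [← ofAdd_add]
        congr 1
        exact Subtype.ext (S.π_mul x.1 x.2.1 y.1 y.2.1) }
  have hsurj : Function.Surjective f := by
    intro w
    obtain ⟨x, hx, hxw⟩ := S.π_surj (w.toAdd : W).1
    refine ⟨⟨x, hx, by rw [hxw]; exact (w.toAdd : W).2⟩, ?_⟩
    show Multiplicative.ofAdd (⟨S.π x, _⟩ : W) = w
    apply Multiplicative.toAdd.injective
    exact Subtype.ext hxw
  have hker : Nat.card f.ker = 2 := by
    have hz : z ∈ preim S W := ⟨S.z_mem, by rw [pi_z S]; exact W.zero_mem⟩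
    have h1 : f.ker = Subgroup.zpowers (⟨z, hz⟩ : preim S W) := by
      ext x
      rw [MonoidHom.mem_ker]
      have h2 : f x = 1 ↔ S.π x.1 = 0 := by
        constructor
        · intro h
          have h3 : (⟨S.π x.1, x.2.2⟩ : W) = 0 := Multiplicative.ofAdd.injective h
          exact congrArg Subtype.val h3
        · intro h
          show Multiplicative.ofAdd (⟨S.π x.1, _⟩ : W) = 1
          rw [← ofAdd_zero]
          congr 1
          exact Subtype.ext h
      rw [h2, S.π_eq_zero x.1 x.2.1]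
      constructor
      · rintro (h | h)
        · rw [show x = 1 from Subtype.ext h]; exact Subgroup.one_mem _
        · rw [show x = ⟨z, hz⟩ from Subtype.ext h]; exact Subgroup.mem_zpowers _
      · intro h
        obtain ⟨n, rfl⟩ := Subgroup.mem_zpowers_iff.1 h
        show (z : G) ^ n = 1 ∨ z ^ n = z
        rcases Int.even_or_odd n with ⟨k, rfl⟩ | ⟨k, rfl⟩
        · left
          rw [← two_mul, zpow_mul, zpow_two, S.z_sq, one_zpow]
        · right
          rw [zpow_add, zpow_mul, zpow_two, S.z_sq, one_zpow, one_mul, zpow_one]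
    rw [h1, Nat.card_zpowers]
    have : Fact (Nat.Prime 2) := ⟨Nat.prime_two⟩
    apply orderOf_eq_prime
    · rw [pow_two]
      exact Subtype.ext S.z_sq
    · intro h
      exact S.z_ne (congrArg Subtype.val h)
  have h2 := Subgroup.card_eq_card_quotient_mul_card_subgroup f.ker
  rw [hker, Nat.card_congr (QuotientGroup.quotientKerEquivOfSurjective f hsurj).toEquiv] at h2
  rw [h2, mul_comm]
  rfl

omit [Finite G] in
theorem preim_top : preim S ⊤ = S.Q := by
  ext x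
  rw [mem_preim]
  exact ⟨fun h => h.1, fun h => ⟨h, trivial⟩⟩

omit [Finite G] in
theorem card_Q : Nat.card S.Q = 512 := by
  rw [← preim_top S, card_preim S ⊤]
  have : Nat.card (⊤ : AddSubgroup V) = 256 := by
    rw [AddSubgroup.card_top, Nat.card_eq_fintype_card]
    simp
  rw [this]

theorem card_A9 : Nat.card (alternatingGroup (Fin 9)) = 181440 := by
  rw [nat_card_alternatingGroup]
  simp
  decide

omit [Finite G] in
include S in
theorem card_C : Nat.card (C z) = 512 * 181440 := by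
  have hsurj : Function.Surjective (phiHom S) := by
    intro a
    obtain ⟨x, hx, hxa⟩ := S.φ_surj a
    exact ⟨⟨x, mem_C.2 hx⟩, hxa⟩
  have hker : (phiHom S).ker = S.Q.subgroupOf (C z) := by
    ext x
    rw [MonoidHom.mem_ker, Subgroup.mem_subgroupOf]
    exact S.φ_eq_one x.1 (mem_C.1 x.2)
  have h2 := Subgroup.card_eq_card_quotient_mul_card_subgroup (phiHom S).ker
  rw [Nat.card_congr (QuotientGroup.quotientKerEquivOfSurjective (phiHom S) hsurj).toEquiv,
    card_A9, hker, Nat.card_congr (Subgroup.subgroupOfEquivOfLe (Q_le_C S)).toEquiv, card_Q] at h2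
  rw [h2]

omit [Finite G] in
/-- the centraliser in `Q` of a noncentral element has index two -/
theorem card_Q_inf_C {x : G} (hx : x ∈ S.Q) (h1 : x ≠ 1) (hz : x ≠ z) :
    Nat.card (S.Q ⊓ C x : Subgroup G) = 256 := by
  let f : S.Q →* Multiplicative (ZMod 2) :=
    { toFun := fun y => Multiplicative.ofAdd (b0 (S.π y.1) (S.π x))
      map_one' := by
        show Multiplicative.ofAdd (b0 (S.π 1) (S.π x)) = 1
        rw [pi_one S, ← ofAdd_zero]
        congr 1
        simp [b0]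
      map_mul' := by
        intro a b
        show Multiplicative.ofAdd (b0 (S.π (a.1 * b.1)) (S.π x)) = _
        rw [S.π_mul a.1 a.2 b.1 b.2, ← ofAdd_add]
        congr 1
        simp only [b0, Pi.add_apply]; ring }
  have hsurj : Function.Surjective f := by
    intro a
    rcases zmod2_cases (Multiplicative.toAdd a) with h | h
    · refine ⟨1, ?_⟩
      rw [map_one]
      apply Multiplicative.toAdd.injective
      rw [h]; rfl
    · obtain ⟨w, hw⟩ := b0_nondeg _ (pi_ne_zero S hx h1 hz)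
      obtain ⟨q, hq, rfl⟩ := S.π_surj w
      refine ⟨⟨q, hq⟩, ?_⟩
      apply Multiplicative.toAdd.injective
      rw [h]
      exact hw
  have hker : f.ker = (S.Q ⊓ C x).subgroupOf S.Q := by
    ext y
    rw [MonoidHom.mem_ker, Subgroup.mem_subgroupOf, Subgroup.mem_inf, mem_C, comm_iff S y.2 hx]
    constructor
    · intro h
      exact ⟨y.2, Multiplicative.ofAdd.injective h⟩
    · intro h
      show Multiplicative.ofAdd (b0 (S.π y.1) (S.π x)) = 1
      rw [h.2]; rfl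
  have h2 := Subgroup.card_eq_card_quotient_mul_card_subgroup f.ker
  rw [Nat.card_congr (QuotientGroup.quotientKerEquivOfSurjective f hsurj).toEquiv,
    hker, Nat.card_congr (Subgroup.subgroupOfEquivOfLe inf_le_left).toEquiv, card_Q S] at h2
  have h3 : Nat.card (Multiplicative (ZMod 2)) = 2 := by
    rw [Nat.card_eq_fintype_card]; simp
  rw [h3] at h2
  omega

/-- a subgroup of exponent two of `A₉` normalised by an element of order seven -/
theorem card_mod_seven (R : Subgroup (alternatingGroup (Fin 9))) (σ : alternatingGroup (Fin 9))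
    (h7 : orderOf σ = 7) (hn : ∀ τ ∈ R, σ * τ * σ⁻¹ ∈ R) (h2 : ∀ τ ∈ R, τ * τ = 1) :
    Nat.card R ≡ 1 [MOD 7] := by
  classical
  let f : Function.End R := fun τ => ⟨σ * τ.1 * σ⁻¹, hn τ.1 τ.2⟩
  have hf : ∀ n : ℕ, ∀ τ : R, ((f ^ n) τ).1 = σ ^ n * τ.1 * (σ ^ n)⁻¹ := by
    intro n
    induction n with
    | zero => intro τ; rw [pow_zero, pow_zero]; simp; rfl
    | succ n ih =>
      intro τ
      rw [pow_succ']
      show σ * ((f ^ n) τ).1 * σ⁻¹ = _
      rw [ih, pow_succ']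
      group
  have hf7 : f ^ 7 ^ 1 = 1 := by
    funext τ
    apply Subtype.ext
    rw [pow_one, hf, ← h7, pow_orderOf_eq_one]
    simp
    rfl
  have : Fact (Nat.Prime 7) := ⟨by norm_num⟩
  have hcard := Equiv.Perm.card_fixedPoints_modEq (f := f) (p := 7) (n := 1) hf7
  rw [← Nat.card_eq_fintype_card, ← Nat.card_eq_fintype_card] at hcard
  have h1 : Nat.card f.fixedPoints = 1 := by
    rw [Nat.card_eq_one_iff_unique]
    refine ⟨⟨?_⟩, ⟨⟨1, ?_⟩⟩⟩
    · have key : ∀ a : f.fixedPoints, a.1 = 1 := by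
        rintro ⟨a, ha⟩
        have h3 : σ * a.1 * σ⁻¹ = a.1 := congrArg Subtype.val ha
        apply Subtype.ext
        exact comm_seven σ a.1 h7 (h2 a.1 a.2) (mul_inv_eq_iff_eq_mul.1 h3)
      intro a b
      exact Subtype.ext ((key a).trans (key b).symm)
    · show f 1 = 1
      apply Subtype.ext
      show σ * 1 * σ⁻¹ = 1
      group
  rw [h1] at hcard
  exact hcard

/-- `A₉` has no subgroup of order 64 and exponent two -/
theorem card_ne_64 (R : Subgroup (alternatingGroup (Fin 9))) (h2 : ∀ τ ∈ R, τ * τ = 1) :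
    Nat.card R ≠ 64 := by
  intro h64
  have : Fact (Nat.Prime 2) := ⟨Nat.prime_two⟩
  have hfac : Nat.card (alternatingGroup (Fin 9)) = 2 ^ 6 * 2835 := by
    rw [card_A9]; norm_num
  have hR : Nat.card R = 2 ^ (Nat.card (alternatingGroup (Fin 9))).factorization 2 := by
    rw [h64, hfac, Nat.factorization_mul (by norm_num) (by norm_num), Nat.factorization_pow]
    simp only [Finsupp.add_apply, Finsupp.smul_apply, smul_eq_mul]
    rw [Nat.Prime.factorization_self Nat.prime_two,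
      Nat.factorization_eq_zero_of_not_dvd (by norm_num : ¬ 2 ∣ 2835)]
    norm_num
  let P : Sylow 2 (alternatingGroup (Fin 9)) := Sylow.ofCard R hR
  let f4 : alternatingGroup (Fin 9) := 
    ⟨Equiv.swap 0 1 * Equiv.swap 1 2 * Equiv.swap 2 3 * Equiv.swap 4 5, by
      rw [Equiv.Perm.mem_alternatingGroup]; decide⟩
  have hf4 : f4 ^ 4 = 1 := by apply Subtype.ext; decide
  have hf2 : f4 ^ 2 ≠ 1 := by
    intro h
    have h' := congrArg Subtype.val h
    revert h'
    decide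
  have hpg : IsPGroup 2 (Subgroup.zpowers f4) := by
    intro x
    obtain ⟨x, hx⟩ := x
    obtain ⟨n, rfl⟩ := Subgroup.mem_zpowers_iff.1 hx
    refine ⟨2, Subtype.ext ?_⟩
    show (f4 ^ n) ^ (2 ^ 2) = 1
    rw [← zpow_natCast, ← zpow_mul, mul_comm, zpow_mul, zpow_natCast,
      show (2 : ℕ) ^ 2 = 4 by norm_num, hf4, one_zpow]
  obtain ⟨P', hP'⟩ := hpg.exists_le_sylow
  obtain ⟨k, hk⟩ := MulAction.exists_smul_eq (alternatingGroup (Fin 9)) P' P
  have h1 : k * f4 * k⁻¹ ∈ R := by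
    have h3 : k * f4 * k⁻¹ ∈ (k • P' : Sylow 2 _) := by
      refine ⟨f4, hP' (Subgroup.mem_zpowers _), rfl⟩
    rw [hk] at h3
    exact h3
  apply hf2
  have h3 := h2 _ h1
  calc f4 ^ 2 = k⁻¹ * (k * f4 * k⁻¹ * (k * f4 * k⁻¹)) * k := by rw [pow_two]; group
    _ = 1 := by rw [h3]; group

end finite

section EE

variable {G : Type*} [Group G] {z : G} (S : SpinAt G z) {g : G}

/-- the intersection `Q ∩ Q_c`, `c = g z g⁻¹` -/
def EE (g : G) : Subgroup G := S.Q ⊓ (conj S g).Q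

theorem EE_sq (hcz : g * z * g⁻¹ ≠ z) {x : G} (hx : x ∈ EE S g) : x * x = 1 := by
  rcases sq_cases S hx.1 with h | h
  · exact h
  · rcases sq_cases (conj S g) hx.2 with h' | h'
    · exact h'
    · exact absurd (h'.symm.trans h) hcz

theorem EE_comm (hcz : g * z * g⁻¹ ≠ z) {x y : G} (hx : x ∈ EE S g) (hy : y ∈ EE S g) :
    x * y = y * x := by
  have h := EE_sq S hcz ((EE S g).mul_mem hx hy)
  have hx2 := EE_sq S hcz hx
  have hy2 := EE_sq S hcz hy
  calc x * y = (x * y)⁻¹ := (inv_eq_of_mul_eq_one_right h).symm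
    _ = y⁻¹ * x⁻¹ := mul_inv_rev x y
    _ = y * x := by rw [inv_eq_of_mul_eq_one_right hx2, inv_eq_of_mul_eq_one_right hy2]

/-- the image of `EE` in `F₂⁸` -/
def WE (g : G) : AddSubgroup V where
  carrier := {v | ∃ x ∈ EE S g, S.π x = v}
  zero_mem' := ⟨1, (EE S g).one_mem, pi_one S⟩
  add_mem' := by
    rintro v w ⟨x, hx, rfl⟩ ⟨y, hy, rfl⟩
    exact ⟨x * y, (EE S g).mul_mem hx hy, S.π_mul x hx.1 y hy.1⟩
  neg_mem' := by
    rintro v ⟨x, hx, rfl⟩
    refine ⟨x, hx, ?_⟩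
    exact eq_neg_of_add_eq_zero_left (vadd_self _)

theorem mem_WE {v : V} : v ∈ WE S g ↔ ∃ x ∈ EE S g, S.π x = v := Iff.rfl

theorem isotropic_WE (hcz : g * z * g⁻¹ ≠ z) (v : V) (hv : v ∈ WE S g) (w : V) (hw : w ∈ WE S g) :
    b0 v w = 0 := by
  obtain ⟨x, hx, rfl⟩ := hv
  obtain ⟨y, hy, rfl⟩ := hw
  exact (comm_iff S hx.1 hy.1).1 (EE_comm S hcz hx hy)

theorem card_WE_le (hcz : g * z * g⁻¹ ≠ z) : Nat.card (WE S g) ≤ 16 := by
  have := card_isotropic (AddSubgroup.toZModSubmodule 2 (WE S g)) (isotropic_WE S hcz)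
  exact this

variable [Finite G]

theorem preim_WE (hc : g * z * g⁻¹ ∈ S.Q) (hcz : g * z * g⁻¹ ≠ z) : preim S (WE S g) = EE S g := by
  ext x
  rw [mem_preim, mem_WE]
  constructor
  · rintro ⟨hx, y, hy, hxy⟩
    have hz : z ∈ EE S g := ⟨S.z_mem, z_mem_conj S hc hcz⟩
    rcases pi_eq S hx hy.1 hxy.symm with h | h
    · rw [h]; exact hy
    · rw [h]; exact (EE S g).mul_mem hz hy
  · intro h
    exact ⟨h.1, x, h, rfl⟩

theorem card_EE (hc : g * z * g⁻¹ ∈ S.Q) (hcz : g * z * g⁻¹ ≠ z) : Nat.card (EE S g) = 32 := by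
  set D : Subgroup G := (conj S g).Q ⊓ C z with hD
  have hc1 : g * z * g⁻¹ ≠ 1 := (conj S g).z_ne
  have hcardD : Nat.card D = 256 := card_Q_inf_C (conj S g) (z_mem_conj S hc hcz) S.z_ne
    (Ne.symm hcz)
  let psi : D →* alternatingGroup (Fin 9) := (phiHom S).comp (Subgroup.inclusion inf_le_right)
  have hpsi : ∀ x : D, psi x = S.φ x.1 := fun _ => rfl
  have hEED : EE S g ≤ D := fun x hx => ⟨hx.2, Q_le_C S hx.1⟩
  have hker : psi.ker = (EE S g).subgroupOf D := by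
    ext x
    rw [MonoidHom.mem_ker, Subgroup.mem_subgroupOf, hpsi, S.φ_eq_one x.1 (mem_C.1 x.2.2)]
    exact ⟨fun h => ⟨h, x.2.1⟩, fun h => h.1⟩
  have hmul := Subgroup.card_mul_index psi.ker
  rw [Subgroup.index_ker, hker, Nat.card_congr (Subgroup.subgroupOfEquivOfLe hEED).toEquiv,
    hcardD] at hmul
  obtain ⟨w, -, hwz, hwc, hw7⟩ := exists_seven_fix S hc hc1 hcz (conj S g).z_sq
  have h2 : ∀ τ ∈ psi.range, τ * τ = 1 := by
    rintro _ ⟨x, rfl⟩
    rw [← map_mul, hpsi, S.φ_eq_one _ (mem_C.1 (x * x).2.2)]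
    show x.1 * x.1 ∈ S.Q
    rcases sq_cases (conj S g) x.2.1 with h | h
    · rw [h]; exact S.Q.one_mem
    · rw [h]; exact hc
  have hn : ∀ τ ∈ psi.range, S.φ w * τ * (S.φ w)⁻¹ ∈ psi.range := by
    rintro _ ⟨x, rfl⟩
    have hwz' : w⁻¹ * z = z * w⁻¹ := ((show Commute w z from hwz).inv_left).eq
    have hxz : x.1 * z = z * x.1 := mem_C.1 x.2.2
    have hwx : w * x.1 * z = z * (w * x.1) := ((show Commute w z from hwz).mul_left hxz).eq
    have hmem : w * x.1 * w⁻¹ ∈ D :=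
      ⟨conj_mem_Q (conj S g) hwc x.2.1, (C z).mul_mem ((C z).mul_mem (mem_C.2 hwz) x.2.2)
        ((C z).inv_mem (mem_C.2 hwz))⟩
    refine ⟨⟨_, hmem⟩, ?_⟩
    rw [hpsi, hpsi, ← phi_inv S w hwz, ← S.φ_mul w x.1 hwz hxz, ← S.φ_mul _ _ hwx hwz']
  have hmod := card_mod_seven psi.range (S.φ w) hw7 hn h2
  have hne := card_ne_64 psi.range h2
  have hle : Nat.card (EE S g) ≤ 32 := by
    rw [← preim_WE S hc hcz, card_preim S]
    have := card_WE_le S hcz
    omega
  have hdvd : Nat.card psi.range ∣ 2 ^ 8 := ⟨_, by rw [mul_comm, hmul]; norm_num⟩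
  obtain ⟨k, hk, hk'⟩ := (Nat.dvd_prime_pow Nat.prime_two).1 hdvd
  rw [hk'] at hmul hmod hne
  interval_cases k
  · omega
  · exact absurd hmod (by decide)
  · exact absurd hmod (by decide)
  · omega
  · exact absurd hmod (by decide)
  · exact absurd hmod (by decide)
  · exact absurd rfl hne
  · exact absurd hmod (by decide)
  · exact absurd hmod (by decide)

/-- the additive group `Wl l` -/
def WlSub (l : Fin 9) : AddSubgroup V where
  carrier := {v | Wl l v}
  zero_mem' := Or.inl rfl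
  add_mem' := fun hv hw => Wl_add S.ρ_cyc l hv hw
  neg_mem' := by
    intro v hv
    show Wl l (-v)
    rwa [show -v = v from (eq_neg_of_add_eq_zero_left (vadd_self v)).symm]

/-- the elementary abelian subgroup of `Q` attached to the letter `l` -/
def El (l : Fin 9) : Subgroup G := preim S (WlSub S l)

omit [Finite G] in
theorem mem_El {l : Fin 9} {x : G} : x ∈ El S l ↔ x ∈ S.Q ∧ Wl l (S.π x) := Iff.rfl

omit [Finite G] in
theorem mem_El_eight {x : G} : x ∈ El S 8 ↔ x ∈ S.Q ∧ S.π x 4 = 0 ∧ S.π x 5 = 0 ∧ S.π x 6 = 0 ∧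
    S.π x 7 = 0 := by
  rw [mem_El, Wl_eight]; rfl

omit [Finite G] in
theorem card_El (l : Fin 9) : Nat.card (El S l) = 32 := by
  unfold El
  rw [card_preim S]
  have : Nat.card (WlSub S l) = 16 := card_Wl S.ρ_cyc l
  rw [this]

theorem EE_eq (hc : g * z * g⁻¹ ∈ S.Q) (hcz : g * z * g⁻¹ ≠ z) :
    EE S g = El S (lt (S.π (g * z * g⁻¹))) := by
  classical
  have hc1 : g * z * g⁻¹ ≠ 1 := (conj S g).z_ne
  have hcard := card_EE S hc hcz
  refine Subgroup.eq_of_le_of_card_ge ?_ (by rw [hcard, card_El])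
  have hW : Nat.card (WE S g) ≤ 16 := card_WE_le S hcz
  have : Fintype (WE S g) := Fintype.ofFinite _
  let W : Finset V := Finset.univ.filter fun v => v ∈ WE S g
  have hmem : ∀ v, v ∈ W ↔ v ∈ WE S g := fun v => by simp [W]
  have hWcard : W.card ≤ 16 := by
    refine le_trans (le_of_eq ?_) hW
    rw [Nat.card_eq_fintype_card]
    exact (Fintype.card_of_subtype W hmem).symm
  have hcE : g * z * g⁻¹ ∈ EE S g := ⟨hc, (conj S g).z_mem⟩
  have key := Wl_of_stable S.ρ_cyc W hWcard (S.π (g * z * g⁻¹)) (pi_ne_zero S hc hc1 hcz)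
    ((hmem _).2 ⟨_, hcE, rfl⟩) ((hmem _).2 (WE S g).zero_mem)
    (by
      intro w hw
      obtain ⟨x, hx, rfl⟩ := (hmem _).1 hw
      exact (sq_eq_one_iff S hx.1).1 (EE_sq S hcz hx))
    (by
      intro a ha w hw
      rw [hmem] at hw ⊢
      obtain ⟨x, hx, rfl⟩ := hw
      obtain ⟨h, hhz, hhc, rfl⟩ := lift_fix S hc hc1 hcz a ha
      exact ⟨h * x * h⁻¹, ⟨conj_mem_Q S hhz hx.1, conj_mem_Q (conj S g) hhc hx.2⟩,
        S.act h hhz x hx.1⟩)
  intro x hx
  exact ⟨hx.1, key _ ((hmem _).2 ⟨x, hx, rfl⟩)⟩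

end EE

end Cfsg.Agent.ThType.ElemE
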