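import Cfsg.Agent.ThType.SpinData
import Mathlib.GroupTheory.Perm.Cycle.Type
import Mathlib.GroupTheory.Perm.Sign
import Mathlib.Tactic

/-!
# Thompson type (project R05): squares of the elements over involutions of `A₉`

`SQ2`, `SQ4`: in `C_G(z)` the elements over `2² 1⁵` whose square lies in `⟨z⟩` have square `z`, those
over `2⁴ 1` have square `1`.  `oneClass`: all involutions of `C_G(z)` are conjugate to `z`.
-/

set_option autoImplicit false

namespace Cfsg.Agent.ThType.Squares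

open Cfsg.Agent.ThType.SpinData Equiv

variable {G : Type*} [Group G] {z : G}

/-! ### Elementary consequences of the interface -/

theorem zmod2 (a : ZMod 2) : a = 0 ∨ a = 1 := by revert a; decide

theorem cz_mul {x y : G} (hx : x * z = z * x) (hy : y * z = z * y) :
    (x * y) * z = z * (x * y) := by
  rw [mul_assoc, hy, ← mul_assoc, hx, mul_assoc]

theorem cz_inv {x : G} (hx : x * z = z * x) : x⁻¹ * z = z * x⁻¹ := by
  have h : x⁻¹ * (x * z) * x⁻¹ = x⁻¹ * (z * x) * x⁻¹ := by rw [hx]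
  simp only [inv_mul_cancel_left] at h
  rw [h]; group

variable (S : SpinAt G z)
include S

theorem cQ {x : G} (hx : x ∈ S.Q) : x * z = z * x := S.Q_le x hx

theorem φ_one : S.φ 1 = 1 := by
  have h := S.φ_mul 1 1 (by simp) (by simp)
  rw [mul_one] at h
  exact left_eq_mul.mp h

theorem φ_inv {x : G} (hx : x * z = z * x) : S.φ x⁻¹ = (S.φ x)⁻¹ := by
  have h := S.φ_mul x x⁻¹ hx (cz_inv hx)
  rw [mul_inv_cancel, φ_one] at h
  exact (inv_eq_of_mul_eq_one_right h.symm).symm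

theorem φ_conj {c x : G} (hc : c * z = z * c) (hx : x * z = z * x) :
    S.φ (c * x * c⁻¹) = S.φ c * S.φ x * (S.φ c)⁻¹ := by
  rw [S.φ_mul _ _ (cz_mul hc hx) (cz_inv hc), S.φ_mul _ _ hc hx, φ_inv S hc]

theorem φ_Q {x : G} (hx : x ∈ S.Q) : S.φ x = 1 := (S.φ_eq_one x (cQ S hx)).2 hx

theorem conj_mem {c x : G} (hc : c * z = z * c) (hx : x ∈ S.Q) : c * x * c⁻¹ ∈ S.Q := by
  have h : (c * x * c⁻¹) * z = z * (c * x * c⁻¹) := cz_mul (cz_mul hc (cQ S hx)) (cz_inv hc)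
  rw [← S.φ_eq_one _ h, φ_conj S hc (cQ S hx), φ_Q S hx]
  simp

theorem π_one : S.π 1 = 0 := (S.π_eq_zero 1 S.Q.one_mem).2 (Or.inl rfl)

theorem π_z : S.π z = 0 := (S.π_eq_zero z S.z_mem).2 (Or.inr rfl)

omit S in
theorem add_self (v : V) : v + v = 0 := by
  funext i
  exact CharTwo.add_self_eq_zero (v i)

omit S in
theorem eq_of_add_eq_zero {v w : V} (h : v + w = 0) : v = w := by
  have h2 : v + w + w = w := by rw [h, zero_add]
  rwa [add_assoc, add_self, add_zero] at h2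

theorem π_inv {x : G} (hx : x ∈ S.Q) : S.π x⁻¹ = S.π x := by
  have h := S.π_mul x hx x⁻¹ (S.Q.inv_mem hx)
  rw [mul_inv_cancel, π_one] at h
  exact (eq_of_add_eq_zero h.symm).symm

theorem eq_or {x y : G} (hx : x ∈ S.Q) (hy : y ∈ S.Q) (h : S.π x = S.π y) :
    x = y ∨ x = y * z := by
  have h1 : S.π (y⁻¹ * x) = 0 := by
    rw [S.π_mul _ (S.Q.inv_mem hy) _ hx, π_inv S hy, h, add_self]
  rcases (S.π_eq_zero _ (S.Q.mul_mem (S.Q.inv_mem hy) hx)).1 h1 with h2 | h2
  · left; exact (inv_mul_eq_one.mp h2).symm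
  · right; rw [← h2]; group

theorem π_eq_of {x y : G} (hx : x ∈ S.Q) (hy : y ∈ S.Q) (h : x * y⁻¹ = 1 ∨ x * y⁻¹ = z) :
    S.π x = S.π y := by
  have h1 := (S.π_eq_zero _ (S.Q.mul_mem hx (S.Q.inv_mem hy))).2 h
  rw [S.π_mul _ hx _ (S.Q.inv_mem hy), π_inv S hy] at h1
  exact eq_of_add_eq_zero h1

theorem z_inv : z⁻¹ = z := inv_eq_of_mul_eq_one_right S.z_sq

/-- invariance of the polar form -/
theorem b0_inv {c : G} (hc : c * z = z * c) (v w : V) :
    b0 ((S.ρ (S.φ c)).mulVec v) ((S.ρ (S.φ c)).mulVec w) = b0 v w := by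
  obtain ⟨x, hx, rfl⟩ := S.π_surj v
  obtain ⟨y, hy, rfl⟩ := S.π_surj w
  have hx' := conj_mem S hc hx
  have hy' := conj_mem S hc hy
  have h1 := S.comm x hx y hy
  have h2 := S.comm _ hx' _ hy'
  rw [S.act c hc x hx, S.act c hc y hy] at h2
  have h3 : (c * x * c⁻¹) * (c * y * c⁻¹) = c * (x * y) * c⁻¹ := by group
  have h4 : (c * y * c⁻¹) * (c * x * c⁻¹) = c * (y * x) * c⁻¹ := by group
  rw [h3, h4, h1] at h2
  have hz : ∀ a : G, c * (z * a) * c⁻¹ = z * (c * a * c⁻¹) := by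
    intro a
    rw [← mul_assoc, hc]; group
  rcases zmod2 (b0 (S.π x) (S.π y)) with h | h <;>
  rcases zmod2
    (b0 ((S.ρ (S.φ c)).mulVec (S.π x)) ((S.ρ (S.φ c)).mulVec (S.π y))) with h' | h'
  all_goals rw [h, h']
  · rw [h, h'] at h2
    simp only [if_true, one_ne_zero, if_false, one_mul] at h2
    exact absurd (right_eq_mul.mp h2) S.z_ne
  · rw [h, h'] at h2
    simp only [if_true, one_ne_zero, if_false, one_mul, hz] at h2
    exact absurd (mul_eq_right.mp h2) S.z_ne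

/-! ### Good involutions and cosets -/

/-- the fixed vectors of `g` are commutators -/
def Good (g : alternatingGroup (Fin 9)) : Prop :=
  ∀ v : V, (S.ρ g).mulVec v = v → ∃ w : V, v = w + (S.ρ g).mulVec w

theorem ρ_mul_mulVec (g h : alternatingGroup (Fin 9)) (v : V) :
    (S.ρ (g * h)).mulVec v = (S.ρ g).mulVec ((S.ρ h).mulVec v) := by
  rw [map_mul, Matrix.mulVec_mulVec]

theorem ρ_one_mulVec (v : V) : (S.ρ 1).mulVec v = v := by
  rw [map_one, Matrix.one_mulVec]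

omit S in
theorem conj_aux {H : Type*} [Group H] (c g : H) : c⁻¹ * (c * g * c⁻¹) = g * c⁻¹ := by group

omit S in
theorem conj_aux2 {H : Type*} [Group H] (c g : H) : (c * g * c⁻¹) * c = c * g := by group

theorem Good.conj {g : alternatingGroup (Fin 9)} (hg : Good S g) (c : alternatingGroup (Fin 9)) :
    Good S (c * g * c⁻¹) := by
  intro v hv
  have h1 : (S.ρ g).mulVec ((S.ρ c⁻¹).mulVec v) = (S.ρ c⁻¹).mulVec v := by
    conv_rhs => rw [← hv]
    rw [← ρ_mul_mulVec, ← ρ_mul_mulVec, conj_aux]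
  obtain ⟨w, hw⟩ := hg _ h1
  refine ⟨(S.ρ c).mulVec w, ?_⟩
  have h2 : v = (S.ρ c).mulVec ((S.ρ c⁻¹).mulVec v) := by
    rw [← ρ_mul_mulVec, mul_inv_cancel, ρ_one_mulVec]
  rw [← ρ_mul_mulVec, conj_aux2, ρ_mul_mulVec, ← Matrix.mulVec_add, ← hw, ← h2]

/-- in the coset of `y` every element with square in `⟨z⟩` is `Q`-conjugate to `y` or `y z` -/
theorem coset {y x : G} (hy : y * z = z * y) (hx : x * z = z * x) (hg : Good S (S.φ y))
    (hy2 : y * y = 1 ∨ y * y = z) (hx2 : x * x = 1 ∨ x * x = z) (hxy : S.φ x = S.φ y) :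
    ∃ r ∈ S.Q, x = r * y * r⁻¹ ∨ x = r * y * r⁻¹ * z := by
  -- x = q y with q in Q
  have hq : x * y⁻¹ ∈ S.Q := by
    rw [← S.φ_eq_one _ (cz_mul hx (cz_inv hy)), S.φ_mul _ _ hx (cz_inv hy), φ_inv S hy, hxy,
      mul_inv_cancel]
  set q := x * y⁻¹ with hqdef
  have hxq : x = q * y := by rw [hqdef]; group
  have hyz2 : (y * y)⁻¹ = y * y := by
    rcases hy2 with h | h
    · rw [h]; simp
    · rw [h]; exact z_inv S
  have hyc : y * q * y⁻¹ ∈ S.Q := conj_mem S hy hq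
  have hfix : (S.ρ (S.φ y)).mulVec (S.π q) = S.π q := by
    rw [← S.act y hy q hq, ← π_inv S hq]
    symm
    apply π_eq_of S (S.Q.inv_mem hq) hyc
    have h1 : q⁻¹ * (y * q * y⁻¹)⁻¹ = (y * y) * (x * x)⁻¹ := by
      have : (x * x)⁻¹ = y⁻¹ * q⁻¹ * y⁻¹ * q⁻¹ := by rw [hxq]; group
      have e : q⁻¹ * (y * q * y⁻¹)⁻¹ = q⁻¹ * ((y * y) * (y⁻¹ * q⁻¹ * y⁻¹)) := by group
      have comm1 : (y * y) * q⁻¹ = q⁻¹ * (y * y) := by
        rcases hy2 with h | h
        · rw [h]; simp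
        · rw [h]; exact (cQ S (S.Q.inv_mem hq)).symm
      rw [e, ← mul_assoc, ← comm1, this]
      have hxx : (x * x)⁻¹ * q = q * (x * x)⁻¹ := by
        rcases hx2 with h | h
        · rw [h]; simp
        · rw [h, z_inv S]; exact (cQ S hq).symm
      have h5 : q⁻¹ * (y⁻¹ * q⁻¹ * y⁻¹) = y⁻¹ * q⁻¹ * y⁻¹ * q⁻¹ := by
        have h6 : q⁻¹ * ((x * x)⁻¹ * q) = (x * x)⁻¹ := by rw [hxx]; group
        rw [this] at h6
        rw [← h6]; group
      rw [mul_assoc (y * y), h5]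
    rw [h1]
    rcases hy2 with h | h <;> rcases hx2 with h' | h' <;> rw [h, h']
    · left; simp
    · right; rw [z_inv S]; simp
    · right; simp
    · left; simp
  obtain ⟨w, hw⟩ := hg _ hfix
  obtain ⟨r, hr, rfl⟩ := S.π_surj w
  refine ⟨r, hr, ?_⟩
  have hk : r * (y * r * y⁻¹)⁻¹ ∈ S.Q := S.Q.mul_mem hr (S.Q.inv_mem (conj_mem S hy hr))
  have hπ : S.π q = S.π (r * (y * r * y⁻¹)⁻¹) := by
    rw [S.π_mul _ hr _ (S.Q.inv_mem (conj_mem S hy hr)), π_inv S (conj_mem S hy hr),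
      S.act y hy r hr]
    exact hw
  rcases eq_or S hq hk hπ with h | h
  · left; rw [hxq, h]; group
  · right
    rw [hxq, h, mul_assoc (r * (y * r * y⁻¹)⁻¹), ← hy]
    group

theorem coset_sq {y x : G} (hy : y * z = z * y) (hx : x * z = z * x) (hg : Good S (S.φ y))
    (hy2 : y * y = 1 ∨ y * y = z) (hx2 : x * x = 1 ∨ x * x = z) (hxy : S.φ x = S.φ y) :
    x * x = y * y := by
  obtain ⟨r, hr, h⟩ := coset S hy hx hg hy2 hx2 hxy
  have hrz := cQ S hr
  have h1 : (r * y * r⁻¹) * (r * y * r⁻¹) = y * y := by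
    have : (r * y * r⁻¹) * (r * y * r⁻¹) = r * (y * y) * r⁻¹ := by group
    rw [this]
    rcases hy2 with h | h
    · rw [h]; simp
    · rw [h, hrz]; group
  rcases h with h | h
  · rw [h, h1]
  · have hc : (r * y * r⁻¹) * z = z * (r * y * r⁻¹) := cz_mul (cz_mul hrz hy) (cz_inv hrz)
    rw [h, mul_assoc, ← mul_assoc z, ← hc, mul_assoc (r * y * r⁻¹) z z, S.z_sq, mul_one, h1]

/-- isotropy of the fixed space of a good element -/
theorem isotropic {c : G} (hc : c * z = z * c) (hg : Good S (S.φ c)) {v w : V}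
    (hv : (S.ρ (S.φ c)).mulVec v = v) (hw : (S.ρ (S.φ c)).mulVec w = w) : b0 v w = 0 := by
  obtain ⟨u, hu⟩ := hg v hv
  have hadd : ∀ a b d : V, b0 (a + b) d = b0 a d + b0 b d := by
    intro a b d; simp only [b0, Pi.add_apply]; ring
  have h1 := b0_inv S hc u w
  rw [hw] at h1
  rw [hu, hadd, h1]
  exact CharTwo.add_self_eq_zero _

/-! ### The two classes of involutions of `A₉` -/

section classes
omit S

/-- matrices from bitmasks -/
def mk (r : Fin 8 → ℕ) : Matrix (Fin 8) (Fin 8) (ZMod 2) :=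
  Matrix.of fun i j => if (r i).testBit j.1 then 1 else 0

/-- an element of type `2² 1⁵` -/
def j0 : alternatingGroup (Fin 9) := cyc 0 * cyc 1

/-- an element of type `2⁴ 1` -/
def i0 : alternatingGroup (Fin 9) :=
  ((((((cyc 0 * cyc 1) * cyc 2) * cyc 4) * cyc 3) * cyc 5) * cyc 2) * cyc 4

theorem j0_coe : (j0 : Perm (Fin 9)) = swap 0 2 * swap 1 3 := by decide

theorem i0_coe : (i0 : Perm (Fin 9)) = (swap 0 2 * swap 1 3) * (swap 4 5 * swap 6 7) := by
  decide

def MJ : Matrix (Fin 8) (Fin 8) (ZMod 2) := mk ![97, 90, 189, 72, 80, 32, 64, 224]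
def MI : Matrix (Fin 8) (Fin 8) (ZMod 2) := mk ![97, 18, 220, 72, 16, 32, 64, 192]

theorem X01 : X 0 * X 1 = MJ := by decide +kernel
theorem m2 : MJ * X 2 = mk ![250, 219, 126, 236, 208, 16, 224, 160] := by decide +kernel
theorem m3 : mk ![250, 219, 126, 236, 208, 16, 224, 160] * X 4
    = mk ![85, 102, 153, 120, 96, 32, 112, 240] := by decide +kernel
theorem m4 : mk ![85, 102, 153, 120, 96, 32, 112, 240] * X 3
    = mk ![120, 153, 255, 45, 144, 80, 32, 96] := by decide +kernel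
theorem m5 : mk ![120, 153, 255, 45, 144, 80, 32, 96] * X 5
    = mk ![85, 30, 204, 120, 16, 32, 112, 208] := by decide +kernel
theorem m6 : mk ![85, 30, 204, 120, 16, 32, 112, 208] * X 2
    = mk ![210, 51, 180, 204, 48, 16, 192, 128] := by decide +kernel
theorem m7 : mk ![210, 51, 180, 204, 48, 16, 192, 128] * X 4 = MI := by decide +kernel

theorem MJ_id : (1 + MJ) * mk ![0, 0, 0, 0, 18, 144, 16, 134] + 1
    = mk ![134, 0, 0, 18, 0, 144, 16, 0] * (1 + MJ) := by decide +kernel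
theorem MI_id : (1 + MI) * mk ![0, 0, 0, 0, 2, 129, 128, 134] + 1
    = mk ![0, 0, 0, 134, 2, 129, 128, 0] * (1 + MI) := by decide +kernel

theorem good_of_id {M W Y : Matrix (Fin 8) (Fin 8) (ZMod 2)} (h : (1 + M) * W + 1 = Y * (1 + M))
    (v : V) (hv : M.mulVec v = v) : ∃ w : V, v = w + M.mulVec w := by
  refine ⟨W.mulVec v, ?_⟩
  have h1 : ((1 + M) * W + 1).mulVec v = (Y * (1 + M)).mulVec v := by rw [h]
  rw [Matrix.add_mulVec, Matrix.one_mulVec, ← Matrix.mulVec_mulVec, ← Matrix.mulVec_mulVec,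
    Matrix.add_mulVec, Matrix.one_mulVec, Matrix.add_mulVec 1 M v, Matrix.one_mulVec, hv,
    add_self, Matrix.mulVec_zero] at h1
  exact (eq_of_add_eq_zero h1).symm

theorem conj_A9 (k g : alternatingGroup (Fin 9)) (τ : Perm (Fin 9)) (hτ : Perm.sign τ = -1)
    (hcomm : τ * (k : Perm (Fin 9)) = k * τ)
    (h : (g : Perm (Fin 9)).cycleType = (k : Perm (Fin 9)).cycleType) :
    ∃ c : alternatingGroup (Fin 9), c * g * c⁻¹ = k := by
  obtain ⟨c, hc⟩ := isConj_iff.1 (Perm.isConj_of_cycleType_eq h)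
  rcases Int.units_eq_one_or (Perm.sign c) with h1 | h1
  · refine ⟨⟨c, Perm.mem_alternatingGroup.mpr h1⟩, Subtype.ext ?_⟩
    simpa using hc
  · refine ⟨⟨τ * c, ?_⟩, Subtype.ext ?_⟩
    · rw [Perm.mem_alternatingGroup, map_mul, h1, hτ]; rfl
    · have h2 : (τ * c) * (g : Perm (Fin 9)) * (τ * c)⁻¹ = τ * (c * g * c⁻¹) * τ⁻¹ := by group
      simp only [Subgroup.coe_mul, Subgroup.coe_inv]
      rw [h2, hc, hcomm]; group

theorem type_of_invol (g : alternatingGroup (Fin 9)) (h2 : g * g = 1) (h1 : g ≠ 1) :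
    (g : Perm (Fin 9)).cycleType = {2, 2} ∨ (g : Perm (Fin 9)).cycleType = {2, 2, 2, 2} := by
  have hp : (g : Perm (Fin 9)) ^ 2 = 1 := by
    rw [sq, ← Subgroup.coe_mul, h2]; rfl
  have : Fact (Nat.Prime 2) := ⟨Nat.prime_two⟩
  have hr := Perm.cycleType_of_pow_prime_eq_one hp
  have hle := (g : Perm (Fin 9)).sum_cycleType_le
  have hs : Perm.sign (g : Perm (Fin 9)) = 1 := Perm.mem_alternatingGroup.mp g.2
  have hne : (g : Perm (Fin 9)).cycleType.card ≠ 0 := by
    rw [Ne, Perm.card_cycleType_eq_zero]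
    intro h; exact h1 (Subtype.ext h)
  rw [Perm.sign_of_cycleType] at hs
  set n := (g : Perm (Fin 9)).cycleType.card with hn
  rw [hr] at hle hs ⊢
  simp only [Multiset.sum_replicate, smul_eq_mul, Fintype.card_fin] at hle hs
  have hn4 : n ≤ 4 := by omega
  interval_cases n
  · exact absurd rfl hne
  · exact absurd hs (by decide)
  · left; rfl
  · exact absurd hs (by decide)
  · right; rfl

theorem j0_type : (j0 : Perm (Fin 9)).cycleType = {2, 2} := by
  rw [j0_coe]; exact Perm.cycleType_swap_mul_swap_of_nodup (by decide)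

theorem i0_type : (i0 : Perm (Fin 9)).cycleType = {2, 2, 2, 2} := by
  rw [i0_coe, Perm.Disjoint.cycleType_mul, Perm.cycleType_swap_mul_swap_of_nodup (by decide),
    Perm.cycleType_swap_mul_swap_of_nodup (by decide)]
  · rfl
  · rw [Perm.disjoint_iff_disjoint_support]; decide

theorem conj_j0 (g : alternatingGroup (Fin 9)) (h : (g : Perm (Fin 9)).cycleType = {2, 2}) :
    ∃ c : alternatingGroup (Fin 9), c * g * c⁻¹ = j0 :=
  conj_A9 j0 g (swap 0 2) (by decide) (by rw [j0_coe]; decide) (h.trans j0_type.symm)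

theorem conj_i0 (g : alternatingGroup (Fin 9)) (h : (g : Perm (Fin 9)).cycleType = {2, 2, 2, 2}) :
    ∃ c : alternatingGroup (Fin 9), c * g * c⁻¹ = i0 :=
  conj_A9 i0 g (swap 0 2) (by decide) (by rw [i0_coe]; decide) (h.trans i0_type.symm)

end classes

theorem ρ_j0 : S.ρ j0 = MJ := by
  rw [j0, map_mul, S.ρ_cyc, S.ρ_cyc, X01]

theorem ρ_i0 : S.ρ i0 = MI := by
  rw [i0]
  simp only [map_mul, S.ρ_cyc]
  rw [X01, m2, m3, m4, m5, m6, m7]

theorem good_j0 : Good S j0 := by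
  intro v hv
  rw [ρ_j0] at hv ⊢
  exact good_of_id MJ_id v hv

theorem good_i0 : Good S i0 := by
  intro v hv
  rw [ρ_i0] at hv ⊢
  exact good_of_id MI_id v hv

theorem good_of_invol (g : alternatingGroup (Fin 9)) (h2 : g * g = 1) (h1 : g ≠ 1) :
    Good S g := by
  rcases type_of_invol g h2 h1 with h | h
  · obtain ⟨c, hc⟩ := conj_j0 g h
    have : g = c⁻¹ * j0 * (c⁻¹)⁻¹ := by rw [← hc]; group
    rw [this]; exact (good_j0 S).conj S _
  · obtain ⟨c, hc⟩ := conj_i0 g h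
    have : g = c⁻¹ * i0 * (c⁻¹)⁻¹ := by rw [← hc]; group
    rw [this]; exact (good_i0 S).conj S _

/-! ### The elementary abelian group `E` -/

section E

variable (E : Subgroup G)

/-- the defining property of `E` -/
def IsE : Prop := ∀ x, x ∈ E ↔ x ∈ S.Q ∧ S.π x 4 = 0 ∧ S.π x 5 = 0 ∧ S.π x 6 = 0 ∧ S.π x 7 = 0

variable {E}
variable (hE : IsE S E)
include hE

theorem E_le {x : G} (hx : x ∈ E) : x ∈ S.Q := ((hE x).1 hx).1

theorem z_mem_E : z ∈ E := by
  rw [hE]; rw [π_z]; exact ⟨S.z_mem, rfl, rfl, rfl, rfl⟩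

theorem E_comm {x y : G} (hx : x ∈ E) (hy : y ∈ E) : x * y = y * x := by
  obtain ⟨hxQ, a4, a5, a6, a7⟩ := (hE x).1 hx
  obtain ⟨hyQ, c4, c5, c6, c7⟩ := (hE y).1 hy
  have h := S.comm x hxQ y hyQ
  have h0 : b0 (S.π x) (S.π y) = 0 := by
    simp only [b0, a4, a5, a6, a7, c4, c5, c6, c7]; ring
  rw [h0] at h
  simpa using h

theorem E_sq {x : G} (hx : x ∈ E) : x * x = 1 := by
  obtain ⟨hxQ, a4, a5, a6, a7⟩ := (hE x).1 hx
  have h := S.sq x hxQ
  have h0 : q0 (S.π x) = 0 := by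
    simp only [q0, a4, a5, a6, a7]; ring
  rw [h0] at h
  simpa using h

theorem E_inv {x : G} (hx : x ∈ E) : x⁻¹ = x := inv_eq_of_mul_eq_one_right (E_sq S hE hx)

omit S hE in
/-- the sign map -/
def ζ (z : G) (t : ZMod 2) : G := if t = 0 then 1 else z

omit hE in
theorem ζ_add (s t : ZMod 2) : ζ z (s + t) = ζ z s * ζ z t := by
  rcases zmod2 s with rfl | rfl <;> rcases zmod2 t with rfl | rfl
  · simp [ζ]
  · simp [ζ]
  · simp [ζ]
  · have : (1 : ZMod 2) + 1 = 0 := by decide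
    rw [this]; simp [ζ, S.z_sq]

omit hE in
theorem ζ_sq (t : ZMod 2) : ζ z t * ζ z t = 1 := by
  rw [← ζ_add S, CharTwo.add_self_eq_zero]; simp [ζ]

/-- every homomorphism `E → ⟨z⟩` which is trivial at `z` is induced by an involution (or `1`) of
`Q`. -/
theorem fun_lemma (a : G → G) (h1 : ∀ e ∈ E, a e = 1 ∨ a e = z)
    (hm : ∀ e ∈ E, ∀ e' ∈ E, a (e * e') = a e * a e') (hz : a z = 1) :
    ∃ x ∈ S.Q, x * x = 1 ∧ ∀ e ∈ E, x * e = a e * (e * x) := by
  classical
  choose b hbQ hbπ using fun i : Fin 8 => S.π_surj (Pi.single i 1)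
  have ha1 : a 1 = 1 := by
    have := hm 1 E.one_mem 1 E.one_mem
    rw [mul_one] at this
    exact left_eq_mul.mp this
  have hbE : ∀ i : Fin 8, i.1 < 4 → b i ∈ E := by
    intro i hi
    rw [hE]
    refine ⟨hbQ i, ?_, ?_, ?_, ?_⟩ <;> rw [hbπ] <;> apply Pi.single_eq_of_ne <;> intro h <;>
      rw [← h] at hi <;> simp at hi
  let α : Fin 8 → ZMod 2 := fun i => if a (b i) = 1 then 0 else 1
  have hα : ∀ i : Fin 8, i.1 < 4 → a (b i) = ζ z (α i) := by
    intro i hi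
    by_cases h : a (b i) = 1
    · simp [α, ζ, h]
    · have := (h1 _ (hbE i hi)).resolve_left h
      simp [α, ζ, this]
  obtain ⟨x, hxQ, hxπ⟩ := S.π_surj ![0, 0, 0, 0, α 0, α 1, α 2, α 3]
  refine ⟨x, hxQ, ?_, ?_⟩
  · rw [S.sq x hxQ, hxπ]
    have : q0 ![0, 0, 0, 0, α 0, α 1, α 2, α 3] = 0 := by
      simp [q0]
    rw [this]; simp
  intro e he
  have key : a e = ζ z (α 0 * S.π e 0 + α 1 * S.π e 1 + α 2 * S.π e 2 + α 3 * S.π e 3) := by
    let pw : Fin 8 → G := fun i => if S.π e i = 0 then 1 else b i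
    have hpE : ∀ i : Fin 8, i.1 < 4 → pw i ∈ E := by
      intro i hi
      by_cases h : S.π e i = 0
      · simp only [pw, h, if_true]; exact E.one_mem
      · simp only [pw, h, if_false]; exact hbE i hi
    have hpa : ∀ i : Fin 8, i.1 < 4 → a (pw i) = ζ z (α i * S.π e i) := by
      intro i hi
      rcases zmod2 (S.π e i) with h | h
      · simp [pw, h, ha1, ζ]
      · simp only [pw, h, one_ne_zero, if_false, mul_one]; exact hα i hi
    have hpπ : ∀ i : Fin 8, S.π (pw i) = Pi.single i (S.π e i) := by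
      intro i
      rcases zmod2 (S.π e i) with h | h
      · simp only [pw, h, if_true, π_one S, Pi.single_zero]
      · simp only [pw, h, one_ne_zero, if_false, hbπ]
    have m0 := hpE 0 (by decide)
    have m1 := hpE 1 (by decide)
    have m2 := hpE 2 (by decide)
    have m3 := hpE 3 (by decide)
    have e0 := E.mul_mem he m0
    have e1 := E.mul_mem e0 m1
    have e2 := E.mul_mem e1 m2
    have e3 := E.mul_mem e2 m3
    obtain ⟨heQ, c4, c5, c6, c7⟩ := (hE e).1 he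
    have hπ : S.π (e * pw 0 * pw 1 * pw 2 * pw 3) = 0 := by
      rw [S.π_mul _ (E_le S hE e2) _ (E_le S hE m3), S.π_mul _ (E_le S hE e1) _ (E_le S hE m2),
        S.π_mul _ (E_le S hE e0) _ (E_le S hE m1), S.π_mul _ heQ _ (E_le S hE m0),
        hpπ, hpπ, hpπ, hpπ]
      funext i
      have t2 : ∀ t : ZMod 2, t + t = 0 := CharTwo.add_self_eq_zero
      fin_cases i <;> simp [t2, c4, c5, c6, c7]
    have hprod : a (e * pw 0 * pw 1 * pw 2 * pw 3) = 1 := by
      rcases (S.π_eq_zero _ (E_le S hE e3)).1 hπ with h | h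
      · rw [h, ha1]
      · rw [h, hz]
    rw [hm _ e2 _ m3, hm _ e1 _ m2, hm _ e0 _ m1, hm _ he _ m0, hpa 0 (by decide),
      hpa 1 (by decide), hpa 2 (by decide), hpa 3 (by decide), mul_assoc (a e), mul_assoc (a e),
      mul_assoc (a e), ← ζ_add S, ← ζ_add S, ← ζ_add S] at hprod
    have h5 := ζ_sq S (α 0 * S.π e 0 + α 1 * S.π e 1 + α 2 * S.π e 2 + α 3 * S.π e 3)
    exact mul_right_cancel (hprod.trans h5.symm)
  have hc := S.comm x hxQ e (E_le S hE he)
  have hb : b0 (S.π x) (S.π e)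
      = α 0 * S.π e 0 + α 1 * S.π e 1 + α 2 * S.π e 2 + α 3 * S.π e 3 := by
    rw [hxπ]
    simp [b0]
  rw [hc, hb, key]
  rfl

end E

/-! ### The main argument -/

section main

variable {E : Subgroup G}
variable (hE : IsE S E)

omit S in
theorem inv_stab [Finite G] {g : G} (hg : ∀ e ∈ E, g * e * g⁻¹ ∈ E) : ∀ e ∈ E, g⁻¹ * e * g ∈ E := by
  intro e he
  let f : E → E := fun x => ⟨g * x.1 * g⁻¹, hg x.1 x.2⟩
  have hinj : Function.Injective f := by
    intro x y hxy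
    have h := congrArg Subtype.val hxy
    simp only [f] at h
    exact Subtype.ext (mul_left_cancel (mul_right_cancel h))
  obtain ⟨y, hy⟩ := (Finite.surjective_of_injective hinj) ⟨e, he⟩
  have h := congrArg Subtype.val hy
  simp only [f] at h
  rw [← h]
  have : g⁻¹ * (g * y.1 * g⁻¹) * g = y.1 := by group
  rw [this]; exact y.2

/-- transitivity of `N_G(E)` on `E#` -/
def Trans (z : G) (E : Subgroup G) : Prop :=
  ∀ p ∈ E, p ≠ 1 → ∃ g, g * z * g⁻¹ = p ∧ ∀ e ∈ E, g * e * g⁻¹ ∈ E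

omit S in
theorem conj_ζ (g : G) (t : ZMod 2) : g * ζ z t * g⁻¹ = ζ (g * z * g⁻¹) t := by
  rcases zmod2 t with rfl | rfl <;> simp [ζ]

include hE in
theorem exists_y [Finite G] (ht : Trans z E) {P : G} (hP : P ∈ E) (hP1 : P ≠ 1) (h : G → ZMod 2)
    (hadd : ∀ e ∈ E, ∀ e' ∈ E, h (e * e') = h e + h e') (hhP : h P = 0) :
    ∃ g x : G, g * z * g⁻¹ = P ∧ (∀ e ∈ E, g * e * g⁻¹ ∈ E) ∧ (∀ e ∈ E, g⁻¹ * e * g ∈ E) ∧
      x ∈ S.Q ∧ x * x = 1 ∧
      (∀ e ∈ E, (g * x * g⁻¹) * e = ζ P (h e) * (e * (g * x * g⁻¹))) := by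
  obtain ⟨g, hgz, hgE⟩ := ht P hP hP1
  have hgE' := inv_stab hgE
  obtain ⟨x, hxQ, hx2, hx⟩ := fun_lemma S hE (fun e => ζ z (h (g * e * g⁻¹)))
    (by
      intro e _
      rcases zmod2 (h (g * e * g⁻¹)) with h0 | h0 <;> simp [ζ, h0])
    (by
      intro e he e' he'
      have h1 : g * (e * e') * g⁻¹ = (g * e * g⁻¹) * (g * e' * g⁻¹) := by group
      simp only [h1, hadd _ (hgE e he) _ (hgE e' he'), ζ_add S])
    (by simp only [hgz, hhP]; simp [ζ])
  refine ⟨g, x, hgz, hgE, hgE', hxQ, hx2, ?_⟩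
  intro e he
  have h1 := hx _ (hgE' e he)
  have h2 : g * (g⁻¹ * e * g) * g⁻¹ = e := by group
  simp only [h2] at h1
  have h3 : (g * x * g⁻¹) * e = g * (x * (g⁻¹ * e * g)) * g⁻¹ := by group
  rw [h3, h1, ← hgz, ← conj_ζ]
  group

/-- the commutator `[u, e]` -/
def kap (u e : G) : G := u * e * u⁻¹ * e

omit S in
theorem kap_mem {u e : G} (hu : ∀ e ∈ E, u * e * u⁻¹ ∈ E) (he : e ∈ E) : kap u e ∈ E :=
  E.mul_mem (hu e he) he

include hE in
theorem kap_mul {u e e' : G} (hu : ∀ e ∈ E, u * e * u⁻¹ ∈ E) (he : e ∈ E) (he' : e' ∈ E) :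
    kap u (e * e') = kap u e * kap u e' := by
  have h1 : kap u (e * e') = (u * e * u⁻¹) * ((u * e' * u⁻¹) * e) * e' := by
    simp only [kap]; group
  rw [h1, E_comm S hE (hu e' he') he]
  simp only [kap]; group

include hE in
theorem kap_kap {u e : G} (hu : ∀ e ∈ E, u * e * u⁻¹ ∈ E) (hu2 : u * u = 1) (he : e ∈ E) :
    kap u (kap u e) = 1 := by
  have hui : u⁻¹ = u := inv_eq_of_mul_eq_one_right hu2
  have h1 : kap u (kap u e) = (u * u) * e * (u⁻¹ * u⁻¹) * (u * e * u⁻¹) * ((u * e * u⁻¹) * e) := by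
    simp only [kap]; group
  rw [h1, hu2, hui, hu2]
  have h2 := hu e he
  rw [hui] at h2
  have h3 : 1 * e * 1 * (u * e * u) * ((u * e * u) * e) = e * ((u * e * u) * (u * e * u)) * e := by
    group
  rw [h3, E_sq S hE h2, mul_one, E_sq S hE he]

include hE in
theorem conj_eq {u e : G} (he : e ∈ E) : u * e = kap u e * (e * u) := by
  have h : kap u e * (e * u) = u * e * u⁻¹ * (e * e) * u := by simp only [kap]; group
  rw [h, E_sq S hE he]; group

theorem kap_z {u : G} (hu : u * z = z * u) : kap u z = 1 := by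
  simp only [kap]
  rw [hu]
  have : z * u * u⁻¹ * z = z * z := by group
  rw [this, S.z_sq]

include hE in
theorem mainA [Finite G] (ht : Trans z E) (hcent : ∀ x, (∀ e ∈ E, x * e = e * x) → x ∈ E)
    {u P : G} (huz : u * z = z * u) (hu2 : u * u = 1) (huE : ∀ e ∈ E, u * e * u⁻¹ ∈ E)
    (hP : P ∈ E) (hP1 : P ≠ 1) (hPz : P ≠ z)
    (hk : ∀ e ∈ E, kap u e = 1 ∨ kap u e = z ∨ kap u e = P ∨ kap u e = P * z)
    (hkP : kap u P = 1) {e₁ e₂ : G} (h₁ : e₁ ∈ E) (h₂ : e₂ ∈ E) :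
    u * e₁ = e₁ * u ∨ u * e₂ = e₂ * u ∨ u * (e₁ * e₂) = (e₁ * e₂) * u := by
  have hπP : S.π P ≠ 0 := by
    intro h
    rcases (S.π_eq_zero P (E_le S hE hP)).1 h with h | h
    · exact hP1 h
    · exact hPz h
  obtain ⟨i, hi⟩ : ∃ i, S.π P i ≠ 0 := by
    by_contra hcon
    push Not at hcon
    exact hπP (funext hcon)
  have hi1 : S.π P i = 1 := (zmod2 _).resolve_left hi
  have hzE := z_mem_E S hE
  have hkm : ∀ e ∈ E, kap u e ∈ E := fun e he => kap_mem huE he
  let h : G → ZMod 2 := fun e => S.π (kap u e) i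
  have hadd : ∀ e ∈ E, ∀ e' ∈ E, h (e * e') = h e + h e' := by
    intro e he e' he'
    simp only [h]
    rw [kap_mul S hE huE he he', S.π_mul _ (E_le S hE (hkm e he)) _ (E_le S hE (hkm e' he'))]
    rfl
  have hval : ∀ e ∈ E, (h e = 0 ∧ (kap u e = 1 ∨ kap u e = z)) ∨
      (h e = 1 ∧ (kap u e = P ∨ kap u e = P * z)) := by
    intro e he
    simp only [h]
    rcases hk e he with h1 | h1 | h1 | h1
    · left; refine ⟨?_, Or.inl h1⟩; rw [h1, π_one S]; rfl
    · left; refine ⟨?_, Or.inr h1⟩; rw [h1, π_z S]; rfl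
    · right; refine ⟨?_, Or.inl h1⟩; rw [h1, hi1]
    · right; refine ⟨?_, Or.inr h1⟩
      rw [h1, S.π_mul _ (E_le S hE hP) _ S.z_mem, π_z S, add_zero, hi1]
  by_cases hall : ∀ e ∈ E, h e = 0
  · -- `κ` has values in `⟨z⟩`
    have hk' : ∀ e ∈ E, kap u e = 1 ∨ kap u e = z := by
      intro e he
      rcases hval e he with h1 | h1
      · exact h1.2
      · rw [hall e he] at h1; exact absurd h1.1 (by decide)
    have hcomm : ∀ e ∈ E, kap u e = 1 → u * e = e * u := by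
      intro e he h1
      rw [conj_eq S hE he, h1, one_mul]
    rcases hk' e₁ h₁ with a | a
    · exact Or.inl (hcomm _ h₁ a)
    rcases hk' e₂ h₂ with b | b
    · exact Or.inr (Or.inl (hcomm _ h₂ b))
    · refine Or.inr (Or.inr (hcomm _ (E.mul_mem h₁ h₂) ?_))
      rw [kap_mul S hE huE h₁ h₂, a, b, S.z_sq]
  push Not at hall
  obtain ⟨ε, hεE, hε⟩ := hall
  have hε1 : h ε = 1 := (zmod2 _).resolve_left hε
  have hhP : h P = 0 := by simp only [h]; rw [hkP, π_one S]; rfl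
  have hhz : h z = 0 := by simp only [h]; rw [kap_z S huz, π_one S]; rfl
  obtain ⟨g, x, hgz, hgE, hgE', hxQ, hx2, hy⟩ := exists_y S hE ht hP hP1 h hadd hhP
  set y := g * x * g⁻¹ with hydef
  have hy2 : y * y = 1 := by
    have : y * y = g * (x * x) * g⁻¹ := by rw [hydef]; group
    rw [this, hx2]; group
  have hyi : y⁻¹ = y := inv_eq_of_mul_eq_one_right hy2
  have hyz : y * z = z * y := by
    have := hy z hzE
    rw [hhz] at this
    simpa [ζ] using this
  have hycomm : ∀ e ∈ E, h e = 0 → y * e = e * y := by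
    intro e he h0
    have := hy e he
    rw [h0] at this
    simpa [ζ] using this
  have hyk : ∀ e ∈ E, y * kap u e = kap u e * y := by
    intro e he
    apply hycomm _ (hkm e he)
    simp only [h]
    rw [kap_kap S hE huE hu2 he, π_one S]; rfl
  -- the element `y u` induces on `E` a homomorphism into `⟨z⟩`
  have hact : ∀ e ∈ E, (y * u) * e = (kap u e * ζ P (h e)) * (e * (y * u)) := by
    intro e he
    calc (y * u) * e = y * (u * e) := by group
      _ = y * (kap u e * (e * u)) := by rw [conj_eq S hE he]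
      _ = (y * kap u e) * (e * u) := by group
      _ = kap u e * (y * e) * u := by rw [hyk e he]; group
      _ = kap u e * (ζ P (h e) * (e * y)) * u := by rw [hy e he]
      _ = _ := by group
  have hPP : P * P = 1 := E_sq S hE hP
  have hζE : ∀ t : ZMod 2, ζ P t ∈ E := by
    intro t
    rcases zmod2 t with rfl | rfl
    · simp only [ζ, if_true]; exact E.one_mem
    · simp only [ζ, one_ne_zero, if_false]; exact hP
  have hval2 : ∀ e ∈ E, kap u e * ζ P (h e) = 1 ∨ kap u e * ζ P (h e) = z := by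
    intro e he
    rcases hval e he with ⟨a, b⟩ | ⟨a, b⟩
    · rw [a]; simpa [ζ] using b
    · rw [a]
      simp only [ζ, one_ne_zero, if_false]
      rcases b with b | b
      · left; rw [b, hPP]
      · right; rw [b, mul_assoc, E_comm S hE hzE hP, ← mul_assoc, hPP, one_mul]
  obtain ⟨x₁, hx₁Q, hx₁2, hx₁⟩ := fun_lemma S hE (fun e => kap u e * ζ P (h e)) hval2
    (by
      intro e he e' he'
      have hz2 : ζ P (h e + h e') = ζ P (h e) * ζ P (h e') := by
        rcases zmod2 (h e) with a | a <;> rcases zmod2 (h e') with b | b <;> rw [a, b]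
        · simp [ζ]
        · simp [ζ]
        · simp [ζ]
        · have : (1 : ZMod 2) + 1 = 0 := by decide
          rw [this]; simp [ζ, hPP]
      simp only [hadd e he e' he', hz2, kap_mul S hE huE he he']
      have hc := E_comm S hE (hkm e' he') (hζE (h e))
      calc kap u e * kap u e' * (ζ P (h e) * ζ P (h e'))
          = kap u e * (kap u e' * ζ P (h e)) * ζ P (h e') := by group
        _ = _ := by rw [hc]; group)
    (by simp only [kap_z S huz, hhz]; simp [ζ])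
  have hv : y * u ∈ S.Q := by
    have h5 : x₁⁻¹ * (y * u) ∈ E := by
      apply hcent
      intro e he
      have h6 := hx₁ e he
      have h7 := hact e he
      have h8 : e * x₁⁻¹ = x₁⁻¹ * ((kap u e * ζ P (h e)) * e) := by
        have : x₁⁻¹ * (x₁ * e) * x₁⁻¹ = x₁⁻¹ * ((kap u e * ζ P (h e)) * (e * x₁)) * x₁⁻¹ := by
          rw [h6]
        calc e * x₁⁻¹ = x₁⁻¹ * (x₁ * e) * x₁⁻¹ := by group
          _ = _ := this
          _ = _ := by group
      calc x₁⁻¹ * (y * u) * e = x₁⁻¹ * ((y * u) * e) := by group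
        _ = x₁⁻¹ * ((kap u e * ζ P (h e)) * (e * (y * u))) := by rw [h7]
        _ = (x₁⁻¹ * ((kap u e * ζ P (h e)) * e)) * (y * u) := by group
        _ = e * x₁⁻¹ * (y * u) := by rw [← h8]
        _ = _ := by group
    have h9 : y * u = x₁ * (x₁⁻¹ * (y * u)) := by group
    rw [h9]
    exact S.Q.mul_mem hx₁Q (E_le S hE h5)
  set v := y * u with hvdef
  have huv : u = y * v := by rw [hvdef, ← mul_assoc, hy2, one_mul]
  -- `φ y` is an involution
  have hφy : S.φ y ≠ 1 := by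
    intro h0
    have hyQ := (S.φ_eq_one y hyz).1 h0
    have hc1 := S.comm y hyQ ε (E_le S hE hεE)
    have hc2 := hy ε hεE
    rw [hε1] at hc2
    simp only [ζ, one_ne_zero, if_false] at hc2
    rw [hc1] at hc2
    have hc3 := mul_right_cancel hc2
    by_cases hb : b0 (S.π y) (S.π ε) = 0
    · rw [if_pos hb] at hc3; exact hP1 hc3.symm
    · rw [if_neg hb] at hc3; exact hPz hc3.symm
  have hφy2 : S.φ y * S.φ y = 1 := by
    rw [← S.φ_mul _ _ hyz hyz, hy2, φ_one S]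
  have hgood := good_of_invol S (S.φ y) hφy2 hφy
  have hvfix : (S.ρ (S.φ y)).mulVec (S.π v) = S.π v := by
    rw [← S.act y hyz v hv]
    have h1 : y * v * y⁻¹ = v⁻¹ := by
      have h2 : (y * v) * (y * v) = 1 := by rw [← huv]; exact hu2
      rw [hyi]
      calc y * v * y = (y * v) * (y * v) * v⁻¹ := by group
        _ = v⁻¹ := by rw [h2, one_mul]
    rw [h1, π_inv S hv]
  have hfin : ∀ e ∈ E, h e = 0 → u * e = e * u := by
    intro e he h0
    have hye := hycomm e he h0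
    have hefix : (S.ρ (S.φ y)).mulVec (S.π e) = S.π e := by
      rw [← S.act y hyz e (E_le S hE he), hye]
      congr 1; group
    have hb := isotropic S hyz hgood hvfix hefix
    have hc := S.comm v hv e (E_le S hE he)
    rw [hb] at hc
    have hc' : v * e = e * v := by simpa using hc
    rw [huv]
    calc y * v * e = y * (v * e) := by group
      _ = (y * e) * v := by rw [hc']; group
      _ = e * (y * v) := by rw [hye]; group
  rcases zmod2 (h e₁) with a | a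
  · exact Or.inl (hfin _ h₁ a)
  rcases zmod2 (h e₂) with b | b
  · exact Or.inr (Or.inl (hfin _ h₂ b))
  · refine Or.inr (Or.inr (hfin _ (E.mul_mem h₁ h₂) ?_))
    rw [hadd _ h₁ _ h₂, a, b]; decide

omit [Group G] S in
theorem MJ_vec : ∀ v : V, v 4 = 0 → v 5 = 0 → v 6 = 0 → v 7 = 0 →
    MJ.mulVec v = ![v 0, v 1 + v 3, v 0 + v 2 + v 3, v 3, 0, 0, 0, 0] := by decide +kernel

include hE in
/-- the elements over `j0` are not involutions -/
theorem not_invol [Finite G] (ht : Trans z E) (hcent : ∀ x, (∀ e ∈ E, x * e = e * x) → x ∈ E)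
    {u : G} (huz : u * z = z * u) (hu : S.φ u = j0) : u * u ≠ 1 := by
  intro hu2
  have t2 : ∀ t : ZMod 2, t + t = 0 := CharTwo.add_self_eq_zero
  have hπu : ∀ e ∈ E, S.π (u * e * u⁻¹) = MJ.mulVec (S.π e) := by
    intro e he
    rw [S.act u huz e (E_le S hE he), hu, ρ_j0]
  have huE : ∀ e ∈ E, u * e * u⁻¹ ∈ E := by
    intro e he
    obtain ⟨heQ, c4, c5, c6, c7⟩ := (hE e).1 he
    rw [hE, hπu e he, MJ_vec _ c4 c5 c6 c7]
    exact ⟨conj_mem S huz heQ, rfl, rfl, rfl, rfl⟩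
  have hkm : ∀ e ∈ E, kap u e ∈ E := fun e he => kap_mem huE he
  have hπk : ∀ e ∈ E, S.π (kap u e) = ![0, S.π e 3, S.π e 0 + S.π e 3, 0, 0, 0, 0, 0] := by
    intro e he
    obtain ⟨heQ, c4, c5, c6, c7⟩ := (hE e).1 he
    simp only [kap]
    rw [S.π_mul _ (conj_mem S huz heQ) _ heQ, hπu e he, MJ_vec _ c4 c5 c6 c7]
    funext i
    fin_cases i
    · simp [t2]
    · simp only [Pi.add_apply]
      simp
      rw [add_right_comm, t2, zero_add]
    · simp only [Pi.add_apply]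
      simp
      linear_combination t2 (S.π e 2)
    · simp [t2]
    · simp [c4]
    · simp [c5]
    · simp [c6]
    · simp [c7]
  -- the two basis vectors
  obtain ⟨a, haQ, haπ⟩ := S.π_surj ![1, 0, 0, 0, 0, 0, 0, 0]
  obtain ⟨b, hbQ, hbπ⟩ := S.π_surj ![0, 0, 0, 1, 0, 0, 0, 0]
  have haE : a ∈ E := by rw [hE, haπ]; exact ⟨haQ, rfl, rfl, rfl, rfl⟩
  have hbE : b ∈ E := by rw [hE, hbπ]; exact ⟨hbQ, rfl, rfl, rfl, rfl⟩
  have hpπ : S.π (kap u a) = ![0, 0, 1, 0, 0, 0, 0, 0] := by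
    rw [hπk a haE, haπ]; decide
  have hPπ : S.π (kap u b) = ![0, 1, 1, 0, 0, 0, 0, 0] := by
    rw [hπk b hbE, hbπ]; decide
  have hkp : kap u (kap u a) = 1 := kap_kap S hE huE hu2 haE
  have hkP : kap u (kap u b) = 1 := kap_kap S hE huE hu2 hbE
  have hkz : kap u z = 1 := kap_z S huz
  set p := kap u a with hpdef
  set P := kap u b with hPdef
  have hpE : p ∈ E := hkm a haE
  have hPE : P ∈ E := hkm b hbE
  have hzE := z_mem_E S hE
  have hk1 : kap u 1 = 1 := by simp [kap]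
  -- values on the elements of `⟨e₁, e₂⟩`
  have hk0 : ∀ e ∈ E, S.π e 0 = 0 → S.π e 3 = 0 → kap u e = 1 := by
    intro e he h0 h3
    obtain ⟨heQ, c4, c5, c6, c7⟩ := (hE e).1 he
    have key : ∀ w ∈ E, kap u w = 1 → S.π e = S.π w → kap u e = 1 := by
      intro w hw hkw h
      rcases eq_or S heQ (E_le S hE hw) h with h' | h'
      · rw [h', hkw]
      · rw [h', kap_mul S hE huE hw hzE, hkw, hkz, mul_one]
    rcases zmod2 (S.π e 1) with h1 | h1 <;> rcases zmod2 (S.π e 2) with h2 | h2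
    · refine key 1 E.one_mem hk1 ?_
      rw [π_one S]; funext i; fin_cases i <;> simp [h0, h1, h2, h3, c4, c5, c6, c7]
    · refine key p hpE hkp ?_
      rw [hpπ]; funext i; fin_cases i <;> simp [h0, h1, h2, h3, c4, c5, c6, c7]
    · refine key (p * P) (E.mul_mem hpE hPE) ?_ ?_
      · rw [kap_mul S hE huE hpE hPE, hkp, hkP, mul_one]
      · rw [S.π_mul _ (E_le S hE hpE) _ (E_le S hE hPE), hpπ, hPπ]
        funext i; fin_cases i <;> simp [h0, h1, h2, h3, c4, c5, c6, c7, t2]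
    · refine key P hPE hkP ?_
      rw [hPπ]; funext i; fin_cases i <;> simp [h0, h1, h2, h3, c4, c5, c6, c7]
  have hkall : ∀ e ∈ E, kap u e = 1 ∨ kap u e = p ∨ kap u e = P ∨ kap u e = p * P := by
    intro e he
    have haa := E_sq S hE haE
    have hbb := E_sq S hE hbE
    rcases zmod2 (S.π e 0) with h0 | h0 <;> rcases zmod2 (S.π e 3) with h3 | h3
    · left; exact hk0 e he h0 h3
    · right; right; left
      have h1 : kap u (e * b) = 1 := by
        apply hk0 _ (E.mul_mem he hbE) <;>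
          rw [S.π_mul _ (E_le S hE he) _ hbQ, hbπ] <;> simp [h0, h3, t2]
      rw [kap_mul S hE huE he hbE] at h1
      have h2 := E_sq S hE hPE
      exact mul_right_cancel (h1.trans h2.symm)
    · right; left
      have h1 : kap u (e * a) = 1 := by
        apply hk0 _ (E.mul_mem he haE) <;>
          rw [S.π_mul _ (E_le S hE he) _ haQ, haπ] <;> simp [h0, h3, t2]
      rw [kap_mul S hE huE he haE] at h1
      have h2 := E_sq S hE hpE
      exact mul_right_cancel (h1.trans h2.symm)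
    · right; right; right
      have h1 : kap u (e * (a * b)) = 1 := by
        apply hk0 _ (E.mul_mem he (E.mul_mem haE hbE)) <;>
          rw [S.π_mul _ (E_le S hE he) _ (S.Q.mul_mem haQ hbQ), S.π_mul _ haQ _ hbQ, haπ, hbπ] <;>
          simp [h0, h3, t2]
      rw [kap_mul S hE huE he (E.mul_mem haE hbE), kap_mul S hE huE haE hbE] at h1
      have h2 := E_sq S hE (E.mul_mem hpE hPE)
      exact mul_right_cancel (h1.trans h2.symm)
  -- inequalities
  have hne : ∀ x ∈ E, S.π x ≠ 0 → x ≠ 1 := by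
    intro x _ h h'; rw [h', π_one S] at h; exact h rfl
  have hp1 : p ≠ 1 := hne p hpE (by rw [hpπ]; decide)
  have hP1 : P ≠ 1 := hne P hPE (by rw [hPπ]; decide)
  have hpP : p * P ≠ 1 := hne _ (E.mul_mem hpE hPE) (by
    rw [S.π_mul _ (E_le S hE hpE) _ (E_le S hE hPE), hpπ, hPπ]; decide)
  -- conjugate `p` to `z`
  obtain ⟨g, hgz, hgE⟩ := ht p hpE hp1
  have hgE' := inv_stab hgE
  have hgp : g⁻¹ * p * g = z := by rw [← hgz]; group
  have hconj : ∀ e : G, kap (g⁻¹ * u * g) (g⁻¹ * e * g) = g⁻¹ * kap u e * g := by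
    intro e; simp only [kap]; group
  have hconj' : ∀ e : G, kap (g⁻¹ * u * g) e = g⁻¹ * kap u (g * e * g⁻¹) * g := by
    intro e; simp only [kap]; group
  have hup : u * p = p * u := by
    have := conj_eq S hE (u := u) hpE
    rw [hkp, one_mul] at this
    exact this
  have huz' : (g⁻¹ * u * g) * z = z * (g⁻¹ * u * g) := by
    rw [← hgp]
    calc g⁻¹ * u * g * (g⁻¹ * p * g) = g⁻¹ * (u * p) * g := by group
      _ = g⁻¹ * (p * u) * g := by rw [hup]
      _ = _ := by group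
  have hu2' : (g⁻¹ * u * g) * (g⁻¹ * u * g) = 1 := by
    calc (g⁻¹ * u * g) * (g⁻¹ * u * g) = g⁻¹ * (u * u) * g := by group
      _ = 1 := by rw [hu2]; group
  have huE' : ∀ e ∈ E, (g⁻¹ * u * g) * e * (g⁻¹ * u * g)⁻¹ ∈ E := by
    intro e he
    have : (g⁻¹ * u * g) * e * (g⁻¹ * u * g)⁻¹ = g⁻¹ * (u * (g * e * g⁻¹) * u⁻¹) * g := by group
    rw [this]
    exact hgE' _ (huE _ (hgE e he))
  have hP1' : g⁻¹ * P * g ≠ 1 := by
    intro h
    apply hP1
    have : P = g * (g⁻¹ * P * g) * g⁻¹ := by group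
    rw [this, h]; group
  have hPz' : g⁻¹ * P * g ≠ z := by
    intro h
    have h1 : P = g * (g⁻¹ * P * g) * g⁻¹ := by group
    rw [h, hgz] at h1
    apply hpP
    rw [h1]; exact E_sq S hE hpE
  have hk' : ∀ e ∈ E, kap (g⁻¹ * u * g) e = 1 ∨ kap (g⁻¹ * u * g) e = z ∨
      kap (g⁻¹ * u * g) e = g⁻¹ * P * g ∨ kap (g⁻¹ * u * g) e = g⁻¹ * P * g * z := by
    intro e he
    rw [hconj']
    rcases hkall _ (hgE e he) with h | h | h | h
    · left; rw [h]; group
    · right; left; rw [h]; exact hgp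
    · right; right; left; rw [h]
    · right; right; right; rw [h, E_comm S hE hpE hPE, ← hgp]; group
  have hkP' : kap (g⁻¹ * u * g) (g⁻¹ * P * g) = 1 := by
    rw [hconj, hkP]; group
  have hmain := mainA S hE ht hcent huz' hu2' huE' (hgE' P hPE) hP1' hPz' hk' hkP'
    (hgE' a haE) (hgE' b hbE)
  have hback : ∀ e ∈ E, (g⁻¹ * u * g) * (g⁻¹ * e * g) = (g⁻¹ * e * g) * (g⁻¹ * u * g) →
      kap u e = 1 := by
    intro e he h
    have h1 : g⁻¹ * (u * e) * g = g⁻¹ * (e * u) * g := by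
      calc g⁻¹ * (u * e) * g = (g⁻¹ * u * g) * (g⁻¹ * e * g) := by group
        _ = (g⁻¹ * e * g) * (g⁻¹ * u * g) := h
        _ = _ := by group
    have h2 : u * e = e * u := mul_left_cancel (mul_right_cancel h1)
    have h3 : kap u e = e * e := by simp only [kap]; rw [h2]; group
    rw [h3, E_sq S hE he]
  rcases hmain with h | h | h
  · exact hp1 (hback a haE h)
  · exact hP1 (hback b hbE h)
  · have h1 : g⁻¹ * a * g * (g⁻¹ * b * g) = g⁻¹ * (a * b) * g := by group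
    rw [h1] at h
    have h2 := hback _ (E.mul_mem haE hbE) h
    rw [kap_mul S hE huE haE hbE] at h2
    exact hpP h2

omit S in
theorem conj_sq_one {c x : G} (h : x * x = 1) : (c * x * c⁻¹) * (c * x * c⁻¹) = 1 := by
  calc (c * x * c⁻¹) * (c * x * c⁻¹) = c * (x * x) * c⁻¹ := by group
    _ = 1 := by rw [h]; group

include hE in
/-- **SQ2**: an element over an involution of type `2² 1⁵` whose square lies in `⟨z⟩` has
square `z` -/
theorem SQ2 [Finite G] (ht : Trans z E) (hcent : ∀ x, (∀ e ∈ E, x * e = e * x) → x ∈ E)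
    {x : G} (hx : x * z = z * x) (htype : (S.φ x : Perm (Fin 9)).cycleType = {2, 2})
    (hx2 : x * x = 1 ∨ x * x = z) : x * x = z := by
  rcases hx2 with h | h
  · exfalso
    obtain ⟨c, hc⟩ := conj_j0 _ htype
    obtain ⟨c', hc'z, hc'⟩ := S.φ_surj c
    refine not_invol S hE ht hcent (u := c' * x * c'⁻¹)
      (cz_mul (cz_mul hc'z hx) (cz_inv hc'z)) ?_ (conj_sq_one h)
    rw [φ_conj S hc'z hx, hc', hc]
  · exact h

include hE in
/-- there is an involution `y` over `2⁴ 1` which is conjugate under `N_G(E)` to an element of `Q` -/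
theorem exists_special [Finite G] (ht : Trans z E)
    (hcent : ∀ x, (∀ e ∈ E, x * e = e * x) → x ∈ E) :
    ∃ g x : G, (∀ e ∈ E, g * e * g⁻¹ ∈ E) ∧ (∀ e ∈ E, g⁻¹ * e * g ∈ E) ∧ x ∈ S.Q ∧ x * x = 1 ∧
      (g * x * g⁻¹) * z = z * (g * x * g⁻¹) ∧
      (S.φ (g * x * g⁻¹) : Perm (Fin 9)).cycleType = {2, 2, 2, 2} := by
  obtain ⟨P, hPQ, hPπ⟩ := S.π_surj ![1, 0, 0, 0, 0, 0, 0, 0]
  obtain ⟨ε, hεQ, hεπ⟩ := S.π_surj ![0, 1, 0, 0, 0, 0, 0, 0]
  have hPE : P ∈ E := by rw [hE, hPπ]; exact ⟨hPQ, rfl, rfl, rfl, rfl⟩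
  have hεE : ε ∈ E := by rw [hE, hεπ]; exact ⟨hεQ, rfl, rfl, rfl, rfl⟩
  have hP0 : S.π P ≠ 0 := by rw [hPπ]; decide
  have hP1 : P ≠ 1 := by intro h; rw [h, π_one S] at hP0; exact hP0 rfl
  have hPz : P ≠ z := by intro h; rw [h, π_z S] at hP0; exact hP0 rfl
  have hzE := z_mem_E S hE
  obtain ⟨g, x, hgz, hgE, hgE', hxQ, hx2, hy⟩ := exists_y S hE ht hPE hP1 (fun e => S.π e 1)
    (by
      intro e he e' he'
      simp only [S.π_mul _ (E_le S hE he) _ (E_le S hE he'), Pi.add_apply])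
    (by simp [hPπ])
  have hyz : (g * x * g⁻¹) * z = z * (g * x * g⁻¹) := by
    have := hy z hzE
    simpa [ζ, π_z S] using this
  have hy2 : (g * x * g⁻¹) * (g * x * g⁻¹) = 1 := conj_sq_one hx2
  refine ⟨g, x, hgE, hgE', hxQ, hx2, hyz, ?_⟩
  have hφy : S.φ (g * x * g⁻¹) ≠ 1 := by
    intro h0
    have hyQ := (S.φ_eq_one _ hyz).1 h0
    have hc1 := S.comm _ hyQ ε (E_le S hE hεE)
    have hc2 := hy ε hεE
    have h1 : S.π ε 1 = 1 := by rw [hεπ]; rfl
    rw [h1] at hc2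
    simp only [ζ, one_ne_zero, if_false] at hc2
    rw [hc1] at hc2
    have hc3 := mul_right_cancel hc2
    by_cases hb : b0 (S.π (g * x * g⁻¹)) (S.π ε) = 0
    · rw [if_pos hb] at hc3; exact hP1 hc3.symm
    · rw [if_neg hb] at hc3; exact hPz hc3.symm
  have hφy2 : S.φ (g * x * g⁻¹) * S.φ (g * x * g⁻¹) = 1 := by
    rw [← S.φ_mul _ _ hyz hyz, hy2, φ_one S]
  rcases type_of_invol _ hφy2 hφy with h | h
  · have h3 := SQ2 S hE ht hcent hyz h (Or.inl hy2)
    rw [hy2] at h3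
    exact absurd h3.symm S.z_ne
  · exact h

theorem exists_conj_to {x y : G} (hx : x * z = z * x) (_hy : y * z = z * y)
    (hxt : (S.φ x : Perm (Fin 9)).cycleType = {2, 2, 2, 2})
    (hyt : (S.φ y : Perm (Fin 9)).cycleType = {2, 2, 2, 2}) :
    ∃ d : G, d * z = z * d ∧ S.φ (d * x * d⁻¹) = S.φ y := by
  obtain ⟨c, hc⟩ := conj_i0 _ hxt
  obtain ⟨c', hc'⟩ := conj_i0 _ hyt
  obtain ⟨d, hdz, hd⟩ := S.φ_surj (c'⁻¹ * c)
  refine ⟨d, hdz, ?_⟩
  rw [φ_conj S hdz hx, hd]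
  have h1 : c'⁻¹ * c * S.φ x * (c'⁻¹ * c)⁻¹ = c'⁻¹ * (c * S.φ x * c⁻¹) * c' := by group
  rw [h1, hc, ← hc']; group

theorem good_of_type {g : alternatingGroup (Fin 9)}
    (h : (g : Perm (Fin 9)).cycleType = {2, 2, 2, 2}) : Good S g := by
  obtain ⟨c, hc⟩ := conj_i0 g h
  have : g = c⁻¹ * i0 * (c⁻¹)⁻¹ := by rw [← hc]; group
  rw [this]; exact (good_i0 S).conj S _

include hE in
/-- **SQ4**: an element over an involution of type `2⁴ 1` whose square lies in `⟨z⟩` is an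
involution -/
theorem SQ4 [Finite G] (ht : Trans z E) (hcent : ∀ x, (∀ e ∈ E, x * e = e * x) → x ∈ E)
    {x : G} (hx : x * z = z * x) (htype : (S.φ x : Perm (Fin 9)).cycleType = {2, 2, 2, 2})
    (hx2 : x * x = 1 ∨ x * x = z) : x * x = 1 := by
  obtain ⟨g, x₀, hgE, hgE', hx₀Q, hx₀2, hyz, hyt⟩ := exists_special S hE ht hcent
  obtain ⟨d, hdz, hd⟩ := exists_conj_to S hx hyz htype hyt
  have hdx := cz_mul (cz_mul hdz hx) (cz_inv hdz)
  have h1 : (d * x * d⁻¹) * (d * x * d⁻¹) = x * x := by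
    have : (d * x * d⁻¹) * (d * x * d⁻¹) = d * (x * x) * d⁻¹ := by group
    rw [this]
    rcases hx2 with h | h
    · rw [h]; simp
    · rw [h, hdz]; group
  have h2 := coset_sq S hyz hdx (good_of_type S hyt) (Or.inl (conj_sq_one hx₀2))
    (by rw [h1]; exact hx2) hd
  rw [h1, conj_sq_one hx₀2] at h2
  exact h2

include hE in
/-- all involutions of `C_G(z)` are conjugate to `z` inside every subgroup containing `C_G(z)` and
`N_G(E)`, provided that the involutions of `Q` are -/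
theorem oneClass_in [Finite G] (ht : Trans z E)
    (hcent : ∀ x, (∀ e ∈ E, x * e = e * x) → x ∈ E) (K : Subgroup G)
    (hCK : ∀ x, x * z = z * x → x ∈ K) (hNK : ∀ g, (∀ e ∈ E, g * e * g⁻¹ ∈ E) → g ∈ K)
    (hQ : ∀ x ∈ S.Q, x * x = 1 → x ≠ 1 → ∃ g ∈ K, g * z * g⁻¹ = x) {x : G} (hx : x * z = z * x)
    (hx2 : x * x = 1) (hx1 : x ≠ 1) : ∃ g ∈ K, g * z * g⁻¹ = x := by
  by_cases hφ : S.φ x = 1
  · exact hQ x ((S.φ_eq_one x hx).1 hφ) hx2 hx1
  have hφ2 : S.φ x * S.φ x = 1 := by rw [← S.φ_mul _ _ hx hx, hx2, φ_one S]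
  rcases type_of_invol _ hφ2 hφ with h | h
  · have h3 := SQ2 S hE ht hcent hx h (Or.inl hx2)
    rw [hx2] at h3
    exact absurd h3.symm S.z_ne
  obtain ⟨g, x₀, hgE, hgE', hx₀Q, hx₀2, hyz, hyt⟩ := exists_special S hE ht hcent
  obtain ⟨d, hdz, hd⟩ := exists_conj_to S hx hyz h hyt
  have hdx := cz_mul (cz_mul hdz hx) (cz_inv hdz)
  obtain ⟨r, hrQ, hr⟩ := coset S hyz hdx (good_of_type S hyt) (Or.inl (conj_sq_one hx₀2))
    (Or.inl (conj_sq_one hx2)) hd
  have hgK := hNK g hgE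
  have hdK := hCK d hdz
  have hrK := hCK r (cQ S hrQ)
  have hφy : S.φ (g * x₀ * g⁻¹) ≠ 1 := by
    intro h0
    rw [h0] at hyt
    simp at hyt
  -- it suffices to find an involution of `Q` conjugate to `x`
  have hmain : ∀ w : G, w ∈ S.Q → w * w = 1 → w ≠ 1 → ∀ k ∈ K, x = k * w * k⁻¹ →
      ∃ g ∈ K, g * z * g⁻¹ = x := by
    intro w hw hw2 hw1 k hk hxk
    obtain ⟨l, hl, hlw⟩ := hQ w hw hw2 hw1
    refine ⟨k * l, K.mul_mem hk hl, ?_⟩
    rw [hxk, ← hlw]; group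
  rcases hr with hr | hr
  · refine hmain x₀ hx₀Q hx₀2 ?_ (d⁻¹ * r * g) (K.mul_mem (K.mul_mem (K.inv_mem hdK) hrK) hgK) ?_
    · rintro rfl
      apply hφy
      have : g * 1 * g⁻¹ = 1 := by group
      rw [this, φ_one S]
    · calc x = d⁻¹ * (d * x * d⁻¹) * d := by group
        _ = d⁻¹ * (r * (g * x₀ * g⁻¹) * r⁻¹) * d := by rw [hr]
        _ = _ := by group
  · have hzg : g⁻¹ * z * g ∈ E := hgE' z (z_mem_E S hE)
    have hyzc : g * (x₀ * (g⁻¹ * z * g)) * g⁻¹ = (g * x₀ * g⁻¹) * z := by group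
    have hprod : ((g * x₀ * g⁻¹) * z) * ((g * x₀ * g⁻¹) * z) = 1 := by
      calc ((g * x₀ * g⁻¹) * z) * ((g * x₀ * g⁻¹) * z)
          = (g * x₀ * g⁻¹) * (z * (g * x₀ * g⁻¹)) * z := by group
        _ = (g * x₀ * g⁻¹) * ((g * x₀ * g⁻¹) * z) * z := by rw [hyz]
        _ = ((g * x₀ * g⁻¹) * (g * x₀ * g⁻¹)) * (z * z) := by group
        _ = 1 := by rw [conj_sq_one hx₀2, S.z_sq, mul_one]
    refine hmain (x₀ * (g⁻¹ * z * g)) (S.Q.mul_mem hx₀Q (E_le S hE hzg)) ?_ ?_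
      (d⁻¹ * r * g) (K.mul_mem (K.mul_mem (K.inv_mem hdK) hrK) hgK) ?_
    · have h4 : (x₀ * (g⁻¹ * z * g)) * (x₀ * (g⁻¹ * z * g))
          = g⁻¹ * (((g * x₀ * g⁻¹) * z) * ((g * x₀ * g⁻¹) * z)) * g := by group
      rw [h4, hprod]; group
    · intro h5
      rw [h5] at hyzc
      have h6 : (g * x₀ * g⁻¹) * z = 1 := by rw [← hyzc]; group
      have h7 : g * x₀ * g⁻¹ = z := by
        have := eq_inv_of_mul_eq_one_left h6
        rw [this, z_inv S]
      apply hφy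
      rw [h7]; exact φ_Q S S.z_mem
    · have hrz := cQ S hrQ
      calc x = d⁻¹ * (d * x * d⁻¹) * d := by group
        _ = d⁻¹ * (r * (g * x₀ * g⁻¹) * r⁻¹ * z) * d := by rw [hr]
        _ = d⁻¹ * (r * (g * x₀ * g⁻¹) * (r⁻¹ * z)) * d := by group
        _ = d⁻¹ * (r * (g * x₀ * g⁻¹) * (z * r⁻¹)) * d := by rw [cz_inv hrz]
        _ = _ := by group

include hE in
/-- all involutions of `C_G(z)` are conjugate to `z` -/
theorem oneClass [Finite G] (ht : Trans z E)
    (hcent : ∀ x, (∀ e ∈ E, x * e = e * x) → x ∈ E)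
    (hQ : ∀ x ∈ S.Q, x * x = 1 → x ≠ 1 → IsConj z x) {x : G} (hx : x * z = z * x)
    (hx2 : x * x = 1) (hx1 : x ≠ 1) : IsConj z x := by
  obtain ⟨g, _, hg⟩ := oneClass_in S hE ht hcent ⊤ (fun _ _ => Subgroup.mem_top _)
    (fun _ _ => Subgroup.mem_top _)
    (fun x hx h2 h1 => by
      obtain ⟨c, hc⟩ := isConj_iff.1 (hQ x hx h2 h1)
      exact ⟨c, Subgroup.mem_top _, hc⟩) hx hx2 hx1
  exact isConj_iff.2 ⟨g, hg⟩

end main

end Cfsg.Agent.ThType.Squares
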