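import Cfsg.Agent.ThType.Seven
import Cfsg.Agent.ThType.ElemE
import Cfsg.Agent.ThType.Squares
import Cfsg.Agent.TwoFusion.ClosingPrime

/-!
# The closing step for the Thompson type (project R05)

`eq_top_of_Th`: a subgroup `H` of the finite group `G`, isomorphic to the presented Thompson group,
containing the centraliser of one of its involutions `t` (`49 ∤ |C_G(t)|`) and with one class of
involutions is `G`.
`eq_top`: the same with the data of the project (`SpinAt`, `E`, `N_G(E)`).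
`oneClass_G`: all involutions of `G` are conjugate.
-/

set_option autoImplicit false

namespace Cfsg.Agent.ThType.Close

open Cfsg.Agent.ThType.SpinData Cfsg.Agent.ThType.Squares

variable {G : Type*} [Group G] [Finite G]

/-- an involution of `H` is `H`-conjugate into a subgroup of odd index -/
theorem exists_conj_mem_of_odd {H C : Subgroup G} (_hCH : C ≤ H) (hodd : Odd (C.relIndex H)) {x : G}
    (hx : x ∈ H) (hx2 : x * x = 1) : ∃ g ∈ H, g⁻¹ * x * g ∈ C := by
  classical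
  have : Fact (Nat.Prime 2) := ⟨Nat.prime_two⟩
  let X : Subgroup H := Subgroup.zpowers ⟨x, hx⟩
  have hX : IsPGroup 2 X := by
    intro y
    obtain ⟨n, hn⟩ := y.2
    refine ⟨1, ?_⟩
    apply Subtype.ext
    have h1 : ((⟨x, hx⟩ : H)) ^ 2 = 1 := by
      apply Subtype.ext
      show x ^ 2 = 1
      rw [pow_two, hx2]
    show (y : H) ^ (2 ^ 1) = 1
    rw [← hn, pow_one]
    show ((⟨x, hx⟩ : H) ^ n) ^ 2 = 1
    rw [← zpow_natCast, zpow_comm, zpow_natCast, h1, one_zpow]
  have hcard : ¬ 2 ∣ Nat.card (H ⧸ C.subgroupOf H) := by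
    have : Nat.card (H ⧸ C.subgroupOf H) = C.relIndex H := rfl
    rw [this]
    exact fun h => (Nat.not_even_iff_odd.2 hodd) (even_iff_two_dvd.2 h)
  obtain ⟨q, hq⟩ := hX.nonempty_fixed_point_of_prime_not_dvd_card (H ⧸ C.subgroupOf H) hcard
  obtain ⟨g, rfl⟩ := QuotientGroup.mk_surjective q
  refine ⟨g.1, g.2, ?_⟩
  have h1 := hq ⟨⟨x, hx⟩, Subgroup.mem_zpowers _⟩
  have h2 : ((⟨x, hx⟩ * g : H) : H ⧸ C.subgroupOf H) = (g : H ⧸ C.subgroupOf H) := h1
  rw [eq_comm, QuotientGroup.eq, Subgroup.mem_subgroupOf] at h2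
  have h3 : (g.1)⁻¹ * (x * g.1) ∈ C := h2
  rwa [← mul_assoc] at h3

/-- A subgroup isomorphic to the presented Thompson group, containing the centraliser of an
involution and with one class of involutions, is the whole group. -/
theorem eq_top_of_Th (hTh : Cfsg.IsTh Cfsg.Spor.Th) {H : Subgroup G} (e : Nonempty (H ≃* Cfsg.Spor.Th))
    {t : G} (ht : orderOf t = 2) (hC : Subgroup.centralizer ({t} : Set G) ≤ H)
    (h49 : ¬ 49 ∣ Nat.card (Subgroup.centralizer ({t} : Set G)))
    (hone : ∀ x ∈ H, orderOf x = 2 → ∃ g ∈ H, g * t * g⁻¹ = x) : H = ⊤ := by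
  obtain ⟨f⟩ := e
  refine Cfsg.Agent.TwoFusion.ClosingPrime.eq_top_of_prime ht hC hone 7 (by norm_num) ?_ ?_
  · -- divisibility
    by_contra h7
    have hcop : Nat.Coprime 49 ((Subgroup.centralizer ({t} : Set G)).relIndex H) := by
      have : Nat.Coprime 7 ((Subgroup.centralizer ({t} : Set G)).relIndex H) :=
        (Nat.Prime.coprime_iff_not_dvd (by norm_num)).2 h7
      exact Nat.Coprime.pow_left 2 this
    have h1 : Nat.card H = 90745943887872000 := by
      rw [Nat.card_congr f.toEquiv]; exact hTh.2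
    have h2 : Nat.card (Subgroup.centralizer ({t} : Set G)) *
        (Subgroup.centralizer ({t} : Set G)).relIndex H = Nat.card H := by
      rw [← Subgroup.relIndex_bot_left, ← Subgroup.relIndex_bot_left]
      exact Subgroup.relIndex_mul_relIndex _ _ _ bot_le hC
    apply h49
    apply hcop.dvd_of_dvd_mul_right
    rw [h2, h1]
    norm_num
  · intro k hk hk7
    have h1 : orderOf (f ⟨k, hk⟩) = 7 := by
      rw [← hk7, ← Subgroup.orderOf_mk k hk]
      exact orderOf_injective f.toMonoidHom f.injective _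
    obtain ⟨σ, hσ2, hσ⟩ := Seven.exists_involution_Th hTh h1
    refine ⟨(f.symm σ).1, (f.symm σ).2, ?_, ?_⟩
    · rw [Subgroup.orderOf_coe, ← hσ2]
      exact orderOf_injective f.symm.toMonoidHom f.symm.injective _
    · have h2 : f.symm σ * ⟨k, hk⟩ = ⟨k, hk⟩ * f.symm σ := by
        apply f.injective
        rw [map_mul, map_mul, f.apply_symm_apply]
        exact hσ
      exact congrArg Subtype.val h2

section spin

variable {z : G} (S : SpinAt G z) {E : Subgroup G} (hE : IsE S E) (ht : Trans z E)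
  (hcent : ∀ x, (∀ e ∈ E, x * e = e * x) → x ∈ E)
include S hE ht hcent

/-- every noncentral involution of `Q` is conjugate to `z` in every subgroup containing `C_G(z)` and
`N_G(E)` -/
theorem conj_Q {K : Subgroup G} (hCK : ∀ x, x * z = z * x → x ∈ K)
    (hNK : ∀ g, (∀ e ∈ E, g * e * g⁻¹ ∈ E) → g ∈ K) :
    ∀ x ∈ S.Q, x * x = 1 → x ≠ 1 → ∃ g ∈ K, g * z * g⁻¹ = x := by
  intro x hx hx2 hx1
  by_cases hxz : x = z
  · subst hxz
    exact ⟨1, K.one_mem, by group⟩
  -- a noncentral element of `E`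
  obtain ⟨y, hy, hyπ⟩ := S.π_surj (Pi.single 0 1)
  have hyE : y ∈ E := by
    rw [hE]
    refine ⟨hy, ?_⟩
    rw [hyπ]
    decide
  have hy0 : S.π y ≠ 0 := by
    rw [hyπ]
    decide
  have hy1 : y ≠ 1 := by
    rintro rfl
    exact hy0 (ElemE.pi_one S)
  have hyz : y ≠ z := by
    rintro rfl
    exact hy0 (ElemE.pi_z S)
  have hy2 : y * y = 1 := E_sq S hE hyE
  obtain ⟨g, hg, hgE⟩ := ht y hyE hy1
  obtain ⟨h, hh, hhy⟩ := ElemE.conj_in_C S hy hy1 hyz hy2 hx hx1 hxz hx2
  refine ⟨h * g, K.mul_mem (hCK h hh) (hNK g hgE), ?_⟩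
  rw [← hhy, ← hg]
  group

/-- one class of involutions in every subgroup `K ≥ C_G(z), N_G(E)` in which `C_G(z)` has odd index -/
theorem oneClass_K {K : Subgroup G} (hCK : ∀ x, x * z = z * x → x ∈ K)
    (hNK : ∀ g, (∀ e ∈ E, g * e * g⁻¹ ∈ E) → g ∈ K)
    (hodd : Odd ((Subgroup.centralizer ({z} : Set G)).relIndex K)) :
    ∀ x ∈ K, orderOf x = 2 → ∃ g ∈ K, g * z * g⁻¹ = x := by
  intro x hx hx2
  have hxx : x * x = 1 := by
    rw [← pow_two, ← hx2, pow_orderOf_eq_one]
  have hx1 : x ≠ 1 := by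
    rintro rfl
    rw [orderOf_one] at hx2
    exact absurd hx2 (by norm_num)
  have hle : Subgroup.centralizer ({z} : Set G) ≤ K := by
    intro y hy
    exact hCK y (Subgroup.mem_centralizer_singleton_iff.1 hy)
  obtain ⟨g, hg, hgx⟩ := exists_conj_mem_of_odd hle hodd hx hxx
  rw [Subgroup.mem_centralizer_singleton_iff] at hgx
  have h2 : g⁻¹ * x * g * (g⁻¹ * x * g) = 1 := by
    calc g⁻¹ * x * g * (g⁻¹ * x * g) = g⁻¹ * (x * x) * g := by group
      _ = 1 := by rw [hxx]; group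
  have h1 : g⁻¹ * x * g ≠ 1 := by
    intro h
    apply hx1
    calc x = g * (g⁻¹ * x * g) * g⁻¹ := by group
      _ = 1 := by rw [h]; group
  obtain ⟨k, hk, hkz⟩ := oneClass_in S hE ht hcent K hCK hNK (conj_Q S hE ht hcent hCK hNK) hgx h2 h1
  refine ⟨g * k, K.mul_mem hg hk, ?_⟩
  calc g * k * z * (g * k)⁻¹ = g * (k * z * k⁻¹) * g⁻¹ := by group
    _ = x := by rw [hkz]; group

/-- **The closing step.** -/
theorem eq_top (hTh : Cfsg.IsTh Cfsg.Spor.Th) {H : Subgroup G} (e : Nonempty (H ≃* Cfsg.Spor.Th))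
    (hCK : ∀ x, x * z = z * x → x ∈ H) (hNK : ∀ g, (∀ e ∈ E, g * e * g⁻¹ ∈ E) → g ∈ H) : H = ⊤ := by
  have hle : Subgroup.centralizer ({z} : Set G) ≤ H := by
    intro y hy
    exact hCK y (Subgroup.mem_centralizer_singleton_iff.1 hy)
  have hcard : Nat.card (Subgroup.centralizer ({z} : Set G)) = 512 * 181440 := ElemE.card_C S
  have hodd : Odd ((Subgroup.centralizer ({z} : Set G)).relIndex H) := by
    obtain ⟨f⟩ := e
    have h1 : Nat.card H = 90745943887872000 := by
      rw [Nat.card_congr f.toEquiv]; exact hTh.2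
    have h2 : Nat.card (Subgroup.centralizer ({z} : Set G)) *
        (Subgroup.centralizer ({z} : Set G)).relIndex H = Nat.card H := by
      rw [← Subgroup.relIndex_bot_left, ← Subgroup.relIndex_bot_left]
      exact Subgroup.relIndex_mul_relIndex _ _ _ bot_le hle
    rw [hcard, h1] at h2
    have h3 : (Subgroup.centralizer ({z} : Set G)).relIndex H = 976841775 := by omega
    rw [h3]
    decide
  refine eq_top_of_Th hTh e ?_ hle ?_ (oneClass_K S hE ht hcent hCK hNK hodd)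
  · exact orderOf_eq_prime (by rw [pow_two]; exact S.z_sq) S.z_ne
  · rw [hcard]
    norm_num

/-- All involutions of `G` are conjugate. -/
theorem oneClass_G (hTh : Cfsg.IsTh Cfsg.Spor.Th) (e : Nonempty (G ≃* Cfsg.Spor.Th)) :
    ∀ x y : G, orderOf x = 2 → orderOf y = 2 → IsConj x y := by
  have hcard : Nat.card (Subgroup.centralizer ({z} : Set G)) = 512 * 181440 := ElemE.card_C S
  have hodd : Odd ((Subgroup.centralizer ({z} : Set G)).relIndex ⊤) := by
    obtain ⟨f⟩ := e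
    have h1 : Nat.card G = 90745943887872000 := by
      rw [Nat.card_congr f.toEquiv]; exact hTh.2
    have h2 := Subgroup.card_mul_index (Subgroup.centralizer ({z} : Set G))
    rw [hcard, h1] at h2
    rw [Subgroup.relIndex_top_right]
    have h3 : (Subgroup.centralizer ({z} : Set G)).index = 976841775 := by omega
    rw [h3]
    decide
  have h := oneClass_K S hE ht hcent (K := ⊤) (fun _ _ => trivial) (fun _ _ => trivial) hodd
  intro x y hx hy
  obtain ⟨g, -, hg⟩ := h x trivial hx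
  obtain ⟨k, -, hk⟩ := h y trivial hy
  exact (isConj_iff.2 ⟨g, hg⟩).symm.trans (isConj_iff.2 ⟨k, hk⟩)

omit ht hcent [Finite G] in
/-- `N_G(E) ≤ H` as soon as `C_G(z) ≤ H` and some element of `H` moves `z` inside `Q` -/
theorem normalizer_le {H : Subgroup G} (hCK : ∀ x, x * z = z * x → x ∈ H) {h : G} (hh : h ∈ H)
    (hhQ : h * z * h⁻¹ ∈ S.Q) (hhz : h * z * h⁻¹ ≠ z) : ∀ g, (∀ e ∈ E, g * e * g⁻¹ ∈ E) → g ∈ H := by
  intro g hg
  have hp : g * z * g⁻¹ ∈ E := hg z (z_mem_E S hE)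
  by_cases hpz : g * z * g⁻¹ = z
  · apply hCK
    exact (mul_inv_eq_iff_eq_mul.1 hpz)
  have h1 : ∀ k : G, k * z * k⁻¹ ≠ 1 := by
    intro k hk
    apply S.z_ne
    calc z = k⁻¹ * (k * z * k⁻¹) * k := by group
      _ = 1 := by rw [hk]; group
  have h2 : ∀ k : G, k * z * k⁻¹ * (k * z * k⁻¹) = 1 := by
    intro k
    calc k * z * k⁻¹ * (k * z * k⁻¹) = k * (z * z) * k⁻¹ := by group
      _ = 1 := by rw [S.z_sq]; group
  obtain ⟨k, hk, hkp⟩ := ElemE.conj_in_C S hhQ (h1 h) hhz (h2 h) (E_le S hE hp) (h1 g) hpz (h2 g)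
  have h3 : g⁻¹ * (k * h) ∈ H := by
    apply hCK
    calc g⁻¹ * (k * h) * z = g⁻¹ * (k * (h * z * h⁻¹) * k⁻¹) * (k * h) := by group
      _ = g⁻¹ * (g * z * g⁻¹) * (k * h) := by rw [hkp]
      _ = z * (g⁻¹ * (k * h)) := by group
  have h4 : k * h ∈ H := H.mul_mem (hCK k hk) hh
  have h5 : g = k * h * (g⁻¹ * (k * h))⁻¹ := by group
  rw [h5]
  exact H.mul_mem h4 (H.inv_mem h3)

/-- **The closing step**, with `N_G(E) ≤ H` replaced by: some element of `H` moves `z` inside `Q`. -/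
theorem eq_top' (hTh : Cfsg.IsTh Cfsg.Spor.Th) {H : Subgroup G} (e : Nonempty (H ≃* Cfsg.Spor.Th))
    (hCK : ∀ x, x * z = z * x → x ∈ H) {h : G} (hh : h ∈ H)
    (hhQ : h * z * h⁻¹ ∈ S.Q) (hhz : h * z * h⁻¹ ≠ z) : H = ⊤ :=
  eq_top S hE ht hcent hTh e hCK (normalizer_le S hE hCK hh hhQ hhz)

end spin

end Cfsg.Agent.ThType.Close
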