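import Cfsg.Agent.ThType.Close

/-!
The closing theorem for the Thompson group in the form used for the Monster (S0470): a subgroup
`T` isomorphic to the presented Thompson group which contains the centraliser of one of its
involutions is the whole group, given that the Thompson group has one class of involutions, whose
centraliser has order prime to `49`.
-/

set_option autoImplicit false

namespace Cfsg.Agent.ThType.CloseX

variable {X : Type*} [Group X]

/-- transport of the order of a centraliser along an isomorphism with a subgroup that contains the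
centraliser -/
theorem card_centralizer_eq {T : Subgroup X} {K : Type*} [Group K] (f : T ≃* K) {t : X} (htT : t ∈ T)
    (hC : Subgroup.centralizer ({t} : Set X) ≤ T) :
    Nat.card (Subgroup.centralizer ({t} : Set X)) =
      Nat.card (Subgroup.centralizer ({f ⟨t, htT⟩} : Set K)) := by
  refine Nat.card_congr
    { toFun := fun x => ⟨f ⟨x.1, hC x.2⟩, ?_⟩
      invFun := fun y => ⟨(f.symm y.1).1, ?_⟩
      left_inv := ?_
      right_inv := ?_ }
  · rw [Subgroup.mem_centralizer_singleton_iff, ← map_mul, ← map_mul]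
    congr 1
    exact Subtype.ext (Subgroup.mem_centralizer_singleton_iff.1 x.2)
  · rw [Subgroup.mem_centralizer_singleton_iff]
    have h1 := Subgroup.mem_centralizer_singleton_iff.1 y.2
    have h2 : f.symm y.1 * ⟨t, htT⟩ = ⟨t, htT⟩ * f.symm y.1 := by
      apply f.injective
      rw [map_mul, map_mul, f.apply_symm_apply]
      exact h1
    exact congrArg Subtype.val h2
  · intro x
    apply Subtype.ext
    simp
  · intro y
    apply Subtype.ext
    simp

/-- **The closing theorem over a subgroup isomorphic to the Thompson group.** -/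
theorem eq_top_X [Finite X] (hTh : Cfsg.IsTh Cfsg.Spor.Th)
    (hone : ∀ x y : Cfsg.Spor.Th, orderOf x = 2 → orderOf y = 2 → IsConj x y)
    (hz : ∃ z : Cfsg.Spor.Th, orderOf z = 2 ∧
      ¬ 49 ∣ Nat.card (Subgroup.centralizer ({z} : Set Cfsg.Spor.Th)))
    {T : Subgroup X} (e : Nonempty (T ≃* Cfsg.Spor.Th)) {t : X} (htT : t ∈ T) (ht : orderOf t = 2)
    (hC : Subgroup.centralizer ({t} : Set X) ≤ T) : T = ⊤ := by
  obtain ⟨f⟩ := e
  have hft : orderOf (f ⟨t, htT⟩) = 2 := by
    rw [← ht, ← Subgroup.orderOf_mk t htT]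
    exact orderOf_injective f.toMonoidHom f.injective _
  refine Close.eq_top_of_Th hTh ⟨f⟩ ht hC ?_ ?_
  · obtain ⟨z, hz2, hz⟩ := hz
    rw [card_centralizer_eq f htT hC]
    obtain ⟨c, hc⟩ := isConj_iff.1 (hone _ _ hft hz2)
    have h1 : Nat.card (Subgroup.centralizer ({f ⟨t, htT⟩} : Set Cfsg.Spor.Th)) =
        Nat.card (Subgroup.centralizer ({z} : Set Cfsg.Spor.Th)) := by
      rw [← hc]
      refine Nat.card_congr
        { toFun := fun x => ⟨c * x.1 * c⁻¹, ?_⟩
          invFun := fun y => ⟨c⁻¹ * y.1 * c, ?_⟩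
          left_inv := ?_
          right_inv := ?_ }
      · rw [Subgroup.mem_centralizer_singleton_iff]
        have h2 := Subgroup.mem_centralizer_singleton_iff.1 x.2
        calc c * x.1 * c⁻¹ * (c * f ⟨t, htT⟩ * c⁻¹) = c * (x.1 * f ⟨t, htT⟩) * c⁻¹ := by group
          _ = c * (f ⟨t, htT⟩ * x.1) * c⁻¹ := by rw [h2]
          _ = c * f ⟨t, htT⟩ * c⁻¹ * (c * x.1 * c⁻¹) := by group
      · rw [Subgroup.mem_centralizer_singleton_iff]
        have h2 := Subgroup.mem_centralizer_singleton_iff.1 y.2
        calc c⁻¹ * y.1 * c * f ⟨t, htT⟩ = c⁻¹ * (y.1 * (c * f ⟨t, htT⟩ * c⁻¹)) * c := by group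
          _ = c⁻¹ * ((c * f ⟨t, htT⟩ * c⁻¹) * y.1) * c := by rw [h2]
          _ = f ⟨t, htT⟩ * (c⁻¹ * y.1 * c) := by group
      · intro x
        apply Subtype.ext
        show c⁻¹ * (c * x.1 * c⁻¹) * c = x.1
        group
      · intro y
        apply Subtype.ext
        show c * (c⁻¹ * y.1 * c) * c⁻¹ = y.1
        group
    rw [h1]
    exact hz
  · intro x hx hx2
    have hfx : orderOf (f ⟨x, hx⟩) = 2 := by
      rw [← hx2, ← Subgroup.orderOf_mk x hx]
      exact orderOf_injective f.toMonoidHom f.injective _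
    obtain ⟨c, hc⟩ := isConj_iff.1 (hone _ _ hft hfx)
    refine ⟨(f.symm c).1, (f.symm c).2, ?_⟩
    have h2 : f.symm c * ⟨t, htT⟩ * (f.symm c)⁻¹ = ⟨x, hx⟩ := by
      apply f.injective
      rw [map_mul, map_mul, map_inv, f.apply_symm_apply]
      exact hc
    exact congrArg Subtype.val h2

end Cfsg.Agent.ThType.CloseX
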