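import Cfsg.Agent.ThType.ColAData

set_option autoImplicit false
set_option maxRecDepth 100000

namespace Cfsg.Agent.ThType.ColAChk0

open Cfsg.Agent.SporadicRecognition.CosetCert Cfsg.Agent.Lib.CosetPartial Cfsg.Agent.ThType.ColAData

theorem c0 : PartP C 0 64 := runP_sound C (by decide +kernel : runP C 10 1023 0x8010000000400000020000214c0100001008000080200001000020080000001008a3008000080000400004020000000000004330000294c0200402000000000200794000020040200a8300001008010080350c020080000400000020000000801000000000100802008000040000002005b3a4c0044c000040200400000000000000400008d30000000433000000080000801008020080100800008020040000801008020000078c000040200000001d30040100802008000040000002008000040048c0000802008010080140c02008a30041300002008000000000402000010080234c000080000402004000080200801000e3008233cc00004330080000053004b30040200c02000020000100000008000000000401008030088300800004000000200000008010040200c0200802000010cca3000000080200402000020040200800008010080230c0200402004020000208c0104c000082300000004330089310c53004630040000c0220c02000010cca30080000802004021cc02004020041300c0208c020d42505405 22 4194303 0x1d445c00000949c1c0000000000000000000001de017000000000000000000000000000000000000000000000000000000000000000000c0ecdc0000000000000000000000000000000026bb17000000ce42700000000000000000000001f501c00000000000000000000005671700000056747000000000001480dc751270000000000000000258a3700000000000000000000000ad11c000000000001271702391c00000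 0 64 = true)

theorem c1 : PartP C 64 110 := runP_sound C (by decide +kernel : runP C 10 1023 0x2c0c0200401000000031300000004000080100002b4ca300363dcf43004000000000400008010000264c0100003002e30080000633008f30000200643a8c010000000000002f30040200000000010080198da300a030080000400008000000000402acc0100c005cc0000400c8c003cc000000100aa300402000a300000008010080000001008000040000ec358c0200001000000000088c012cc00005f30080200001003530000000002004020080000583008000000100800004000000220c0000001000029ce1300953004930080200400000020040028c000080200801004000000200000000000080100801008020080100002000000040000002000930080000400000020000200401008000097300000005c328c004cc0254c01 22 4194303 0x33633911c003830000013ca1700000000000000002fc747bd3c5de66078f7c1c00000000000751470000000000000000000000000000ce4070000000000068e49c00000000000000004f28dc00000bb691de66470000000000000000000000000000000000000000000000000000000 64 46 = true)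

theorem all : PartP C 0 110 := (c0).append C c1

end Cfsg.Agent.ThType.ColAChk0
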