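import Cfsg.Agent.ThType.ColBData

set_option autoImplicit false
set_option maxRecDepth 100000

namespace Cfsg.Agent.ThType.ColBChk0

open Cfsg.Agent.SporadicRecognition.CosetCert Cfsg.Agent.Lib.CosetPartial Cfsg.Agent.ThType.ColBData

theorem c0 : PartP C 0 24 := runP_sound C (by decide +kernel : runP C 9 511 0x20601000000053008000200010cd46e30014c02020080004020130c005300b4c02000180906020980400000024c000200804000359808040000800000000000040100000040101009e60200808020200000000109d1004230000002330100086530098c02000180906020000466a30124c040200808e6020080802130180846021a8942a05 18 262143 0x16f17000011407000000000004580000000000000000000000120dd144790c9c00000000102271c81c47170911c0000 0 24 = true)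

theorem all : PartP C 0 24 := c0

end Cfsg.Agent.ThType.ColBChk0
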