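import Cfsg.Agent.Lib.CosetPartial

set_option autoImplicit false
set_option maxRecDepth 100000

namespace Cfsg.Agent.ThType.ColBData

open Cfsg.Agent.SporadicRecognition.CosetCert

noncomputable def tree : Tr := (.N 16 (.L 0xb0cfff910fff83566c0fff60bfff7d464f8f24fff7b4fff5cbffffff2ffffffffffff73358b0fffffffff6d15496901fff62f92b5ee5065ad1c034654e9fffffffff4b844044cab4956c4494bc3ffffff3643e83c52ffffff2a72c72642e71fff223fff4aa52b3264be348afff1c32053a82ba34293443882871830c222463031e51421a41c410a11020e21631224fff0c2081061041021f) (.L 0xfffffffffad8a94fff1fffffffffa57a12fff1fff951fff9b2a769d44b298b5fff8558108931fff78efff7efab89f64b69773fff75370d8751fff6ecfff996a378cf4fff976af16acffffff2))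

noncomputable def wtree : WT := (.N 9 (.N 4 (.N 2 (.N 1 (.L 2 [4,2,4]) (.L 3 [4,1,0,1,2,1,0,1,4])) (.N 3 (.L 0 [4,1,0,1,0,1,0,1,0,4]) (.L 1 [2,1,2,1,2]))) (.N 6 (.N 5 (.L 3 [1,0,1,3,1,0,1]) (.L 2 [1,0,1,4,3,4,1,0,1])) (.N 7 (.L 0 [2,1,0,1,3,1,0,1,2,3]) (.N 8 (.L 3 [0,1,3,2,1,0,1,2,0,1]) (.L 0 [4,0,1,0,1,0,1,0,1,4]))))) (.N 13 (.N 11 (.N 10 (.L 3 [1,0,2,1,0,1,2,3,1,0]) (.L 0 [2,0,2])) (.N 12 (.L 1 [4,1,4,1,4,1,4,1,4,1,4]) (.L 4 [1,0,1,4,1,0,1,4,1,0,1]))) (.N 15 (.N 14 (.L 0 [1,0,1,0,4,0,4,1,0,1]) (.L 4 [1,0,1,0,1,0,1,0,4,0])) (.N 16 (.L 3 [1,2,3,0,1,0,1,0,2,1,0]) (.N 17 (.L 2 [1,2,1,2,1]) (.L 5 [2,3,2,0,3]))))))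

noncomputable def stree : ST := (.N 2 (.N 1 (.L 0 [] []) (.L 1 [] [])) (.N 3 (.L 2 [] []) (.L 3 [] [])))

noncomputable def C : Cert where
  data := tree
  lm := 15
  rb := 76
  fb := 12
  mask := 4095
  B := 32
  k := 5
  N := 24
  inv := fun x => x
  words := wtree
  subs := stree

/-- letters: 0 = c, 1 = d, 2 = e, 3 = j, 4 = w -/
def rels : List (List Nat) := [[0,2,0,2], [0,3,0,3], [4,2,4,2], [0,2,3,2,3], [1,2,1,2,1,2], [0,1,2,1,2,1,0,2], [0,1,3,1,0,1,3,1], [0,1,2,1,2,1,3,2,3], [0,2,3,1,2,1,2,1,3], [0,1,3,1,2,0,2,1,3,1], [0,1,3,1,3,0,3,1,3,1], [1,2,3,1,3,1,2,3,1,3], [4,1,0,1,2,1,0,1,4,3], [0,1,0,1,2,3,1,0,3,1,2], [0,1,0,1,2,3,1,3,0,1,2], [0,1,0,2,1,0,1,2,3,1,3], [0,1,2,0,1,3,0,1,3,2,1], [0,1,2,0,3,2,1,0,1,3,1], [0,1,3,1,2,3,2,3,1,3,1], [0,2,1,3,1,2,3,1,3,1,3],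 [4,0,4,1,0,1,0,1,0,1,0], [0,1,0,1,0,2,1,0,3,1,2,3], [0,1,0,1,0,2,1,3,0,1,2,3], [0,1,0,1,2,0,1,0,3,1,2,3], [0,1,0,1,2,1,3,2,1,3,2,1], [0,1,0,1,3,2,0,1,3,0,1,2], [0,1,0,2,1,0,1,3,0,2,1,3], [0,1,0,2,1,0,1,3,2,0,1,3], [0,1,0,3,1,0,3,1,0,3,1,3], [0,1,0,3,1,0,3,1,3,0,1,3], [0,1,2,1,2,1,0,1,2,1,2,1], [0,1,3,1,0,1,3,2,1,2,1,2], [0,2,1,3,1,3,0,3,1,3,1,2], [1,2,1,2,3,1,3,2,1,3,1,3], [1,0,1,4,1,0,1,4,1,0,1,4], [4,1,4,1,4,1,4,1,4,1,4,1], [0,1,0,1,0,1,2,1,3,1,2,1,3], [0,1,0,1,2,1,0,1,2,1,3,1,3], [0,1,0,1,2,1,0,1,3,1,3,1,2], [0,1,0,1,2,1,0,2,3,1,3,2,1], [0,1,0,1,2,1,3,1,2,1,0,3,1], [0,1,0,1,2,1,3,2,1,0,2,3,1], [0,1,0,1,2,3,1,2,0,2,3,1,2], [0,1,0,1,3,1,2,1,0,1,2,3,1], [0,1,2,0,1,3,1,3,1,0,1,2,1], [0,1,2,0,1,3,2,0,2,1,3,2,1], [0,1,2,1,0,1,2,1,3,1,0,3,1], [0,1,3,0,1,3,2,1,3,0,3,1,2],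 [0,2,1,3,2,1,2,1,3,1,3,1,3], [0,2,1,3,2,1,3,1,3,1,2,1,3], [0,1,0,1,0,1,0,3,1,3,1,3,1,3], [0,1,0,1,0,1,2,1,3,2,1,0,3,2], [0,1,0,1,0,1,3,0,1,3,1,3,1,3], [0,1,0,1,0,1,3,1,3,1,3,0,1,3], [0,1,0,1,0,1,3,2,1,2,0,1,3,2], [0,1,0,1,3,2,1,3,2,3,1,2,3,1], [0,1,2,1,0,1,3,1,3,1,3,2,3,1], [0,1,3,0,1,3,1,2,1,3,2,3,1,2], [0,1,3,1,2,1,3,2,3,1,0,2,1,3], [0,1,3,2,3,1,0,2,1,3,1,3,1,2]]

def subw : List (List Nat) := [[0], [1], [2], [3]]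

/-- targets:  w -/
def targets : List (List Nat) := [[4]]

end Cfsg.Agent.ThType.ColBData
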