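import Cfsg.Agent.ThType.ColA
import Cfsg.Agent.ThType.ColB
import Cfsg.Agent.Th.COracleSound
import Cfsg.Agent.ThType.GamEqs

/-!
Collapse certificates for the identification of a group of Thompson type (R05).
In an arbitrary group `G` with `RelC a c d e s t u`, let `w` be an involution with
`w a w = c`, `[w, e] = 1`, `(d c d w)^3 = 1` and `w (k e k) w = c k u k u`, `k = d c d`.
If `(w (d w d) c)^4 = 1` (the `A6` case of `C_G(s)/<s>`) or `(w d)^6 = 1` (the bad hexagon)
then `w` lies in `<c, d, e, c k u k u>`, hence commutes with `a`, and `a = c`.
-/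

set_option autoImplicit false
set_option maxRecDepth 100000

namespace Cfsg.Agent.ThType.Collapse

open Cfsg.Agent.Th.Base Cfsg.Agent.Th.Word Cfsg.Agent.Th.COracleDef Cfsg.Agent.Th.COracleSound

universe v

variable {G : Type v} [Group G]

/-- the five letters of the certificates -/
def let5 (c d e j w : G) : ℕ → G
  | 0 => c
  | 1 => d
  | 2 => e
  | 3 => j
  | 4 => w
  | _ => 1

/-- substitution of the letters `c, d, e, j` by words in the letters of `RelC` -/
def subL : ℕ → List ℕ
  | 0 => [3]
  | 1 => [4]
  | 2 => [5]
  | _ => [3,4,3,4,10,4,3,4,10]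

def subW : List ℕ → List ℕ
  | [] => []
  | x :: w => subL x ++ subW w

/-- only the letters `0..3` occur -/
def low (w : List ℕ) : Bool := w.all fun x => Nat.blt x 4

theorem ev_subW (a b c d e s t u w : G) {r : List ℕ} (hr : low r = true) :
    Cfsg.Agent.SporadicRecognition.CosetCert.ev
      (let5 c d e (c * d * c * d * u * d * c * d * u) w) r = ev (gam a b c d e s t u) (subW r) := by
  induction r with
  | nil => rfl
  | cons x r ih =>
    have h1 : low r = true := by
      simp only [low, List.all_cons, Bool.and_eq_true] at hr ⊢
      exact hr.2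
    have h2 : x < 4 := by
      simp only [low, List.all_cons, Bool.and_eq_true] at hr
      exact Nat.le_of_ble_eq_true hr.1
    rw [Cfsg.Agent.SporadicRecognition.CosetCert.ev_cons, ih h1, subW, ev_append]
    congr 1
    interval_cases x <;> simp [let5, subL, gam, mul_assoc]

/-- the relators which involve `w` -/
def wrels : List (List ℕ) := [[4,2,4,2], [4,1,0,1,2,1,0,1,4,3], [4,0,4,1,0,1,0,1,0,1,0],
  [1,0,1,4,1,0,1,4,1,0,1,4]]

/-- every relator of the list is a `w`-relator or a true word in the letters of `RelC` -/
noncomputable def okA : Bool := ColAData.rels.all fun r => (low r && corc (subW r)) || decide (r ∈ wrels) ||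
  decide (r = [4,1,4,1,0,4,1,4,1,0,4,1,4,1,0,4,1,4,1,0])

noncomputable def okB : Bool := ColBData.rels.all fun r => (low r && corc (subW r)) || decide (r ∈ wrels) ||
  decide (r = [4,1,4,1,4,1,4,1,4,1,4,1])

theorem okA_true : okA = true := by decide +kernel

theorem okB_true : okB = true := by decide +kernel


/-- the hypotheses on `w` common to both cases -/
structure WRel (a c d e u w : G) : Prop where
  w2 : w * w = 1
  aw : w * a * w = c
  we : w * e = e * w
  kw : (d * c * d * w) ^ 3 = 1
  jw : w * (d * c * d * e * (d * c * d)) * w = c * (d * c * d) * u * (d * c * d) * u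

theorem sq_one {x : G} (h : x ^ 2 = 1) : x * x = 1 := by rw [← sq]; exact h

theorem inv_eq_self_of_sq {x : G} (h : x * x = 1) : x⁻¹ = x := inv_eq_of_mul_eq_one_left h

/-- true words of `C_G(a)` -/
theorem corc_gam {a c d e s t u : G} (hC : RelC a c d e s t u) {w : List ℕ} (hw : corc w = true) :
    ev (gam a 1 c d e s t u) w = 1 :=
  corc_sound (γ := gam a 1 c d e s t u)
    (invCompat_gam hC.a2 (one_pow 2) hC.c2 hC.d2 hC.e2) hC hw

theorem wrels_ev {a c d e s t u w : G} (hC : RelC a c d e s t u) (h : WRel a c d e u w) :
    ∀ r ∈ wrels, Cfsg.Agent.SporadicRecognition.CosetCert.ev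
      (let5 c d e (c * d * c * d * u * d * c * d * u) w) r = 1 := by
  have ha := sq_one hC.a2
  have hc := sq_one hC.c2
  have hd := sq_one hC.d2
  have he := sq_one hC.e2
  have hj : (c * d * c * d * u * d * c * d * u) * (c * d * c * d * u * d * c * d * u) = 1 := by
    have := corc_gam hC (w := [3,4,3,4,10,4,3,4,10] ++ [3,4,3,4,10,4,3,4,10]) (by decide +kernel)
    simpa [gam, mul_assoc] using this
  have hcd : a = (c * d) ^ 4 := by
    have := hC.acd
    rwa [mul_inv_eq_one] at this
  intro r hr
  simp only [wrels, List.mem_cons, List.not_mem_nil, or_false] at hr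
  rcases hr with rfl | rfl | rfl | rfl
  · simp only [Cfsg.Agent.SporadicRecognition.CosetCert.ev, List.map, List.prod_cons,
      List.prod_nil, let5, mul_one]
    calc w * (e * (w * e)) = w * e * (w * e) := by group
      _ = w * e * (e * w) := by rw [h.we]
      _ = w * (e * e) * w := by group
      _ = 1 := by rw [he, mul_one, h.w2]
  · simp only [Cfsg.Agent.SporadicRecognition.CosetCert.ev, List.map, List.prod_cons,
      List.prod_nil, let5, mul_one]
    have := h.jw
    calc w * (d * (c * (d * (e * (d * (c * (d * (w * (c * d * c * d * u * d * c * d * u)))))))))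
        = (w * (d * c * d * e * (d * c * d)) * w) * (c * d * c * d * u * d * c * d * u) := by
          simp only [mul_assoc]
      _ = (c * d * c * d * u * d * c * d * u) * (c * d * c * d * u * d * c * d * u) := by
          rw [this]; simp only [mul_assoc]
      _ = 1 := hj
  · simp only [Cfsg.Agent.SporadicRecognition.CosetCert.ev, List.map, List.prod_cons,
      List.prod_nil, let5, mul_one]
    have h1 : w * c * w = a := by
      rw [← h.aw]
      calc w * (w * a * w) * w = (w * w) * a * (w * w) := by simp only [mul_assoc]
        _ = a := by rw [h.w2, one_mul, mul_one]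
    have h2 : (c * d) ^ 4 * (d * c) ^ 4 = 1 := by
      have h3 : (d * c) = (c * d)⁻¹ := by
        rw [mul_inv_rev, inv_eq_self_of_sq hc, inv_eq_self_of_sq hd]
      rw [h3, inv_pow, mul_inv_cancel]
    calc w * (c * (w * (d * (c * (d * (c * (d * (c * (d * c)))))))))
        = (w * c * w) * (d * c) ^ 4 := by simp only [pow_succ, pow_zero, one_mul, mul_assoc]
      _ = 1 := by rw [h1, hcd, h2]
  · simp only [Cfsg.Agent.SporadicRecognition.CosetCert.ev, List.map, List.prod_cons,
      List.prod_nil, let5, mul_one]
    have := h.kw
    simpa only [pow_succ, pow_zero, one_mul, mul_assoc] using this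

theorem commute_closure {a c d e s t u : G} (hC : RelC a c d e s t u) {x : G}
    (hx : x ∈ Subgroup.closure {c, d, e, c * d * c * d * u * d * c * d * u}) : x * a = a * x := by
  have hca : c * a = a * c := by
    have := corc_gam hC (w := [3,1,3,1]) (by decide +kernel)
    have h1 := sq_one hC.a2
    have h2 := sq_one hC.c2
    simp only [ev, gam, mul_one] at this
    calc c * a = (c * (a * (c * a))) * (a * c) := by
          rw [show c * (a * (c * a)) * (a * c) = c * a * (c * (a * a) * c) by simp only [mul_assoc],
            h1, mul_one, h2, mul_one]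
      _ = a * c := by rw [this, one_mul]
  have hda : d * a = a * d := by
    have := corc_gam hC (w := [4,1,4,1]) (by decide +kernel)
    have h1 := sq_one hC.a2
    have h2 := sq_one hC.d2
    simp only [ev, gam, mul_one] at this
    calc d * a = (d * (a * (d * a))) * (a * d) := by
          rw [show d * (a * (d * a)) * (a * d) = d * a * (d * (a * a) * d) by simp only [mul_assoc],
            h1, mul_one, h2, mul_one]
      _ = a * d := by rw [this, one_mul]
  have hea : e * a = a * e := by
    have := corc_gam hC (w := [5,1,5,1]) (by decide +kernel)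
    have h1 := sq_one hC.a2
    have h2 := sq_one hC.e2
    simp only [ev, gam, mul_one] at this
    calc e * a = (e * (a * (e * a))) * (a * e) := by
          rw [show e * (a * (e * a)) * (a * e) = e * a * (e * (a * a) * e) by simp only [mul_assoc],
            h1, mul_one, h2, mul_one]
      _ = a * e := by rw [this, one_mul]
  have hua : Commute u a := by
    have := hC.ua
    have h3 : u * a = a * u := by
      calc u * a = a * u * (u⁻¹ * a⁻¹ * u * a) := by group
        _ = a * u := by rw [this, mul_one]
    exact h3
  have hca' : Commute c a := hca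
  have hda' : Commute d a := hda
  have hea' : Commute e a := hea
  have key : ∀ y ∈ ({c, d, e, c * d * c * d * u * d * c * d * u} : Set G), Commute y a := by
    intro y hy
    simp only [Set.mem_insert_iff, Set.mem_singleton_iff] at hy
    rcases hy with rfl | rfl | rfl | rfl
    · exact hca'
    · exact hda'
    · exact hea'
    · exact ((((((((hca'.mul_left hda').mul_left hca').mul_left hda').mul_left hua).mul_left
        hda').mul_left hca').mul_left hda').mul_left hua)
  induction hx using Subgroup.closure_induction with
  | mem y hy => exact key y hy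
  | one => rw [one_mul, mul_one]
  | mul y z _ _ hy hz =>
    exact (Commute.mul_left (show Commute y a from hy) (show Commute z a from hz))
  | inv y _ hy => exact (Commute.inv_left (show Commute y a from hy))

theorem eq_of_mem {a c d e s t u w : G} (hC : RelC a c d e s t u) (h : WRel a c d e u w)
    (hw : w ∈ Subgroup.closure {c, d, e, c * d * c * d * u * d * c * d * u}) : a = c := by
  have h1 := commute_closure hC hw
  rw [← h.aw, h1, mul_assoc, h.w2, mul_one]

/-- the `A6` case is impossible -/
theorem mem_A {a c d e s t u w : G} (hC : RelC a c d e s t u) (h : WRel a c d e u w)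
    (h4 : (w * (d * w * d) * c) ^ 4 = 1) :
    w ∈ Subgroup.closure {c, d, e, c * d * c * d * u * d * c * d * u} := by
  have hc := sq_one hC.c2
  have hd := sq_one hC.d2
  have he := sq_one hC.e2
  have hj : (c * d * c * d * u * d * c * d * u) * (c * d * c * d * u * d * c * d * u) = 1 := by
    have := corc_gam hC (w := [3,4,3,4,10,4,3,4,10] ++ [3,4,3,4,10,4,3,4,10]) (by decide +kernel)
    simpa [gam, mul_assoc] using this
  have := ColA.mem (Subgroup.closure {c, d, e, c * d * c * d * u * d * c * d * u})
    (let5 c d e (c * d * c * d * u * d * c * d * u) w) (by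
      intro x hx
      interval_cases x
      · exact hc
      · exact hd
      · exact he
      · exact hj
      · exact h.w2) (by
      intro r hr
      have h0 := List.all_eq_true.mp okA_true r hr
      rw [Bool.or_eq_true, Bool.or_eq_true, Bool.and_eq_true, decide_eq_true_eq,
        decide_eq_true_eq] at h0
      rcases h0 with (⟨h1, h2⟩ | h1) | rfl
      · rw [ev_subW a 1 c d e s t u w h1]
        exact corc_gam hC h2
      · exact wrels_ev hC h r h1
      · simp only [Cfsg.Agent.SporadicRecognition.CosetCert.ev, List.map, List.prod_cons,
          List.prod_nil, let5, mul_one]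
        simpa only [pow_succ, pow_zero, one_mul, mul_assoc] using h4) (by
      intro r hr
      simp only [ColAData.subw, List.mem_cons, List.not_mem_nil, or_false] at hr
      rcases hr with rfl | rfl | rfl | rfl <;>
        simp only [Cfsg.Agent.SporadicRecognition.CosetCert.ev, List.map, List.prod_cons,
          List.prod_nil, let5, mul_one] <;>
        exact Subgroup.subset_closure (by simp)) [4] (by simp [ColAData.targets])
  simpa [Cfsg.Agent.SporadicRecognition.CosetCert.ev, let5] using this

/-- the bad hexagon is impossible -/
theorem mem_B {a c d e s t u w : G} (hC : RelC a c d e s t u) (h : WRel a c d e u w)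
    (h6 : (w * d) ^ 6 = 1) :
    w ∈ Subgroup.closure {c, d, e, c * d * c * d * u * d * c * d * u} := by
  have hc := sq_one hC.c2
  have hd := sq_one hC.d2
  have he := sq_one hC.e2
  have hj : (c * d * c * d * u * d * c * d * u) * (c * d * c * d * u * d * c * d * u) = 1 := by
    have := corc_gam hC (w := [3,4,3,4,10,4,3,4,10] ++ [3,4,3,4,10,4,3,4,10]) (by decide +kernel)
    simpa [gam, mul_assoc] using this
  have := ColB.mem (Subgroup.closure {c, d, e, c * d * c * d * u * d * c * d * u})
    (let5 c d e (c * d * c * d * u * d * c * d * u) w) (by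
      intro x hx
      interval_cases x
      · exact hc
      · exact hd
      · exact he
      · exact hj
      · exact h.w2) (by
      intro r hr
      have h0 := List.all_eq_true.mp okB_true r hr
      rw [Bool.or_eq_true, Bool.or_eq_true, Bool.and_eq_true, decide_eq_true_eq,
        decide_eq_true_eq] at h0
      rcases h0 with (⟨h1, h2⟩ | h1) | rfl
      · rw [ev_subW a 1 c d e s t u w h1]
        exact corc_gam hC h2
      · exact wrels_ev hC h r h1
      · simp only [Cfsg.Agent.SporadicRecognition.CosetCert.ev, List.map, List.prod_cons,
          List.prod_nil, let5, mul_one]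
        simpa only [pow_succ, pow_zero, one_mul, mul_assoc] using h6) (by
      intro r hr
      simp only [ColBData.subw, List.mem_cons, List.not_mem_nil, or_false] at hr
      rcases hr with rfl | rfl | rfl | rfl <;>
        simp only [Cfsg.Agent.SporadicRecognition.CosetCert.ev, List.map, List.prod_cons,
          List.prod_nil, let5, mul_one] <;>
        exact Subgroup.subset_closure (by simp)) [4] (by simp [ColBData.targets])
  simpa [Cfsg.Agent.SporadicRecognition.CosetCert.ev, let5] using this

/-- CASE A6 EXCLUDED: `(w (d w d) c)^4 = 1` forces `a = c` -/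
theorem eq_A {a c d e s t u w : G} (hC : RelC a c d e s t u) (h : WRel a c d e u w)
    (h4 : (w * (d * w * d) * c) ^ 4 = 1) : a = c :=
  eq_of_mem hC h (mem_A hC h h4)

/-- BAD HEXAGON EXCLUDED: `(w d)^6 = 1` forces `a = c` -/
theorem eq_B {a c d e s t u w : G} (hC : RelC a c d e s t u) (h : WRel a c d e u w)
    (h6 : (w * d) ^ 6 = 1) : a = c :=
  eq_of_mem hC h (mem_B hC h h6)

end Cfsg.Agent.ThType.Collapse
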