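import Cfsg.Agent.Th.COracleSound
import Cfsg.Agent.ThType.GamEqs

/-!
R05 (Thompson type), D-side: the two relators `r1`, `r2` of the presented Thompson group from
information modulo the four-dimensional ambiguity `E_t = <a, c, z'>` (`z' = zE`).

Everything here is abstract: `a c d e s t u` satisfy `RelC`, `y` is an involution with
prescribed action on a few elements of `C`.
-/

set_option autoImplicit false
set_option linter.unusedSimpArgs false
set_option linter.unusedVariables false

namespace Cfsg.Agent.ThType.RelD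

open Cfsg.Agent.Th.Base Cfsg.Agent.Th.Word Cfsg.Agent.Th.COracleDef Cfsg.Agent.Th.COracleSound

universe v

variable {G : Type v} [Group G] {a c d e s t u : G}

/-- words in `C` are decided by the C-oracle -/
theorem cw (h : RelC a c d e s t u) {w : List ℕ} (hw : corc w = true) :
    ev (gam a 1 c d e s t u) w = 1 :=
  corc_sound (invCompat_gam h.a2 (one_pow 2) h.c2 h.d2 h.e2) h hw

/-- equality of words in `C` is decided by the C-oracle -/
theorem ceq (h : RelC a c d e s t u) (v w : List ℕ) (hw : corc (v ++ iw w) = true) :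
    ev (gam a 1 c d e s t u) v = ev (gam a 1 c d e s t u) w := by
  have h1 := cw h hw
  rw [ev_append, ev_iw (invCompat_gam h.a2 (one_pow 2) h.c2 h.d2 h.e2)] at h1
  exact mul_inv_eq_one.mp h1

/-- the element `f = d c d` -/
def fE (c d : G) : G := d * c * d
/-- the element `v = d u d` -/
def vE (d u : G) : G := d * u * d
/-- the `t`-fixed element of `J_a` -/
def jE (c d u : G) : G := c * (d * c * d) * u * (d * c * d) * u
/-- the `t`-fixed element of `[E, s]` -/
def zE (c d e u : G) : G := jE c d u * c * (d * c * d) * (e * (d * c * d) * e)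

section rel

variable (h : RelC a c d e s t u)
include h

theorem a_sq : a * a = 1 := by rw [← sq]; exact h.a2
theorem c_sq : c * c = 1 := by rw [← sq]; exact h.c2
theorem d_sq : d * d = 1 := by rw [← sq]; exact h.d2
theorem e_sq : e * e = 1 := by rw [← sq]; exact h.e2

theorem f_sq : fE c d * fE c d = 1 := by
  have := ceq h [4,3,4,4,3,4] [] (by decide +kernel)
  simpa only [fE, ev_cons, ev_nil, gam, mul_one, mul_assoc] using this

theorem t1 : vE d u * vE d u * u * e = e * u * zE c d e u * fE c d := by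
  have := ceq h [4,10,4,4,10,4,10,5] [5,10,3,4,3,4,10,4,3,4,10,3,4,3,4,5,4,3,4,5,4,3,4] (by decide +kernel)
  simpa only [fE, vE, jE, zE, ev_cons, ev_nil, gam, mul_one, one_mul, mul_assoc] using this

theorem t4 : vE d u * e * vE d u * u * e = u⁻¹ * vE d u * jE c d u * u := by
  have := ceq h [4,10,4,5,4,10,4,10,5] [11,4,10,4,3,4,3,4,10,4,3,4,10,10] (by decide +kernel)
  simpa only [fE, vE, jE, zE, ev_cons, ev_nil, gam, mul_one, one_mul, mul_assoc] using this

theorem t5 : fE c d * e * fE c d = a * zE c d e u * e * jE c d u := by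
  have := ceq h [4,3,4,5,4,3,4] [1,3,4,3,4,10,4,3,4,10,3,4,3,4,5,4,3,4,5,5,3,4,3,4,10,4,3,4,10] (by decide +kernel)
  simpa only [fE, vE, jE, zE, ev_cons, ev_nil, gam, mul_one, one_mul, mul_assoc] using this

theorem t6 : fE c d * u * fE c d = u * jE c d u := by
  have := ceq h [4,3,4,10,4,3,4] [10,3,4,3,4,10,4,3,4,10] (by decide +kernel)
  simpa only [fE, vE, jE, zE, ev_cons, ev_nil, gam, mul_one, one_mul, mul_assoc] using this

theorem tK : vE d u * u * e * a * zE c d e u * e * jE c d u * e * vE d u * u * e = u * zE c d e u * fE c d * u * zE c d e u := by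
  have := ceq h [4,10,4,10,5,1,3,4,3,4,10,4,3,4,10,3,4,3,4,5,4,3,4,5,5,3,4,3,4,10,4,3,4,10,5,4,10,4,10,5] [10,3,4,3,4,10,4,3,4,10,3,4,3,4,5,4,3,4,5,4,3,4,10,3,4,3,4,10,4,3,4,10,3,4,3,4,5,4,3,4,5] (by decide +kernel)
  simpa only [fE, vE, jE, zE, ev_cons, ev_nil, gam, mul_one, one_mul, mul_assoc] using this

theorem eae : e * a * e = a := by
  have := ceq h [5,1,5] [1] (by decide +kernel)
  simpa only [fE, vE, jE, zE, ev_cons, ev_nil, gam, mul_one, one_mul, mul_assoc] using this

theorem ece : e * c * e = c := by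
  have := ceq h [5,3,5] [3] (by decide +kernel)
  simpa only [fE, vE, jE, zE, ev_cons, ev_nil, gam, mul_one, one_mul, mul_assoc] using this

theorem eze : e * zE c d e u * e = a * c * zE c d e u := by
  have := ceq h [5,3,4,3,4,10,4,3,4,10,3,4,3,4,5,4,3,4,5,5] [1,3,3,4,3,4,10,4,3,4,10,3,4,3,4,5,4,3,4,5] (by decide +kernel)
  simpa only [fE, vE, jE, zE, ev_cons, ev_nil, gam, mul_one, one_mul, mul_assoc] using this

theorem eacze : e * a * c * zE c d e u * e * c * a * zE c d e u = a * c := by
  have := ceq h [5,1,3,3,4,3,4,10,4,3,4,10,3,4,3,4,5,4,3,4,5,5,3,1,3,4,3,4,10,4,3,4,10,3,4,3,4,5,4,3,4,5] [1,3] (by decide +kernel)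
  simpa only [fE, vE, jE, zE, ev_cons, ev_nil, gam, mul_one, one_mul, mul_assoc] using this

theorem tK2 : u⁻¹ * e * vE d u * u * e = vE d u * u * e * a * zE c d e u * fE c d * a * e * u := by
  have := ceq h [11,5,4,10,4,10,5] [4,10,4,10,5,1,3,4,3,4,10,4,3,4,10,3,4,3,4,5,4,3,4,5,4,3,4,1,5,10] (by decide +kernel)
  simpa only [fE, vE, jE, zE, ev_cons, ev_nil, gam, mul_one, one_mul, mul_assoc] using this

theorem ac : a * c = c * a := by
  have := ceq h [1,3] [3,1] (by decide +kernel)
  simpa only [fE, vE, jE, zE, ev_cons, ev_nil, gam, mul_one, one_mul, mul_assoc] using this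

theorem ae : a * e = e * a := by
  have := ceq h [1,5] [5,1] (by decide +kernel)
  simpa only [fE, vE, jE, zE, ev_cons, ev_nil, gam, mul_one, one_mul, mul_assoc] using this

theorem ce : c * e = e * c := by
  have := ceq h [3,5] [5,3] (by decide +kernel)
  simpa only [fE, vE, jE, zE, ev_cons, ev_nil, gam, mul_one, one_mul, mul_assoc] using this

theorem au : a * u = u * a := by
  have := ceq h [1,10] [10,1] (by decide +kernel)
  simpa only [fE, vE, jE, zE, ev_cons, ev_nil, gam, mul_one, one_mul, mul_assoc] using this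

theorem cu : c * u = u * c := by
  have := ceq h [3,10] [10,3] (by decide +kernel)
  simpa only [fE, vE, jE, zE, ev_cons, ev_nil, gam, mul_one, one_mul, mul_assoc] using this

theorem eu : e * u = u * e := by
  have := ceq h [5,10] [10,5] (by decide +kernel)
  simpa only [fE, vE, jE, zE, ev_cons, ev_nil, gam, mul_one, one_mul, mul_assoc] using this

theorem az : a * zE c d e u = zE c d e u * a := by
  have := ceq h [1,3,4,3,4,10,4,3,4,10,3,4,3,4,5,4,3,4,5] [3,4,3,4,10,4,3,4,10,3,4,3,4,5,4,3,4,5,1] (by decide +kernel)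
  simpa only [fE, vE, jE, zE, ev_cons, ev_nil, gam, mul_one, one_mul, mul_assoc] using this

theorem cz : c * zE c d e u = zE c d e u * c := by
  have := ceq h [3,3,4,3,4,10,4,3,4,10,3,4,3,4,5,4,3,4,5] [3,4,3,4,10,4,3,4,10,3,4,3,4,5,4,3,4,5,3] (by decide +kernel)
  simpa only [fE, vE, jE, zE, ev_cons, ev_nil, gam, mul_one, one_mul, mul_assoc] using this

theorem zz : zE c d e u * zE c d e u = 1 := by
  have := ceq h [3,4,3,4,10,4,3,4,10,3,4,3,4,5,4,3,4,5,3,4,3,4,10,4,3,4,10,3,4,3,4,5,4,3,4,5] [] (by decide +kernel)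
  simpa only [fE, vE, jE, zE, ev_cons, ev_nil, gam, mul_one, one_mul, mul_assoc] using this

theorem aj : a * jE c d u = jE c d u * a := by
  have := ceq h [1,3,4,3,4,10,4,3,4,10] [3,4,3,4,10,4,3,4,10,1] (by decide +kernel)
  simpa only [fE, vE, jE, zE, ev_cons, ev_nil, gam, mul_one, one_mul, mul_assoc] using this

theorem ze : zE c d e u * e = e * a * c * zE c d e u := by
  have := ceq h [3,4,3,4,10,4,3,4,10,3,4,3,4,5,4,3,4,5,5] [5,1,3,3,4,3,4,10,4,3,4,10,3,4,3,4,5,4,3,4,5] (by decide +kernel)
  simpa only [fE, vE, jE, zE, ev_cons, ev_nil, gam, mul_one, one_mul, mul_assoc] using this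

theorem af : a * fE c d = fE c d * a := by
  have := ceq h [1,4,3,4] [4,3,4,1] (by decide +kernel)
  simpa only [fE, vE, jE, zE, ev_cons, ev_nil, gam, mul_one, one_mul, mul_assoc] using this

theorem fcf : fE c d * c * fE c d = a * c := by
  have := ceq h [4,3,4,3,4,3,4] [1,3] (by decide +kernel)
  simpa only [fE, vE, jE, zE, ev_cons, ev_nil, gam, mul_one, one_mul, mul_assoc] using this

theorem fzf : fE c d * zE c d e u * fE c d = zE c d e u := by
  have := ceq h [4,3,4,3,4,3,4,10,4,3,4,10,3,4,3,4,5,4,3,4,5,4,3,4] [3,4,3,4,10,4,3,4,10,3,4,3,4,5,4,3,4,5] (by decide +kernel)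
  simpa only [fE, vE, jE, zE, ev_cons, ev_nil, gam, mul_one, one_mul, mul_assoc] using this

theorem c1a_a : vE d u * e * c * a * vE d u = jE c d u * e * vE d u * u * a := by
  have := ceq h [4,10,4,5,3,1,4,10,4] [3,4,3,4,10,4,3,4,10,5,4,10,4,10,1] (by decide +kernel)
  simpa only [fE, vE, jE, zE, ev_cons, ev_nil, gam, mul_one, one_mul, mul_assoc] using this

theorem c1b_a : fE c d * vE d u * e * c * a = e * u * zE c d e u * a * c * zE c d e u * vE d u * e * c * a * e * u * c := by
  have := ceq h [4,3,4,4,10,4,5,3,1] [5,10,3,4,3,4,10,4,3,4,10,3,4,3,4,5,4,3,4,5,1,3,3,4,3,4,10,4,3,4,10,3,4,3,4,5,4,3,4,5,4,10,4,5,3,1,5,10,3] (by decide +kernel)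
  simpa only [fE, vE, jE, zE, ev_cons, ev_nil, gam, mul_one, one_mul, mul_assoc] using this

theorem c1a_c : vE d u * e * c * c * vE d u = jE c d u * e * vE d u * u * c * zE c d e u := by
  have := ceq h [4,10,4,5,3,3,4,10,4] [3,4,3,4,10,4,3,4,10,5,4,10,4,10,3,3,4,3,4,10,4,3,4,10,3,4,3,4,5,4,3,4,5] (by decide +kernel)
  simpa only [fE, vE, jE, zE, ev_cons, ev_nil, gam, mul_one, one_mul, mul_assoc] using this

theorem c1b_c : fE c d * vE d u * e * c * c = e * u * zE c d e u * a * c * vE d u * e * c * c * e * u * a * zE c d e u := by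
  have := ceq h [4,3,4,4,10,4,5,3,3] [5,10,3,4,3,4,10,4,3,4,10,3,4,3,4,5,4,3,4,5,1,3,4,10,4,5,3,3,5,10,1,3,4,3,4,10,4,3,4,10,3,4,3,4,5,4,3,4,5] (by decide +kernel)
  simpa only [fE, vE, jE, zE, ev_cons, ev_nil, gam, mul_one, one_mul, mul_assoc] using this

theorem c1a_ac : vE d u * e * c * a * c * vE d u = jE c d u * e * vE d u * u * a * c * zE c d e u := by
  have := ceq h [4,10,4,5,3,1,3,4,10,4] [3,4,3,4,10,4,3,4,10,5,4,10,4,10,1,3,3,4,3,4,10,4,3,4,10,3,4,3,4,5,4,3,4,5] (by decide +kernel)
  simpa only [fE, vE, jE, zE, ev_cons, ev_nil, gam, mul_one, one_mul, mul_assoc] using this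

theorem c1b_ac : fE c d * vE d u * e * c * a * c = e * u * zE c d e u * zE c d e u * vE d u * e * c * a * c * e * u * c * a * zE c d e u := by
  have := ceq h [4,3,4,4,10,4,5,3,1,3] [5,10,3,4,3,4,10,4,3,4,10,3,4,3,4,5,4,3,4,5,3,4,3,4,10,4,3,4,10,3,4,3,4,5,4,3,4,5,4,10,4,5,3,1,3,5,10,3,1,3,4,3,4,10,4,3,4,10,3,4,3,4,5,4,3,4,5] (by decide +kernel)
  simpa only [fE, vE, jE, zE, ev_cons, ev_nil, gam, mul_one, one_mul, mul_assoc] using this

theorem c1a_z : vE d u * e * c * zE c d e u * vE d u = jE c d u * e * vE d u * u * a * zE c d e u := by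
  have := ceq h [4,10,4,5,3,3,4,3,4,10,4,3,4,10,3,4,3,4,5,4,3,4,5,4,10,4] [3,4,3,4,10,4,3,4,10,5,4,10,4,10,1,3,4,3,4,10,4,3,4,10,3,4,3,4,5,4,3,4,5] (by decide +kernel)
  simpa only [fE, vE, jE, zE, ev_cons, ev_nil, gam, mul_one, one_mul, mul_assoc] using this

theorem c1b_z : fE c d * vE d u * e * c * zE c d e u = e * u * zE c d e u * zE c d e u * vE d u * e * c * zE c d e u * e * u * c * zE c d e u := by
  have := ceq h [4,3,4,4,10,4,5,3,3,4,3,4,10,4,3,4,10,3,4,3,4,5,4,3,4,5] [5,10,3,4,3,4,10,4,3,4,10,3,4,3,4,5,4,3,4,5,3,4,3,4,10,4,3,4,10,3,4,3,4,5,4,3,4,5,4,10,4,5,3,3,4,3,4,10,4,3,4,10,3,4,3,4,5,4,3,4,5,5,10,3,3,4,3,4,10,4,3,4,10,3,4,3,4,5,4,3,4,5] (by decide +kernel)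
  simpa only [fE, vE, jE, zE, ev_cons, ev_nil, gam, mul_one, one_mul, mul_assoc] using this

theorem c1a_az : vE d u * e * c * a * zE c d e u * vE d u = jE c d u * e * vE d u * u * zE c d e u := by
  have := ceq h [4,10,4,5,3,1,3,4,3,4,10,4,3,4,10,3,4,3,4,5,4,3,4,5,4,10,4] [3,4,3,4,10,4,3,4,10,5,4,10,4,10,3,4,3,4,10,4,3,4,10,3,4,3,4,5,4,3,4,5] (by decide +kernel)
  simpa only [fE, vE, jE, zE, ev_cons, ev_nil, gam, mul_one, one_mul, mul_assoc] using this

theorem c1b_az : fE c d * vE d u * e * c * a * zE c d e u = e * u * zE c d e u * a * c * vE d u * e * c * a * zE c d e u * e * u * zE c d e u := by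
  have := ceq h [4,3,4,4,10,4,5,3,1,3,4,3,4,10,4,3,4,10,3,4,3,4,5,4,3,4,5] [5,10,3,4,3,4,10,4,3,4,10,3,4,3,4,5,4,3,4,5,1,3,4,10,4,5,3,1,3,4,3,4,10,4,3,4,10,3,4,3,4,5,4,3,4,5,5,10,3,4,3,4,10,4,3,4,10,3,4,3,4,5,4,3,4,5] (by decide +kernel)
  simpa only [fE, vE, jE, zE, ev_cons, ev_nil, gam, mul_one, one_mul, mul_assoc] using this

theorem c1a_cz : vE d u * e * c * c * zE c d e u * vE d u = jE c d u * e * vE d u * u * a * c := by
  have := ceq h [4,10,4,5,3,3,3,4,3,4,10,4,3,4,10,3,4,3,4,5,4,3,4,5,4,10,4] [3,4,3,4,10,4,3,4,10,5,4,10,4,10,1,3] (by decide +kernel)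
  simpa only [fE, vE, jE, zE, ev_cons, ev_nil, gam, mul_one, one_mul, mul_assoc] using this

theorem c1b_cz : fE c d * vE d u * e * c * c * zE c d e u = e * u * zE c d e u * a * c * zE c d e u * vE d u * e * c * c * zE c d e u * e * u * c * a := by
  have := ceq h [4,3,4,4,10,4,5,3,3,3,4,3,4,10,4,3,4,10,3,4,3,4,5,4,3,4,5] [5,10,3,4,3,4,10,4,3,4,10,3,4,3,4,5,4,3,4,5,1,3,3,4,3,4,10,4,3,4,10,3,4,3,4,5,4,3,4,5,4,10,4,5,3,3,3,4,3,4,10,4,3,4,10,3,4,3,4,5,4,3,4,5,5,10,3,1] (by decide +kernel)
  simpa only [fE, vE, jE, zE, ev_cons, ev_nil, gam, mul_one, one_mul, mul_assoc] using this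

theorem c2a : vE d u * e * c * a * c * zE c d e u * e * vE d u = c * zE c d e u * fE c d * a * zE c d e u := by
  have := ceq h [4,10,4,5,3,1,3,3,4,3,4,10,4,3,4,10,3,4,3,4,5,4,3,4,5,5,4,10,4] [3,3,4,3,4,10,4,3,4,10,3,4,3,4,5,4,3,4,5,4,3,4,1,3,4,3,4,10,4,3,4,10,3,4,3,4,5,4,3,4,5] (by decide +kernel)
  simpa only [fE, vE, jE, zE, ev_cons, ev_nil, gam, mul_one, one_mul, mul_assoc] using this

theorem c2b : fE c d * c * zE c d e u = c * u * zE c d e u * vE d u * e * c * a * c * zE c d e u * a * zE c d e u * e * jE c d u * e * u * vE d u * e * c * a * c * zE c d e u := by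
  have := ceq h [4,3,4,3,3,4,3,4,10,4,3,4,10,3,4,3,4,5,4,3,4,5] [3,10,3,4,3,4,10,4,3,4,10,3,4,3,4,5,4,3,4,5,4,10,4,5,3,1,3,3,4,3,4,10,4,3,4,10,3,4,3,4,5,4,3,4,5,1,3,4,3,4,10,4,3,4,10,3,4,3,4,5,4,3,4,5,5,3,4,3,4,10,4,3,4,10,5,10,4,10,4,5,3,1,3,3,4,3,4,10,4,3,4,10,3,4,3,4,5,4,3,4,5] (by decide +kernel)
  simpa only [fE, vE, jE, zE, ev_cons, ev_nil, gam, mul_one, one_mul, mul_assoc] using this

theorem s3_ac : u * e * a * c * s * u * e * a * c * s * u * e * a * c * s = a * c * a * c := by
  have := ceq h [10,5,1,3,6,10,5,1,3,6,10,5,1,3,6] [1,3,1,3] (by decide +kernel)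
  simpa only [fE, vE, jE, zE, ev_cons, ev_nil, gam, mul_one, one_mul, mul_assoc] using this

theorem s3_az : u * e * a * zE c d e u * s * u * e * a * zE c d e u * s * u * e * a * zE c d e u * s = a * c * a := by
  have := ceq h [10,5,1,3,4,3,4,10,4,3,4,10,3,4,3,4,5,4,3,4,5,6,10,5,1,3,4,3,4,10,4,3,4,10,3,4,3,4,5,4,3,4,5,6,10,5,1,3,4,3,4,10,4,3,4,10,3,4,3,4,5,4,3,4,5,6] [1,3,1] (by decide +kernel)
  simpa only [fE, vE, jE, zE, ev_cons, ev_nil, gam, mul_one, one_mul, mul_assoc] using this

theorem s3_cz : u * e * c * zE c d e u * s * u * e * c * zE c d e u * s * u * e * c * zE c d e u * s = a * c * c := by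
  have := ceq h [10,5,3,3,4,3,4,10,4,3,4,10,3,4,3,4,5,4,3,4,5,6,10,5,3,3,4,3,4,10,4,3,4,10,3,4,3,4,5,4,3,4,5,6,10,5,3,3,4,3,4,10,4,3,4,10,3,4,3,4,5,4,3,4,5,6] [1,3,3] (by decide +kernel)
  simpa only [fE, vE, jE, zE, ev_cons, ev_nil, gam, mul_one, one_mul, mul_assoc] using this

theorem ne_c : c * fE c d = a * fE c d * c := by
  have := ceq h [3,4,3,4] [1,4,3,4,3] (by decide +kernel)
  simpa only [fE, vE, jE, zE, ev_cons, ev_nil, gam, mul_one, one_mul, mul_assoc] using this

theorem ne_ac : a * c * fE c d = a * fE c d * a * c := by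
  have := ceq h [1,3,4,3,4] [1,4,3,4,1,3] (by decide +kernel)
  simpa only [fE, vE, jE, zE, ev_cons, ev_nil, gam, mul_one, one_mul, mul_assoc] using this

theorem ne_z : zE c d e u * jE c d u = a * jE c d u * zE c d e u := by
  have := ceq h [3,4,3,4,10,4,3,4,10,3,4,3,4,5,4,3,4,5,3,4,3,4,10,4,3,4,10] [1,3,4,3,4,10,4,3,4,10,3,4,3,4,10,4,3,4,10,3,4,3,4,5,4,3,4,5] (by decide +kernel)
  simpa only [fE, vE, jE, zE, ev_cons, ev_nil, gam, mul_one, one_mul, mul_assoc] using this

theorem ne_acz : a * c * zE c d e u * jE c d u = a * jE c d u * a * c * zE c d e u := by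
  have := ceq h [1,3,3,4,3,4,10,4,3,4,10,3,4,3,4,5,4,3,4,5,3,4,3,4,10,4,3,4,10] [1,3,4,3,4,10,4,3,4,10,1,3,3,4,3,4,10,4,3,4,10,3,4,3,4,5,4,3,4,5] (by decide +kernel)
  simpa only [fE, vE, jE, zE, ev_cons, ev_nil, gam, mul_one, one_mul, mul_assoc] using this


end rel

section core

variable {f v z j y η η' η'' D : G}

theorem core1 (hyy : y * y = 1) (yf : y * f * y = f * y * f) (yz : y * z * y = z)
    (ye : y * e * y = e) (yj : y * j * y = a * z * e * j) (yu : y * u * y = e * u)
    (ee : e * e = 1) (T1 : v * v * u * e = e * u * z * f)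
    (TK : v * u * e * a * z * e * j * e * v * u * e = u * z * f * u * z)
    (hst : y * v * y = v * u * e * y * v * e * c * η)
    (h1 : v * e * c * η * v = j * e * v * u * η') (h2 : y * η' * y = η'')
    (h3 : f * v * e * c * η = e * u * z * D * v * e * c * η * e * u * η'') : D = 1 := by
  have pp : ∀ X : G, y * (y * X) = X := fun X => by rw [← mul_assoc, hyy, one_mul]
  have P1 : y * v * y * v * y = u * z * f * (u * z) * y * (v * e * c * η * e * u * η'') := by
    calc y * v * y * v * y = (y * v * y) * (v * y) := by group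
      _ = (v * u * e * y * v * e * c * η) * (v * y) := by rw [hst]
      _ = v * u * e * (y * (v * e * c * η * v) * y) := by group
      _ = v * u * e * (y * (j * e * v * u * η') * y) := by rw [h1]
      _ = v * u * e * ((y * j * y) * (y * e * y) * (y * v * y) * (y * u * y) * (y * η' * y)) := by
          simp only [mul_assoc, pp]
      _ = v * u * e * ((a * z * e * j) * e * (v * u * e * y * v * e * c * η) * (e * u) * η'') := by
          rw [yj, ye, hst, yu, h2]
      _ = (v * u * e * a * z * e * j * e * v * u * e) * y * (v * e * c * η * e * u * η'') := by group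
      _ = _ := by rw [TK]; group
  have P2 : y * v * y * v * y = u * z * f * y * (f * v * e * c * η) := by
    calc y * v * y * v * y = y * v * (y * v * y) := by group
      _ = y * v * (v * u * e * y * v * e * c * η) := by rw [hst]
      _ = y * (v * v * u * e) * y * (v * e * c * η) := by group
      _ = y * (e * u * z * f) * y * (v * e * c * η) := by rw [T1]
      _ = (y * e * y) * (y * u * y) * (y * z * y) * (y * f * y) * (v * e * c * η) := by
          simp only [mul_assoc, pp]
      _ = e * (e * u) * z * (f * y * f) * (v * e * c * η) := by rw [ye, yu, yz, yf]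
      _ = (e * e) * u * z * f * y * (f * v * e * c * η) := by group
      _ = _ := by rw [ee, one_mul]
  have P3 : u * z * y * (v * e * c * η * e * u * η'') = y * (f * v * e * c * η) := by
    have := P1.symm.trans P2
    have h4 : (u * z * f) * (u * z * y * (v * e * c * η * e * u * η'')) =
        (u * z * f) * (y * (f * v * e * c * η)) := by
      calc _ = u * z * f * (u * z) * y * (v * e * c * η * e * u * η'') := by group
        _ = u * z * f * y * (f * v * e * c * η) := this
        _ = _ := by group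
    exact mul_left_cancel h4
  have P4 : e * u * z * (v * e * c * η * e * u * η'') = f * v * e * c * η := by
    calc e * u * z * (v * e * c * η * e * u * η'')
        = (y * u * y) * (y * z * y) * (v * e * c * η * e * u * η'') := by rw [yu, yz]
      _ = y * (u * z * y * (v * e * c * η * e * u * η'')) := by simp only [mul_assoc, pp]
      _ = y * (y * (f * v * e * c * η)) := by rw [P3]
      _ = _ := pp _
  have P5 : D * (v * e * c * η * e * u * η'') = 1 * (v * e * c * η * e * u * η'') := by
    have h5 : (e * u * z) * (D * (v * e * c * η * e * u * η'')) =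
        (e * u * z) * (1 * (v * e * c * η * e * u * η'')) := by
      calc _ = e * u * z * D * v * e * c * η * e * u * η'' := by group
        _ = f * v * e * c * η := h3.symm
        _ = _ := by rw [one_mul]; exact P4.symm
    exact mul_left_cancel h5
  exact mul_right_cancel P5

theorem core2 (hyy : y * y = 1) (ya : y * a * y = c) (yc : y * c * y = a)
    (yf : y * f * y = f * y * f) (yz : y * z * y = z)
    (ye : y * e * y = e) (yj : y * j * y = a * z * e * j) (yu : y * u * y = e * u)
    (ee : e * e = 1) (T4 : v * e * v * u * e = u⁻¹ * v * j * u)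
    (TK : u⁻¹ * e * v * u * e = v * u * e * a * z * f * a * e * u)
    (hst : y * v * y = v * u * e * y * v * e * c * η)
    (h1 : v * e * c * η * e * v = c * z * f * η') (h2 : y * η' * y = η'')
    (h3 : f * η'' = c * u * D * v * e * c * η * a * z * e * j * e * u * v * e * c * η) : D = 1 := by
  have pp : ∀ X : G, y * (y * X) = X := fun X => by rw [← mul_assoc, hyy, one_mul]
  have ei : e⁻¹ = e := by rw [inv_eq_iff_mul_eq_one]; exact ee
  have yi : y⁻¹ = y := by rw [inv_eq_iff_mul_eq_one]; exact hyy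
  have yui : y * u⁻¹ * y = u⁻¹ * e := by
    have : (y * u * y)⁻¹ = (e * u)⁻¹ := by rw [yu]
    simpa only [mul_inv_rev, yi, ei, mul_assoc] using this
  have yec : y * e = e * y := by
    calc y * e = y * e * (y * y) := by rw [hyy, mul_one]
      _ = (y * e * y) * y := by group
      _ = e * y := by rw [ye]
  set X := v * e * c * η * a * z * e * j * e * u * v * e * c * η with hX
  have P1 : y * v * y * e * v * y = v * u * e * a * z * f * y * (f * η'') := by
    calc y * v * y * e * v * y = (y * v * y) * (e * v * y) := by group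
      _ = (v * u * e * y * v * e * c * η) * (e * v * y) := by rw [hst]
      _ = v * u * e * (y * (v * e * c * η * e * v) * y) := by group
      _ = v * u * e * (y * (c * z * f * η') * y) := by rw [h1]
      _ = v * u * e * ((y * c * y) * (y * z * y) * (y * f * y) * (y * η' * y)) := by
          simp only [mul_assoc, pp]
      _ = v * u * e * (a * z * (f * y * f) * η'') := by rw [yc, yz, yf, h2]
      _ = _ := by group
  have P2 : y * v * y * e * v * y = v * u * e * a * z * f * (a * e * u) * y * X := by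
    calc y * v * y * e * v * y = y * v * (y * e) * v * y := by group
      _ = y * v * (e * y) * v * y := by rw [yec]
      _ = y * v * e * (y * v * y) := by group
      _ = y * v * e * (v * u * e * y * v * e * c * η) := by rw [hst]
      _ = y * (v * e * v * u * e) * y * (v * e * c * η) := by group
      _ = y * (u⁻¹ * v * j * u) * y * (v * e * c * η) := by rw [T4]
      _ = (y * u⁻¹ * y) * (y * v * y) * (y * j * y) * (y * u * y) * (v * e * c * η) := by
          simp only [mul_assoc, pp]
      _ = (u⁻¹ * e) * (v * u * e * y * v * e * c * η) * (a * z * e * j) * (e * u) *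
            (v * e * c * η) := by rw [yui, hst, yj, yu]
      _ = (u⁻¹ * e * v * u * e) * y * X := by rw [hX]; group
      _ = _ := by rw [TK]; group
  have P3 : a * e * u * y * X = y * (f * η'') := by
    have h4 : (v * u * e * a * z * f) * (a * e * u * y * X) =
        (v * u * e * a * z * f) * (y * (f * η'')) := by
      calc _ = v * u * e * a * z * f * (a * e * u) * y * X := by group
        _ = v * u * e * a * z * f * y * (f * η'') := P2.symm.trans P1
        _ = _ := by group
    exact mul_left_cancel h4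
  have P4 : c * u * X = f * η'' := by
    calc c * u * X = c * (e * e) * u * X := by rw [ee, mul_one]
      _ = c * e * (e * u) * X := by group
      _ = (y * a * y) * (y * e * y) * (y * u * y) * X := by rw [ya, ye, yu]
      _ = y * (a * e * u * y * X) := by simp only [mul_assoc, pp]
      _ = y * (y * (f * η'')) := by rw [P3]
      _ = _ := pp _
  have P5 : D * X = 1 * X := by
    have h5 : (c * u) * (D * X) = (c * u) * (1 * X) := by
      calc _ = c * u * D * v * e * c * η * a * z * e * j * e * u * v * e * c * η := by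
            rw [hX]; group
        _ = f * η'' := h3.symm
        _ = _ := by rw [one_mul]; exact P4.symm
    exact mul_left_cancel h5
  exact mul_right_cancel P5

end core

/-- the hypotheses on the involution `y` -/
structure YRel (a c d e u y : G) : Prop where
  yy : y * y = 1
  ya : y * a * y = c
  yf : y * fE c d * y = fE c d * y * fE c d
  yz : y * zE c d e u * y = zE c d e u
  ye : y * e * y = e
  yj : y * jE c d u * y = fE c d * e * fE c d

section main

variable {y : G}

theorem YRel.yc (hy : YRel a c d e u y) : y * c * y = a := by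
  rw [← hy.ya]
  have := hy.yy
  calc y * (y * a * y) * y = (y * y) * a * (y * y) := by group
    _ = a := by rw [this]; group

theorem YRel.cj (hy : YRel a c d e u y) {p q p' q' : G} (hp : y * p * y = p') (hq : y * q * y = q') :
    y * (p * q) * y = p' * q' := by
  rw [← hp, ← hq]
  calc y * (p * q) * y = y * p * 1 * q * y := by group
    _ = y * p * (y * y) * q * y := by rw [hy.yy]
    _ = _ := by group

/-- the nontrivial elements of `E_t` used below are nontrivial -/
theorem et_ne (h : RelC a c d e s t u) (ha : a ≠ 1) {D : G}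
    (hD : D = a ∨ D = c ∨ D = a * c ∨ D = zE c d e u ∨ D = a * c * zE c d e u) : D ≠ 1 := by
  have key : ∀ q : G, D * q = a * q * D → D ≠ 1 := by
    intro q hq h1
    rw [h1, one_mul, mul_one] at hq
    exact ha (mul_eq_right.mp hq.symm)
  rcases hD with rfl | rfl | rfl | rfl | rfl
  · exact ha
  · exact key _ (ne_c h)
  · exact key (fE c d) (by simpa only [mul_assoc] using ne_ac h)
  · exact key _ (ne_z h)
  · exact key (jE c d u) (by simpa only [mul_assoc] using ne_acz h)

/-- the eight elements of `E_t` -/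
def EtElt (a c d e u η : G) : Prop :=
  η = 1 ∨ η = a ∨ η = c ∨ η = a * c ∨ η = zE c d e u ∨ η = a * zE c d e u ∨ η = c * zE c d e u ∨
    η = a * c * zE c d e u

/-- **relator r1**: `y u y = u e η` with `η` in `E_t` forces `η = 1` -/
theorem eta1 (h : RelC a c d e s t u) (ha : a ≠ 1) (hy : YRel a c d e u y) (hys : y * s = s * y)
    {η : G} (hη : EtElt a c d e u η) (hr : y * u * y = u * e * η) : η = 1 := by
  have hyy := hy.yy
  have pp : ∀ X : G, y * (y * X) = X := fun X => by rw [← mul_assoc, hyy, one_mul]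
  -- (B)
  have B : ∀ η' : G, y * η * y = η' → e * η * e * η' = 1 := by
    intro η' h'
    have h1 : u = u * (e * η * e * η') := by
      calc u = y * (y * u * y) * y := by
            rw [show y * (y * u * y) * y = (y * y) * u * (y * y) by group, hyy]; group
        _ = y * (u * e * η) * y := by rw [hr]
        _ = (y * u * y) * (y * e * y) * (y * η * y) := by simp only [mul_assoc, pp]
        _ = (u * e * η) * e * η' := by rw [hr, hy.ye, h']
        _ = _ := by group
    exact (mul_eq_left.mp h1.symm)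
  have ee := e_sq h
  have cs := c_sq h
  have as := a_sq h
  have zs := zz h
  -- (C)
  have C : ∀ D : G, (u * e * η * s) * (u * e * η * s) * (u * e * η * s) = a * c * D → D = 1 := by
    intro D hD
    have h1 : (u * s) ^ 3 = a * c := by
      have := h.us3
      exact (mul_inv_eq_one.mp this).symm
    have h2 : y * (u * s) * y = u * e * η * s := by
      calc y * (u * s) * y = y * u * (s * y) := by group
        _ = y * u * (y * s) := by rw [hys]
        _ = (y * u * y) * s := by group
        _ = _ := by rw [hr]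
    have h3 : (u * e * η * s) * (u * e * η * s) * (u * e * η * s) = c * a := by
      rw [← h2]
      calc (y * (u * s) * y) * (y * (u * s) * y) * (y * (u * s) * y) = y * (u * s) ^ 3 * y := by
            rw [pow_succ, pow_succ, pow_one]; simp only [mul_assoc, pp]
        _ = y * (a * c) * y := by rw [h1]
        _ = (y * a * y) * (y * c * y) := by simp only [mul_assoc, pp]
        _ = c * a := by rw [hy.ya, hy.yc]
    rw [h3] at hD
    have h4 : a * c = c * a := ac h
    rw [← h4] at hD
    exact (mul_eq_left.mp hD.symm)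
  rcases hη with rfl | rfl | rfl | rfl | rfl | rfl | rfl | rfl
  · rfl
  · exfalso
    have := B _ hy.ya
    rw [eae h] at this
    exact et_ne h ha (Or.inr (Or.inr (Or.inl rfl))) this
  · exfalso
    have := B _ hy.yc
    rw [ece h, ← ac h] at this
    exact et_ne h ha (Or.inr (Or.inr (Or.inl rfl))) this
  · exfalso
    exact et_ne h ha (Or.inr (Or.inr (Or.inl rfl))) (C (a * c) (by
      have := s3_ac h
      simpa only [mul_assoc] using this))
  · exfalso
    have := B _ hy.yz
    rw [eze h, mul_assoc, zs, mul_one] at this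
    exact et_ne h ha (Or.inr (Or.inr (Or.inl rfl))) this
  · exfalso
    exact et_ne h ha (Or.inl rfl) (C a (by
      have := s3_az h
      simpa only [mul_assoc] using this))
  · exfalso
    exact et_ne h ha (Or.inr (Or.inl rfl)) (C c (by
      have := s3_cz h
      simpa only [mul_assoc] using this))
  · exfalso
    have := B (c * a * zE c d e u) (hy.cj (hy.cj hy.ya hy.yc) hy.yz)
    have h5 : e * (a * c * zE c d e u) * e * (c * a * zE c d e u) = a * c := by
      simpa only [mul_assoc] using eacze h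
    rw [h5] at this
    exact et_ne h ha (Or.inr (Or.inr (Or.inl rfl))) this

/-- **relator r2**: `y v y = v u e y v e c η` with `η` in `E_t` forces `η = 1` -/
theorem eta2 (h : RelC a c d e s t u) (ha : a ≠ 1) (hy : YRel a c d e u y)
    (hyu : y * u * y = u * e) {η : G} (hη : EtElt a c d e u η)
    (hst : y * vE d u * y = vE d u * u * e * y * vE d u * e * c * η) : η = 1 := by
  have yj : y * jE c d u * y = a * zE c d e u * e * jE c d u := hy.yj.trans (t5 h)
  have yu : y * u * y = e * u := hyu.trans (eu h).symm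
  have C1 : ∀ (η' η'' D : G), vE d u * e * c * η * vE d u = jE c d u * e * vE d u * u * η' →
      y * η' * y = η'' →
      fE c d * vE d u * e * c * η =
        e * u * zE c d e u * D * vE d u * e * c * η * e * u * η'' → D = 1 :=
    fun η' η'' D h1 h2 h3 =>
      core1 hy.yy hy.yf hy.yz hy.ye yj yu (e_sq h) (t1 h) (tK h) hst h1 h2 h3
  have C2 : ∀ (η' η'' D : G), vE d u * e * c * η * e * vE d u = c * zE c d e u * fE c d * η' →
      y * η' * y = η'' →
      fE c d * η'' = c * u * D * vE d u * e * c * η * a * zE c d e u * e * jE c d u * e * u *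
        vE d u * e * c * η → D = 1 :=
    fun η' η'' D h1 h2 h3 =>
      core2 hy.yy hy.ya hy.yc hy.yf hy.yz hy.ye yj yu (e_sq h) (t4 h) (tK2 h) hst h1 h2 h3
  rcases hη with rfl | rfl | rfl | rfl | rfl | rfl | rfl | rfl
  · rfl
  · exfalso
    refine et_ne h ha (Or.inr (Or.inr (Or.inr (Or.inr rfl))))
      (C1 η c (η * c * zE c d e u) ?_ hy.ya ?_)
    · simpa only [mul_assoc] using c1a_a h
    · simpa only [mul_assoc] using c1b_a h
  · exfalso
    refine et_ne h ha (Or.inr (Or.inr (Or.inl rfl)))
      (C1 (η * zE η d e u) (a * zE η d e u) (a * η) ?_ (hy.cj hy.yc hy.yz) ?_)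
    · simpa only [mul_assoc] using c1a_c h
    · simpa only [mul_assoc] using c1b_c h
  · exfalso
    refine et_ne h ha (Or.inr (Or.inr (Or.inr (Or.inl rfl))))
      (C1 (a * c * zE c d e u) (c * a * zE c d e u) (zE c d e u) ?_
        (hy.cj (hy.cj hy.ya hy.yc) hy.yz) ?_)
    · simpa only [mul_assoc] using c1a_ac h
    · simpa only [mul_assoc] using c1b_ac h
  · exfalso
    refine et_ne h ha (Or.inr (Or.inr (Or.inr (Or.inl rfl))))
      (C1 (a * zE c d e u) (c * zE c d e u) (zE c d e u) ?_
        (hy.cj hy.ya hy.yz) ?_)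
    · simpa only [mul_assoc] using c1a_z h
    · simpa only [mul_assoc] using c1b_z h
  · exfalso
    refine et_ne h ha (Or.inr (Or.inr (Or.inl rfl)))
      (C1 (zE c d e u) (zE c d e u) (a * c) ?_ hy.yz ?_)
    · simpa only [mul_assoc] using c1a_az h
    · simpa only [mul_assoc] using c1b_az h
  · exfalso
    refine et_ne h ha (Or.inr (Or.inr (Or.inr (Or.inr rfl))))
      (C1 (a * c) (c * a) (a * c * zE c d e u) ?_ (hy.cj hy.ya hy.yc) ?_)
    · simpa only [mul_assoc] using c1a_cz h
    · simpa only [mul_assoc] using c1b_cz h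
  · exfalso
    refine et_ne h ha (Or.inr (Or.inr (Or.inr (Or.inl rfl))))
      (C2 (a * zE c d e u) (c * zE c d e u) (zE c d e u) ?_ (hy.cj hy.ya hy.yz) ?_)
    · simpa only [mul_assoc] using c2a h
    · simpa only [mul_assoc] using c2b h

/-- both relators together, in the form of `Rel` -/
theorem rel_of {b : G} (ha : a ≠ 1) (hK : RelK a b c d e s t) (h : RelC a c d e s t u)
    (hyb : y = b⁻¹ * (a * c) * b) (hy : YRel a c d e u y) (hys : y * s = s * y)
    {η₁ η₂ : G} (hη₁ : EtElt a c d e u η₁) (hr₁ : y * u * y = u * e * η₁)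
    (hη₂ : EtElt a c d e u η₂)
    (hr₂ : y * vE d u * y = vE d u * u * e * y * vE d u * e * c * η₂) :
    Rel a b c d e s t u := by
  have h1 : η₁ = 1 := eta1 h ha hy hys hη₁ hr₁
  subst h1
  rw [mul_one] at hr₁
  have h2 : η₂ = 1 := eta2 h ha hy hr₁ hη₂ hr₂
  subst h2
  rw [mul_one] at hr₂
  have hdi : d⁻¹ = d := by rw [inv_eq_iff_mul_eq_one]; exact d_sq h
  have hyi : y⁻¹ = y := by rw [inv_eq_iff_mul_eq_one]; exact hy.yy
  have hv : d⁻¹ * u * d = vE d u := by rw [hdi]; rfl
  refine ⟨hK, h, ?_, ?_⟩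
  · rw [← hyb, mul_inv_eq_one, hyi]
    calc u⁻¹ * y * u * y = u⁻¹ * (y * u * y) := by group
      _ = u⁻¹ * (u * e) := by rw [hr₁]
      _ = e := by group
  · rw [← hyb, hv, mul_inv_eq_one, hyi]
    calc (vE d u)⁻¹ * y * vE d u * y = (vE d u)⁻¹ * (y * vE d u * y) := by group
      _ = (vE d u)⁻¹ * (vE d u * u * e * y * vE d u * e * c) := by rw [hr₂]
      _ = u * e * y * vE d u * e * c := by group

end main

end Cfsg.Agent.ThType.RelD
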