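import Cfsg.Agent.ThType.Collapse
import Cfsg.Agent.ThType.RelD

/-!
The collapse certificates with the input `YRel` of `RelD`.
-/

set_option autoImplicit false

namespace Cfsg.Agent.ThType.CollapseY

open Cfsg.Agent.Th.Base Cfsg.Agent.ThType.RelD Cfsg.Agent.ThType.Collapse

universe v

variable {G : Type v} [Group G] {a c d e s t u w : G}

theorem wRel (hC : RelC a c d e s t u) (hy : YRel a c d e u w) : WRel a c d e u w := by
  have hw := hy.yy
  have hd := sq_one hC.d2
  have hc := sq_one hC.c2
  have hk : (d * c * d) * (d * c * d) = 1 := by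
    calc (d * c * d) * (d * c * d) = d * (c * ((d * d) * c)) * d := by simp only [mul_assoc]
      _ = 1 := by rw [hd, one_mul, hc, mul_one, hd]
  refine ⟨hw, hy.ya, ?_, ?_, ?_⟩
  · have h := hy.ye
    calc w * e = w * e * (w * w) := by rw [hw, mul_one]
      _ = w * e * w * w := by simp only [mul_assoc]
      _ = e * w := by rw [h]
  · have h : w * (d * c * d) * w = (d * c * d) * w * (d * c * d) := hy.yf
    calc (d * c * d * w) ^ 3 = (d * c * d) * (w * (d * c * d) * w) * ((d * c * d) * w) := by
          simp only [pow_succ, pow_zero, one_mul, mul_assoc]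
      _ = ((d * c * d) * (d * c * d)) * w * ((d * c * d) * (d * c * d)) * w := by
          rw [h]; simp only [mul_assoc]
      _ = 1 := by rw [hk, one_mul, mul_one, hw]
  · have h : w * (jE c d u) * w = (d * c * d) * e * (d * c * d) := hy.yj
    have h2 : w * ((d * c * d) * e * (d * c * d)) * w = jE c d u := by
      rw [← h]
      calc w * (w * jE c d u * w) * w = (w * w) * jE c d u * (w * w) := by simp only [mul_assoc]
        _ = _ := by rw [hw, one_mul, mul_one]
    rw [show w * (d * c * d * e * (d * c * d)) * w = w * ((d * c * d) * e * (d * c * d)) * w from rfl,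
      h2]
    rfl

/-- CASE A6 EXCLUDED -/
theorem eq_A (hC : RelC a c d e s t u) (hy : YRel a c d e u w)
    (h4 : (w * (d * w * d) * c) ^ 4 = 1) : a = c :=
  Collapse.eq_A hC (wRel hC hy) h4

/-- BAD HEXAGON EXCLUDED -/
theorem eq_B (hC : RelC a c d e s t u) (hy : YRel a c d e u w) (h6 : (w * d) ^ 6 = 1) : a = c :=
  Collapse.eq_B hC (wRel hC hy) h6

end Cfsg.Agent.ThType.CollapseY
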