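import Cfsg.Agent.Th.COracleSound
import Cfsg.Agent.ThType.GamEqs

/-!
Thompson type (project R05), the D-side: `D = N_G(E)`, `E = ⟨a, c, f0, f1, f2⟩` elementary abelian
of order 32 with `C_G(E) = E`.  From the elements `a, c, d, e, s, t, u` of `C = C_G(a)` and one
element of `N_G(E)` interchanging `a` and `c` we construct the involution `w` (which is `(ac)^b` in
the Thompson group) with its relations.

Part 1 (this file): bit-vector bookkeeping in `E`, and the C-word facts (via the C-oracle).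
Bits of `n < 32`: `a = 1`, `c = 2`, `f0 = 4`, `f1 = 8`, `f2 = 16`.
-/

set_option autoImplicit false

namespace Cfsg.Agent.ThType.DSide

open Cfsg.Agent.Th.Base Cfsg.Agent.Th.Word Cfsg.Agent.Th.COracleDef Cfsg.Agent.Th.COracleSound

/-! ### bit vectors -/

section bits

variable {G : Type*} [Group G]

/-- `x` or `1` -/
def pw (x : G) (t : Bool) : G := bif t then x else 1

theorem pw_xor {x : G} (hx : x * x = 1) (p q : Bool) : pw x (p ^^ q) = pw x p * pw x q := by
  cases p <;> cases q <;> simp [pw, hx]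

theorem pw_comm {x y : G} (h : x * y = y * x) (p q : Bool) : pw x p * pw y q = pw y q * pw x p := by
  cases p <;> cases q <;> simp [pw, h]

/-- five elements -/
structure Bas (G : Type*) where
  b0 : G
  b1 : G
  b2 : G
  b3 : G
  b4 : G

/-- the product of the basis elements given by the bits of `n` -/
def el (b : Bas G) (n : ℕ) : G :=
  pw b.b0 (n.testBit 0) * (pw b.b1 (n.testBit 1) * (pw b.b2 (n.testBit 2) *
    (pw b.b3 (n.testBit 3) * pw b.b4 (n.testBit 4))))

/-- commuting involutions -/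
structure IsBas (b : Bas G) : Prop where
  s0 : b.b0 * b.b0 = 1
  s1 : b.b1 * b.b1 = 1
  s2 : b.b2 * b.b2 = 1
  s3 : b.b3 * b.b3 = 1
  s4 : b.b4 * b.b4 = 1
  c01 : b.b0 * b.b1 = b.b1 * b.b0
  c02 : b.b0 * b.b2 = b.b2 * b.b0
  c03 : b.b0 * b.b3 = b.b3 * b.b0
  c04 : b.b0 * b.b4 = b.b4 * b.b0
  c12 : b.b1 * b.b2 = b.b2 * b.b1
  c13 : b.b1 * b.b3 = b.b3 * b.b1
  c14 : b.b1 * b.b4 = b.b4 * b.b1
  c23 : b.b2 * b.b3 = b.b3 * b.b2
  c24 : b.b2 * b.b4 = b.b4 * b.b2
  c34 : b.b3 * b.b4 = b.b4 * b.b3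

theorem step {x X y Y : G} (h : X * y = y * X) : (x * X) * (y * Y) = (x * y) * (X * Y) := by
  rw [mul_assoc, ← mul_assoc X, h, mul_assoc, mul_assoc]

theorem el_xor {b : Bas G} (h : IsBas b) (n m : ℕ) : el b (n ^^^ m) = el b n * el b m := by
  unfold el
  simp only [Nat.testBit_xor, pw_xor h.s0, pw_xor h.s1, pw_xor h.s2, pw_xor h.s3, pw_xor h.s4]
  generalize n.testBit 0 = n0, n.testBit 1 = n1, n.testBit 2 = n2, n.testBit 3 = n3, n.testBit 4 = n4,
    m.testBit 0 = m0, m.testBit 1 = m1, m.testBit 2 = m2, m.testBit 3 = m3, m.testBit 4 = m4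
  have c01 := Commute.symm (show Commute _ _ from pw_comm h.c01 m0 n1)
  have c02 := Commute.symm (show Commute _ _ from pw_comm h.c02 m0 n2)
  have c03 := Commute.symm (show Commute _ _ from pw_comm h.c03 m0 n3)
  have c04 := Commute.symm (show Commute _ _ from pw_comm h.c04 m0 n4)
  have c12 := Commute.symm (show Commute _ _ from pw_comm h.c12 m1 n2)
  have c13 := Commute.symm (show Commute _ _ from pw_comm h.c13 m1 n3)
  have c14 := Commute.symm (show Commute _ _ from pw_comm h.c14 m1 n4)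
  have c23 := Commute.symm (show Commute _ _ from pw_comm h.c23 m2 n3)
  have c24 := Commute.symm (show Commute _ _ from pw_comm h.c24 m2 n4)
  have c34 := Commute.symm (show Commute _ _ from pw_comm h.c34 m3 n4)
  rw [step ((c01.mul_left (c02.mul_left (c03.mul_left c04))).eq),
    step ((c12.mul_left (c13.mul_left c14)).eq), step ((c23.mul_left c24).eq), step c34.eq]

theorem el_zero (b : Bas G) : el b 0 = 1 := by simp [el, pw]

theorem el_sq {b : Bas G} (h : IsBas b) (n : ℕ) : el b n * el b n = 1 := by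
  rw [← el_xor h, Nat.xor_self, el_zero]

theorem el_inv {b : Bas G} (h : IsBas b) (n : ℕ) : (el b n)⁻¹ = el b n :=
  inv_eq_of_mul_eq_one_left (el_sq h n)

theorem el_comm {b : Bas G} (h : IsBas b) (n m : ℕ) : el b n * el b m = el b m * el b n := by
  rw [← el_xor h, ← el_xor h, Nat.xor_comm]

theorem el_mod (b : Bas G) (n : ℕ) : el b (n % 32) = el b n := by
  have h : ∀ i, i < 5 → (n % 32).testBit i = n.testBit i := fun i hi => by
    have := Nat.testBit_mod_two_pow n 5 i
    norm_num at this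
    rw [this]; simp [hi]
  unfold el
  rw [h 0 (by norm_num), h 1 (by norm_num), h 2 (by norm_num), h 3 (by norm_num), h 4 (by norm_num)]

/-- the linear map with the given images of the basis vectors -/
def lin (m0 m1 m2 m3 m4 n : ℕ) : ℕ :=
  (bif n.testBit 0 then m0 else 0) ^^^ ((bif n.testBit 1 then m1 else 0) ^^^
    ((bif n.testBit 2 then m2 else 0) ^^^ ((bif n.testBit 3 then m3 else 0) ^^^
      (bif n.testBit 4 then m4 else 0))))

/-- `x` acts on `E` by the function `M` of bit vectors (right action) -/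
def Act (b : Bas G) (x : G) (M : ℕ → ℕ) : Prop := ∀ n, el b n * x = x * el b (M n)

theorem pw_act {b : Bas G} {x y : G} {m : ℕ} (h : y * x = x * el b m) (p : Bool) :
    pw y p * x = x * el b (bif p then m else 0) := by
  cases p
  · simp [pw, el_zero]
  · simpa [pw] using h

theorem act_lin {b : Bas G} (h : IsBas b) {x : G} {m0 m1 m2 m3 m4 : ℕ}
    (h0 : b.b0 * x = x * el b m0) (h1 : b.b1 * x = x * el b m1) (h2 : b.b2 * x = x * el b m2)
    (h3 : b.b3 * x = x * el b m3) (h4 : b.b4 * x = x * el b m4) :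
    Act b x (lin m0 m1 m2 m3 m4) := by
  intro n
  unfold lin
  rw [el_xor h, el_xor h, el_xor h, el_xor h]
  conv_lhs => unfold el
  rw [mul_assoc, mul_assoc, mul_assoc, mul_assoc, pw_act h4, ← mul_assoc (pw b.b3 _), pw_act h3,
    mul_assoc x, ← mul_assoc (pw b.b2 _), pw_act h2, mul_assoc x, ← mul_assoc (pw b.b1 _), pw_act h1,
    mul_assoc x, ← mul_assoc (pw b.b0 _), pw_act h0, mul_assoc x]

theorem Act.mul {b : Bas G} {x y : G} {M N : ℕ → ℕ} (hx : Act b x M) (hy : Act b y N) :
    Act b (x * y) (fun n => N (M n)) := fun n => by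
  rw [← mul_assoc, hx n, mul_assoc, hy, mul_assoc]

theorem Act.congr {b : Bas G} {x : G} {M N : ℕ → ℕ} (hx : Act b x M)
    (h : ∀ n < 32, M n = N n) : Act b x (fun n => N (n % 32)) := fun n => by
  have h1 := hx (n % 32)
  rw [el_mod, h _ (Nat.mod_lt _ (by norm_num))] at h1
  exact h1

theorem Act.inv {b : Bas G} {x : G} {M N : ℕ → ℕ} (hx : Act b x M)
    (h : ∀ n < 32, M (N n) = n) : Act b x⁻¹ (fun n => N (n % 32)) := fun n => by
  have h1 := hx (N (n % 32))
  rw [h _ (Nat.mod_lt _ (by norm_num)), el_mod] at h1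
  rw [eq_comm, inv_mul_eq_iff_eq_mul, ← mul_assoc, ← h1, mul_assoc, mul_inv_cancel, mul_one]

end bits

/-! ### C-words -/

section words

variable {G : Type*} [Group G] {a c d e s t u : G}

theorem inv_of_sq {x : G} (h : x ^ 2 = 1) : x = x⁻¹ := by
  rw [pow_two] at h
  exact eq_inv_of_mul_eq_one_left h

theorem invCompat (h : RelC a c d e s t u) : InvCompat (gam a 1 c d e s t u) := by
  have ha := inv_of_sq h.a2
  have hc := inv_of_sq h.c2
  have hd := inv_of_sq h.d2
  have he := inv_of_sq h.e2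
  intro x
  by_cases hx : x < 12
  · interval_cases x
    · show (1 : G) = 1⁻¹; simp
    · exact ha
    · show (1 : G) = 1⁻¹; simp
    · exact hc
    · exact hd
    · exact he
    · rfl
    · show s = s⁻¹⁻¹; simp
    · rfl
    · show t = t⁻¹⁻¹; simp
    · rfl
    · show u = u⁻¹⁻¹; simp
  · have h1 : invL x = x := by
      unfold invL
      simp only [cond_eq_ite, Nat.beq_eq]
      split_ifs <;> omega
    have h2 : gam a 1 c d e s t u x = 1 := by
      obtain ⟨y, rfl⟩ : ∃ y, x = y + 12 := ⟨x - 12, by omega⟩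
      rfl
    rw [h1, h2, inv_one]

/-- equality of C-words -/
theorem ceq (h : RelC a c d e s t u) (w1 w2 : List ℕ) (hw : corc (w1 ++ iw w2) = true) :
    ev (gam a 1 c d e s t u) w1 = ev (gam a 1 c d e s t u) w2 := by
  have h1 := corc_sound (invCompat h) (by exact h) hw
  rwa [ev_append, ev_iw (invCompat h), mul_inv_eq_one] at h1

end words

end Cfsg.Agent.ThType.DSide
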