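import Cfsg.Agent.ThType.DSideWords
import Cfsg.Agent.ThType.RelD

/-!
Thompson type (project R05), the D-side, part 3: the involution `w` (`= (ac)^b` in the Thompson
group), `YRel`, and the relators `r1`, `r2`.
-/

set_option autoImplicit false

namespace Cfsg.Agent.ThType.DSideMain

open Cfsg.Agent.Th.Base Cfsg.Agent.Th.Word Cfsg.Agent.Th.COracleDef Cfsg.Agent.Th.COracleSound
open Cfsg.Agent.ThType.DSide Cfsg.Agent.ThType.DSideWords Cfsg.Agent.ThType.RelD

variable {G : Type*} [Group G] {a c d e s t u : G} {E : Subgroup G}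

/-- the input of the D-side -/
structure Data (a c d e s t u : G) (E : Subgroup G) : Prop where
  hC : RelC a c d e s t u
  a1 : a ≠ 1
  ma : a ∈ E
  mc : c ∈ E
  m0 : F0 c d u ∈ E
  m1 : F1 c d s u ∈ E
  m2 : F2 c d s u ∈ E
  card : Nat.card E = 32
  cent : ∀ x, (∀ y ∈ E, x * y = y * x) → x ∈ E
  aut : ∀ α : E ≃* E, ∃ g : G, ∀ x : E, g * x.1 * g⁻¹ = (α x).1

theorem pw_mem {x : G} (hx : x ∈ E) (p : Bool) : pw x p ∈ E := by
  cases p
  · exact E.one_mem
  · exact hx

namespace Data

variable (D : Data a c d e s t u E)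
include D

theorem el_mem (n : ℕ) : el (bas a c d s u) n ∈ E :=
  E.mul_mem (pw_mem D.ma _) (E.mul_mem (pw_mem D.mc _) (E.mul_mem (pw_mem D.m0 _)
    (E.mul_mem (pw_mem D.m1 _) (pw_mem D.m2 _))))

theorem inj {n m : ℕ} (hn : n < 32) (hm : m < 32)
    (h : el (bas a c d s u) n = el (bas a c d s u) m) : n = m := by
  have := el_inj' D.hC D.a1 h
  rwa [Nat.mod_eq_of_lt hn, Nat.mod_eq_of_lt hm] at this

theorem exists_el {x : G} (hx : x ∈ E) : ∃ n < 32, x = el (bas a c d s u) n := by
  have hf : Finite E := Nat.finite_of_card_ne_zero (by rw [D.card]; norm_num)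
  let φ : Fin 32 → E := fun n => ⟨el (bas a c d s u) n, D.el_mem n⟩
  have hinj : Function.Injective φ := by
    intro n m h
    exact Fin.ext (D.inj n.2 m.2 (congrArg Subtype.val h))
  have hbij : Function.Bijective φ :=
    (Nat.bijective_iff_injective_and_card φ).mpr ⟨hinj, by rw [D.card, Nat.card_eq_fintype_card, Fintype.card_fin]⟩
  obtain ⟨n, hn⟩ := hbij.2 ⟨x, hx⟩
  exact ⟨n, n.2, (congrArg Subtype.val hn).symm⟩

theorem exists_swap : ∃ h : G, Act (bas a c d s u) h (lin 2 1 4 8 16) := by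
  choose! code hlt hel using fun (x : G) (hx : x ∈ E) => D.exists_el hx
  have hcode : ∀ m, code (el (bas a c d s u) m) = m % 32 := by
    intro m
    refine D.inj (hlt _ (D.el_mem m)) (Nat.mod_lt _ (by norm_num)) ?_
    rw [el_mod, ← hel _ (D.el_mem m)]
  let f : E → E := fun x => ⟨el (bas a c d s u) (lin 2 1 4 8 16 (code x.1)), D.el_mem _⟩
  have hff : ∀ x, f (f x) = x := by
    intro x
    apply Subtype.ext
    show el (bas a c d s u) (lin 2 1 4 8 16 (code (el (bas a c d s u) (lin 2 1 4 8 16 (code x.1))))) = x.1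
    rw [hcode]
    have h1 : ∀ n < 32, lin 2 1 4 8 16 (lin 2 1 4 8 16 n % 32) = n := by decide +kernel
    rw [h1 _ (hlt _ x.2), ← hel _ x.2]
  have hmul : ∀ x y, f (x * y) = f x * f y := by
    intro x y
    apply Subtype.ext
    show el (bas a c d s u) (lin 2 1 4 8 16 (code (x.1 * y.1))) =
      el (bas a c d s u) (lin 2 1 4 8 16 (code x.1)) * el (bas a c d s u) (lin 2 1 4 8 16 (code y.1))
    have h1 : code (x.1 * y.1) = code x.1 ^^^ code y.1 := by
      have h2 := hcode (code x.1 ^^^ code y.1)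
      rw [el_xor (isBas D.hC), ← hel _ x.2, ← hel _ y.2] at h2
      rw [h2]
      exact Nat.mod_eq_of_lt (Nat.xor_lt_two_pow (n := 5) (hlt _ x.2) (hlt _ y.2))
    have h3 : ∀ n < 32, ∀ m < 32, lin 2 1 4 8 16 (n ^^^ m) = lin 2 1 4 8 16 n ^^^ lin 2 1 4 8 16 m := by
      decide +kernel
    rw [h1, h3 _ (hlt _ x.2) _ (hlt _ y.2), el_xor (isBas D.hC)]
  let α : E ≃* E := MulEquiv.mk' ⟨f, f, hff, hff⟩ hmul
  obtain ⟨g, hg⟩ := D.aut α
  refine ⟨g⁻¹, fun n => ?_⟩
  have h1 : g * el (bas a c d s u) n * g⁻¹ =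
      el (bas a c d s u) (lin 2 1 4 8 16 (code (el (bas a c d s u) n))) :=
    hg ⟨el (bas a c d s u) n, D.el_mem _⟩
  rw [hcode] at h1
  have h4 : lin 2 1 4 8 16 (n % 32) = lin 2 1 4 8 16 n := by
    unfold lin
    have h : ∀ i, i < 5 → (n % 32).testBit i = n.testBit i := fun i hi => by
      have := Nat.testBit_mod_two_pow n 5 i
      norm_num at this
      rw [this]; simp [hi]
    rw [h 0 (by norm_num), h 1 (by norm_num), h 2 (by norm_num), h 3 (by norm_num), h 4 (by norm_num)]
  rw [h4] at h1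
  rw [← h1]
  group

/-- elements with the same action on `E` differ by an element of `E` -/
theorem eq_of_act {x y : G} {M N : ℕ → ℕ} (hx : Act (bas a c d s u) x M)
    (hy : Act (bas a c d s u) y N) (hMN : ∀ n < 32, M n = N n) :
    ∃ n < 32, x = y * el (bas a c d s u) n := by
  have h1 : x * y⁻¹ ∈ E := by
    apply D.cent
    intro z hz
    obtain ⟨n, hn, rfl⟩ := D.exists_el hz
    have h2 := hx n
    have h3 := hy n
    rw [hMN n hn] at h2
    have h4 : el (bas a c d s u) (N n) * y⁻¹ = y⁻¹ * el (bas a c d s u) n := by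
      rw [mul_inv_eq_iff_eq_mul, mul_assoc, h3, inv_mul_cancel_left]
    rw [mul_assoc, ← h4, ← mul_assoc, ← h2, mul_assoc]
  obtain ⟨m, -, hm⟩ := D.exists_el h1
  rw [mul_inv_eq_iff_eq_mul, hy m] at hm
  obtain ⟨n, hn, h5⟩ := D.exists_el (D.el_mem (N m))
  exact ⟨n, hn, by rw [hm, h5]⟩

/-- an element of `E` commuting with `x` -/
theorem fix_of_comm {x : G} {M : ℕ → ℕ} (hx : Act (bas a c d s u) x M) {n : ℕ}
    (h : el (bas a c d s u) n * x = x * el (bas a c d s u) n) :
    M n % 32 = n % 32 := by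
  rw [hx n] at h
  exact el_inj' D.hC D.a1 (mul_left_cancel h)

/-- an element of `E` commuting with `x` -/
theorem fix_of_comm' {x : G} {m0 m1 m2 m3 m4 : ℕ} (hx : Act (bas a c d s u) x (lin m0 m1 m2 m3 m4))
    (hm : ∀ n < 32, lin m0 m1 m2 m3 m4 n < 32) {n : ℕ} (hn : n < 32)
    (h : el (bas a c d s u) n * x = x * el (bas a c d s u) n) :
    lin m0 m1 m2 m3 m4 n = n := by
  have := D.fix_of_comm hx h
  rwa [Nat.mod_eq_of_lt hn, Nat.mod_eq_of_lt (hm n hn)] at this

end Data

/-! ### construction of `w` -/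

/-- the involution `w` -/
structure Good (a c d s t u w : G) : Prop where
  ww : w * w = 1
  ws : w * s = s * w
  wt : w * t = t * w
  act : Act (bas a c d s u) w (lin 2 1 4 8 16)

theorem act_el (h : RelC a c d e s t u) (n : ℕ) :
    Act (bas a c d s u) (el (bas a c d s u) n) (fun m => m) := fun m => el_comm (isBas h) m n

theorem act_one : Act (bas a c d s u) 1 (fun m => m) := fun m => by simp

theorem conj_el {x : G} {M : ℕ → ℕ} (hx : Act (bas a c d s u) x M) (n : ℕ) :
    x⁻¹ * el (bas a c d s u) n * x = el (bas a c d s u) (M n) := by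
  rw [mul_assoc, hx n, inv_mul_cancel_left]

theorem act_si (h : RelC a c d e s t u) :
    Act (bas a c d s u) s⁻¹ (fun n => lin 1 2 24 4 8 (n % 32)) :=
  (act_s h).inv (by decide +kernel)

theorem act_ti (h : RelC a c d e s t u) :
    Act (bas a c d s u) t⁻¹ (fun n => lin 1 2 4 28 8 (n % 32)) :=
  (act_t h).inv (by decide +kernel)

namespace Data

variable (D : Data a c d e s t u E)
include D

theorem exists_comm_s : ∃ g : G, Act (bas a c d s u) g (lin 2 1 4 8 16) ∧ g * s = s * g := by
  obtain ⟨h, hh⟩ := D.exists_swap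
  have hs := act_s D.hC
  obtain ⟨n1, hn1, e1⟩ := D.eq_of_act (((act_si D.hC).mul hh).mul hs) hh (by decide +kernel)
  let stp : ℕ → ℕ := fun N => n1 ^^^ lin 1 2 8 16 20 N
  have key : ∀ N, s⁻¹ * (h * el (bas a c d s u) N) * s = h * el (bas a c d s u) (stp N) := by
    intro N
    show _ = h * el (bas a c d s u) (n1 ^^^ lin 1 2 8 16 20 N)
    have h1 : s⁻¹ * (h * el (bas a c d s u) N) * s =
        (s⁻¹ * h * s) * (s⁻¹ * el (bas a c d s u) N * s) := by group
    rw [h1, e1, conj_el hs N, mul_assoc, ← el_xor (isBas D.hC)]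
  have h7 : h = h * el (bas a c d s u) (stp (stp (stp (stp (stp (stp (stp 0))))))) := by
    rw [← key, ← key, ← key, ← key, ← key, ← key, ← key, el_zero]
    have h1 : s⁻¹ * (s⁻¹ * (s⁻¹ * (s⁻¹ * (s⁻¹ * (s⁻¹ * (s⁻¹ * (h * 1) * s) * s) * s) * s) * s) * s) * s =
        (s ^ 7)⁻¹ * h * s ^ 7 := by
      simp only [pow_succ, pow_zero, one_mul, mul_inv_rev, mul_assoc, mul_one]
    rw [h1, D.hC.s7]
    simp
  have h0 : stp (stp (stp (stp (stp (stp (stp 0)))))) % 32 = 0 := by
    have h1 := mul_left_cancel (h7.symm.trans (mul_one h).symm)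
    rw [← el_zero (bas a c d s u)] at h1
    exact el_inj' D.hC D.a1 h1
  have hdec : ∀ n1 < 32, (n1 ^^^ lin 1 2 8 16 20 (n1 ^^^ lin 1 2 8 16 20 (n1 ^^^ lin 1 2 8 16 20
      (n1 ^^^ lin 1 2 8 16 20 (n1 ^^^ lin 1 2 8 16 20 (n1 ^^^ lin 1 2 8 16 20
      (n1 ^^^ lin 1 2 8 16 20 0))))))) % 32 = 0 → ∃ n < 32, n1 ^^^ lin 1 2 8 16 20 n = n := by
    decide +kernel
  obtain ⟨n, hn, hn'⟩ := hdec n1 hn1 h0
  refine ⟨h * el (bas a c d s u) n, hh.mul (act_el D.hC n), ?_⟩
  have h1 := key n
  rw [show stp n = n from hn'] at h1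
  rw [← h1]
  group
  rw [← h1]
  group

theorem exists_good : ∃ w : G, Good a c d s t u w := by
  obtain ⟨g, hg, hgs⟩ := D.exists_comm_s
  have hgs' : Commute g s := hgs
  have hs := act_s D.hC
  have ht := act_t D.hC
  obtain ⟨n2, hn2, e2⟩ := D.eq_of_act (((act_ti D.hC).mul hg).mul ht) hg (by decide +kernel)
  have hst : t⁻¹ * s * t = s ^ 2 := mul_inv_eq_one.mp D.hC.st
  have hc1 : Commute (t⁻¹ * g * t) s := by
    have h1 : Commute (t⁻¹ * g * t) (s ^ 2) := by
      rw [← hst]
      show t⁻¹ * g * t * (t⁻¹ * s * t) = t⁻¹ * s * t * (t⁻¹ * g * t)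
      have : t⁻¹ * g * t * (t⁻¹ * s * t) = t⁻¹ * (g * s) * t := by group
      rw [this, hgs]
      group
    have h2 := h1.pow_right 4
    rwa [← pow_mul, show s ^ (2 * 4) = s by
      rw [show 2 * 4 = 7 + 1 from rfl, pow_succ, D.hC.s7, one_mul]] at h2
  have hx : Commute (el (bas a c d s u) n2) s := by
    have h1 : el (bas a c d s u) n2 = g⁻¹ * (t⁻¹ * g * t) := by rw [e2]; group
    rw [h1]
    exact hgs'.inv_left.mul_left hc1
  have hms := D.fix_of_comm' hs (by decide +kernel) hn2 hx.eq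
  have hmt : ∀ n < 32, lin 1 2 8 16 20 n = n → lin 1 2 4 16 28 n = n := by decide +kernel
  have hxt : el (bas a c d s u) n2 * t = t * el (bas a c d s u) n2 := by
    rw [ht n2, hmt n2 hn2 hms]
  have hgt : Commute g t := by
    have h1 : Commute g (t * t) := by
      show g * (t * t) = t * t * g
      have h3 : g * t = t * (g * el (bas a c d s u) n2) := by rw [← e2]; group
      calc g * (t * t) = (g * t) * t := by group
        _ = t * g * (el (bas a c d s u) n2 * t) := by rw [h3]; group
        _ = t * (g * t) * el (bas a c d s u) n2 := by rw [hxt]; group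
        _ = t * t * g * (el (bas a c d s u) n2 * el (bas a c d s u) n2) := by rw [h3]; group
        _ = t * t * g := by rw [el_sq (isBas D.hC), mul_one]
    have h2 := h1.mul_right h1
    have h3 : t * t * (t * t) = t := by
      have := D.hC.t3
      calc t * t * (t * t) = t ^ 3 * t := by
            simp only [pow_succ, pow_zero, one_mul, mul_assoc]
        _ = t := by rw [this, one_mul]
    rwa [h3] at h2
  obtain ⟨n3, hn3, e3⟩ := D.eq_of_act (hg.mul hg) act_one (by decide +kernel)
  rw [one_mul] at e3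
  have h1 : el (bas a c d s u) n3 * s = s * el (bas a c d s u) n3 := by
    rw [← e3]; exact (hgs'.mul_left hgs').eq
  have h2 : el (bas a c d s u) n3 * g = g * el (bas a c d s u) n3 := by
    rw [← e3]; group
  have h3 := D.fix_of_comm' hs (by decide +kernel) hn3 h1
  have h4 := D.fix_of_comm' hg (by decide +kernel) hn3 h2
  have h5 : ∀ n < 32, lin 1 2 8 16 20 n = n → lin 2 1 4 8 16 n = n → n = 0 ∨ n = 3 := by
    decide +kernel
  rcases h5 n3 hn3 h3 h4 with rfl | rfl
  · exact ⟨g, by rw [e3, el_zero], hgs, hgt.eq, hg⟩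
  · refine ⟨g * el (bas a c d s u) 1, ?_, ?_, ?_, hg.mul (act_el D.hC 1)⟩
    · have h6 : el (bas a c d s u) 1 * g = g * el (bas a c d s u) 2 := hg 1
      calc g * el (bas a c d s u) 1 * (g * el (bas a c d s u) 1)
          = g * (el (bas a c d s u) 1 * g) * el (bas a c d s u) 1 := by group
        _ = (g * g) * el (bas a c d s u) 2 * el (bas a c d s u) 1 := by rw [h6]; group
        _ = 1 := by
          rw [e3, ← el_xor (isBas D.hC), ← el_xor (isBas D.hC)]
          exact el_zero _
    · have h6 : Commute (el (bas a c d s u) 1) s := hs 1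
      exact (hgs'.mul_left h6).eq
    · have h6 : Commute (el (bas a c d s u) 1) t := ht 1
      exact (hgt.mul_left h6).eq

/-- `x` and `y` act in the same way on `E` and on `t` -/
theorem eq_of_act_t {x y t' : G} {M N : ℕ → ℕ} (hx : Act (bas a c d s u) x M)
    (hy : Act (bas a c d s u) y N) (hMN : ∀ n < 32, M n = N n)
    (hxt : t * x = x * t') (hyt : t * y = y * t') (ht' : t' = t ∨ t' = t⁻¹) :
    ∃ n < 8, x = y * el (bas a c d s u) n := by
  obtain ⟨n, hn, e1⟩ := D.eq_of_act hx hy hMN
  refine ⟨n, ?_, e1⟩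
  have h1 : el (bas a c d s u) n = y⁻¹ * x := by rw [e1]; group
  have h2 : Commute (el (bas a c d s u) n) t' := by
    show _ * _ = _ * _
    rw [h1, mul_assoc, ← hxt, ← mul_assoc, ← mul_assoc]
    congr 1
    rw [inv_mul_eq_iff_eq_mul, ← mul_assoc, ← hyt, mul_inv_cancel_right]
  have h3 : Commute (el (bas a c d s u) n) t := by
    rcases ht' with rfl | rfl
    · exact h2
    · exact Commute.inv_right_iff.mp h2
  have h4 := D.fix_of_comm' (act_t D.hC) (by decide +kernel) hn h3.eq
  have h5 : ∀ n < 32, lin 1 2 4 16 28 n = n → n < 8 := by decide +kernel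
  exact h5 n hn h4

theorem conj_s (n : ℕ) : s⁻¹ * el (bas a c d s u) n * s = el (bas a c d s u) (lin 1 2 8 16 20 n) :=
  conj_el (act_s D.hC) n

/-- the `s`-relation `x x^s = x^(s³)` kills the ambiguity -/
theorem kill {x y : G} {n : ℕ} {M : ℕ → ℕ} (hn : n < 8) (hxy : x = y * el (bas a c d s u) n)
    (hx : x * (s⁻¹ * x * s) = s⁻¹ * (s⁻¹ * (s⁻¹ * x * s) * s) * s)
    (hy : y * (s⁻¹ * y * s) = s⁻¹ * (s⁻¹ * (s⁻¹ * y * s) * s) * s)
    (hact : Act (bas a c d s u) (s⁻¹ * y * s) M)
    (hdec : ∀ n < 8, (M n ^^^ lin 1 2 8 16 20 n) % 32 =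
      lin 1 2 8 16 20 (lin 1 2 8 16 20 (lin 1 2 8 16 20 n)) % 32 → n = 0) : x = y := by
  have k : ∀ z : G, ∀ m, s⁻¹ * (z * el (bas a c d s u) m) * s =
      (s⁻¹ * z * s) * el (bas a c d s u) (lin 1 2 8 16 20 m) := fun z m => by
    rw [← D.conj_s m]; group
  rw [hxy, k, k, k] at hx
  have h1 : y * el (bas a c d s u) n * (s⁻¹ * y * s * el (bas a c d s u) (lin 1 2 8 16 20 n)) =
      y * (s⁻¹ * y * s) * (el (bas a c d s u) (M n) *
        el (bas a c d s u) (lin 1 2 8 16 20 n)) := by
    rw [← mul_assoc, mul_assoc y, hact n]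
    group
  rw [h1, hy, ← el_xor (isBas D.hC)] at hx
  have h2 := hdec n hn (el_inj' D.hC D.a1 (mul_left_cancel hx))
  rw [hxy, h2, el_zero, mul_one]

end Data

/-! ### C-words -/

section cwords

variable (h : RelC a c d e s t u)
include h

theorem zE_eq : zE c d e u = F0 c d u := by
  have := DSide.ceq h [3,4,3,4,10,4,3,4,10,3,4,3,4,5,4,3,4,5] wf0 (by decide +kernel)
  rw [ev_wf0] at this
  rw [← this]
  simp only [jE, zE, ev_cons, ev_nil, gam, mul_one, mul_assoc]

theorem kk : (d * c * d) * (d * c * d) = 1 := by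
  have := DSide.ceq h [4,3,4,4,3,4] [] (by decide +kernel)
  simpa only [ev_cons, ev_nil, gam, mul_one, mul_assoc] using this

theorem te : t * e = e * t := by
  have := DSide.ceq h [8,5] [5,8] (by decide +kernel)
  simpa only [ev_cons, ev_nil, gam, mul_one, mul_assoc] using this

theorem tc : t * c = c * t := by
  have := DSide.ceq h [8,3] [3,8] (by decide +kernel)
  simpa only [ev_cons, ev_nil, gam, mul_one, mul_assoc] using this

theorem tk : t * (d * c * d) = (d * c * d) * t := by
  have := DSide.ceq h [8,4,3,4] [4,3,4,8] (by decide +kernel)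
  simpa only [ev_cons, ev_nil, gam, mul_one, mul_assoc] using this

theorem sk : (d * c * d) * s = s * (d * c * d) := by
  have := DSide.ceq h [4,3,4,6] [6,4,3,4] (by decide +kernel)
  simpa only [ev_cons, ev_nil, gam, mul_one, mul_assoc] using this

theorem tj : t * J c d u = J c d u * t := by
  have := DSide.ceq h (8 :: wj) (wj ++ [8]) (by decide +kernel)
  simp only [ev_cons, ev_append, ev_wj] at this
  simpa only [ev_nil, gam, mul_one] using this

theorem tu : t * u = u * t⁻¹ := by
  have := DSide.ceq h [8,10] [10,9] (by decide +kernel)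
  simpa only [ev_cons, ev_nil, gam, mul_one, mul_assoc] using this

theorem tv : t * (d * u * d) = (d * u * d) * t⁻¹ := by
  have := DSide.ceq h [8,4,10,4] [4,10,4,9] (by decide +kernel)
  simpa only [ev_cons, ev_nil, gam, mul_one, mul_assoc] using this

theorem se : e * (s⁻¹ * e * s) = s⁻¹ * (s⁻¹ * (s⁻¹ * e * s) * s) * s := by
  have := DSide.ceq h [5,7,5,6] [7,7,7,5,6,6,6] (by decide +kernel)
  simpa only [ev_cons, ev_nil, gam, mul_one, mul_assoc] using this

theorem sj : J c d u * (s⁻¹ * J c d u * s) = s⁻¹ * (s⁻¹ * (s⁻¹ * J c d u * s) * s) * s := by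
  have := DSide.ceq h (wj ++ (7 :: (wj ++ [6]))) ([7,7,7] ++ (wj ++ [6,6,6])) (by decide +kernel)
  simp only [ev_cons, ev_append, ev_wj] at this
  simpa only [ev_nil, gam, mul_one, mul_assoc] using this

theorem sek : ((d * c * d) * e * (d * c * d)) * (s⁻¹ * ((d * c * d) * e * (d * c * d)) * s) =
    s⁻¹ * (s⁻¹ * (s⁻¹ * ((d * c * d) * e * (d * c * d)) * s) * s) * s := by
  have := DSide.ceq h [4,3,4,5,4,3,4,7,4,3,4,5,4,3,4,6] [7,7,7,4,3,4,5,4,3,4,6,6,6] (by decide +kernel)
  simpa only [ev_cons, ev_nil, gam, mul_one, mul_assoc] using this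

theorem act_c : Act (bas a c d s u) c (fun m => m) := by
  have h1 : el (bas a c d s u) 2 = c := by simp [el, pw, bas, Nat.testBit]
  intro m
  have h2 := act_el h 2 m
  rwa [h1] at h2

end cwords

/-! ### the main facts -/

section main

variable {w : G} (D : Data a c d e s t u E) (hw : Good a c d s t u w)
include D hw

omit D in
theorem conj_w (x y : G) : w * (x * y) * w = (w * x * w) * (w * y * w) := by
  calc w * (x * y) * w = w * x * 1 * y * w := by group
    _ = _ := by rw [← hw.ww]; group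

omit D in
theorem wsw : w * s * w = s := by rw [hw.ws, mul_assoc, hw.ww, mul_one]

omit D in
theorem wsiw : w * s⁻¹ * w = s⁻¹ := by
  have h1 : w * s⁻¹ = s⁻¹ * w := ((show Commute w s from hw.ws).inv_right).eq
  rw [h1, mul_assoc, hw.ww, mul_one]

omit D in
theorem conj_w_s (x : G) : w * (s⁻¹ * x * s) * w = s⁻¹ * (w * x * w) * s := by
  rw [conj_w hw, conj_w hw, wsw hw, wsiw hw]

omit D in
theorem waw : w * a * w = c := by
  have h1 : el (bas a c d s u) 1 = a := by simp [el, pw, bas, Nat.testBit]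
  have h2 : el (bas a c d s u) 2 = c := by simp [el, pw, bas, Nat.testBit]
  have h3 : el (bas a c d s u) 1 * w = w * el (bas a c d s u) 2 := hw.act 1
  rw [h1, h2] at h3
  rw [mul_assoc, h3, ← mul_assoc, hw.ww, one_mul]

omit D in
theorem wfw0 : w * F0 c d u * w = F0 c d u := by
  have h1 : el (bas a c d s u) 4 = F0 c d u := by simp [el, pw, bas, Nat.testBit]
  have h3 : el (bas a c d s u) 4 * w = w * el (bas a c d s u) 4 := hw.act 4
  rw [h1] at h3
  rw [mul_assoc, h3, ← mul_assoc, hw.ww, one_mul]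

theorem wew : w * e * w = e := by
  have he := act_e D.hC
  have ht := te D.hC
  have hwt : Commute t w := hw.wt.symm
  have hte : Commute t e := te D.hC
  obtain ⟨n, hn, e1⟩ := D.eq_of_act_t ((hw.act.mul he).mul hw.act) he (by decide +kernel)
    (t' := t) ((hwt.mul_right hte).mul_right hwt).eq ht (Or.inl rfl)
  refine D.kill hn e1 ?_ (se D.hC) (((act_si D.hC).mul he).mul (act_s D.hC)) (by decide +kernel)
  have h1 := congrArg (fun x => w * x * w) (se D.hC)
  simpa only [conj_w hw, conj_w_s hw, wsw hw, wsiw hw] using h1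

theorem wjw : w * J c d u * w = (d * c * d) * e * (d * c * d) := by
  have hj := act_j D.hC
  have hk := act_k D.hC
  have he := act_e D.hC
  have hwt : Commute t w := hw.wt.symm
  have hte : Commute t e := te D.hC
  have htj : Commute t (J c d u) := tj D.hC
  have htk : Commute t (d * c * d) := tk D.hC
  obtain ⟨n, hn, e1⟩ := D.eq_of_act_t ((hw.act.mul hj).mul hw.act) ((hk.mul he).mul hk)
    (by decide +kernel)
    (t' := t) ((hwt.mul_right htj).mul_right hwt).eq ((htk.mul_right hte).mul_right htk).eq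
      (Or.inl rfl)
  refine D.kill hn e1 ?_ (sek D.hC) (((act_si D.hC).mul ((hk.mul he).mul hk)).mul (act_s D.hC))
    (by decide +kernel)
  have h1 := congrArg (fun x => w * x * w) (sj D.hC)
  simpa only [conj_w hw, conj_w_s hw, wsw hw, wsiw hw] using h1

theorem wkw : w * (d * c * d) * w = (d * c * d) * w * (d * c * d) := by
  have hk := act_k D.hC
  have hwt : Commute t w := hw.wt.symm
  have htk : Commute t (d * c * d) := tk D.hC
  have hws : Commute w s := hw.ws
  have hks : Commute (d * c * d) s := sk D.hC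
  obtain ⟨n, hn, e1⟩ := D.eq_of_act_t ((hw.act.mul hk).mul hw.act) ((hk.mul hw.act).mul hk)
    (by decide +kernel)
    (t' := t) ((hwt.mul_right htk).mul_right hwt).eq ((htk.mul_right hwt).mul_right htk).eq
      (Or.inl rfl)
  have hk2 := kk D.hC
  have hw2 := hw.ww
  generalize d * c * d = k at *
  -- `(kw)³ = el n`
  have e2 : el (bas a c d s u) n = (k * w) * (k * w) * (k * w) := by
    have h1 : el (bas a c d s u) n = (k * w * k)⁻¹ * (w * k * w) := by rw [e1]; group
    have h2 : (k * w * k)⁻¹ = k * w * k := by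
      apply inv_eq_of_mul_eq_one_left
      calc k * w * k * (k * w * k) = k * w * (k * k) * w * k := by group
        _ = k * (w * w) * k := by rw [hk2]; group
        _ = 1 := by rw [hw2, mul_one, hk2]
    rw [h1, h2]
    group
  have h3 : el (bas a c d s u) n * (k * w) = (k * w) * el (bas a c d s u) n := by
    rw [e2]; group
  have h4 : Commute (el (bas a c d s u) n) s := by
    rw [e2]
    have h5 : Commute (k * w) s := hks.mul_left hws
    exact (h5.mul_left h5).mul_left h5
  have h5 := D.fix_of_comm' (act_s D.hC) (by decide +kernel) (by omega) h4.eq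
  have h6 := D.fix_of_comm (hk.mul hw.act) h3
  have h7 : ∀ n < 8, lin 1 2 8 16 20 n = n → lin 2 1 4 8 16 (lin 1 3 4 8 16 n) % 32 = n % 32 → n = 0 := by
    decide +kernel
  rw [e1, h7 n hn h5 h6, el_zero, mul_one]

/-- the relations of `RelD` -/
theorem yRel : YRel a c d e u w where
  yy := hw.ww
  ya := waw hw
  yf := wkw D hw
  yz := by rw [zE_eq D.hC]; exact wfw0 hw
  ye := wew D hw
  yj := wjw D hw

omit D hw in
theorem etElt_of_lt (D : Data a c d e s t u E) {n : ℕ} (hn : n < 8) :
    EtElt a c d e u (el (bas a c d s u) n) := by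
  unfold EtElt
  rw [zE_eq D.hC]
  interval_cases n <;> simp [el, pw, bas, Nat.testBit, mul_assoc]

/-- **relator r1** -/
theorem wuw : w * u * w = u * e := by
  have hu := act_u D.hC
  have he := act_e D.hC
  have hwt : t * w = w * t := hw.wt.symm
  obtain ⟨n, hn, e1⟩ := D.eq_of_act_t ((hw.act.mul hu).mul hw.act) (hu.mul he)
    (by decide +kernel)
    (t' := t⁻¹) (by
      have h1 : t⁻¹ * w = w * t⁻¹ := ((show Commute t w from hwt).inv_left).eq
      calc t * (w * u * w) = w * (t * u) * w := by rw [← mul_assoc, ← mul_assoc, hwt]; group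
        _ = w * u * (t⁻¹ * w) := by rw [tu D.hC]; group
        _ = w * u * w * t⁻¹ := by rw [h1]; group)
    (by
      have h1 : t⁻¹ * e = e * t⁻¹ := ((show Commute t e from te D.hC).inv_left).eq
      calc t * (u * e) = u * (t⁻¹ * e) := by rw [← mul_assoc, tu D.hC]; group
        _ = u * e * t⁻¹ := by rw [h1]; group) (Or.inr rfl)
  have h1 := eta1 D.hC D.a1 (yRel D hw) hw.ws (etElt_of_lt D hn) e1
  rw [e1, h1, mul_one]

/-- **relator r2** -/
theorem wvw : w * (d * u * d) * w = (d * u * d) * u * e * w * (d * u * d) * e * c := by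
  have hu := act_u D.hC
  have he := act_e D.hC
  have hv := act_v D.hC
  have hc := act_c D.hC
  have hwt : t * w = w * t := hw.wt.symm
  have hv' := tv D.hC
  have hu' := tu D.hC
  have he' := te D.hC
  have hwt' : t⁻¹ * w = w * t⁻¹ := ((show Commute t w from hwt).inv_left).eq
  have hei' : t⁻¹ * e = e * t⁻¹ := ((show Commute t e from he').inv_left).eq
  have hc' : t⁻¹ * c = c * t⁻¹ := ((show Commute t c from tc D.hC).inv_left).eq
  have hui' : t⁻¹ * u = u * t := by
    rw [inv_mul_eq_iff_eq_mul, ← mul_assoc, hu', inv_mul_cancel_right]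
  have hvw := yRel D hw
  have hr1 := wuw D hw
  obtain ⟨n, hn, e1⟩ := D.eq_of_act_t ((hw.act.mul hv).mul hw.act)
    ((((((hv.mul hu).mul he).mul hw.act).mul hv).mul he).mul hc)
    (by decide +kernel)
    (t' := t⁻¹) (by
      generalize d * u * d = v at *
      calc t * (w * v * w) = w * (t * v) * w := by rw [← mul_assoc, ← mul_assoc, hwt]; group
        _ = w * v * (t⁻¹ * w) := by rw [hv']; group
        _ = w * v * w * t⁻¹ := by rw [hwt']; group)
    (by
      generalize d * u * d = v at *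
      calc t * (v * u * e * w * v * e * c) = (t * v) * u * e * w * v * e * c := by group
        _ = v * (t⁻¹ * u) * e * w * v * e * c := by rw [hv']; group
        _ = v * u * (t * e) * w * v * e * c := by rw [hui']; group
        _ = v * u * e * (t * w) * v * e * c := by rw [he']; group
        _ = v * u * e * w * (t * v) * e * c := by rw [hwt]; group
        _ = v * u * e * w * v * (t⁻¹ * e) * c := by rw [hv']; group
        _ = v * u * e * w * v * e * (t⁻¹ * c) := by rw [hei']; group
        _ = v * u * e * w * v * e * c * t⁻¹ := by rw [hc']; group) (Or.inr rfl)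
  have h1 := eta2 D.hC D.a1 (yRel D hw) hr1 (etElt_of_lt D hn) e1
  rw [e1, h1, mul_one]

end main

/-- **Output of the D-side.** -/
theorem exists_w (D : Data a c d e s t u E) : ∃ w : G, YRel a c d e u w ∧ w * s = s * w ∧
    w * t = t * w ∧ Act (bas a c d s u) w (lin 2 1 4 8 16) ∧ w * u * w = u * e ∧
    w * (d * u * d) * w = (d * u * d) * u * e * w * (d * u * d) * e * c := by
  obtain ⟨w, hw⟩ := D.exists_good
  exact ⟨w, yRel D hw, hw.ws, hw.wt, hw.act, wuw D hw, wvw D hw⟩

end Cfsg.Agent.ThType.DSideMain
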