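import Cfsg.Agent.ThType.DSide

/-!
Thompson type (project R05), the D-side, part 2: all C-word facts, checked by the C-oracle.
-/

set_option autoImplicit false

namespace Cfsg.Agent.ThType.DSideWords

open Cfsg.Agent.Th.Base Cfsg.Agent.Th.Word Cfsg.Agent.Th.COracleDef Cfsg.Agent.Th.COracleSound
open Cfsg.Agent.ThType.DSide

/-! ### the elements -/

section elements

variable {G : Type*} [Group G]

/-- `f0 = [..]` -/
def F0 (c d u : G) : G := c * (d * u⁻¹ * d * c * (d * u * d))
/-- `f1 = f0^s` -/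
def F1 (c d s u : G) : G := s⁻¹ * F0 c d u * s
/-- `f2 = f1^s` -/
def F2 (c d s u : G) : G := s⁻¹ * F1 c d s u * s
/-- the `t`-fixed element of `J_a` -/
def J (c d u : G) : G := c * (d * c * d) * u * (d * c * d) * u
/-- the basis of `E` -/
def bas (a c d s u : G) : Bas G := ⟨a, c, F0 c d u, F1 c d s u, F2 c d s u⟩

end elements

/-! ### the words -/

def wk : List ℕ := [4, 3, 4]
def wv : List ℕ := [4, 10, 4]
def wf0 : List ℕ := [3, 4, 11, 4, 3, 4, 10, 4]
def wf1 : List ℕ := 7 :: (wf0 ++ [6])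
def wf2 : List ℕ := 7 :: (wf1 ++ [6])
def wj : List ℕ := [3, 4, 3, 4, 10, 4, 3, 4, 10]

/-- word of a bit vector -/
def wel (n : ℕ) : List ℕ :=
  (bif n.testBit 0 then [1] else []) ++ ((bif n.testBit 1 then [3] else []) ++
    ((bif n.testBit 2 then wf0 else []) ++ ((bif n.testBit 3 then wf1 else []) ++
      (bif n.testBit 4 then wf2 else []))))

/-- the checks for the action of a word -/
def actOK (x : List ℕ) (m0 m1 m2 m3 m4 : ℕ) : Bool :=
  corc (([1] ++ x) ++ iw (x ++ wel m0)) && (corc (([3] ++ x) ++ iw (x ++ wel m1)) &&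
    (corc ((wf0 ++ x) ++ iw (x ++ wel m2)) && (corc ((wf1 ++ x) ++ iw (x ++ wel m3)) &&
      corc ((wf2 ++ x) ++ iw (x ++ wel m4)))))

/-- commutation check -/
def comOK (x y : List ℕ) : Bool := corc ((x ++ y) ++ iw (y ++ x))

section checks

set_option maxRecDepth 100000

theorem chk_bas : (corc (wf0 ++ wf0) && corc (wf1 ++ wf1) && corc (wf2 ++ wf2) &&
    comOK [1] [3] && comOK [1] wf0 && comOK [1] wf1 && comOK [1] wf2 && comOK [3] wf0 &&
    comOK [3] wf1 && comOK [3] wf2 && comOK wf0 wf1 && comOK wf0 wf2 && comOK wf1 wf2) = true := by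
  decide +kernel

theorem chk_e : actOK [5] 1 2 7 11 19 = true := by decide +kernel
theorem chk_u : actOK [10] 1 2 6 30 18 = true := by decide +kernel
theorem chk_v : actOK wv 1 6 5 29 17 = true := by decide +kernel
theorem chk_s : actOK [6] 1 2 8 16 20 = true := by decide +kernel
theorem chk_t : actOK [8] 1 2 4 16 28 = true := by decide +kernel
theorem chk_k : actOK wk 1 3 4 8 16 = true := by decide +kernel
theorem chk_j : actOK wj 1 2 5 9 17 = true := by decide +kernel

/-- every nonidentity element `x` of `E` different from `a` has `x^g x = a` for one of four words -/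
theorem chk_inj : ∀ n < 32, (n == 0 || n == 1 ||
    ([wk, wj, 7 :: (wj ++ [6]), 7 :: 7 :: (wj ++ [6, 6])].any fun g =>
      corc ((iw g ++ (wel n ++ (g ++ wel n))) ++ [1]))) = true := by decide +kernel

/-- further word equalities -/
theorem chk_misc : (
    -- x x^s = x^(s^3) for x = e, j, k e k
    corc (([5] ++ [7, 5, 6]) ++ iw ([7, 7, 7, 5, 6, 6, 6])) &&
    corc ((wj ++ (7 :: (wj ++ [6]))) ++ iw ([7, 7, 7] ++ (wj ++ [6, 6, 6]))) &&
    corc (((wk ++ [5] ++ wk) ++ (7 :: ((wk ++ [5] ++ wk) ++ [6]))) ++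
      iw ([7, 7, 7] ++ ((wk ++ [5] ++ wk) ++ [6, 6, 6]))) &&
    -- commutations with t
    comOK [8] [5] && comOK [8] wj && comOK [8] wk && comOK [8] wf0 && comOK [6] wk &&
    corc (([8] ++ [10]) ++ iw ([10] ++ [9])) && corc (([8] ++ wv) ++ iw (wv ++ [9])) &&
    corc ([9, 6, 8] ++ iw [6, 6]) &&
    comOK [10] [5] && corc (wj ++ wj) && corc ([10, 10] ++ iw [1, 3]) &&
    corc ([10, 6, 10, 6, 10, 6] ++ iw [1, 3]) && corc ([10, 5, 6, 10, 5, 6, 10, 5, 6] ++ iw [1, 3]) &&
    corc ((wk ++ wk)))  = true := by decide +kernel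

end checks

/-! ### soundness -/

section sound

variable {G : Type*} [Group G] {a c d e s t u : G}

theorem ev_wf0 : ev (gam a 1 c d e s t u) wf0 = F0 c d u := by
  simp [wf0, gam, F0, mul_assoc]

theorem ev_wf1 : ev (gam a 1 c d e s t u) wf1 = F1 c d s u := by
  simp only [wf1, ev_cons, ev_append, ev_wf0, ev_nil, mul_one, F1, gam, mul_assoc]

theorem ev_wf2 : ev (gam a 1 c d e s t u) wf2 = F2 c d s u := by
  simp only [wf2, ev_cons, ev_append, ev_wf1, ev_nil, mul_one, F2, gam, mul_assoc]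

theorem ev_wj : ev (gam a 1 c d e s t u) wj = J c d u := by
  simp [wj, gam, J, mul_assoc]

theorem ev_wk : ev (gam a 1 c d e s t u) wk = d * c * d := by
  simp [wk, gam, mul_assoc]

theorem ev_wv : ev (gam a 1 c d e s t u) wv = d * u * d := by
  simp [wv, gam, mul_assoc]

theorem ev_bif {γ : ℕ → G} (p : Bool) (w : List ℕ) : ev γ (bif p then w else []) = pw (ev γ w) p := by
  cases p <;> rfl

theorem ev_wel (n : ℕ) : ev (gam a 1 c d e s t u) (wel n) = el (bas a c d s u) n := by
  unfold wel el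
  simp only [ev_append, ev_bif, ev_wf0, ev_wf1, ev_wf2, bas]
  simp only [ev_cons, ev_nil, mul_one, gam]

theorem comOK_sound (h : RelC a c d e s t u) {x y : List ℕ} (hc : comOK x y = true) :
    ev (gam a 1 c d e s t u) x * ev (gam a 1 c d e s t u) y =
      ev (gam a 1 c d e s t u) y * ev (gam a 1 c d e s t u) x := by
  have := ceq h (x ++ y) (y ++ x) hc
  rwa [ev_append, ev_append] at this

theorem isBas (h : RelC a c d e s t u) : IsBas (bas a c d s u) := by
  have hc := chk_bas
  simp only [Bool.and_eq_true] at hc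
  obtain ⟨⟨⟨⟨⟨⟨⟨⟨⟨⟨⟨⟨h1, h2⟩, h3⟩, c01⟩, c02⟩, c03⟩, c04⟩, c12⟩, c13⟩, c14⟩, c23⟩, c24⟩, c34⟩ := hc
  have sq : ∀ w : List ℕ, corc (w ++ w) = true →
      ev (gam a 1 c d e s t u) w * ev (gam a 1 c d e s t u) w = 1 := fun w hw => by
    have := ceq h (w ++ w) [] (by simpa using hw)
    rwa [ev_append, ev_nil] at this
  have h1 := sq _ h1
  have h2 := sq _ h2
  have h3 := sq _ h3
  have c01 := comOK_sound h c01
  have c02 := comOK_sound h c02
  have c03 := comOK_sound h c03
  have c04 := comOK_sound h c04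
  have c12 := comOK_sound h c12
  have c13 := comOK_sound h c13
  have c14 := comOK_sound h c14
  have c23 := comOK_sound h c23
  have c24 := comOK_sound h c24
  have c34 := comOK_sound h c34
  have ea : ev (gam a 1 c d e s t u) [1] = a := ev_singleton _ _
  have ec : ev (gam a 1 c d e s t u) [3] = c := ev_singleton _ _
  rw [ea] at c01 c02 c03 c04
  rw [ec] at c01 c12 c13 c14
  rw [ev_wf0] at h1 c02 c12 c23 c24
  rw [ev_wf1] at h2 c03 c13 c23 c34
  rw [ev_wf2] at h3 c04 c14 c24 c34
  exact ⟨by rw [← pow_two]; exact h.a2, by rw [← pow_two]; exact h.c2, h1, h2, h3, c01, c02, c03, c04, c12, c13,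
    c14, c23, c24, c34⟩

theorem act_sound (h : RelC a c d e s t u) {x : List ℕ} {m0 m1 m2 m3 m4 : ℕ}
    (hx : actOK x m0 m1 m2 m3 m4 = true) :
    Act (bas a c d s u) (ev (gam a 1 c d e s t u) x) (lin m0 m1 m2 m3 m4) := by
  unfold actOK at hx
  simp only [Bool.and_eq_true] at hx
  obtain ⟨h0, h1, h2, h3, h4⟩ := hx
  have h0 := ceq h _ _ h0
  have h1 := ceq h _ _ h1
  have h2 := ceq h _ _ h2
  have h3 := ceq h _ _ h3
  have h4 := ceq h _ _ h4
  simp only [ev_append, ev_wel, ev_wf0, ev_wf1, ev_wf2] at h0 h1 h2 h3 h4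
  have ea : ev (gam a 1 c d e s t u) [1] = a := ev_singleton _ _
  have ec : ev (gam a 1 c d e s t u) [3] = c := ev_singleton _ _
  rw [ea] at h0
  rw [ec] at h1
  exact act_lin (isBas h) h0 h1 h2 h3 h4

theorem act_e (h : RelC a c d e s t u) : Act (bas a c d s u) e (lin 1 2 7 11 19) := by
  have := act_sound h chk_e
  rwa [show ev (gam a 1 c d e s t u) [5] = e from ev_singleton _ _] at this

theorem act_u (h : RelC a c d e s t u) : Act (bas a c d s u) u (lin 1 2 6 30 18) := by
  have := act_sound h chk_u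
  rwa [show ev (gam a 1 c d e s t u) [10] = u from ev_singleton _ _] at this

theorem act_v (h : RelC a c d e s t u) : Act (bas a c d s u) (d * u * d) (lin 1 6 5 29 17) := by
  have := act_sound h chk_v
  rwa [ev_wv] at this

theorem act_s (h : RelC a c d e s t u) : Act (bas a c d s u) s (lin 1 2 8 16 20) := by
  have := act_sound h chk_s
  rwa [show ev (gam a 1 c d e s t u) [6] = s from ev_singleton _ _] at this

theorem act_t (h : RelC a c d e s t u) : Act (bas a c d s u) t (lin 1 2 4 16 28) := by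
  have := act_sound h chk_t
  rwa [show ev (gam a 1 c d e s t u) [8] = t from ev_singleton _ _] at this

theorem act_k (h : RelC a c d e s t u) : Act (bas a c d s u) (d * c * d) (lin 1 3 4 8 16) := by
  have := act_sound h chk_k
  rwa [ev_wk] at this

theorem act_j (h : RelC a c d e s t u) : Act (bas a c d s u) (J c d u) (lin 1 2 5 9 17) := by
  have := act_sound h chk_j
  rwa [ev_wj] at this

theorem el_inj (h : RelC a c d e s t u) (ha : a ≠ 1) {n : ℕ} (hn : n < 32)
    (h1 : el (bas a c d s u) n = 1) : n = 0 := by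
  have hc := chk_inj n hn
  simp only [Bool.or_eq_true, beq_iff_eq] at hc
  rcases hc with (rfl | rfl) | hc
  · rfl
  · exfalso
    apply ha
    have : el (bas a c d s u) 1 = a := by simp [el, pw, bas, Nat.testBit]
    rwa [this] at h1
  · exfalso
    apply ha
    rw [List.any_eq_true] at hc
    obtain ⟨g, -, hg⟩ := hc
    have h2 := ceq h (iw g ++ (wel n ++ (g ++ wel n))) [1] hg
    simp only [ev_append, ev_wel, h1, ev_iw (invCompat h), mul_one, one_mul, inv_mul_cancel] at h2
    rw [ev_singleton] at h2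
    exact h2.symm

/-- injectivity -/
theorem el_inj' (h : RelC a c d e s t u) (ha : a ≠ 1) {n m : ℕ}
    (h1 : el (bas a c d s u) n = el (bas a c d s u) m) : n % 32 = m % 32 := by
  have h2 : el (bas a c d s u) ((n % 32) ^^^ (m % 32)) = 1 := by
    rw [el_xor (isBas h), el_mod, el_mod, h1, el_sq (isBas h)]
  have h3 := el_inj h ha (Nat.xor_lt_two_pow (n := 5) (Nat.mod_lt _ (by norm_num))
    (Nat.mod_lt _ (by norm_num))) h2
  exact Nat.xor_eq_zero_iff.mp h3

end sound

end Cfsg.Agent.ThType.DSideWords
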