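import Cfsg.Agent.ThType.SpinData
import Mathlib.LinearAlgebra.StdBasis
import Mathlib.LinearAlgebra.FiniteDimensional.Basic
import Mathlib.Algebra.CharP.Two

/-!
# Uniqueness of the spin module of `A₉` over `F₂`

Seven operators `x k` with `x² = x + 1` and `(x k * x l)² = 1` on an `F₂`-space of order 256 are
conjugate to the explicit matrices `X k`, or all of them to `X k + 1`.
-/

set_option autoImplicit false

namespace Cfsg.Agent.ThType.Fock

open Cfsg.Agent.ThType.SpinData

section ring

variable {A : Type*} [Ring A]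

theorem four_sq (h2 : (2 : A) = 0) {a b c d : A} (ha : a * a = a + 1) (hb : b * b = b + 1)
    (hc : c * c = c + 1) (hd : d * d = d + 1) (hab : a * b + b * a = a + b + 1)
    (hac : a * c + c * a = a + c + 1) (had : a * d + d * a = a + d + 1)
    (hbc : b * c + c * b = b + c + 1) (hbd : b * d + d * b = b + d + 1)
    (hcd : c * d + d * c = c + d + 1) : (a + b + c + d) * (a + b + c + d) = 0 := by
  have e : (a + b + c + d) * (a + b + c + d) = a * a + b * b + c * c + d * d + (a * b + b * a) +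
      (a * c + c * a) + (a * d + d * a) + (b * c + c * b) + (b * d + d * b) + (c * d + d * c) := by
    noncomm_ring
  rw [e, ha, hb, hc, hd, hab, hac, had, hbc, hbd, hcd]
  have e2 : a + 1 + (b + 1) + (c + 1) + (d + 1) + (a + b + 1) + (a + c + 1) + (a + d + 1) +
      (b + c + 1) + (b + d + 1) + (c + d + 1) =
        2 * (a + a + b + b + c + c + d + d + 1 + 1 + 1 + 1 + 1) := by
    noncomm_ring
  rw [e2, h2, zero_mul]

/-- the anticommutator is additive in both arguments -/
theorem anti_sum {ι : Type*} [DecidableEq ι] (h2 : (2 : A) = 0) (x : ι → A)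
    (hxx : ∀ k l, k ≠ l → x k * x l + x l * x k = x k + x l + 1) (S T : Finset ι) :
    (∑ k ∈ S, x k) * (∑ l ∈ T, x l) + (∑ l ∈ T, x l) * (∑ k ∈ S, x k) =
      (T.card : A) * (∑ k ∈ S, x k) + (S.card : A) * (∑ l ∈ T, x l) + (S.card * T.card : A) +
        ((S ∩ T).card : A) := by
  have hpair : ∀ k l, x k * x l + x l * x k = x k + x l + 1 + (if k = l then 1 else 0) := by
    intro k l
    by_cases h : k = l
    · subst h
      simp only [if_true]
      have : x k + x k + 1 + 1 = x k * x k + x k * x k := by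
        have h3 : x k + x k + 1 + 1 = 2 * (x k + 1) := by noncomm_ring
        have h4 : x k * x k + x k * x k = 2 * (x k * x k) := by noncomm_ring
        rw [h3, h4, h2, zero_mul, zero_mul]
      rw [this]
    · simp [h, hxx k l h]
  rw [Finset.sum_mul_sum, Finset.sum_mul_sum, Finset.sum_comm (s := T), ← Finset.sum_add_distrib]
  simp_rw [← Finset.sum_add_distrib, hpair]
  simp only [Finset.sum_add_distrib, Finset.sum_const, Finset.sum_ite_eq, nsmul_eq_mul, mul_one]
  congr 1
  · congr 1
    · congr 1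
      rw [Finset.mul_sum]
  · rw [← Finset.sum_filter, Finset.sum_const, nsmul_eq_mul, mul_one, Finset.filter_mem_eq_inter]

/-- the anticommutation relation from `(xy)² = 1` -/
theorem anti_of_mul (h2 : (2 : A) = 0) {x y : A} (hx : x * x = x + 1) (hy : y * y = y + 1)
    (h : (x * y) * (x * y) = 1) : x * y + y * x = x + y + 1 := by
  have h2' : ∀ a : A, a + a = 0 := fun a => by
    have : a + a = 2 * a := by noncomm_ring
    rw [this, h2, zero_mul]
  have hx1 : (x + 1) * x = 1 := by
    rw [add_mul, hx, one_mul, add_right_comm, h2', zero_add]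
  have hy1 : (y + 1) * y = 1 := by
    rw [add_mul, hy, one_mul, add_right_comm, h2', zero_add]
  have e1 : y * (x * y) = x + 1 := by
    have := congrArg (fun a => (x + 1) * a) h
    simp only [mul_one] at this
    rw [← this, mul_assoc, ← mul_assoc (x + 1) x, hx1, one_mul]
  have e2 : x * y = (y + 1) * (x + 1) := by
    rw [← e1, ← mul_assoc (y + 1) y, hy1, one_mul]
  have e3 : x * y = y * x + y + x + 1 := by
    rw [e2]; noncomm_ring
  calc x * y + y * x = (y * x + y + x + 1) + y * x := by rw [e3]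
    _ = (y * x + y * x) + (x + y + 1) := by abel
    _ = x + y + 1 := by rw [h2', zero_add]

end ring

section main

variable {W : Type*} [AddCommGroup W] [Module (ZMod 2) W]

theorem add_self (v : W) : v + v = 0 := by
  rw [← two_smul (ZMod 2) v]
  have h : (2 : ZMod 2) = 0 := by decide
  rw [h, zero_smul]

theorem two_end : (2 : Module.End (ZMod 2) W) = 0 := by
  ext v
  have : (2 : Module.End (ZMod 2) W) = 1 + 1 := by norm_num
  rw [this, LinearMap.add_apply]
  exact add_self v

theorem add_self_assoc (v w : W) : v + (v + w) = w := by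
  rw [← add_assoc, add_self, zero_add]

theorem eq_of_add_eq_zero {v w : W} (h : v + w = 0) : v = w := by
  have := congrArg (fun a => a + w) h
  simp only [zero_add] at this
  rwa [add_assoc, add_self, add_zero] at this

/-- the sum of the operators over a set of indices -/
def eo (x : Fin 7 → Module.End (ZMod 2) W) (S : Finset (Fin 7)) : Module.End (ZMod 2) W :=
  ∑ k ∈ S, x k

variable {x : Fin 7 → Module.End (ZMod 2) W} (hx : ∀ k, x k * x k = x k + 1)
  (hm : ∀ k l, k ≠ l → (x k * x l) * (x k * x l) = 1)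

include hx hm

theorem anti (k l : Fin 7) (h : k ≠ l) : x k * x l + x l * x k = x k + x l + 1 :=
  anti_of_mul two_end (hx k) (hx l) (hm k l h)

theorem eo_anti (S T : Finset (Fin 7)) (hS : S.card = 4) (hT : T.card = 4) :
    eo x S * eo x T + eo x T * eo x S = ((S ∩ T).card : Module.End (ZMod 2) W) := by
  have h := anti_sum (A := Module.End (ZMod 2) W) two_end x (anti hx hm) S T
  have h4 : ((4 : ℕ) : Module.End (ZMod 2) W) = 0 := by
    have : ((4 : ℕ) : Module.End (ZMod 2) W) = 2 * 2 := by norm_num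
    rw [this, two_end, zero_mul]
  unfold eo
  rw [h, hS, hT, h4]
  simp

theorem eo_comm (S T : Finset (Fin 7)) (hS : S.card = 4) (hT : T.card = 4)
    (hST : (S ∩ T).card = 2) (v : W) : eo x S (eo x T v) = eo x T (eo x S v) := by
  have h := eo_anti hx hm S T hS hT
  have h2 : (((2 : ℕ) : Module.End (ZMod 2) W)) = 0 := by
    have : (((2 : ℕ) : Module.End (ZMod 2) W)) = 2 := by norm_num
    rw [this, two_end]
  rw [hST, h2] at h
  exact eq_of_add_eq_zero (by simpa using LinearMap.congr_fun h v)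

theorem eo_pair (S T : Finset (Fin 7)) (hS : S.card = 4) (hT : T.card = 4)
    (hST : (S ∩ T).card = 3 ∨ (S ∩ T).card = 1) (v : W) :
    eo x S (eo x T v) = v + eo x T (eo x S v) := by
  have h := eo_anti hx hm S T hS hT
  have h1 : ((((S ∩ T).card : ℕ) : Module.End (ZMod 2) W)) = 1 := by
    rcases hST with h3 | h3
    · rw [h3]
      have : (((3 : ℕ) : Module.End (ZMod 2) W)) = 2 + 1 := by norm_num
      rw [this, two_end, zero_add]
    · rw [h3]; norm_num
  rw [h1] at h
  have h' : eo x S (eo x T v) + eo x T (eo x S v) = v := by simpa using LinearMap.congr_fun h v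
  calc eo x S (eo x T v) = (eo x S (eo x T v) + eo x T (eo x S v)) + eo x T (eo x S v) := by
        rw [add_assoc, add_self, add_zero]
    _ = v + eo x T (eo x S v) := by rw [h']

theorem eo_sq (a b c d : Fin 7) (hab : a ≠ b) (hac : a ≠ c) (had : a ≠ d) (hbc : b ≠ c)
    (hbd : b ≠ d) (hcd : c ≠ d) (v : W) :
    eo x {a, b, c, d} (eo x {a, b, c, d} v) = 0 := by
  have e : eo x {a, b, c, d} = x a + x b + x c + x d := by
    unfold eo
    rw [Finset.sum_insert (by simp [*]), Finset.sum_insert (by simp [*]),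
      Finset.sum_insert (by simp [*]), Finset.sum_singleton]
    abel
  have h := four_sq (A := Module.End (ZMod 2) W) two_end (hx a) (hx b) (hx c) (hx d)
    (anti hx hm a b hab) (anti hx hm a c hac) (anti hx hm a d had) (anti hx hm b c hbc)
    (anti hx hm b d hbd) (anti hx hm c d hcd)
  rw [← e] at h
  exact LinearMap.congr_fun h v

/-- commutation of `x 0` with the sums over 4-sets -/
theorem x0_eo (T : Finset (Fin 7)) (hT : T.card = 4) (v : W) :
    x 0 (eo x T v) = eo x T (x 0 v) + eo x T v + (if 0 ∈ T then v else 0) := by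
  have h := anti_sum (A := Module.End (ZMod 2) W) two_end x (anti hx hm) {0} T
  have h4 : ((4 : ℕ) : Module.End (ZMod 2) W) = 0 := by
    have : ((4 : ℕ) : Module.End (ZMod 2) W) = 2 * 2 := by norm_num
    rw [this, two_end, zero_mul]
  rw [hT, h4] at h
  simp only [Finset.sum_singleton, Finset.card_singleton, Nat.cast_one, one_mul, zero_mul,
    mul_zero, add_zero, zero_add] at h
  have h' : x 0 (eo x T v) + eo x T (x 0 v) = eo x T v + (if 0 ∈ T then v else 0) := by
    have h3 := LinearMap.congr_fun h v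
    by_cases h0 : (0 : Fin 7) ∈ T
    · rw [Finset.singleton_inter_of_mem h0] at h3
      simpa [eo, h0] using h3
    · rw [Finset.singleton_inter_of_notMem h0] at h3
      simpa [eo, h0] using h3
  calc x 0 (eo x T v) = (x 0 (eo x T v) + eo x T (x 0 v)) + eo x T (x 0 v) := by
        rw [add_assoc, add_self, add_zero]
    _ = _ := by rw [h']; abel

end main

section fock

/-- matrix from bitmask rows -/
def ofRows (r : Fin 8 → ℕ) : Matrix (Fin 8) (Fin 8) (ZMod 2) :=
  Matrix.of fun i j => if (r i).testBit j.1 then 1 else 0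

/-- creation and annihilation matrices in Fock coordinates -/
def fmat : Fin 6 → Matrix (Fin 8) (Fin 8) (ZMod 2) :=
  ![ofRows ![0, 0, 0, 0, 1, 2, 4, 8], ofRows ![0, 0, 1, 2, 0, 0, 16, 32],
    ofRows ![0, 1, 0, 4, 0, 16, 0, 64], ofRows ![16, 32, 64, 128, 0, 0, 0, 0],
    ofRows ![4, 8, 0, 0, 64, 128, 0, 0], ofRows ![2, 0, 8, 0, 32, 0, 128, 0]]

variable {W : Type*} [AddCommGroup W] [Module (ZMod 2) W]

/-- the linear map given by eight vectors -/
def lin (w : Fin 8 → W) : V →ₗ[ZMod 2] W where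
  toFun v := ∑ s, v s • w s
  map_add' u v := by simp [add_smul, Finset.sum_add_distrib]
  map_smul' c v := by simp [Finset.smul_sum, mul_smul]

theorem lin_apply (w : Fin 8 → W) (v : V) : lin w v = ∑ s, v s • w s := rfl

theorem lin_single (w : Fin 8 → W) (s : Fin 8) : lin w (Pi.single s 1) = w s := by
  rw [lin_apply, Finset.sum_eq_single s]
  · simp
  · intro b _ hb; simp [hb]
  · simp

theorem intertw (w : Fin 8 → W) (y : Module.End (ZMod 2) W) (M : Matrix (Fin 8) (Fin 8) (ZMod 2))
    (h : ∀ s, y (w s) = ∑ r, M r s • w r) (v : V) : lin w (M.mulVec v) = y (lin w v) := by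
  simp only [lin_apply, map_sum, map_smul, h, Matrix.mulVec, dotProduct, Finset.sum_smul,
    Finset.smul_sum]
  rw [Finset.sum_comm]
  refine Finset.sum_congr rfl fun s _ => Finset.sum_congr rfl fun r _ => ?_
  rw [smul_smul, mul_comm]

/-- the Fock rules for six operators: three creation operators (0,1,2), three annihilation
operators (3,4,5) and a vacuum vector -/
structure Rules (o : Fin 6 → Module.End (ZMod 2) W) (w0 : W) : Prop where
  e0 : ∀ v, o 0 (o 0 v) = 0
  e1 : ∀ v, o 1 (o 1 v) = 0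
  e2 : ∀ v, o 2 (o 2 v) = 0
  e10 : ∀ v, o 1 (o 0 v) = o 0 (o 1 v)
  e20 : ∀ v, o 2 (o 0 v) = o 0 (o 2 v)
  e21 : ∀ v, o 2 (o 1 v) = o 1 (o 2 v)
  f0 : ∀ v, o 3 (o 0 v) = v + o 0 (o 3 v)
  f1 : ∀ v, o 4 (o 1 v) = v + o 1 (o 4 v)
  f2 : ∀ v, o 5 (o 2 v) = v + o 2 (o 5 v)
  f01 : ∀ v, o 3 (o 1 v) = o 1 (o 3 v)
  f02 : ∀ v, o 3 (o 2 v) = o 2 (o 3 v)
  f10 : ∀ v, o 4 (o 0 v) = o 0 (o 4 v)
  f12 : ∀ v, o 4 (o 2 v) = o 2 (o 4 v)
  f20 : ∀ v, o 5 (o 0 v) = o 0 (o 5 v)
  f21 : ∀ v, o 5 (o 1 v) = o 1 (o 5 v)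
  v0 : o 3 w0 = 0
  v1 : o 4 w0 = 0
  v2 : o 5 w0 = 0

/-- the Fock basis -/
def wvec (o : Fin 6 → Module.End (ZMod 2) W) (w0 : W) : Fin 8 → W :=
  ![w0, o 2 w0, o 1 w0, o 1 (o 2 w0), o 0 w0, o 0 (o 2 w0), o 0 (o 1 w0), o 0 (o 1 (o 2 w0))]

theorem rules_intertw {o : Fin 6 → Module.End (ZMod 2) W} {w0 : W} (R : Rules o w0) (i : Fin 6)
    (v : V) : lin (wvec o w0) ((fmat i).mulVec v) = o i (lin (wvec o w0) v) := by
  refine intertw _ _ _ ?_ v
  intro s
  fin_cases i <;> fin_cases s <;>
    simp [wvec, fmat, ofRows, Fin.sum_univ_eight, R.e0, R.e1, R.e2, R.e10, R.e20, R.e21, R.f0, R.f1,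
      R.f2, R.f01, R.f02, R.f10, R.f12, R.f20, R.f21, R.v0, R.v1, R.v2, Nat.testBit,
      Nat.shiftRight_eq_div_pow]

/-- the word isolating the coordinate `k` -/
def word : Fin 8 → List (Fin 6) :=
  ![[3, 0, 4, 1, 5, 2], [3, 0, 4, 1, 5, 2, 5], [3, 0, 4, 1, 5, 2, 4], [3, 0, 4, 1, 5, 2, 4, 5],
    [3, 0, 4, 1, 5, 2, 3], [3, 0, 4, 1, 5, 2, 3, 5], [3, 0, 4, 1, 5, 2, 3, 4],
    [3, 0, 4, 1, 5, 2, 3, 4, 5]]

theorem word_mat (k : Fin 8) : ((word k).map fmat).prod = Matrix.single 0 k 1 := by
  revert k; decide +kernel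

theorem intertw_list {o : Fin 6 → Module.End (ZMod 2) W} {w0 : W} (R : Rules o w0)
    (L : List (Fin 6)) (v : V) :
    lin (wvec o w0) (((L.map fmat).prod).mulVec v) = ((L.map o).prod) (lin (wvec o w0) v) := by
  induction L generalizing v with
  | nil => simp
  | cons i L ih =>
    rw [List.map_cons, List.prod_cons, List.map_cons, List.prod_cons, ← Matrix.mulVec_mulVec,
      rules_intertw R, ih]
    rfl

theorem lin_injective {o : Fin 6 → Module.End (ZMod 2) W} {w0 : W} (R : Rules o w0)
    (h0 : w0 ≠ 0) : Function.Injective (lin (wvec o w0)) := by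
  rw [injective_iff_map_eq_zero]
  intro v hv
  funext k
  have h := intertw_list R (word k) v
  rw [hv, map_zero, word_mat] at h
  have e : (Matrix.single (0 : Fin 8) k (1 : ZMod 2)).mulVec v = v k • Pi.single 0 1 := by
    funext i
    simp only [Matrix.mulVec, dotProduct, Matrix.single, Matrix.of_apply, Pi.smul_apply,
      smul_eq_mul]
    rw [Finset.sum_eq_single k]
    · by_cases hi : i = 0
      · subst hi; simp
      · simp [Ne.symm hi, hi]
    · intro b _ hb
      simp [Ne.symm hb]
    · simp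
  have h3 : lin (wvec o w0) (v k • Pi.single 0 1) = 0 := by rw [← e]; exact h
  rw [map_smul, lin_single] at h3
  have h5 : wvec o w0 0 = w0 := rfl
  rw [h5] at h3
  rcases smul_eq_zero.1 h3 with h4 | h4
  · exact h4
  · exact absurd h4 h0

theorem card_V : Nat.card V = 256 := by
  rw [Nat.card_eq_fintype_card]
  simp [V, Fintype.card_pi, ZMod.card]

/-- the linear equivalence given by the Fock basis -/
theorem exists_linEquiv {o : Fin 6 → Module.End (ZMod 2) W} {w0 : W} (R : Rules o w0)
    (h0 : w0 ≠ 0) (hcard : Nat.card W = 256) :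
    ∃ Φ : V ≃ₗ[ZMod 2] W, (∀ i v, Φ ((fmat i).mulVec v) = o i (Φ v)) ∧
      ∀ v, Φ v = lin (wvec o w0) v := by
  have : Finite W := Nat.finite_of_card_ne_zero (by rw [hcard]; norm_num)
  have hb : Function.Bijective (lin (wvec o w0)) := by
    refine (lin_injective R h0).bijective_of_nat_card_le ?_
    rw [hcard, card_V]
  exact ⟨LinearEquiv.ofBijective _ hb, fun i v => rules_intertw R i v, fun v => rfl⟩

/-- matrix of `x 0` in Fock coordinates (first normalisation) -/
def x0mat : Matrix (Fin 8) (Fin 8) (ZMod 2) := ofRows ![16, 34, 68, 128, 17, 2, 4, 136]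

/-- the operators `x k` in terms of `x 0` and the creation/annihilation operators -/
def comb {A : Type*} [AddCommMonoid A] (y : A) (o : Fin 6 → A) : Fin 7 → A :=
  ![y, y + (o 0 + o 1 + o 4 + o 5), y + (o 0 + o 1 + o 2 + o 4), y + (o 0 + o 2 + o 5),
    y + (o 2 + o 3 + o 4 + o 5), y + (o 1 + o 3 + o 4), y + (o 1 + o 2 + o 3 + o 5)]

/-- change of coordinates -/
def pmat : Matrix (Fin 8) (Fin 8) (ZMod 2) := ofRows ![126, 206, 41, 55, 148, 250, 104, 245]

def pinv : Matrix (Fin 8) (Fin 8) (ZMod 2) := ofRows ![157, 183, 199, 77, 49, 212, 217, 230]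

theorem pmat_mul : pmat * pinv = 1 ∧ pinv * pmat = 1 := by decide +kernel

theorem pmat_X (k : Fin 7) : pmat * X k = (comb x0mat fmat k + 1) * pmat := by
  revert k; decide +kernel

theorem x0_intertw {o : Fin 6 → Module.End (ZMod 2) W} {w0 : W} (R : Rules o w0)
    (y : Module.End (ZMod 2) W) (h0 : ∀ v, y (o 0 v) = o 0 (y v) + o 0 v + v)
    (h1 : ∀ v, y (o 1 v) = o 1 (y v) + o 1 v) (h2 : ∀ v, y (o 2 v) = o 2 (y v) + o 2 v)
    (hw : y w0 = o 0 w0) (v : V) :
    lin (wvec o w0) (x0mat.mulVec v) = y (lin (wvec o w0) v) := by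
  refine intertw _ _ _ ?_ v
  intro s
  fin_cases s <;>
    simp [wvec, x0mat, ofRows, Fin.sum_univ_eight, R.e0, R.e10, R.e20, h0, h1,
      h2, hw, Nat.testBit, Nat.shiftRight_eq_div_pow, add_self]
  all_goals first
    | exact add_comm _ _
    | rw [add_assoc, add_self, add_zero]

theorem ker_f (c : V) (h3 : (fmat 3).mulVec c = 0) (h4 : (fmat 4).mulVec c = 0)
    (h5 : (fmat 5).mulVec c = 0) : c = 0 ∨ c = Pi.single 0 1 := by
  revert c; decide +kernel

/-- `x k + 1` in place of `x k` -/
theorem comb_add_one {A : Type*} [AddCommMonoid A] (y a : A) (o : Fin 6 → A) (k : Fin 7) :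
    comb (y + a) o k = comb y o k + a := by
  fin_cases k <;> simp [comb] <;> abel

theorem comb_intertw {Φ : V ≃ₗ[ZMod 2] W} {o : Fin 6 → Module.End (ZMod 2) W}
    (hΦ : ∀ i v, Φ ((fmat i).mulVec v) = o i (Φ v)) (y : Module.End (ZMod 2) W)
    (Y : Matrix (Fin 8) (Fin 8) (ZMod 2)) (hy : ∀ v, Φ (Y.mulVec v) = y (Φ v)) (k : Fin 7) (v : V) :
    Φ ((comb Y fmat k).mulVec v) = comb y o k (Φ v) := by
  fin_cases k <;> simp [comb, Matrix.add_mulVec, hΦ, hy]

/-- change of coordinates as a linear equivalence -/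
def pEquiv : V ≃ₗ[ZMod 2] V where
  toFun v := pmat.mulVec v
  invFun v := pinv.mulVec v
  map_add' u v := Matrix.mulVec_add _ _ _
  map_smul' c v := Matrix.mulVec_smul _ _ _
  left_inv v := by simp [Matrix.mulVec_mulVec, pmat_mul.2]
  right_inv v := by simp [Matrix.mulVec_mulVec, pmat_mul.1]

theorem pEquiv_apply (v : V) : pEquiv v = pmat.mulVec v := rfl

theorem final_of_Φ {Φ : V ≃ₗ[ZMod 2] W} {o : Fin 6 → Module.End (ZMod 2) W}
    (hΦ : ∀ i v, Φ ((fmat i).mulVec v) = o i (Φ v)) (y : Module.End (ZMod 2) W)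
    (hy : ∀ v, Φ (x0mat.mulVec v) = y (Φ v)) (k : Fin 7) (v : V) :
    (pEquiv.trans Φ) ((X k).mulVec v) = comb y o k ((pEquiv.trans Φ) v) + (pEquiv.trans Φ) v := by
  simp only [LinearEquiv.trans_apply, pEquiv_apply]
  rw [Matrix.mulVec_mulVec, pmat_X, ← Matrix.mulVec_mulVec, Matrix.add_mulVec, map_add,
    comb_intertw hΦ y x0mat hy, Matrix.one_mulVec]

/-- the six index sets -/
def sets : Fin 6 → Finset (Fin 7) :=
  ![{0, 1, 2, 3}, {1, 2, 4, 5}, {1, 3, 4, 6}, {0, 4, 5, 6}, {1, 2, 5, 6}, {2, 3, 4, 6}]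

/-- the six operators built from `x` -/
def oper (x : Fin 7 → Module.End (ZMod 2) W) (i : Fin 6) : Module.End (ZMod 2) W := eo x (sets i)

theorem exists_vacuum [Nontrivial W] (f g h : Module.End (ZMod 2) W) (hf : ∀ v, f (f v) = 0)
    (hg : ∀ v, g (g v) = 0) (hh : ∀ v, h (h v) = 0) (hfg : ∀ v, f (g v) = g (f v))
    (hfh : ∀ v, f (h v) = h (f v)) (hgh : ∀ v, g (h v) = h (g v)) :
    ∃ w : W, w ≠ 0 ∧ f w = 0 ∧ g w = 0 ∧ h w = 0 := by
  obtain ⟨v, hv⟩ := exists_ne (0 : W)
  obtain ⟨a, ha, hfa⟩ : ∃ a : W, a ≠ 0 ∧ f a = 0 := by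
    by_cases h1 : f v = 0
    · exact ⟨v, hv, h1⟩
    · exact ⟨f v, h1, hf v⟩
  obtain ⟨b, hb, hfb, hgb⟩ : ∃ b : W, b ≠ 0 ∧ f b = 0 ∧ g b = 0 := by
    by_cases h1 : g a = 0
    · exact ⟨a, ha, hfa, h1⟩
    · exact ⟨g a, h1, by rw [hfg, hfa, map_zero], hg a⟩
  by_cases h1 : h b = 0
  · exact ⟨b, hb, hfb, hgb, h1⟩
  · exact ⟨h b, h1, by rw [hfh, hfb, map_zero], by rw [hgh, hgb, map_zero], hh b⟩

theorem comb_oper (x : Fin 7 → Module.End (ZMod 2) W) (k : Fin 7) :
    comb (x 0) (oper x) k = x k := by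
  have key : ∀ S : Finset (Fin 7), eo x S = ∑ k : Fin 7, if k ∈ S then x k else 0 := by
    intro S
    unfold eo
    rw [Finset.sum_ite_mem, Finset.univ_inter]
  have t2 : (2 : Module.End (ZMod 2) W) = 0 := two_end
  have t3 : (3 : Module.End (ZMod 2) W) = 1 := by
    have : (3 : Module.End (ZMod 2) W) = 2 + 1 := by norm_num
    rw [this, t2, zero_add]
  have t4 : (4 : Module.End (ZMod 2) W) = 0 := by
    have : (4 : Module.End (ZMod 2) W) = 2 * 2 := by norm_num
    rw [this, t2, zero_mul]
  fin_cases k <;> simp only [comb, oper, key] <;> simp [sets, Fin.sum_univ_seven] <;>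
    (try abel_nf) <;> simp [t2, t3, t4]

theorem exists_equiv {x : Fin 7 → Module.End (ZMod 2) W} (hcard : Nat.card W = 256)
    (hx : ∀ k, x k * x k = x k + 1) (hm : ∀ k l, k ≠ l → (x k * x l) * (x k * x l) = 1) :
    ∃ f : V ≃ₗ[ZMod 2] W, (∀ k v, f ((X k).mulVec v) = x k (f v)) ∨
      (∀ k v, f ((X k).mulVec v) = x k (f v) + f v) := by
  have hfin : Finite W := Nat.finite_of_card_ne_zero (by rw [hcard]; norm_num)
  have : Nontrivial W := by
    rw [← Finite.one_lt_card_iff_nontrivial, hcard]; norm_num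
  obtain ⟨w0, hw0, hf0, hf1, hf2⟩ := exists_vacuum (oper x 3) (oper x 4) (oper x 5)
    (eo_sq hx hm 0 4 5 6 (by decide) (by decide) (by decide) (by decide) (by decide) (by decide))
    (eo_sq hx hm 1 2 5 6 (by decide) (by decide) (by decide) (by decide) (by decide) (by decide))
    (eo_sq hx hm 2 3 4 6 (by decide) (by decide) (by decide) (by decide) (by decide) (by decide))
    (eo_comm hx hm (sets 3) (sets 4) (by decide) (by decide) (by decide))
    (eo_comm hx hm (sets 3) (sets 5) (by decide) (by decide) (by decide))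
    (eo_comm hx hm (sets 4) (sets 5) (by decide) (by decide) (by decide))
  have R : Rules (oper x) w0 :=
    { e0 := eo_sq hx hm 0 1 2 3 (by decide) (by decide) (by decide) (by decide) (by decide)
        (by decide)
      e1 := eo_sq hx hm 1 2 4 5 (by decide) (by decide) (by decide) (by decide) (by decide)
        (by decide)
      e2 := eo_sq hx hm 1 3 4 6 (by decide) (by decide) (by decide) (by decide) (by decide)
        (by decide)
      e10 := eo_comm hx hm (sets 1) (sets 0) (by decide) (by decide) (by decide)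
      e20 := eo_comm hx hm (sets 2) (sets 0) (by decide) (by decide) (by decide)
      e21 := eo_comm hx hm (sets 2) (sets 1) (by decide) (by decide) (by decide)
      f0 := eo_pair hx hm (sets 3) (sets 0) (by decide) (by decide) (by decide)
      f1 := eo_pair hx hm (sets 4) (sets 1) (by decide) (by decide) (by decide)
      f2 := eo_pair hx hm (sets 5) (sets 2) (by decide) (by decide) (by decide)
      f01 := eo_comm hx hm (sets 3) (sets 1) (by decide) (by decide) (by decide)
      f02 := eo_comm hx hm (sets 3) (sets 2) (by decide) (by decide) (by decide)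
      f10 := eo_comm hx hm (sets 4) (sets 0) (by decide) (by decide) (by decide)
      f12 := eo_comm hx hm (sets 4) (sets 2) (by decide) (by decide) (by decide)
      f20 := eo_comm hx hm (sets 5) (sets 0) (by decide) (by decide) (by decide)
      f21 := eo_comm hx hm (sets 5) (sets 1) (by decide) (by decide) (by decide)
      v0 := hf0
      v1 := hf1
      v2 := hf2 }
  obtain ⟨Φ, hΦ, hΦl⟩ := exists_linEquiv R hw0 hcard
  have y0 : ∀ v, x 0 (oper x 0 v) = oper x 0 (x 0 v) + oper x 0 v + v := fun v => by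
    have := x0_eo hx hm {0, 1, 2, 3} (by decide) v
    rwa [if_pos (by decide)] at this
  have y1 : ∀ v, x 0 (oper x 1 v) = oper x 1 (x 0 v) + oper x 1 v := fun v => by
    have := x0_eo hx hm {1, 2, 4, 5} (by decide) v
    rwa [if_neg (by decide), add_zero] at this
  have y2 : ∀ v, x 0 (oper x 2 v) = oper x 2 (x 0 v) + oper x 2 v := fun v => by
    have := x0_eo hx hm {1, 3, 4, 6} (by decide) v
    rwa [if_neg (by decide), add_zero] at this
  have y3 : ∀ v, x 0 (oper x 3 v) = oper x 3 (x 0 v) + oper x 3 v + v := fun v => by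
    have := x0_eo hx hm {0, 4, 5, 6} (by decide) v
    rwa [if_pos (by decide)] at this
  have y4 : ∀ v, x 0 (oper x 4 v) = oper x 4 (x 0 v) + oper x 4 v := fun v => by
    have := x0_eo hx hm {1, 2, 5, 6} (by decide) v
    rwa [if_neg (by decide), add_zero] at this
  have y5 : ∀ v, x 0 (oper x 5 v) = oper x 5 (x 0 v) + oper x 5 v := fun v => by
    have := x0_eo hx hm {2, 3, 4, 6} (by decide) v
    rwa [if_neg (by decide), add_zero] at this
  -- the vector `x 0 w0 + o 0 w0` is killed by the annihilation operators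
  obtain ⟨c, hc⟩ := Φ.surjective (x 0 w0 + oper x 0 w0)
  have hc' : c = 0 ∨ c = Pi.single 0 1 := by
    refine ker_f c ?_ ?_ ?_
    · apply Φ.injective
      have h := y3 w0
      rw [R.v0, map_zero, add_zero] at h
      have h' : w0 = oper x 3 (x 0 w0) := eq_of_add_eq_zero (by rw [add_comm]; exact h.symm)
      rw [hΦ, map_zero, hc, map_add, R.f0, R.v0, map_zero, add_zero, ← h', add_self]
    · apply Φ.injective
      have h := y4 w0
      rw [R.v1, map_zero, add_zero] at h
      rw [hΦ, map_zero, hc, map_add, R.f10, R.v1, map_zero, add_zero, ← h]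
    · apply Φ.injective
      have h := y5 w0
      rw [R.v2, map_zero, add_zero] at h
      rw [hΦ, map_zero, hc, map_add, R.f20, R.v2, map_zero, add_zero, ← h]
  rcases hc' with hc0 | hc1
  · refine ⟨pEquiv.trans Φ, Or.inr fun k v => ?_⟩
    rw [hc0, map_zero] at hc
    have hw : x 0 w0 = oper x 0 w0 := eq_of_add_eq_zero hc.symm
    have h := final_of_Φ hΦ (x 0) (fun v => by
      rw [hΦl, hΦl]
      exact x0_intertw R (x 0) y0 y1 y2 hw v) k v
    rw [h, comb_oper]
  · refine ⟨pEquiv.trans Φ, Or.inl fun k v => ?_⟩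
    have hw' : Φ (Pi.single 0 1) = w0 := by
      rw [hΦl, lin_single]; rfl
    rw [hc1, hw'] at hc
    have hw : (x 0 + 1) w0 = oper x 0 w0 := by
      rw [LinearMap.add_apply, Module.End.one_apply]
      have : x 0 w0 + w0 = x 0 w0 + (x 0 w0 + oper x 0 w0) := by rw [← hc]
      rw [this, add_self_assoc]
    have h := final_of_Φ hΦ (x 0 + 1) (fun v => by
      rw [hΦl, hΦl]
      refine x0_intertw R (x 0 + 1) ?_ ?_ ?_ hw v
      · intro v
        simp only [LinearMap.add_apply, Module.End.one_apply, y0, map_add]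
        abel
      · intro v
        simp only [LinearMap.add_apply, Module.End.one_apply, y1, map_add]
      · intro v
        simp only [LinearMap.add_apply, Module.End.one_apply, y2, map_add]) k v
    rw [h, comb_add_one, comb_oper, LinearMap.add_apply, Module.End.one_apply, add_assoc,
      add_self, add_zero]

end fock

end Cfsg.Agent.ThType.Fock
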