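import Cfsg.Agent.ThType.Squares
import Cfsg.Agent.ThType.NormE
import Mathlib.Tactic

/-!
# Finite facts for the fusion theorem `FusS` (project R05, helper935)
-/

set_option autoImplicit false

namespace Cfsg.Agent.ThType.FusSFacts

open Equiv Cfsg.Agent.ThType.SpinData Cfsg.Agent.ThType.SpinFacts Cfsg.Agent.ThType.SpinRep
  Cfsg.Agent.ThType.ElemE Cfsg.Agent.ThType.Squares

/-- a 5-cycle on the letters `4, ..., 8` -/
def t0 : alternatingGroup (Fin 9) :=
  ((((((cyc 2 * cyc 3) * cyc 4) * cyc 5) * cyc 6) * cyc 2) * cyc 3)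

theorem t0_j0 : t0 * j0 * t0⁻¹ = j0 := by
  apply Subtype.ext
  decide +kernel

theorem t0_pow : t0 * t0 * (t0 * t0) * (t0 * t0) = t0 := by
  apply Subtype.ext
  decide +kernel

def MT : Matrix (Fin 8) (Fin 8) (ZMod 2) := mk ![4, 6, 15, 10, 243, 161, 24, 157]

theorem n0 : X 2 * X 3 = mk ![14, 11, 13, 7, 224, 176, 208, 112] := by decide +kernel
theorem n1 : mk ![14, 11, 13, 7, 224, 176, 208, 112] * X 4
    = mk ![9, 6, 11, 14, 112, 208, 96, 144] := by decide +kernel
theorem n2 : mk ![9, 6, 11, 14, 112, 208, 96, 144] * X 5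
    = mk ![14, 2, 10, 7, 80, 176, 208, 16] := by decide +kernel
theorem n3 : mk ![14, 2, 10, 7, 80, 176, 208, 16] * X 6
    = mk ![13, 6, 15, 12, 245, 206, 231, 148] := by decide +kernel
theorem n4 : mk ![13, 6, 15, 12, 245, 206, 231, 148] * X 2
    = mk ![14, 15, 9, 4, 146, 179, 165, 104] := by decide +kernel
theorem n5 : mk ![14, 15, 9, 4, 146, 179, 165, 104] * X 3 = MT := by decide +kernel

theorem rho_t0 {ρ : alternatingGroup (Fin 9) →* Matrix (Fin 8) (Fin 8) (ZMod 2)}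
    (hρ : ∀ k, ρ (cyc k) = X k) : ρ t0 = MT := by
  rw [t0]
  simp only [map_mul, hρ]
  rw [n0, n1, n2, n3, n4, n5]

theorem MJ_sing : ∀ v : V, q0 (v + MJ.mulVec v) = 0 := by decide +kernel

theorem MJ_1 : MJ.mulVec (vec 1) ≠ vec 1 := by decide +kernel
theorem MJ_8 : MJ.mulVec (vec 8) ≠ vec 8 := by decide +kernel
theorem MJ_9 : MJ.mulVec (vec 1 + vec 8) ≠ vec 1 + vec 8 := by decide +kernel
theorem MJ_b : b0 (vec 1) (vec 8 + MJ.mulVec (vec 8)) = 0 := by decide +kernel

theorem MI_P2 : q0 (vec 8 + MI.mulVec (vec 8)) = 0 := by decide +kernel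
theorem MI_P2' : MI.mulVec (vec 8) ≠ vec 8 := by decide +kernel
theorem MI_P1 : b0 (vec 64) (MI.mulVec (vec 64)) = 1 := by decide +kernel

/-- vectors fixed by `MJ` with letters `4, ..., 8` -/
theorem MJ_letters : ∀ l : Fin 9, 4 ≤ l.1 → ∃ m ∈ ([2, 24, 26, 28, 30] : List ℕ),
    MJ.mulVec (vec m) = vec m ∧ q0 (vec m) = 0 ∧ vec m ≠ 0 ∧ lt (vec m) = l := by
  decide +kernel

/-- span of the first four images under `MT` -/
def comb (v : V) (a b c d : ZMod 2) : V :=
  a • v + (b • MT.mulVec v + (c • MT.mulVec (MT.mulVec v) +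
    d • MT.mulVec (MT.mulVec (MT.mulVec v))))

/-- the fixed vectors of `MJ` -/
def fx (a b c d : ZMod 2) : V := a • vec 2 + (b • vec 4 + (c • vec 24 + d • vec 129))

theorem fx_surj : ∀ v : V, MJ.mulVec v = v → ∃ a b c d, v = fx a b c d := by
  decide +kernel

theorem irr4 : ∀ a b c d : ZMod 2, fx a b c d ≠ 0 →
    (∃ a' b' c' d', vec 2 = comb (fx a b c d) a' b' c' d') ∧
    (∃ a' b' c' d', vec 4 = comb (fx a b c d) a' b' c' d') ∧
    (∃ a' b' c' d', vec 24 = comb (fx a b c d) a' b' c' d') ∧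
    (∃ a' b' c' d', vec 129 = comb (fx a b c d) a' b' c' d') := by
  decide +kernel

/-- a nonzero additive group of fixed vectors of `MJ` stable under `MT` contains all of them -/
theorem irr (W : AddSubgroup V) (hT : ∀ w ∈ W, MT.mulVec w ∈ W) (v : V) (hv : v ∈ W)
    (hv0 : v ≠ 0) (hfix : MJ.mulVec v = v) (w : V) (hw : MJ.mulVec w = w) : w ∈ W := by
  have hsm : ∀ (a : ZMod 2) (x : V), x ∈ W → a • x ∈ W := by
    intro a x hx
    rcases zmod2 a with rfl | rfl
    · rw [zero_smul]; exact W.zero_mem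
    · rw [one_smul]; exact hx
  have hcomb : ∀ a b c d, comb v a b c d ∈ W := by
    intro a b c d
    exact W.add_mem (hsm _ _ hv) (W.add_mem (hsm _ _ (hT _ hv)) (W.add_mem
      (hsm _ _ (hT _ (hT _ hv))) (hsm _ _ (hT _ (hT _ (hT _ hv))))))
  obtain ⟨a, b, c, d, rfl⟩ := fx_surj v hfix
  obtain ⟨⟨a1, b1, c1, d1, h1⟩, ⟨a2, b2, c2, d2, h2⟩, ⟨a3, b3, c3, d3, h3⟩,
    ⟨a4, b4, c4, d4, h4⟩⟩ := irr4 a b c d hv0
  obtain ⟨a', b', c', d', rfl⟩ := fx_surj w hw
  refine W.add_mem (hsm _ _ ?_) (W.add_mem (hsm _ _ ?_) (W.add_mem (hsm _ _ ?_) (hsm _ _ ?_)))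
  · rw [h1]; exact hcomb _ _ _ _
  · rw [h2]; exact hcomb _ _ _ _
  · rw [h3]; exact hcomb _ _ _ _
  · rw [h4]; exact hcomb _ _ _ _

/-- an even permutation fixing the letters `0, 4, ..., 8` whose fourth power is trivial -/
theorem perm_trivial (a : alternatingGroup (Fin 9)) (h0 : a.1 0 = 0)
    (h : ∀ l : Fin 9, 4 ≤ l.1 → a.1 l = l) (h4 : a ^ 4 = 1) : a = 1 := by
  by_contra hne
  have h4' : a.1 ^ 4 = 1 := by
    have := congrArg Subtype.val h4
    simpa using this
  have hsupp : a.1.support ⊆ {1, 2, 3} := by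
    intro x hx
    rw [Perm.mem_support] at hx
    have h1 : x ≠ 0 := by rintro rfl; exact hx h0
    have h2 : ¬ 4 ≤ x.1 := fun h' => hx (h x h')
    simp only [Finset.mem_insert, Finset.mem_singleton]
    have h3 : x.1 ≠ 0 := fun h' => h1 (Fin.ext h')
    have h5 : x.1 = 1 ∨ x.1 = 2 ∨ x.1 = 3 := by omega
    rcases h5 with h' | h' | h'
    · left; exact Fin.ext h'
    · right; left; exact Fin.ext h'
    · right; right; exact Fin.ext h'
  have hcard : a.1.support.card ≤ 3 := (Finset.card_le_card hsupp).trans (by decide)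
  have hsum := Perm.sum_cycleType a.1
  have hne0 : a.1.cycleType ≠ 0 := by
    rw [Ne, Perm.cycleType_eq_zero]
    intro h'; exact hne (Subtype.ext h')
  obtain ⟨n, hn⟩ := Multiset.exists_mem_of_ne_zero hne0
  have hn2 := Perm.two_le_of_mem_cycleType hn
  have hnd : n ∣ 4 := (Perm.dvd_of_mem_cycleType hn).trans (orderOf_dvd_of_pow_eq_one h4')
  have hn3 : n ≤ 3 := (Multiset.le_sum_of_mem hn).trans (by rw [hsum]; exact hcard)
  have hn' : n = 2 := by
    interval_cases n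
    · rfl
    · norm_num at hnd
  subst hn'
  have h1 : a.1.cycleType = 2 ::ₘ a.1.cycleType.erase 2 := (Multiset.cons_erase hn).symm
  have hr0 : a.1.cycleType.erase 2 = 0 := by
    by_contra hr0
    obtain ⟨m, hm⟩ := Multiset.exists_mem_of_ne_zero hr0
    have hm2 := Perm.two_le_of_mem_cycleType (Multiset.mem_of_mem_erase hm)
    have h5 := Multiset.le_sum_of_mem hm
    have h6 : a.1.cycleType.sum = 2 + (a.1.cycleType.erase 2).sum := by
      rw [h1, Multiset.sum_cons, Multiset.erase_cons_head]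
    omega
  have hs : Perm.sign a.1 = 1 := a.2
  rw [Perm.sign_of_cycleType, h1, hr0] at hs
  revert hs
  decide

end Cfsg.Agent.ThType.FusSFacts
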