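import Cfsg.Agent.ThType.SpinFacts
import Mathlib.LinearAlgebra.BilinearForm.Orthogonal
import Mathlib.Tactic

/-!
# The spin module as a representation of `A₉` (project R05, helper935)

For every homomorphism `ρ : A₉ →* Matrix` with `ρ (cyc k) = X k`: invariance of the forms, the
letter map is equivariant, transitivity on the 135 singular vectors, recognition of the fifteen
vectors with a given letter.
-/

set_option autoImplicit false

namespace Cfsg.Agent.ThType.SpinRep

open Equiv Cfsg.Agent.ThType.SpinData Cfsg.Agent.ThType.SpinFacts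

/-- induction over `A₉` -/
theorem cyc_induction {P : alternatingGroup (Fin 9) → Prop} (h1 : P 1) (hk : ∀ k, P (cyc k))
    (hm : ∀ x y, P x → P y → P (x * y)) (g : alternatingGroup (Fin 9)) : P g := by
  have hi : ∀ x, P x → P x⁻¹ := by
    intro x hx
    have hp : ∀ n : ℕ, P (x ^ n) := by
      intro n
      induction n with
      | zero => rw [pow_zero]; exact h1
      | succ n ih => rw [pow_succ]; exact hm _ _ ih hx
    have h2 : x ^ (orderOf x - 1) * x = 1 := by
      rw [← pow_succ, Nat.sub_add_cancel (orderOf_pos x), pow_orderOf_eq_one]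
    rw [← eq_inv_of_mul_eq_one_left h2]
    exact hp _
  have hg : g ∈ Subgroup.closure (Set.range cyc) := by rw [closure_cyc]; trivial
  refine Subgroup.closure_induction (p := fun x _ => P x) ?_ h1 (fun x y _ _ => hm x y)
    (fun x _ => hi x) hg
  rintro x ⟨k, rfl⟩
  exact hk k

section rep

variable {ρ : alternatingGroup (Fin 9) →* Matrix (Fin 8) (Fin 8) (ZMod 2)}

theorem rho_one (v : V) : (ρ 1).mulVec v = v := by
  rw [map_one, Matrix.one_mulVec]

theorem rho_mul (g h : alternatingGroup (Fin 9)) (v : V) :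
    (ρ (g * h)).mulVec v = (ρ g).mulVec ((ρ h).mulVec v) := by
  rw [map_mul, Matrix.mulVec_mulVec]

theorem rho_inv_rho (g : alternatingGroup (Fin 9)) (v : V) :
    (ρ g⁻¹).mulVec ((ρ g).mulVec v) = v := by
  rw [← rho_mul, inv_mul_cancel, rho_one]

theorem rho_rho_inv (g : alternatingGroup (Fin 9)) (v : V) :
    (ρ g).mulVec ((ρ g⁻¹).mulVec v) = v := by
  rw [← rho_mul, mul_inv_cancel, rho_one]

theorem rho_inj (g : alternatingGroup (Fin 9)) {v w : V}
    (h : (ρ g).mulVec v = (ρ g).mulVec w) : v = w := by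
  rw [← rho_inv_rho (ρ := ρ) g v, h, rho_inv_rho]

theorem rho_ne_zero (g : alternatingGroup (Fin 9)) {v : V} (hv : v ≠ 0) :
    (ρ g).mulVec v ≠ 0 := by
  intro h
  apply hv
  apply rho_inj (ρ := ρ) g
  rw [h, Matrix.mulVec_zero]

variable (hρ : ∀ k, ρ (cyc k) = X k)

include hρ

theorem q0_rho (g : alternatingGroup (Fin 9)) : ∀ v : V, q0 ((ρ g).mulVec v) = q0 v := by
  refine cyc_induction (P := fun g => ∀ v : V, q0 ((ρ g).mulVec v) = q0 v) ?_ ?_ ?_ g
  · intro v; rw [rho_one]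
  · intro k v; rw [hρ, q0_X]
  · intro x y hx hy v
    rw [rho_mul, hx, hy]

theorem b0_rho (g : alternatingGroup (Fin 9)) (v w : V) :
    b0 ((ρ g).mulVec v) ((ρ g).mulVec w) = b0 v w := by
  have h := b0_eq ((ρ g).mulVec v) ((ρ g).mulVec w)
  rw [← Matrix.mulVec_add, q0_rho hρ, q0_rho hρ, q0_rho hρ, b0_eq] at h
  exact (add_left_cancel h).symm

theorem lt_rho (g : alternatingGroup (Fin 9)) : ∀ v : V, q0 v = 0 → v ≠ 0 →
    lt ((ρ g).mulVec v) = g.1 (lt v) := by
  refine cyc_induction (P := fun g => ∀ v : V, q0 v = 0 → v ≠ 0 →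
    lt ((ρ g).mulVec v) = g.1 (lt v)) ?_ ?_ ?_ g
  · intro v _ _; rw [rho_one]; rfl
  · intro k v h0 hv; rw [hρ, lt_X k v h0 hv]; rfl
  · intro x y hx hy v h0 hv
    rw [rho_mul, hx _ (by rw [q0_rho hρ]; exact h0) (rho_ne_zero y hv), hy v h0 hv]
    rfl

/-- `A₉` is transitive on the nonzero singular vectors -/
theorem trans_vec (v : V) (h0 : q0 v = 0) (hv : v ≠ 0) :
    ∃ g, (ρ g).mulVec (vec 1) = v := by
  have hm := msk_lt v
  have h1 := reach_all (msk v) hm (msk_ne_zero hv) ((q0_vec _ hm).1 (by rw [vec_msk]; exact h0))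
  rw [memb_iff] at h1
  have h2 := orb_prop (fun m => m < 256 ∧ ∃ g, (ρ g).mulVec (vec 1) = vec m)
    [ap 0, ap 1, ap 2, ap 3, ap 4, ap 5, ap 6] (by
      intro f hf
      have : ∃ k : Fin 7, f = ap k := by
        simp only [List.mem_cons, List.not_mem_nil, or_false] at hf
        rcases hf with h | h | h | h | h | h | h <;> exact ⟨_, h⟩
      obtain ⟨k, rfl⟩ := this
      rintro m ⟨hm, g, hg⟩
      refine ⟨ap_lt _ _, cyc k * g, ?_⟩
      rw [rho_mul, hg, hρ, vec_ap k m hm]) 4 [1] (by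
      intro x hx
      rw [List.mem_singleton] at hx
      subst hx
      exact ⟨by norm_num, 1, rho_one _⟩) _ h1
  obtain ⟨_, g, hg⟩ := h2
  exact ⟨g, by rw [hg, vec_msk]⟩

theorem trans_vec' (v w : V) (h0 : q0 v = 0) (hv : v ≠ 0) (h0' : q0 w = 0) (hw : w ≠ 0) :
    ∃ g, (ρ g).mulVec v = w := by
  obtain ⟨g, hg⟩ := trans_vec hρ v h0 hv
  obtain ⟨h, hh⟩ := trans_vec hρ w h0' hw
  exact ⟨h * g⁻¹, by rw [rho_mul, ← hg, rho_inv_rho, hh]⟩

end rep

theorem q0_vec1 : q0 (vec 1) = 0 := by decide +kernel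

theorem vec1_ne : vec 1 ≠ 0 := by decide +kernel

theorem lt_vec1 : lt (vec 1) = 8 := by decide +kernel

/-- an element moving letter `8` to `l` -/
theorem exists_letter (l : Fin 9) : ∃ g : alternatingGroup (Fin 9), g.1 8 = l := by
  have h : ∀ l : Fin 9, l = 8 ∨ l = 0 ∨ l = 1 ∨ ∃ k : Fin 7, l = ⟨k.1 + 2, by omega⟩ := by decide
  rcases h l with rfl | rfl | rfl | ⟨k, rfl⟩
  · exact ⟨1, rfl⟩
  · exact ⟨cyc 6, by decide⟩
  · exact ⟨cyc 6 * cyc 6, by decide⟩
  · exact ⟨cyc k * (cyc 6 * cyc 6), by revert k; decide⟩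

/-- the fifteen singular vectors with a given letter, together with zero -/
def Wl (l : Fin 9) (v : V) : Prop := v = 0 ∨ (q0 v = 0 ∧ lt v = l)

theorem W8_q0 {v : V} (h : W8 v) : q0 v = 0 := by
  obtain ⟨h4, h5, h6, h7⟩ := h
  simp only [q0, h4, h5, h6, h7, mul_zero, add_zero]

theorem W8_b0 {v w : V} (h : W8 v) (h' : W8 w) : b0 v w = 0 := by
  obtain ⟨h4, h5, h6, h7⟩ := h
  obtain ⟨k4, k5, k6, k7⟩ := h'
  simp only [b0, h4, h5, h6, h7, k4, k5, k6, k7, mul_zero, zero_mul, add_zero]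

theorem Wl_eight (v : V) : Wl 8 v ↔ W8 v := by
  by_cases hv : v = 0
  · subst hv
    exact ⟨fun _ => ⟨rfl, rfl, rfl, rfl⟩, fun _ => Or.inl rfl⟩
  · constructor
    · rintro (h | ⟨h0, hl⟩)
      · exact absurd h hv
      · exact (lt_eq_eight_iff v h0 hv).1 hl
    · intro h
      exact Or.inr ⟨W8_q0 h, (lt_eq_eight_iff v (W8_q0 h) hv).2 h⟩

theorem W8_perp {v : V} (h : ∀ w, W8 w → b0 v w = 0) : W8 v := by
  have e (i : Fin 4) := h (fun j => if j.1 = i.1 then 1 else 0) (by
    revert i; decide)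
  refine ⟨?_, ?_, ?_, ?_⟩
  · have := e 0; simpa [b0] using this
  · have := e 1; simpa [b0] using this
  · have := e 2; simpa [b0] using this
  · have := e 3; simpa [b0] using this

section rep2

variable {ρ : alternatingGroup (Fin 9) →* Matrix (Fin 8) (Fin 8) (ZMod 2)}
  (hρ : ∀ k, ρ (cyc k) = X k)

include hρ

theorem Wl_rho (g : alternatingGroup (Fin 9)) (l : Fin 9) (v : V) :
    Wl (g.1 l) ((ρ g).mulVec v) ↔ Wl l v := by
  by_cases hv : v = 0
  · subst hv
    rw [Matrix.mulVec_zero]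
    exact ⟨fun _ => Or.inl rfl, fun _ => Or.inl rfl⟩
  · unfold Wl
    rw [q0_rho hρ]
    constructor
    · rintro (h | ⟨h0, hl⟩)
      · exact absurd h (rho_ne_zero g hv)
      · rw [lt_rho hρ g v h0 hv] at hl
        exact Or.inr ⟨h0, g.1.injective hl⟩
    · rintro (h | ⟨h0, hl⟩)
      · exact absurd h hv
      · exact Or.inr ⟨h0, by rw [lt_rho hρ g v h0 hv, hl]⟩

omit hρ in
theorem W8_add {v w : V} (hv : W8 v) (hw : W8 w) : W8 (v + w) := by
  obtain ⟨h4, h5, h6, h7⟩ := hv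
  obtain ⟨k4, k5, k6, k7⟩ := hw
  refine ⟨?_, ?_, ?_, ?_⟩ <;> rw [Pi.add_apply]
  · rw [h4, k4, add_zero]
  · rw [h5, k5, add_zero]
  · rw [h6, k6, add_zero]
  · rw [h7, k7, add_zero]

theorem Wl_add (l : Fin 9) {v w : V} (hv : Wl l v) (hw : Wl l w) : Wl l (v + w) := by
  obtain ⟨g, rfl⟩ := exists_letter l
  rw [← rho_rho_inv (ρ := ρ) g v] at hv ⊢
  rw [← rho_rho_inv (ρ := ρ) g w] at hw ⊢
  rw [Wl_rho hρ, Wl_eight] at hv hw
  rw [← Matrix.mulVec_add, Wl_rho hρ, Wl_eight]
  exact W8_add hv hw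

theorem Wl_b0 (l : Fin 9) {v w : V} (hv : Wl l v) (hw : Wl l w) : b0 v w = 0 := by
  obtain ⟨g, rfl⟩ := exists_letter l
  rw [← rho_rho_inv (ρ := ρ) g v] at hv ⊢
  rw [← rho_rho_inv (ρ := ρ) g w] at hw ⊢
  rw [Wl_rho hρ, Wl_eight] at hv hw
  rw [b0_rho hρ]
  exact W8_b0 hv hw

theorem Wl_perp (l : Fin 9) {v : V} (h : ∀ w, Wl l w → b0 v w = 0) : Wl l v := by
  obtain ⟨g, rfl⟩ := exists_letter l
  rw [← rho_rho_inv (ρ := ρ) g v, Wl_rho hρ, Wl_eight]
  refine W8_perp fun w hw => ?_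
  rw [← b0_rho hρ g, rho_rho_inv]
  exact h _ ((Wl_rho hρ g 8 w).2 ((Wl_eight w).2 hw))

omit hρ in
theorem card_W8 : Nat.card {v : V // W8 v} = 16 := by
  rw [Nat.card_eq_fintype_card]
  decide +kernel

theorem card_Wl (l : Fin 9) : Nat.card {v : V // Wl l v} = 16 := by
  obtain ⟨g, rfl⟩ := exists_letter l
  rw [← card_W8]
  refine (Nat.card_congr ?_).symm
  exact {
    toFun := fun v => ⟨(ρ g).mulVec v.1, (Wl_rho hρ g 8 v.1).2 ((Wl_eight _).2 v.2)⟩
    invFun := fun v => ⟨(ρ g⁻¹).mulVec v.1, by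
      rw [← Wl_eight, ← Wl_rho hρ g, rho_rho_inv]; exact v.2⟩
    left_inv := fun v => Subtype.ext (rho_inv_rho g _)
    right_inv := fun v => Subtype.ext (rho_rho_inv g _) }

/-- the elements of a stable set containing a vector of a letter different from that of `e0` -/
theorem orbit_bound_vec1 (W : Finset V)
    (hW : ∀ g, (ρ g).mulVec (vec 1) = vec 1 → ∀ w ∈ W, (ρ g).mulVec w ∈ W)
    (v : V) (hvW : v ∈ W) (h0 : q0 v = 0) (hv : v ≠ 0) (hl : lt v ≠ 8) :
    15 ≤ (W.filter fun w => w ≠ 0 ∧ lt w ≠ 8).card := by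
  have hm := msk_lt v
  have hq := (q0_vec _ hm).1 (by rw [vec_msk]; exact h0)
  have h16 : 16 ≤ msk v := by
    by_contra hlt
    apply hl
    have h1 := lt_eight_masks (msk v) hm (msk_ne_zero hv) hq
    exact Fin.ext (h1.2 (by omega))
  have hbig := orb_large (msk v) hm (msk_ne_zero hv) hq h16
  have hnd := orb_nodup st 3 [msk v] (List.nodup_singleton _)
  -- the four stabiliser elements as group elements
  have hst : ∀ f ∈ st, ∃ g : alternatingGroup (Fin 9), ∀ m < 256,
      f m < 256 ∧ vec (f m) = (ρ g).mulVec (vec m) := by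
    intro f hf
    simp only [st, List.mem_cons, List.not_mem_nil, or_false] at hf
    rcases hf with rfl | rfl | rfl | rfl
    · refine ⟨cyc 3 * cyc 0, fun m hm => ⟨ap_lt _ _, ?_⟩⟩
      rw [rho_mul, hρ, hρ, ← vec_ap _ _ hm, ← vec_ap _ _ (ap_lt _ _)]
    · refine ⟨cyc 5 * cyc 1, fun m hm => ⟨ap_lt _ _, ?_⟩⟩
      rw [rho_mul, hρ, hρ, ← vec_ap _ _ hm, ← vec_ap _ _ (ap_lt _ _)]
    · refine ⟨cyc 4 * cyc 2, fun m hm => ⟨ap_lt _ _, ?_⟩⟩
      rw [rho_mul, hρ, hρ, ← vec_ap _ _ hm, ← vec_ap _ _ (ap_lt _ _)]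
    · refine ⟨cyc 3 * (cyc 2 * (cyc 1 * cyc 0)), fun m hm => ⟨ap_lt _ _, ?_⟩⟩
      rw [rho_mul, rho_mul, rho_mul, hρ, hρ, hρ, hρ, ← vec_ap _ _ hm, ← vec_ap _ _ (ap_lt _ _),
        ← vec_ap _ _ (ap_lt _ _), ← vec_ap _ _ (ap_lt _ _)]
  have hP := orb_prop (fun m => m < 256 ∧ vec m ∈ W ∧ q0 (vec m) = 0 ∧ vec m ≠ 0 ∧ lt (vec m) ≠ 8)
    st (by
      rintro f hf m ⟨hm, hmW, hm0, hmne, hml⟩
      obtain ⟨g, hg⟩ := hst f hf
      have hg1 : (ρ g).mulVec (vec 1) = vec 1 := by
        rw [← (hg 1 (by norm_num)).2, st_fix f hf]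
      have hg8 : g.1 8 = 8 := by
        rw [← lt_vec1, ← lt_rho hρ g _ q0_vec1 vec1_ne, hg1]
      obtain ⟨h1, h2⟩ := hg m hm
      rw [h2]
      refine ⟨h1, hW g hg1 _ hmW, by rw [q0_rho hρ]; exact hm0, rho_ne_zero g hmne, ?_⟩
      rw [lt_rho hρ g _ hm0 hmne]
      intro h
      apply hml
      apply g.1.injective
      rw [h, hg8]) 3 [msk v] (by
      intro x hx
      rw [List.mem_singleton] at hx
      subst hx
      rw [vec_msk]
      exact ⟨hm, hvW, h0, hv, hl⟩)
  refine hbig.trans ?_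
  rw [← List.toFinset_card_of_nodup hnd]
  refine Finset.card_le_card_of_injOn vec ?_ ?_
  · intro m hm
    rw [Finset.mem_coe, List.mem_toFinset] at hm
    obtain ⟨_, h2, _, h4, h5⟩ := hP m hm
    rw [Finset.mem_coe, Finset.mem_filter]
    exact ⟨h2, h4, h5⟩
  · intro m hm n hn h
    rw [Finset.mem_coe, List.mem_toFinset] at hm hn
    rw [← msk_vec m (hP m hm).1, ← msk_vec n (hP n hn).1, h]

/-- recognition of `Wl`: an additive set of size at most 16 consisting of singular vectors which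
contains `c` and is stable under the stabiliser of `c` -/
theorem Wl_of_stable (W : Finset V) (hcard : W.card ≤ 16) (c : V) (hc : c ≠ 0) (hcW : c ∈ W)
    (h0W : (0 : V) ∈ W) (hsing : ∀ w ∈ W, q0 w = 0)
    (hW : ∀ g, (ρ g).mulVec c = c → ∀ w ∈ W, (ρ g).mulVec w ∈ W) :
    ∀ w ∈ W, Wl (lt c) w := by
  obtain ⟨g, rfl⟩ := trans_vec hρ c (hsing c hcW) hc
  intro w hw
  by_contra hcon
  let W' : Finset V := W.image (ρ g⁻¹).mulVec
  have hmem : ∀ u, u ∈ W' ↔ (ρ g).mulVec u ∈ W := by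
    intro u
    rw [Finset.mem_image]
    constructor
    · rintro ⟨x, hx, rfl⟩
      rw [rho_rho_inv]; exact hx
    · intro h
      exact ⟨_, h, rho_inv_rho g u⟩
  have hwne : w ≠ 0 := fun h => hcon (Or.inl h)
  have hq : q0 w = 0 := hsing w hw
  have hlg : lt ((ρ g).mulVec (vec 1)) = g.1 8 := by
    rw [lt_rho hρ g _ q0_vec1 vec1_ne, lt_vec1]
  have hl : lt ((ρ g⁻¹).mulVec w) ≠ 8 := by
    intro h
    apply hcon
    refine Or.inr ⟨hq, ?_⟩
    rw [hlg, ← h, ← lt_rho hρ g _ (by rw [q0_rho hρ]; exact hq) (rho_ne_zero _ hwne), rho_rho_inv]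
  have h15 := orbit_bound_vec1 hρ W' (by
      intro k hk u hu
      rw [hmem] at hu ⊢
      have := hW (g * k * g⁻¹) (by
        rw [rho_mul, rho_mul, rho_inv_rho, hk]) _ hu
      rwa [rho_mul, rho_mul, rho_inv_rho] at this)
    ((ρ g⁻¹).mulVec w) ((hmem _).2 (by rw [rho_rho_inv]; exact hw))
    (by rw [q0_rho hρ]; exact hq) (rho_ne_zero _ hwne) hl
  have hsub : (W'.filter fun w => w ≠ 0 ∧ lt w ≠ 8) ⊆ W' \ {0, vec 1} := by
    intro u hu
    rw [Finset.mem_filter] at hu
    rw [Finset.mem_sdiff, Finset.mem_insert, Finset.mem_singleton, not_or]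
    refine ⟨hu.1, hu.2.1, fun h => hu.2.2 (by rw [h, lt_vec1])⟩
  have h1 := Finset.card_le_card hsub
  have hpair : ({0, vec 1} : Finset V) ⊆ W' := by
    intro u hu
    rw [Finset.mem_insert, Finset.mem_singleton] at hu
    rw [hmem]
    rcases hu with rfl | rfl
    · rw [Matrix.mulVec_zero]; exact h0W
    · exact hcW
  rw [Finset.card_sdiff_of_subset hpair, Finset.card_pair vec1_ne.symm] at h1
  have h2 : W'.card ≤ W.card := Finset.card_image_le
  omega

/-- every nonzero singular vector is fixed by an element of order 7 -/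
theorem exists_seven (c : V) (h0 : q0 c = 0) (hc : c ≠ 0) :
    ∃ σ : alternatingGroup (Fin 9), orderOf σ = 7 ∧ (ρ σ).mulVec c = c := by
  obtain ⟨g, rfl⟩ := trans_vec hρ c h0 hc
  have h7 : orderOf (cyc 3 * (cyc 2 * (cyc 1 * (cyc 0 * (cyc 2 * cyc 4))))) = 7 := by
    have : Fact (Nat.Prime 7) := ⟨by norm_num⟩
    apply orderOf_eq_prime
    · apply Subtype.ext
      decide +kernel
    · intro h
      have h2 := congrArg Subtype.val h
      revert h2
      decide +kernel
  have hf : (ρ (cyc 3 * (cyc 2 * (cyc 1 * (cyc 0 * (cyc 2 * cyc 4)))))).mulVec (vec 1) = vec 1 := by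
    simp only [rho_mul, hρ]
    decide +kernel
  refine ⟨g * (cyc 3 * (cyc 2 * (cyc 1 * (cyc 0 * (cyc 2 * cyc 4))))) * g⁻¹, ?_, ?_⟩
  · exact (MulEquiv.orderOf_eq (MulAut.conj g) _).trans h7
  · rw [rho_mul, rho_mul, rho_inv_rho, hf]

end rep2

/-! ### totally isotropic subspaces have at most 16 elements -/

/-- the polar form as a bilinear form -/
def B : LinearMap.BilinForm (ZMod 2) V :=
  LinearMap.mk₂ (ZMod 2) b0
    (by intro a b c; simp only [b0, Pi.add_apply]; ring)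
    (by intro a b c; simp only [b0, Pi.smul_apply, smul_eq_mul]; ring)
    (by intro a b c; simp only [b0, Pi.add_apply]; ring)
    (by intro a b c; simp only [b0, Pi.smul_apply, smul_eq_mul]; ring)

theorem B_apply (v w : V) : B v w = b0 v w := rfl

theorem ker_B : LinearMap.ker B = ⊥ := by
  rw [LinearMap.ker_eq_bot']
  intro v hv
  have e (i : Fin 8) : b0 v (fun j => if j = i then 1 else 0) = 0 := by
    rw [← B_apply, hv]; rfl
  funext i
  fin_cases i
  · have := e 4; simpa [b0] using this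
  · have := e 5; simpa [b0] using this
  · have := e 6; simpa [b0] using this
  · have := e 7; simpa [b0] using this
  · have := e 0; simpa [b0] using this
  · have := e 1; simpa [b0] using this
  · have := e 2; simpa [b0] using this
  · have := e 3; simpa [b0] using this

theorem card_isotropic (W : Submodule (ZMod 2) V) (h : ∀ v ∈ W, ∀ w ∈ W, b0 v w = 0) :
    Nat.card W ≤ 16 := by
  have h1 : W ≤ B.orthogonal W := by
    intro v hv
    rw [LinearMap.BilinForm.mem_orthogonal_iff]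
    intro w hw
    exact h w hw v hv
  have h2 := Submodule.finrank_mono h1
  have h3 := LinearMap.BilinForm.finrank_add_finrank_orthogonal' (B := B) W
  rw [ker_B, inf_bot_eq, finrank_bot, add_zero] at h3
  have h4 : Module.finrank (ZMod 2) V = 8 := by simp
  have h5 : Module.finrank (ZMod 2) W ≤ 4 := by omega
  have : Fact (Nat.Prime 2) := ⟨Nat.prime_two⟩
  rw [Module.natCard_eq_pow_finrank (K := ZMod 2), Nat.card_zmod]
  calc 2 ^ Module.finrank (ZMod 2) W ≤ 2 ^ 4 := Nat.pow_le_pow_right (by norm_num) h5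
    _ = 16 := by norm_num

/-! ### elements of order 7 in `A₉` centralise no involution -/

theorem comm_seven (σ τ : alternatingGroup (Fin 9)) (hσ : orderOf σ = 7) (hτ : τ * τ = 1)
    (hc : Commute σ τ) : τ = 1 := by
  by_contra hne
  have h2 : orderOf τ = 2 := by
    have : Fact (Nat.Prime 2) := ⟨Nat.prime_two⟩
    exact orderOf_eq_prime (by rw [pow_two]; exact hτ) hne
  have h14 : orderOf (σ * τ) = 14 := by
    rw [hc.orderOf_mul_eq_mul_orderOf_of_coprime (by rw [hσ, h2]; norm_num), hσ, h2]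
  set g : Perm (Fin 9) := (σ * τ).1 with hg
  have hg14 : orderOf g = 14 := by rw [hg, Subgroup.orderOf_coe, h14]
  have hsign : Perm.sign g = 1 := (σ * τ).2
  have hsum : g.cycleType.sum ≤ 9 := by
    have := Perm.sum_cycleType_le g
    simpa using this
  have hle : ∀ n ∈ g.cycleType, n ≤ 9 := fun n hn =>
    (Multiset.le_sum_of_mem hn).trans hsum
  have hlcm := Perm.lcm_cycleType g
  rw [hg14] at hlcm
  have hprime : ∀ p : ℕ, p.Prime → p ∣ 14 → ∃ n ∈ g.cycleType, p ∣ n := by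
    intro p hp hd
    rw [← hlcm] at hd
    by_contra hcon
    push Not at hcon
    have : ∀ s : Multiset ℕ, (∀ n ∈ s, ¬ p ∣ n) → ¬ p ∣ s.lcm := by
      intro s
      induction s using Multiset.induction_on with
      | empty =>
        intro _ h
        rw [Multiset.lcm_zero] at h
        exact hp.one_lt.ne' (Nat.dvd_one.1 h)
      | cons a s ih =>
        intro hs h
        rw [Multiset.lcm_cons] at h
        have h' : p ∣ a * s.lcm := h.trans (lcm_dvd_mul _ _)
        rcases (Nat.Prime.dvd_mul hp).1 h' with h1 | h1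
        · exact hs a (Multiset.mem_cons_self _ _) h1
        · exact ih (fun n hn => hs n (Multiset.mem_cons_of_mem hn)) h1
    exact this _ hcon hd
  obtain ⟨a, ha, ha7⟩ := hprime 7 (by norm_num) (by norm_num)
  obtain ⟨b, hb, hb2⟩ := hprime 2 (by norm_num) (by norm_num)
  have ha2 := Perm.two_le_of_mem_cycleType ha
  have hb2' := Perm.two_le_of_mem_cycleType hb
  have ha' : a = 7 := by
    have := hle a ha
    obtain ⟨k, rfl⟩ := ha7
    omega
  subst ha'
  have hb7 : b ≠ 7 := by rintro rfl; norm_num at hb2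
  have h1 : g.cycleType = 7 ::ₘ g.cycleType.erase 7 := (Multiset.cons_erase ha).symm
  have hb' : b ∈ g.cycleType.erase 7 := (Multiset.mem_erase_of_ne hb7).2 hb
  have h3 : g.cycleType.erase 7 = b ::ₘ (g.cycleType.erase 7).erase b :=
    (Multiset.cons_erase hb').symm
  rw [h3] at h1
  set r := (g.cycleType.erase 7).erase b with hr
  have hs : 7 + (b + r.sum) ≤ 9 := by
    rw [h1, Multiset.sum_cons, Multiset.sum_cons] at hsum
    exact hsum
  have hb3 : b = 2 := by omega
  subst hb3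
  have hr0 : r = 0 := by
    by_contra hr0
    obtain ⟨n, hn⟩ := Multiset.exists_mem_of_ne_zero hr0
    have h5 : n ∈ g.cycleType := by
      rw [h1]
      exact Multiset.mem_cons_of_mem (Multiset.mem_cons_of_mem hn)
    have h6 := Perm.two_le_of_mem_cycleType h5
    have h7 := Multiset.le_sum_of_mem hn
    omega
  rw [hr0] at h1
  rw [Perm.sign_of_cycleType, h1] at hsign
  revert hsign
  decide

end Cfsg.Agent.ThType.SpinRep
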