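import Cfsg.Agent.ThType.NatMod
import Cfsg.Agent.ThType.SpinRep

/-!
# The natural module of `A₉` over `F₂`

A representation of `A₉` on a space of order 256 in which the 3-cycles have commutator spaces of
order 4 is the module of vectors of coordinate sum zero in `F₂⁹`.
-/

set_option autoImplicit false

namespace Cfsg.Agent.ThType.NatGroup

open Equiv Cfsg.Agent.ThType.SpinData Cfsg.Agent.ThType.Fock Cfsg.Agent.ThType.NatMod

/-- the alternating group of degree 9 -/
abbrev A9 : Type := alternatingGroup (Fin 9)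

section ops

variable {W : Type*} [AddCommGroup W] [Module (ZMod 2) W]

theorem four {g : Module.End (ZMod 2) W} (h4 : Nat.card {v : W // InK g v} = 4) {v u : W}
    (hv : InK g v) (h0 : v ≠ 0) (hu : InK g u) : u = 0 ∨ u = v ∨ u = g v ∨ u = g v + v := by
  classical
  by_contra hne
  push Not at hne
  obtain ⟨n0, n1, n2, n3⟩ := hne
  have hfin : Finite {v : W // InK g v} := Nat.finite_of_card_ne_zero (by rw [h4]; norm_num)
  have := Fintype.ofFinite {v : W // InK g v}
  have m1 : g v ≠ v := fun h => h0 (eq_zero_of_fix hv h)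
  have m2 : g v ≠ 0 := by
    intro h
    have := K3 hv
    rw [h, map_zero, map_zero] at this
    exact h0 this.symm
  have m3 : g v + v ≠ 0 := fun h => m1 (eq_of_add_eq_zero h)
  have m4 : g v + v ≠ v := fun h => m2 (by simpa using h)
  have m5 : g v + v ≠ g v := fun h => h0 (by simpa using h)
  have hle : ({⟨0, inK_zero g⟩, ⟨v, hv⟩, ⟨g v, hv.map⟩, ⟨g v + v, hv.map.add hv⟩, ⟨u, hu⟩} :
      Finset {v : W // InK g v}).card ≤ 4 := by
    rw [← h4, Nat.card_eq_fintype_card]; exact Finset.card_le_univ _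
  rw [Finset.card_insert_of_notMem, Finset.card_insert_of_notMem, Finset.card_insert_of_notMem,
    Finset.card_insert_of_notMem, Finset.card_singleton] at hle
  · omega
  · simpa using Ne.symm n3
  · simpa using ⟨h0, Ne.symm n2⟩
  · simpa using ⟨Ne.symm m1, m2, Ne.symm n1⟩
  · simpa using ⟨Ne.symm h0, Ne.symm m2, Ne.symm m3, Ne.symm n0⟩

theorem pow_eq {g : Module.End (ZMod 2) W} {u : W} (hu : InK g u) (h0 : u ≠ 0) {n : ℕ}
    (h : (g ^ n) u = u) : 3 ∣ n := by
  have h3 : ∀ m : ℕ, (g ^ (3 * m)) u = u := by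
    intro m
    induction m with
    | zero => simp
    | succ m ih =>
      have e : 3 * (m + 1) = 3 * m + 3 := by ring
      rw [e, pow_add, Module.End.mul_apply]
      have : (g ^ 3) u = u := by
        have := K3 hu
        simpa [pow_succ, Module.End.mul_apply] using this
      rw [this, ih]
  obtain ⟨m, r, hr, rfl⟩ : ∃ m r, r < 3 ∧ n = r + 3 * m :=
    ⟨n / 3, n % 3, Nat.mod_lt _ (by norm_num), by omega⟩
  rw [pow_add, Module.End.mul_apply, h3] at h
  have hr0 : r = 0 := by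
    interval_cases r
    · rfl
    · exact absurd (eq_zero_of_fix hu (by simpa using h)) h0
    · exfalso
      have h' : g (g u) = u := by simpa [pow_succ, Module.End.mul_apply] using h
      have h1 := K3 hu
      rw [h'] at h1
      exact h0 (eq_zero_of_fix hu h1)
  subst hr0
  exact ⟨m, by ring⟩

/-- an injective operator commuting with `g` acts on `[W,g]` of order 4 as a power of `g` -/
theorem act_pow {g y : Module.End (ZMod 2) W} (h4 : Nat.card {v : W // InK g v} = 4)
    (hc : ∀ v, y (g v) = g (y v)) (hinj : Function.Injective y) :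
    ∃ i, i < 3 ∧ ∀ u, InK g u → y u = (g ^ i) u := by
  have hmap : ∀ u, InK g u → InK g (y u) := by
    intro u hu
    unfold InK at *
    rw [← hc, ← hc, hu, map_add]
  have hfin : Finite {v : W // InK g v} := Nat.finite_of_card_ne_zero (by rw [h4]; norm_num)
  have hnt : ∃ v, InK g v ∧ v ≠ 0 := by
    by_contra hne
    push Not at hne
    have : Subsingleton {v : W // InK g v} :=
      ⟨fun a b => Subtype.ext ((hne a.1 a.2).trans (hne b.1 b.2).symm)⟩
    have := Nat.card_of_subsingleton (⟨0, inK_zero g⟩ : {v : W // InK g v})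
    omega
  obtain ⟨v, hv, h0⟩ := hnt
  have hy0 : y v ≠ 0 := fun h => h0 (hinj (by rw [h, map_zero]))
  have key : ∀ i : ℕ, y v = (g ^ i) v → ∀ u, InK g u → y u = (g ^ i) u := by
    intro i hi u hu
    have hcomm : ∀ a, g ((g ^ i) a) = (g ^ i) (g a) := by
      intro a
      rw [← Module.End.mul_apply, ← Module.End.mul_apply, ← pow_succ, ← pow_succ']
    rcases four h4 hv h0 hu with rfl | rfl | rfl | rfl
    · simp
    · exact hi
    · rw [hc, hi, hcomm]
    · rw [map_add, map_add, hc, hi, hcomm]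
  rcases four h4 hv h0 (hmap v hv) with h | h | h | h
  · exact absurd h hy0
  · exact ⟨0, by norm_num, key 0 (by simpa using h)⟩
  · exact ⟨1, by norm_num, key 1 (by simpa using h)⟩
  · refine ⟨2, by norm_num, key 2 ?_⟩
    rw [h]
    have : (g ^ 2) v = g (g v) := by simp [pow_succ, Module.End.mul_apply]
    rw [this]
    exact hv.symm

/-- three operators commuting with `g`, with pairwise products of order 2: the first acts trivially -/
theorem triv {g y y' y'' : Module.End (ZMod 2) W} (h4 : Nat.card {v : W // InK g v} = 4)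
    (c : ∀ v, y (g v) = g (y v)) (c' : ∀ v, y' (g v) = g (y' v))
    (c'' : ∀ v, y'' (g v) = g (y'' v)) (hi : Function.Injective y) (hi' : Function.Injective y')
    (hi'' : Function.Injective y'') (r1 : ∀ v, y (y' (y (y' v))) = v)
    (r2 : ∀ v, y (y'' (y (y'' v))) = v) (r3 : ∀ v, y' (y'' (y' (y'' v))) = v) {u : W}
    (hu : InK g u) : y u = u := by
  by_cases h0 : u = 0
  · rw [h0, map_zero]
  obtain ⟨i, hi3, ei⟩ := act_pow h4 c hi
  obtain ⟨j, hj3, ej⟩ := act_pow h4 c' hi'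
  obtain ⟨k, hk3, ek⟩ := act_pow h4 c'' hi''
  have hpow : ∀ (n : ℕ) (v : W), InK g v → InK g ((g ^ n) v) := by
    intro n
    induction n with
    | zero => intro v hv; simpa using hv
    | succ n ih => intro v hv; rw [pow_succ, Module.End.mul_apply]; exact ih _ hv.map
  have comb : ∀ {a b : Module.End (ZMod 2) W} {i j : ℕ}, (∀ u, InK g u → a u = (g ^ i) u) →
      (∀ u, InK g u → b u = (g ^ j) u) → a (b (a (b u))) = u → 3 ∣ (i + (j + (i + j))) := by
    intro a b i j ha hb h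
    apply pow_eq hu h0
    rw [hb u hu, ha _ (hpow j u hu), hb _ (hpow i _ (hpow j u hu)),
      ha _ (hpow j _ (hpow i _ (hpow j u hu)))] at h
    rw [pow_add, pow_add, pow_add]
    simpa only [Module.End.mul_apply] using h
  have d1 := comb ei ej (r1 u)
  have d2 := comb ei ek (r2 u)
  have d3 := comb ej ek (r3 u)
  have hi0 : i = 0 := by omega
  subst hi0
  simpa using ei u hu

theorem same_zero {g h : Module.End (ZMod 2) W} {v : W} (hg : InK g v) (hh : InK h v)
    (r : g (h (g (h v))) = v) (e : g v = h v) : v = 0 := by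
  have e1 : g (h v) = g v + v := by rw [← e]; exact hg
  have e2 : h (g v + v) = v + (h v + h v) := by
    rw [map_add, e, hh]; abel
  rw [e1, e2, add_self, add_zero] at r
  exact eq_zero_of_fix hg r

/-- two distinct nonzero elements of a space of order 4 -/
theorem four' {g : Module.End (ZMod 2) W} (h4 : Nat.card {v : W // InK g v} = 4) {w w' u : W}
    (hw : InK g w) (h0 : w ≠ 0) (hw' : InK g w') (h0' : w' ≠ 0) (hne : w' ≠ w) (hu : InK g u) :
    u = 0 ∨ u = w ∨ u = w' ∨ u = w + w' := by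
  have h2 : g w + w + w = g w := by rw [add_assoc, add_self, add_zero]
  rcases four h4 hw h0 hw' with h | h | h | h
  · exact absurd h h0'
  · exact absurd h hne
  · rcases four h4 hw h0 hu with k | k | k | k
    · exact Or.inl k
    · exact Or.inr (Or.inl k)
    · exact Or.inr (Or.inr (Or.inl (k.trans h.symm)))
    · exact Or.inr (Or.inr (Or.inr (by rw [k, h, add_comm])))
  · rcases four h4 hw h0 hu with k | k | k | k
    · exact Or.inl k
    · exact Or.inr (Or.inl k)
    · exact Or.inr (Or.inr (Or.inr (by rw [k, h, add_comm, h2])))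
    · exact Or.inr (Or.inr (Or.inl (k.trans h.symm)))

end ops

section group

variable {W : Type*} [AddCommGroup W] [Module (ZMod 2) W]
  (ρ : A9 →* Module.End (ZMod 2) W)

theorem ρ_mul (g h : A9) (v : W) : ρ (g * h) v = ρ g (ρ h v) := by
  rw [map_mul, Module.End.mul_apply]

theorem ρ_inj (g : A9) : Function.Injective (ρ g) := by
  intro u v h
  have := congrArg (ρ g⁻¹) h
  rw [← ρ_mul, ← ρ_mul, inv_mul_cancel, map_one] at this
  simpa using this

/-- transport of commutator spaces -/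
theorem inK_conj {g g' h : A9} (e : h * g = g' * h) {v : W} (hv : InK (ρ g) v) :
    InK (ρ g') (ρ h v) := by
  have e1 : ∀ v, ρ g' (ρ h v) = ρ h (ρ g v) := fun v => by rw [← ρ_mul, ← e, ρ_mul]
  unfold InK at *
  rw [e1, e1, hv, map_add]

theorem comm_of {g y : A9} (e : y * g = g * y) (v : W) : ρ y (ρ g v) = ρ g (ρ y v) := by
  rw [← ρ_mul, ← ρ_mul, e]

theorem rel_of {g h : A9} (e : g * h * (g * h) = 1) (v : W) : ρ g (ρ h (ρ g (ρ h v))) = v := by
  rw [← ρ_mul, ← ρ_mul, ← ρ_mul]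
  have : g * h * g * h = 1 := by rw [← e]; group
  rw [this, map_one]; rfl

end group

/-! ### explicit elements -/

/-- the 3-cycle `a → b → c → a` as a permutation -/
def tp (a b c : Fin 9) : Perm (Fin 9) := swap a b * swap b c

/-- make an element of `A₉` from a permutation (`1` if it is odd) -/
def mk (p : Perm (Fin 9)) : A9 :=
  if h : Perm.sign p = 1 then ⟨p, Equiv.Perm.mem_alternatingGroup.2 h⟩ else 1

/-- a 3-cycle as an element of `A₉` -/
def T (a b c : Fin 9) : A9 := mk (tp a b c)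

/-- fixes `0`, `1` and maps `2 → k+2`, `3 → l+2` -/
def mv (k l : Fin 7) : A9 :=
  let k' : Fin 9 := ⟨k.1 + 2, by omega⟩
  let l' : Fin 9 := swap 2 k' ⟨l.1 + 2, by omega⟩
  let p : Perm (Fin 9) := swap 2 k' * swap 3 l'
  if Perm.sign p = 1 then mk p else mk (p * swap 7 8)

theorem mv_spec (k l : Fin 7) (h : k ≠ l) :
    mv k l * cyc 0 = cyc k * mv k l ∧ mv k l * cyc 1 = cyc l * mv k l := by
  revert k l
  decide +kernel

theorem e1 : T 3 4 5 * cyc 0 = cyc 0 * T 3 4 5 ∧ T 3 4 5 * cyc 1 = cyc 2 * T 3 4 5 ∧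
    T 2 4 5 * cyc 0 = cyc 2 * T 2 4 5 ∧ T 2 4 5 * cyc 1 = cyc 1 * T 2 4 5 := by
  decide +kernel

/-- two further letters -/
def sup (l : Fin 7) : Fin 9 × Fin 9 × Fin 9 :=
  if l = 2 then (5, 6, 7) else if l = 3 then (4, 6, 7) else if l = 4 then (4, 5, 7) else (4, 5, 6)

theorem e2 (l : Fin 7) (h0 : l ≠ 0) (h1 : l ≠ 1) :
    T 3 ⟨l.1 + 2, by omega⟩ (sup l).1 * cyc 1 = cyc l * T 3 ⟨l.1 + 2, by omega⟩ (sup l).1 ∧
    T 3 ⟨l.1 + 2, by omega⟩ (sup l).1 * cyc 0 = cyc 0 * T 3 ⟨l.1 + 2, by omega⟩ (sup l).1 ∧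
    T 3 ⟨l.1 + 2, by omega⟩ (sup l).2.1 * cyc 0 = cyc 0 * T 3 ⟨l.1 + 2, by omega⟩ (sup l).2.1 ∧
    T 3 ⟨l.1 + 2, by omega⟩ (sup l).2.2 * cyc 0 = cyc 0 * T 3 ⟨l.1 + 2, by omega⟩ (sup l).2.2 ∧
    T 3 ⟨l.1 + 2, by omega⟩ (sup l).1 * T 3 ⟨l.1 + 2, by omega⟩ (sup l).2.1 *
      (T 3 ⟨l.1 + 2, by omega⟩ (sup l).1 * T 3 ⟨l.1 + 2, by omega⟩ (sup l).2.1) = 1 ∧
    T 3 ⟨l.1 + 2, by omega⟩ (sup l).1 * T 3 ⟨l.1 + 2, by omega⟩ (sup l).2.2 *
      (T 3 ⟨l.1 + 2, by omega⟩ (sup l).1 * T 3 ⟨l.1 + 2, by omega⟩ (sup l).2.2) = 1 ∧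
    T 3 ⟨l.1 + 2, by omega⟩ (sup l).2.1 * T 3 ⟨l.1 + 2, by omega⟩ (sup l).2.2 *
      (T 3 ⟨l.1 + 2, by omega⟩ (sup l).2.1 * T 3 ⟨l.1 + 2, by omega⟩ (sup l).2.2) = 1 := by
  revert l
  decide +kernel

theorem cyc_cube (k : Fin 7) : cyc k * (cyc k * cyc k) = 1 := by
  revert k
  decide +kernel

theorem cyc_rel (k l : Fin 7) (h : k ≠ l) : cyc k * cyc l * (cyc k * cyc l) = 1 := by
  revert k l
  decide +kernel

section main

variable {W : Type*} [AddCommGroup W] [Module (ZMod 2) W]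
  (ρ : A9 →* Module.End (ZMod 2) W)

theorem cube (k : Fin 7) (v : W) : ρ (cyc k) (ρ (cyc k) (ρ (cyc k) v)) = v := by
  rw [← ρ_mul, ← ρ_mul, mul_assoc, cyc_cube, map_one]; rfl

theorem rel (k l : Fin 7) (h : k ≠ l) (v : W) :
    ρ (cyc k) (ρ (cyc l) (ρ (cyc k) (ρ (cyc l) v))) = v := rel_of ρ (cyc_rel k l h) v

/-- there is a common nonzero vector of `K₀` and `K₁` -/
theorem exists_w (h4 : ∀ k, Nat.card {v : W // InK (ρ (cyc k)) v} = 4) :
    ∃ w, InK (ρ (cyc 0)) w ∧ InK (ρ (cyc 1)) w ∧ w ≠ 0 := by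
  by_contra hne
  push Not at hne
  obtain ⟨a1, a2, a3, a4⟩ := e1
  have d01 : ∀ v, InK (ρ (cyc 0)) v → InK (ρ (cyc 1)) v → v = 0 := hne
  have d02 : ∀ v, InK (ρ (cyc 0)) v → InK (ρ (cyc 2)) v → v = 0 := by
    intro v h0 h2
    have b1 : (T 3 4 5)⁻¹ * cyc 0 = cyc 0 * (T 3 4 5)⁻¹ := by
      rw [inv_mul_eq_iff_eq_mul, ← mul_assoc, a1, mul_inv_cancel_right]
    have b2 : (T 3 4 5)⁻¹ * cyc 2 = cyc 1 * (T 3 4 5)⁻¹ := by
      rw [inv_mul_eq_iff_eq_mul, ← mul_assoc, a2, mul_inv_cancel_right]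
    have := d01 _ (inK_conj ρ b1 h0) (inK_conj ρ b2 h2)
    exact ρ_inj ρ (T 3 4 5)⁻¹ (by rw [this, map_zero])
  have d12 : ∀ v, InK (ρ (cyc 1)) v → InK (ρ (cyc 2)) v → v = 0 := by
    intro v h1 h2
    have b1 : (T 2 4 5)⁻¹ * cyc 2 = cyc 0 * (T 2 4 5)⁻¹ := by
      rw [inv_mul_eq_iff_eq_mul, ← mul_assoc, a3, mul_inv_cancel_right]
    have b2 : (T 2 4 5)⁻¹ * cyc 1 = cyc 1 * (T 2 4 5)⁻¹ := by
      rw [inv_mul_eq_iff_eq_mul, ← mul_assoc, a4, mul_inv_cancel_right]
    have := d01 _ (inK_conj ρ b1 h2) (inK_conj ρ b2 h1)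
    exact ρ_inj ρ (T 2 4 5)⁻¹ (by rw [this, map_zero])
  have hz : ∀ v, InK (ρ (cyc 2)) v → v = 0 := fun v hv =>
    contra (cube ρ 0) (cube ρ 1) (cube ρ 2) (rel ρ 0 1 (by decide)) (rel ρ 1 0 (by decide))
      (rel ρ 0 2 (by decide)) (rel ρ 1 2 (by decide)) d01 d02 d12 hv
  have : Subsingleton {v : W // InK (ρ (cyc 2)) v} :=
    ⟨fun a b => Subtype.ext ((hz a.1 a.2).trans (hz b.1 b.2).symm)⟩
  have := Nat.card_of_subsingleton (⟨0, inK_zero (ρ (cyc 2))⟩ : {v : W // InK (ρ (cyc 2)) v})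
  have := h4 2
  omega

/-- `K₀` is not contained in `K₁` -/
theorem not_le (h4 : ∀ k, Nat.card {v : W // InK (ρ (cyc k)) v} = 4) {w : W}
    (h0 : InK (ρ (cyc 0)) w) (hw : w ≠ 0) :
    ¬ ∀ v, InK (ρ (cyc 0)) v → InK (ρ (cyc 1)) v := by
  intro hle
  obtain ⟨a1, a2, a3, a4⟩ := e1
  have hle2 : ∀ v, InK (ρ (cyc 0)) v → InK (ρ (cyc 2)) v := by
    intro v hv
    have b1 : (T 3 4 5)⁻¹ * cyc 0 = cyc 0 * (T 3 4 5)⁻¹ := by
      rw [inv_mul_eq_iff_eq_mul, ← mul_assoc, a1, mul_inv_cancel_right]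
    have h1 := hle _ (inK_conj ρ b1 hv)
    have h2 := inK_conj ρ a2 h1
    rw [← ρ_mul, mul_inv_cancel, map_one] at h2
    simpa using h2
  have eqK : ∀ k : Fin 7, (∀ v, InK (ρ (cyc 0)) v → InK (ρ (cyc k)) v) →
      ∀ v, InK (ρ (cyc k)) v → InK (ρ (cyc 0)) v := by
    intro k hk v hv
    -- `K₀ ⊆ K_k` and both have order 4
    have hw1 := hk _ h0
    rcases four (h4 k) hw1 hw hv with h | h | h | h
    · rw [h]; exact inK_zero _
    · rw [h]; exact h0
    · -- `v = x_k w`
      have hx : ρ (cyc 0) w ≠ 0 := fun e => hw (ρ_inj ρ (cyc 0) (by rw [e, map_zero]))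
      have hx' : ρ (cyc 0) w ≠ w := fun e => hw (eq_zero_of_fix h0 e)
      rcases four' (h4 k) hw1 hw (hk _ h0.map) hx hx' hv with q | q | q | q
      · rw [q]; exact inK_zero _
      · rw [q]; exact h0
      · rw [q]; exact h0.map
      · rw [q]; exact h0.add h0.map
    · have hx : ρ (cyc 0) w ≠ 0 := fun e => hw (ρ_inj ρ (cyc 0) (by rw [e, map_zero]))
      have hx' : ρ (cyc 0) w ≠ w := fun e => hw (eq_zero_of_fix h0 e)
      rcases four' (h4 k) hw1 hw (hk _ h0.map) hx hx' hv with q | q | q | q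
      · rw [q]; exact inK_zero _
      · rw [q]; exact h0
      · rw [q]; exact h0.map
      · rw [q]; exact h0.add h0.map
  have key : ∀ k : Fin 7, k ≠ 0 → (∀ v, InK (ρ (cyc 0)) v → InK (ρ (cyc k)) v) →
      ρ (cyc k) w = ρ (cyc 0) w + w := by
    intro k hk0 hk
    have hm : InK (ρ (cyc 0)) (ρ (cyc k) w) := eqK k hk _ (hk _ h0).map
    rcases four (h4 0) h0 hw hm with q | q | q | q
    · exact absurd (ρ_inj ρ (cyc k) (by rw [q, map_zero])) hw
    · exact absurd (eq_zero_of_fix (hk _ h0) q) hw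
    · exact absurd (same_zero h0 (hk _ h0) (rel ρ 0 k hk0.symm w) q.symm) hw
    · exact q
  have k1 := key 1 (by decide) hle
  have k2 := key 2 (by decide) hle2
  exact hw (same_zero (hle _ h0) (hle2 _ h0) (rel ρ 1 2 (by decide) w) (k1.trans k2.symm))

/-- a common vector of `K₀`, `K₁` lies in all `K_l` -/
theorem mem_all (h4 : ∀ k, Nat.card {v : W // InK (ρ (cyc k)) v} = 4) {w : W}
    (h0 : InK (ρ (cyc 0)) w) (h1 : InK (ρ (cyc 1)) w) (l : Fin 7) : InK (ρ (cyc l)) w := by
  by_cases hl0 : l = 0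
  · rw [hl0]; exact h0
  by_cases hl1 : l = 1
  · rw [hl1]; exact h1
  obtain ⟨q1, q2, q3, q4, q5, q6, q7⟩ := e2 l hl0 hl1
  have ht := triv (h4 0) (comm_of ρ q2) (comm_of ρ q3) (comm_of ρ q4) (ρ_inj ρ _) (ρ_inj ρ _)
    (ρ_inj ρ _) (rel_of ρ q5) (rel_of ρ q6) (rel_of ρ q7) h0
  have := inK_conj ρ q1 h1
  rwa [ht] at this

/-- `K_k ∩ K_l = {0, w}` -/
theorem inter (h4 : ∀ k, Nat.card {v : W // InK (ρ (cyc k)) v} = 4) {w : W}
    (hw : ∀ l, InK (ρ (cyc l)) w) (h0 : w ≠ 0) {k l : Fin 7} (hkl : k ≠ l) {v : W}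
    (h1 : InK (ρ (cyc k)) v) (h2 : InK (ρ (cyc l)) v) : v = 0 ∨ v = w := by
  by_contra hne
  push Not at hne
  obtain ⟨n0, n1⟩ := hne
  have hle : ∀ u, InK (ρ (cyc k)) u → InK (ρ (cyc l)) u := by
    intro u hu
    rcases four' (h4 k) (hw k) h0 h1 n0 n1 hu with q | q | q | q
    · rw [q]; exact inK_zero _
    · rw [q]; exact hw l
    · rw [q]; exact h2
    · rw [q]; exact (hw l).add h2
  refine not_le ρ h4 (hw 0) h0 ?_
  intro u hu
  obtain ⟨m1, m2⟩ := mv_spec k l hkl
  have b := hle _ (inK_conj ρ m1 hu)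
  have m2' : (mv k l)⁻¹ * cyc l = cyc 1 * (mv k l)⁻¹ := by
    rw [inv_mul_eq_iff_eq_mul, ← mul_assoc, m2, mul_inv_cancel_right]
  have c := inK_conj ρ m2' b
  rw [← ρ_mul, inv_mul_cancel, map_one] at c
  simpa using c

/-- half of the argument for `x_l (x_k w) = x_k w + x_l w` -/
theorem half (h4 : ∀ k, Nat.card {v : W // InK (ρ (cyc k)) v} = 4) {w : W}
    (hw : ∀ l, InK (ρ (cyc l)) w) (h0 : w ≠ 0) {k l : Fin 7} (hkl : k ≠ l) :
    (ρ (cyc l) (ρ (cyc k) w) = ρ (cyc k) w ∧
      ρ (cyc k) (ρ (cyc l) w) = ρ (cyc l) w + (ρ (cyc k) w + w)) ∨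
    (ρ (cyc l) (ρ (cyc k) w) = ρ (cyc k) w + ρ (cyc l) w) := by
  set y := ρ (cyc k) with hy
  set x := ρ (cyc l) with hx
  set a := y w with ha
  set b := x w with hb
  have hxb : x b = b + w := hw l
  have hya : y a = a + w := hw k
  set c := x a + a with hc
  set c' := y b + b with hc'
  have cK : InK x c := inK_add_self (cube ρ l) a
  have c'K : InK y c' := inK_add_self (cube ρ k) b
  have hxa : x a = a + c := by rw [hc, add_comm a (x a + a), add_assoc, add_self, add_zero]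
  have hyb : y b = b + c' := by rw [hc', add_comm b (y b + b), add_assoc, add_self, add_zero]
  -- `x (y (x w)) = y (y w)`
  have r : x (y b) = a + w := by
    have := rel ρ l k hkl.symm (y (y w))
    rw [← hx, ← hy, K3 (hw k), ← hb] at this
    rw [this, ← ha]; exact hya
  rw [hyb, map_add, hxb] at r
  have r1 : x c' = a + b := by
    have e : x c' = (b + w + x c') + (b + w) := by
      have : (b + w + x c') + (b + w) = x c' + (b + b) + (w + w) := by abel
      rw [this, add_self, add_self, add_zero, add_zero]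
    rw [e, r]
    have : a + w + (b + w) = a + b + (w + w) := by abel
    rw [this, add_self, add_zero]
  have r2 : c' = a + w + (c + x c) := by
    have h3 : x (x (x c')) = c' := cube ρ l c'
    have h5 : x (x a) = a + c + x c := by rw [hxa, map_add x a c, hxa]
    have h6 : x (x b) = w := by
      rw [hxb, map_add x b w, hxb, ← hb]
      have : b + w + b = w + (b + b) := by abel
      rw [this, add_self, add_zero]
    rw [r1, map_add x a b, map_add x (x a) (x b), h5, h6] at h3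
    rw [← h3]
    abel
  have d1 : InK x (c + x c) := cK.add cK.map
  have d2 : InK y (c + x c) := by
    have e : c + x c = c' + (a + w) := by
      rw [r2]
      have : a + w + (c + x c) + (a + w) = (c + x c) + ((a + w) + (a + w)) := by abel
      rw [this, add_self, add_zero]
    rw [e]
    exact c'K.add ((hw k).map.add (hw k))
  rcases inter ρ h4 hw h0 hkl d2 d1 with e | e
  · left
    have hc0 : c = 0 := by
      have h1 : c = x c := eq_of_add_eq_zero e
      exact eq_zero_of_fix cK h1.symm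
    refine ⟨by rw [hxa, hc0, add_zero], ?_⟩
    rw [hyb, r2, e, add_zero]
  · right
    have h1 : x (c + x c) = c := by
      rw [map_add, cK]
      have : x c + (x c + c) = (x c + x c) + c := by abel
      rw [this, add_self, zero_add]
    rw [e] at h1
    rw [hxa, ← h1]

theorem cross (h4 : ∀ k, Nat.card {v : W // InK (ρ (cyc k)) v} = 4) {w : W}
    (hw : ∀ l, InK (ρ (cyc l)) w) (h0 : w ≠ 0) {k l : Fin 7} (hkl : k ≠ l) :
    ρ (cyc l) (ρ (cyc k) w) = ρ (cyc k) w + ρ (cyc l) w := by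
  rcases half ρ h4 hw h0 hkl with ⟨h1, h2⟩ | h
  · exfalso
    rcases half ρ h4 hw h0 hkl.symm with ⟨h3, -⟩ | h3
    · rw [h3] at h2
      have h5 : ρ (cyc k) w + w = 0 := by simpa using h2.symm
      exact h0 (eq_zero_of_fix (hw k) (eq_of_add_eq_zero h5))
    · rw [h3] at h2
      have h5 : w = 0 := by simpa using h2
      exact h0 h5
  · exact h

/-- the matrix of `x k` in the basis `w, x 0 w, …, x 6 w` -/
def nmat (k : Fin 7) : Matrix (Fin 8) (Fin 8) (ZMod 2) :=
  Matrix.of fun i j => if j = 0 then (if i = k.succ then 1 else 0)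
    else if j = k.succ then (if i = 0 ∨ i = k.succ then 1 else 0)
    else (if i = j ∨ i = k.succ then 1 else 0)

/-- the basis -/
def bas (w : W) : Fin 8 → W := Fin.cons w fun k => ρ (cyc k) w

/-- natural coordinates -/
def nat (c : V) : Fin 9 → ZMod 2 :=
  ![c 0, c 0 + (c 1 + c 2 + c 3 + c 4 + c 5 + c 6 + c 7), c 1, c 2, c 3, c 4, c 5, c 6, c 7]

theorem nat_add (c d : V) : nat (c + d) = nat c + nat d := by
  funext i
  fin_cases i <;> simp [nat]
  ring

theorem nat_smul (r : ZMod 2) (c : V) : nat (r • c) = r • nat c := by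
  funext i
  fin_cases i <;> simp [nat]
  ring

/-- natural coordinates as a linear map -/
def natL : V →ₗ[ZMod 2] (Fin 9 → ZMod 2) where
  toFun := nat
  map_add' := nat_add
  map_smul' := nat_smul

theorem nat_single (k : Fin 7) (i : Fin 9) (j : Fin 8) :
    nat ((nmat k).mulVec (Pi.single j 1)) ((cyc k).1 i) = nat (Pi.single j 1) i := by
  revert k i j
  decide +kernel

theorem nat_cyc (k : Fin 7) (c : V) (i : Fin 9) :
    nat ((nmat k).mulVec c) ((cyc k).1 i) = nat c i := by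
  have e : (LinearMap.proj ((cyc k).1 i) : (Fin 9 → ZMod 2) →ₗ[ZMod 2] ZMod 2) ∘ₗ natL ∘ₗ
      (Matrix.toLin' (nmat k)) = (LinearMap.proj i : (Fin 9 → ZMod 2) →ₗ[ZMod 2] ZMod 2) ∘ₗ natL := by
    refine LinearMap.pi_ext' fun j => LinearMap.ext_ring ?_
    simpa [natL, Matrix.toLin'_apply] using nat_single k i j
  exact LinearMap.congr_fun e c

theorem nat_inj (c : V) (h : nat c = 0) : c = 0 := by
  funext j
  fin_cases j
  · simpa [nat] using congrFun h 0
  · simpa [nat] using congrFun h 2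
  · simpa [nat] using congrFun h 3
  · simpa [nat] using congrFun h 4
  · simpa [nat] using congrFun h 5
  · simpa [nat] using congrFun h 6
  · simpa [nat] using congrFun h 7
  · simpa [nat] using congrFun h 8

theorem nat_sum (c : V) : ∑ i, nat c i = 0 := by
  rw [Fin.sum_univ_succ, Fin.sum_univ_eight]
  simp only [nat]
  have : c 0 + (c 0 + (c 1 + c 2 + c 3 + c 4 + c 5 + c 6 + c 7) + c 1 + c 2 + c 3 + c 4 + c 5 + c 6 +
      c 7) = 2 * (c 0 + c 1 + c 2 + c 3 + c 4 + c 5 + c 6 + c 7) := by ring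
  have h2 : (2 : ZMod 2) = 0 := by decide
  rw [h2, zero_mul] at this
  exact this

/-- every vector of coordinate sum zero has natural coordinates -/
theorem nat_surj (v : Fin 9 → ZMod 2) (h : ∑ i, v i = 0) : ∃ c, nat c = v := by
  refine ⟨![v 0, v 2, v 3, v 4, v 5, v 6, v 7, v 8], ?_⟩
  have h2 : (2 : ZMod 2) = 0 := by decide
  rw [Fin.sum_univ_succ, Fin.sum_univ_eight] at h
  have h1 : v 0 + (v 2 + v 3 + v 4 + v 5 + v 6 + v 7 + v 8) = v 1 := by
    have e : v 0 + (v 2 + v 3 + v 4 + v 5 + v 6 + v 7 + v 8) =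
      (v 0 + (v 1 + v 2 + v 3 + v 4 + v 5 + v 6 + v 7 + v 8)) - 2 * v 1 + v 1 := by ring
    rw [e, h2, zero_mul, sub_zero]
    have : v 0 + (v 1 + v 2 + v 3 + v 4 + v 5 + v 6 + v 7 + v 8) = 0 := h
    rw [this, zero_add]
  funext i
  fin_cases i
  · rfl
  · exact h1
  all_goals rfl

theorem indep {g : Module.End (ZMod 2) W} {w : W} (hw : InK g w) (h0 : w ≠ 0) (α β : ZMod 2)
    (h : α • w + β • g w = 0) : α = 0 ∧ β = 0 := by
  have m1 : g w ≠ w := fun e => h0 (eq_zero_of_fix hw e)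
  have m2 : g w ≠ 0 := by
    intro e
    have := K3 hw
    rw [e, map_zero, map_zero] at this
    exact h0 this.symm
  have two : ∀ a : ZMod 2, a = 0 ∨ a = 1 := by decide
  rcases two α with rfl | rfl <;> rcases two β with rfl | rfl
  · exact ⟨rfl, rfl⟩
  · simp [m2] at h
  · simp [h0] at h
  · rw [one_smul, one_smul] at h
    exact absurd (eq_of_add_eq_zero h).symm m1

theorem zero_of_rel : ∀ c : V, (∀ m : Fin 7, c 0 + c m.succ = 0 ∧
    c 0 + (∑ k : Fin 7, c k.succ) + c m.succ = 0) → c = 0 := by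
  decide +kernel

theorem bas_inj (h4 : ∀ k, Nat.card {v : W // InK (ρ (cyc k)) v} = 4) {w : W}
    (hw : ∀ l, InK (ρ (cyc l)) w) (h0 : w ≠ 0) : Function.Injective (lin (bas ρ w)) := by
  rw [injective_iff_map_eq_zero]
  intro c hc
  apply zero_of_rel
  intro m
  have hc' : c 0 • w + ∑ k : Fin 7, c k.succ • ρ (cyc k) w = 0 := by
    rw [lin_apply, Fin.sum_univ_succ] at hc
    simpa [bas] using hc
  have h1 : ∀ k : Fin 7, ρ (cyc m) (ρ (cyc k) w) =
      ρ (cyc k) w + (ρ (cyc m) w + if k = m then w + ρ (cyc m) w else 0) := by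
    intro k
    by_cases hk : k = m
    · subst hk
      rw [if_pos rfl, hw k]
      have : ρ (cyc k) w + (ρ (cyc k) w + (w + ρ (cyc k) w)) =
        (ρ (cyc k) w + ρ (cyc k) w) + (ρ (cyc k) w + w) := by abel
      rw [this, add_self, zero_add]
    · rw [if_neg hk, add_zero, cross ρ h4 hw h0 hk]
  have h2 := congrArg (ρ (cyc m)) hc'
  rw [map_zero, map_add, map_smul, map_sum] at h2
  simp only [map_smul, h1, smul_add, Finset.sum_add_distrib, smul_ite, smul_zero,
    Finset.sum_ite_eq', Finset.mem_univ, if_true, ← Finset.sum_smul] at h2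
  apply indep (hw m) h0
  have h3 : (c 0 + c m.succ) • w + (c 0 + (∑ k : Fin 7, c k.succ) + c m.succ) • ρ (cyc m) w =
      (c 0 • ρ (cyc m) w + (∑ k : Fin 7, c k.succ • ρ (cyc k) w +
        ((∑ k : Fin 7, c k.succ) • ρ (cyc m) w + (c m.succ • w + c m.succ • ρ (cyc m) w)))) +
      (c 0 • w + ∑ k : Fin 7, c k.succ • ρ (cyc k) w) := by
    simp only [add_smul]
    have : ∀ s : W, s = s + ((∑ k : Fin 7, c k.succ • ρ (cyc k) w) +
      (∑ k : Fin 7, c k.succ • ρ (cyc k) w)) := fun s => by rw [add_self, add_zero]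
    rw [this (c 0 • w + c m.succ • w + _)]
    abel
  rw [h3, h2, hc', add_zero]

theorem bas_rule (h4 : ∀ k, Nat.card {v : W // InK (ρ (cyc k)) v} = 4) {w : W}
    (hw : ∀ l, InK (ρ (cyc l)) w) (h0 : w ≠ 0) (k : Fin 7) (v : V) :
    lin (bas ρ w) ((nmat k).mulVec v) = ρ (cyc k) (lin (bas ρ w) v) := by
  refine intertw _ _ _ ?_ v
  intro s
  refine Fin.cases ?_ (fun l => ?_) s
  · rw [Fin.sum_univ_succ]
    simp only [bas, Fin.cons_zero, Fin.cons_succ, nmat, Matrix.of_apply, if_true]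
    rw [if_neg (Fin.succ_ne_zero k).symm, zero_smul, zero_add, Finset.sum_eq_single k]
    · simp
    · intro b _ hb
      rw [if_neg (fun e => hb (Fin.succ_injective _ e)), zero_smul]
    · simp
  · rw [Fin.sum_univ_succ]
    simp only [bas, Fin.cons_zero, Fin.cons_succ, nmat, Matrix.of_apply, Fin.succ_ne_zero, if_false]
    by_cases hl : l = k
    · subst hl
      simp only [if_true, true_or, one_smul]
      rw [Finset.sum_eq_single l]
      · simp only [or_true, if_true, one_smul]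
        rw [add_comm]; exact hw l
      · intro b _ hb
        rw [if_neg, zero_smul]
        rintro (e | e)
        · exact e
        · exact hb (Fin.succ_injective _ e)
      · simp
    · have hl' : ¬ l.succ = k.succ := fun e => hl (Fin.succ_injective _ e)
      simp only [hl', if_false]
      rw [if_neg, zero_smul, zero_add, cross ρ h4 hw h0 hl]
      · have : ∀ b : Fin 7, (if b.succ = l.succ ∨ b.succ = k.succ then (1 : ZMod 2) else 0) •
            ρ (cyc b) w = (if b = l then ρ (cyc b) w else 0) + (if b = k then ρ (cyc b) w else 0) := by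
          intro b
          simp only [Fin.succ_inj]
          by_cases hb : b = l
          · subst hb; simp [hl]
          · by_cases hb' : b = k
            · subst hb'; simp [hb]
            · simp [hb, hb']
        simp only [this, Finset.sum_add_distrib, Finset.sum_ite_eq', Finset.mem_univ, if_true]
      · rintro (e | e)
        · exact Fin.succ_ne_zero _ e.symm
        · exact Fin.succ_ne_zero _ e.symm

end main

/-- **the natural module** -/
theorem exists_nat {W : Type*} [AddCommGroup W] [Module (ZMod 2) W] (ρ : A9 →* Module.End (ZMod 2) W)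
    (hW : Nat.card W = 256)
    (h4 : ∀ k, Nat.card (LinearMap.range (ρ (cyc k) + 1)) = 4) :
    ∃ f : W →ₗ[ZMod 2] (Fin 9 → ZMod 2), Function.Injective f ∧ (∀ w, ∑ i, f w i = 0) ∧
      (∀ v : Fin 9 → ZMod 2, ∑ i, v i = 0 → ∃ w, f w = v) ∧
      ∀ (g : A9) (w : W) (i : Fin 9), f (ρ g w) (g.1 i) = f w i := by
  have hfin : Finite W := Nat.finite_of_card_ne_zero (by rw [hW]; norm_num)
  have hK : ∀ k, Nat.card {v : W // InK (ρ (cyc k)) v} = 4 := by
    intro k
    rw [← h4 k]
    refine Nat.card_congr (Equiv.subtypeEquivRight fun v => ?_)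
    constructor
    · intro hv
      refine ⟨ρ (cyc k) v, ?_⟩
      rw [LinearMap.add_apply, Module.End.one_apply]
      unfold InK at hv
      rw [hv]
      have : ρ (cyc k) v + v + ρ (cyc k) v = (ρ (cyc k) v + ρ (cyc k) v) + v := by abel
      rw [this, add_self, zero_add]
    · rintro ⟨u, rfl⟩
      rw [LinearMap.add_apply, Module.End.one_apply]
      exact inK_add_self (cube ρ k) u
  obtain ⟨w, hw0, hw1, h0⟩ := exists_w ρ hK
  have hw := mem_all ρ hK hw0 hw1
  have hinj := bas_inj ρ hK hw h0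
  have hb : Function.Bijective (lin (bas ρ w)) := by
    refine hinj.bijective_of_nat_card_le ?_
    rw [hW, card_V]
  let Φ : V ≃ₗ[ZMod 2] W := LinearEquiv.ofBijective (lin (bas ρ w)) hb
  have hΦ : ∀ c, Φ c = lin (bas ρ w) c := fun c => rfl
  refine ⟨natL ∘ₗ Φ.symm.toLinearMap, ?_, ?_, ?_, ?_⟩
  · rw [injective_iff_map_eq_zero]
    intro u hu
    have := nat_inj (Φ.symm u) hu
    simpa using this
  · intro u
    exact nat_sum _
  · intro v hv
    obtain ⟨c, hc⟩ := nat_surj v hv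
    refine ⟨Φ c, ?_⟩
    rw [← hc]
    change nat (Φ.symm (Φ c)) = nat c
    rw [LinearEquiv.symm_apply_apply]
  · intro g
    refine SpinRep.cyc_induction (P := fun g => ∀ (w : W) (i : Fin 9),
      (natL ∘ₗ Φ.symm.toLinearMap) (ρ g w) (g.1 i) = (natL ∘ₗ Φ.symm.toLinearMap) w i) ?_ ?_ ?_ g
    · intro u i
      rw [map_one]; rfl
    · intro k u i
      change nat (Φ.symm (ρ (cyc k) u)) ((cyc k).1 i) = nat (Φ.symm u) i
      rw [← nat_cyc k (Φ.symm u) i]
      congr 2
      rw [LinearEquiv.symm_apply_eq, hΦ, bas_rule ρ hK hw h0, ← hΦ, LinearEquiv.apply_symm_apply]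
    · intro x y hx hy u i
      rw [ρ_mul]
      have := hx (ρ y u) (y.1 i)
      rw [hy u i] at this
      exact this

end Cfsg.Agent.ThType.NatGroup
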