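import Cfsg.Agent.ThType.Fock

/-!
# The natural module of `A₉` over `F₂` from 3-cycles with small commutator space

Elementary computations with operators of order three `g`, `h` with `(g h)² = 1`.
`K g` is the space `ker (g² + g + 1) = [W, g]`.
-/

set_option autoImplicit false

namespace Cfsg.Agent.ThType.NatMod

open Cfsg.Agent.ThType.SpinData Cfsg.Agent.ThType.Fock

variable {W : Type*} [AddCommGroup W] [Module (ZMod 2) W]

/-- membership in `[W, g]` for an operator of order 3 -/
def InK (g : Module.End (ZMod 2) W) (v : W) : Prop := g (g v) = g v + v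

theorem InK.add {g : Module.End (ZMod 2) W} {v w : W} (hv : InK g v) (hw : InK g w) :
    InK g (v + w) := by
  unfold InK at *
  rw [map_add, map_add, hv, hw]; abel

theorem InK.map {g : Module.End (ZMod 2) W} {v : W} (hv : InK g v) : InK g (g v) := by
  unfold InK at *
  rw [hv, map_add, hv]

theorem inK_zero (g : Module.End (ZMod 2) W) : InK g 0 := by
  simp [InK]

theorem inK_add_self {g : Module.End (ZMod 2) W} (hg : ∀ v, g (g (g v)) = v) (v : W) :
    InK g (g v + v) := by
  unfold InK
  rw [map_add, map_add, hg]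
  have : g (g v) + g v + (g v + v) = g (g v) + (g v + g v) + v := by abel
  rw [this, add_self, add_zero, add_comm]

theorem eq_zero_of_fix {g : Module.End (ZMod 2) W} {v : W} (hv : InK g v) (h : g v = v) :
    v = 0 := by
  unfold InK at hv
  rw [h, h, add_self] at hv
  exact hv

theorem K3 {g : Module.End (ZMod 2) W} {v : W} (hv : InK g v) : g (g (g v)) = v := by
  unfold InK at hv
  rw [hv, map_add, hv]
  have : g v + v + g v = (g v + g v) + v := by abel
  rw [this, add_self, zero_add]

theorem split_zero {g h : Module.End (ZMod 2) W} (hd : ∀ v, InK g v → InK h v → v = 0) {a b : W}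
    (ha : InK g a) (hb : InK h b) (hab : a + b = 0) : a = 0 ∧ b = 0 := by
  have e : a = b := eq_of_add_eq_zero hab
  have h1 : a = 0 := hd a ha (by rw [e]; exact hb)
  exact ⟨h1, by rw [← e]; exact h1⟩

/-- (A) and (B): for `g`, `h` of order three with `(gh)² = 1` and `[W,g] ∩ [W,h] = 0` -/
theorem AB {g h : Module.End (ZMod 2) W} (hg : ∀ v, g (g (g v)) = v) (hh : ∀ v, h (h (h v)) = v)
    (hgh : ∀ v, g (h (g (h v))) = v) (hd : ∀ v, InK g v → InK h v → v = 0) {w : W}
    (hw : InK h w) :
    h (g (h w) + h w) + (g (h w) + h w) = h w ∧ g w + w = g (g (h w) + h w) := by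
  set v := h w with hv
  have hvK : InK h v := hw.map
  have hhv : h v = v + w := hw
  set a := g v + v with ha
  have haK : InK g a := inK_add_self hg v
  set p := h a + a with hp
  have hpK : InK h p := inK_add_self hh a
  have hgv : g v = v + a := by rw [ha, add_comm v (g v + v), add_assoc, add_self, add_zero]
  have hha : h a = a + p := by rw [hp, add_comm a (h a + a), add_assoc, add_self, add_zero]
  have e := hgh w
  rw [← hv, hgv, map_add, map_add, hhv, hha, map_add, map_add, hgv] at e
  -- `e : (v + a) + g w + (g a + g p) = w`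
  have e2 : (a + (g w + w) + g a + (g p + p)) + (v + p) = 0 := by
    have : (a + (g w + w) + g a + (g p + p)) + (v + p) =
        (v + a + g w + (g a + g p)) + w + (p + p) := by abel
    rw [this, e, add_self, add_self, add_zero]
  have k1 : InK g (a + (g w + w) + g a + (g p + p)) :=
    ((haK.add (inK_add_self hg w)).add haK.map).add (inK_add_self hg p)
  obtain ⟨z1, z2⟩ := split_zero hd k1 (hvK.add hpK) e2
  have hvp : v = p := eq_of_add_eq_zero z2
  refine ⟨hvp.symm, ?_⟩
  rw [← hvp] at z1
  have z3 : (g w + w) + g a = 0 := by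
    have : (g w + w) + g a = (a + (g w + w) + g a + (g v + v)) + (a + (g v + v)) := by
      have : (a + (g w + w) + g a + (g v + v)) + (a + (g v + v)) =
        ((g w + w) + g a) + (a + a) + ((g v + v) + (g v + v)) := by abel
      rw [this]
      simp only [add_self, add_zero]
    rw [this, z1, zero_add, ← ha, add_self]
  exact eq_of_add_eq_zero z3

theorem A' {g h : Module.End (ZMod 2) W} (hg : ∀ v, g (g (g v)) = v) (hh : ∀ v, h (h (h v)) = v)
    (hgh : ∀ v, g (h (g (h v))) = v) (hd : ∀ v, InK g v → InK h v → v = 0) {w : W}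
    (hw : InK h w) : h (g w + w) + (g w + w) = w := by
  have h1 := (AB hg hh hgh hd (w := h (h w)) hw.map.map).1
  rwa [hh] at h1

theorem B' {g h : Module.End (ZMod 2) W} (hg : ∀ v, g (g (g v)) = v) (hh : ∀ v, h (h (h v)) = v)
    (hgh : ∀ v, g (h (g (h v))) = v) (hd : ∀ v, InK g v → InK h v → v = 0) {w : W}
    (hw : InK h w) : g (h w) + h w = g (g (g w + w)) := by
  have h1 := (AB hg hh hgh hd hw).2
  rw [h1, hg]

theorem Cc {g h : Module.End (ZMod 2) W} (hg : ∀ v, g (g (g v)) = v) (hh : ∀ v, h (h (h v)) = v)
    (hgh : ∀ v, g (h (g (h v))) = v) (hhg : ∀ v, h (g (h (g v))) = v)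
    (hd : ∀ v, InK g v → InK h v → v = 0) (v : W) :
    g v + v = g (g (g (h v + v) + (h v + v))) := by
  set α := g v + v with hα
  set b := h v + v with hb
  have hbK : InK h b := inK_add_self hh v
  set c := g b + b with hc
  have hcK : InK g c := inK_add_self hg b
  have hαK : InK g α := inK_add_self hg v
  set a := α + c with ha
  have haK : InK g a := hαK.add hcK
  have hhv : h v = v + b := by rw [hb, add_comm v (h v + v), add_assoc, add_self, add_zero]
  have hgv : g v = v + α := by rw [hα, add_comm v (g v + v), add_assoc, add_self, add_zero]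
  have hgb : g b = b + c := by rw [hc, add_comm b (g b + b), add_assoc, add_self, add_zero]
  -- `g (h v) = v + a + b`
  have e1 : g (h v) = v + a + b := by
    rw [hhv, map_add, hgv, hgb, ha]; abel
  have e2 := hgh v
  rw [e1, map_add, map_add, map_add, map_add, e1] at e2
  -- `g (h a)`
  set p := h a + a with hp
  have hpK : InK h p := inK_add_self hh a
  have hha : h a = a + p := by rw [hp, add_comm a (h a + a), add_assoc, add_self, add_zero]
  have hA : g p + p = a := by
    have := A' hh hg hhg (fun v h1 h2 => hd v h2 h1) haK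
    rwa [← hp] at this
  have hgp : g p = p + a := by
    rw [← hA, add_comm p (g p + p), add_assoc, add_self, add_zero]
  have e3 : g (h a) = g a + p + a := by rw [hha, map_add, hgp]; abel
  have hB : g (h b) + h b = g (g c) := B' hg hh hgh hd hbK
  have e4 : g (h b) = h b + g (g c) := by
    rw [← hB, add_comm (h b), add_assoc, add_self, add_zero]
  rw [e3, e4] at e2
  -- collect
  have e5 : (g a + g (g c)) + (b + p + h b) = 0 := by
    have : (g a + g (g c)) + (b + p + h b) =
        (v + a + b + (g a + p + a) + (h b + g (g c))) - v - (a + a) := by abel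
    rw [this, e2, add_self, sub_self, sub_zero]
  obtain ⟨z1, -⟩ := split_zero hd (haK.map.add hcK.map.map) ((hbK.add hpK).add hbK.map) e5
  have z2 : g a = g (g c) := eq_of_add_eq_zero z1
  have z3 : a = g c := by
    have := congrArg (fun y => g (g y)) z2
    simpa [hg] using this
  rw [ha] at z3
  have z4 : α = g c + c := by rw [← z3, add_assoc, add_self, add_zero]
  rw [z4]
  exact hcK.symm

/-- three operators with pairwise trivially intersecting commutator spaces -/
theorem contra {g h m : Module.End (ZMod 2) W} (hg : ∀ v, g (g (g v)) = v)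
    (hh : ∀ v, h (h (h v)) = v) (hm : ∀ v, m (m (m v)) = v)
    (hgh : ∀ v, g (h (g (h v))) = v) (hhg : ∀ v, h (g (h (g v))) = v)
    (hgm : ∀ v, g (m (g (m v))) = v) (hhm : ∀ v, h (m (h (m v))) = v)
    (hd1 : ∀ v, InK g v → InK h v → v = 0) (hd2 : ∀ v, InK g v → InK m v → v = 0)
    (hd3 : ∀ v, InK h v → InK m v → v = 0) {v : W} (hv : InK m v) : v = 0 := by
  set b := h v + v with hb
  have hbK : InK h b := inK_add_self hh v
  set z := g b + b with hz
  have hzK : InK g z := inK_add_self hg b
  -- `g v + v = g² z`
  have c1 : g v + v = g (g z) := Cc hg hh hgh hhg hd1 v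
  have c2 : g (m v) + m v = g (g (g (h (m v) + m v) + (h (m v) + m v))) :=
    Cc hg hh hgh hhg hd1 (m v)
  have b1 : g (m v) + m v = g (g (g v + v)) := B' hg hm hgm hd2 hv
  have b2 : h (m v) + m v = h (h b) := B' hh hm hhm hd3 hv
  have b3 : g (h b) + h b = g (g z) := B' hg hh hgh hd1 hbK
  have b4 : g (h (h b)) + h (h b) = g (g (g (h b) + h b)) := B' hg hh hgh hd1 hbK.map
  rw [b2, b4, b3, hg, hg] at c2
  rw [b1, c1, hg] at c2
  have z0 : z = 0 := eq_zero_of_fix hzK c2
  have hb0 : b = 0 := by
    have := A' hg hh hgh hd1 hbK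
    rw [← hz, z0, map_zero, add_zero] at this
    exact this.symm
  have := A' hh hm hhm hd3 hv
  rw [← hb, hb0, map_zero, add_zero] at this
  exact this.symm

end Cfsg.Agent.ThType.NatMod
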