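import Cfsg.Agent.SporRec.TCUpperCert

/-! Generated by tools/wordcert/emit.py: word certificates (partial coset enumerations over the trivial subgroup).
-/

set_option autoImplicit false
set_option maxRecDepth 100000

namespace Cfsg.Agent.ThType.RelCerts

open Cfsg.Agent.SporRec.TCUpper Cfsg.Agent.SporRec.TCUpperCert

/-! ### L0: 12 nodes, 4 columns, 26 entries; letters `a b c`; conclusion `bacbabacbc = 1` -/

namespace L0

def T0 : ℕ := 0xa600000ad1ea459746100
def T1 : ℕ := 0x4e02c4977563538802841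
def T2 : ℕ := 0x1665579000000a50dd80
def T3 : ℕ := 0x4000000000000000000
def tabs : List ℕ := [T0, T1, T2, T3]
def dc : ℕ := 0x261184
noncomputable def look (c n : ℕ) : ℕ := lookF tabs 7 127 c n
noncomputable def dcol (n : ℕ) : ℕ := Nat.land (Nat.shiftRight dc (Nat.mul 2 n)) 3
def inv : List ℕ := [0, 1, 2]
def lab : List ℕ := [0, 1, 2, 3]
def rels : List (List ℕ) := [
  [0, 1, 0, 1, 0, 1],
  [1, 2, 1, 2, 1, 2],
  [0, 2, 0, 2]]
noncomputable def fx (c : ℕ) : Bool := memb [] (nth lab c)
def TM0 : List (Bool × List ℕ) := [(false, [0])]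
def TM1 : List (Bool × List ℕ) := [(false, [1]), (true, [0, 1, 0, 1, 0])]
def TM2 : List (Bool × List ℕ) := [(false, [2]), (true, [0, 2, 0])]
def TM3 : List (Bool × List ℕ) := [(false, [1, 2, 1, 2, 1, 2])]
def TT : List (List (Bool × List ℕ)) := [TM0, TM1, TM2, TM3]

theorem tt_ok : allOK 3 inv lab (withInv 3 inv rels) TT 0 = true := by decide +kernel
theorem bits_ok : bitsLt (7 * 12) tabs = true := by decide +kernel

theorem chunk0 : RangeOk look 15 0 1 dcol fx TT 0 1 :=
  RangeOk.of_chunk (S := 1) (pb := 1) (pm := 1) 1 (by decide) rfl (DD := [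
  (0, (1, 0x0), (0, 0x0), [(0, 0x0)]),
  (0, (0, 0x0), (0, 0x0), [(1, 0x0), (0, 0x0)]),
  (0, (1, 0x0), (0, 0x0), [(0, 0x0), (0, 0x0)]),
  (0, (1, 0x0), (0, 0x0), [(0, 0x0)])]) (by decide +kernel)
theorem chunk1 : RangeOk look 15 0 1 dcol fx TT 1 12 :=
  RangeOk.of_chunk (S := 11) (pb := 4) (pm := 15) 12 (by decide) rfl (DD := [
  (0, (3, 0x987), (4, 0xa641), [(4, 0x5320)]),
  (0, (2, 0x91), (4, 0x8530), [(4, 0xa742), (1, 0x6)]),
  (0, (4, 0xa543), (3, 0x972), [(3, 0x861), (1, 0x0)]),
  (0, (10, 0xa876543210), (0, 0x0), [(1, 0x9)])]) (by decide +kernel)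

theorem valid : Valid look 15 0 1 12 dcol fx TT where
  fin := chunk0
  rest := chunk1
  out := fun c n h => by
    have := lookF_ne_zero bits_ok c n h
    exact ⟨this.1, this.2⟩
  bdd := ⟨_, fun c n => lookF_le tabs _ _ c n⟩
  cols := by decide
  pos := by decide

theorem traced : trace look 15 0 0 [1, 0, 2, 1, 0, 1, 0, 2, 1, 2, 3] 0 = true := by decide +kernel

theorem word {G : Type*} [Group G] (gl : List G) (hl : gl.length = 3)
    (hinv : ∀ a < gl.length, lv gl a * lv gl (nth inv a) = 1) (hrel : ∀ r ∈ rels, wprod gl r = 1) :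
    wprod gl ([1, 0, 2, 1, 0, 1, 0, 2, 1, 2, 3].map (nth lab)) = 1 := by
  have h := mem_of_trace gl inv lab [] rels valid (by rw [hl]; exact tt_ok) hinv hrel (⊥ : Subgroup G)
    (by simp) [1, 0, 2, 1, 0, 1, 0, 2, 1, 2, 3] traced
  exact Subgroup.mem_bot.1 h

theorem rel {G : Type*} [Group G] (a b c : G)
    (i0 : a * a = 1)
    (i1 : b * b = 1)
    (i2 : c * c = 1)
    (h0 : a * b * a * b * a * b = 1)
    (h1 : b * c * b * c * b * c = 1)
    (h2 : a * c * a * c = 1) :
    b * a * c * b * a * b * a * c * b * c = 1 := by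
  have h : wprod [a, b, c] [1, 0, 2, 1, 0, 1, 0, 2, 1, 2, 3] = 1 := word [a, b, c] rfl (by
    intro i hi
    match i, hi with
    | 0, _ => exact i0
    | 1, _ => exact i1
    | 2, _ => exact i2
    | n + 3, hi => exact absurd hi (by simp)) (by
    intro r hr
    simp only [rels, List.mem_cons, List.not_mem_nil, or_false] at hr
    rcases hr with rfl | rfl | rfl
    · simpa only [wprod, lv, List.map_cons, List.map_nil, List.prod_cons, List.prod_nil, List.getD_cons_zero, List.getD_cons_succ,
      List.getD_nil, mul_assoc, mul_one] using h0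
    · simpa only [wprod, lv, List.map_cons, List.map_nil, List.prod_cons, List.prod_nil, List.getD_cons_zero, List.getD_cons_succ,
      List.getD_nil, mul_assoc, mul_one] using h1
    · simpa only [wprod, lv, List.map_cons, List.map_nil, List.prod_cons, List.prod_nil, List.getD_cons_zero, List.getD_cons_succ,
      List.getD_nil, mul_assoc, mul_one] using h2
    )
  simpa only [wprod, lv, List.map_cons, List.map_nil, List.prod_cons, List.prod_nil, List.getD_cons_zero, List.getD_cons_succ,
      List.getD_nil, mul_assoc, mul_one] using h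

end L0

/-! ### L1: 47 nodes, 5 columns, 120 entries; letters `a b c d`; conclusion `dcdbacbdcdbacbdcdbacb = 1` -/

namespace L1

def T0 : ℕ := 0xd832195f5dc7b58000000031ca7f4600000d4b130000000000b6f4bc30000000000316d13050000000000
def T1 : ℕ := 0x8ac00d01a35b12d79a680026a000000000000342a2400a3c00d531500351c4ad8b5f4dc3800d2b0bb66ddd1b0700343c131a3bb27
def T2 : ℕ := 0x36dcbb6bcb3580035d00365c9b5a7a7590035788400ca000d2f240032ac800000353c50000034fc4000d330dc6c00d230900345c1ad600341c0800
def T3 : ℕ := 0x254db32ddab2bd822600268d9325d880000329d6c00d1800c7e84d2f52d36de002aeb7318d4311d3b0fc5c00c6749c2b47c231d002dad0b03d0301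
def T4 : ℕ := 0x2500000000000000000000000000000000000000000001000000000000000000000000000000000000000000000000000000
def tabs : List ℕ := [T0, T1, T2, T3, T4]
def dc : ℕ := 0x9a69a29a68261845b60a05a6502d3281698
noncomputable def look (c n : ℕ) : ℕ := lookF tabs 10 1023 c n
noncomputable def dcol (n : ℕ) : ℕ := Nat.land (Nat.shiftRight dc (Nat.mul 3 n)) 7
def inv : List ℕ := [0, 1, 2, 3]
def lab : List ℕ := [0, 1, 2, 3, 4]
def rels : List (List ℕ) := [
  [0, 1, 0, 1, 0, 1],
  [1, 2, 1, 2, 1, 2],
  [1, 3, 1, 3],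
  [0, 2, 3, 2, 3, 2, 3, 2, 3],
  [0, 2, 0, 2],
  [0, 3, 0, 3]]
noncomputable def fx (c : ℕ) : Bool := memb [] (nth lab c)
def TM0 : List (Bool × List ℕ) := [(false, [0]), (true, [2, 0, 2]), (true, [3, 0, 3])]
def TM1 : List (Bool × List ℕ) := [(false, [1]), (true, [3, 1, 3]), (true, [2, 1, 2, 1, 2])]
def TM2 : List (Bool × List ℕ) := [(false, [2]), (true, [0, 2, 0]), (true, [3, 2, 3, 2, 3, 2, 0, 3])]
def TM3 : List (Bool × List ℕ) := [(false, [3]), (true, [0, 3, 0]), (true, [1, 3, 1]), (true, [2, 3, 0, 2, 3, 2, 3, 2]), (true, [2, 3, 2, 3, 2, 3, 0, 2])]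
def TM4 : List (Bool × List ℕ) := [(true, [1, 3, 1, 3]), (false, [1, 4, 1])]
def TT : List (List (Bool × List ℕ)) := [TM0, TM1, TM2, TM3, TM4]

theorem tt_ok : allOK 4 inv lab (withInv 4 inv rels) TT 0 = true := by decide +kernel
theorem bits_ok : bitsLt (10 * 47) tabs = true := by decide +kernel

theorem chunk0 : RangeOk look 63 0 1 dcol fx TT 0 1 :=
  RangeOk.of_chunk (S := 1) (pb := 1) (pm := 1) 1 (by decide) rfl (DD := [
  (0, (1, 0x0), (0, 0x0), [(0, 0x0), (0, 0x0), (0, 0x0)]),
  (0, (0, 0x0), (0, 0x0), [(1, 0x0), (0, 0x0), (0, 0x0)]),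
  (0, (1, 0x0), (0, 0x0), [(0, 0x0), (0, 0x0), (0, 0x0)]),
  (0, (0, 0x0), (0, 0x0), [(1, 0x0), (0, 0x0), (0, 0x0), (0, 0x0), (0, 0x0)]),
  (0, (1, 0x0), (0, 0x0), [(0, 0x0), (0, 0x0)])]) (by decide +kernel)
theorem chunk1 : RangeOk look 63 0 1 dcol fx TT 1 47 :=
  RangeOk.of_chunk (S := 46) (pb := 6) (pm := 63) 47 (by decide) rfl (DD := [
  (0, (29, 0x2db2baa9a279a59238a16996144d03ce349207182040), (7, 0x2075b5522c4), [(8, 0x7de71744a143), (1, 0xc), (1, 0x16)]),
  (0, (17, 0x2db2baa99e079d71b6975522c4), (8, 0x99951134a183), [(10, 0x95859340c245081), (7, 0x288e23ce207), (4, 0x9217c0)]),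
  (0, (14, 0xa2681d6d8554450349182), (15, 0x2dae99e58e17da4cf308141), [(14, 0xb2a91c65759238b287100), (2, 0x783), (1, 0x22)]),
  (0, (8, 0x9a181d6d42c4), (16, 0xb2aa2489e7185d640e247080), [(17, 0x2dae99e37da6513cd30a206141), (2, 0x552), (1, 0x3), (1, 0x13), (1, 0x25)]),
  (0, (44, 0xb6caeaa689e59238a181f79d71b6996175954d24503ce34c2ca2481c61440c2040), (0, 0x0), [(1, 0x26), (1, 0x14)])]) (by decide +kernel)

theorem valid : Valid look 63 0 1 47 dcol fx TT where
  fin := chunk0
  rest := chunk1
  out := fun c n h => by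
    have := lookF_ne_zero bits_ok c n h
    exact ⟨this.1, this.2⟩
  bdd := ⟨_, fun c n => lookF_le tabs _ _ c n⟩
  cols := by decide
  pos := by decide

theorem traced : trace look 63 0 0 [3, 2, 3, 1, 0, 2, 1, 3, 2, 3, 1, 0, 2, 1, 3, 2, 3, 1, 0, 2, 1, 4] 0 = true := by decide +kernel

theorem word {G : Type*} [Group G] (gl : List G) (hl : gl.length = 4)
    (hinv : ∀ a < gl.length, lv gl a * lv gl (nth inv a) = 1) (hrel : ∀ r ∈ rels, wprod gl r = 1) :
    wprod gl ([3, 2, 3, 1, 0, 2, 1, 3, 2, 3, 1, 0, 2, 1, 3, 2, 3, 1, 0, 2, 1, 4].map (nth lab)) = 1 := by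
  have h := mem_of_trace gl inv lab [] rels valid (by rw [hl]; exact tt_ok) hinv hrel (⊥ : Subgroup G)
    (by simp) [3, 2, 3, 1, 0, 2, 1, 3, 2, 3, 1, 0, 2, 1, 3, 2, 3, 1, 0, 2, 1, 4] traced
  exact Subgroup.mem_bot.1 h

theorem rel {G : Type*} [Group G] (a b c d : G)
    (i0 : a * a = 1)
    (i1 : b * b = 1)
    (i2 : c * c = 1)
    (i3 : d * d = 1)
    (h0 : a * b * a * b * a * b = 1)
    (h1 : b * c * b * c * b * c = 1)
    (h2 : b * d * b * d = 1)
    (h3 : a * c * d * c * d * c * d * c * d = 1)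
    (h4 : a * c * a * c = 1)
    (h5 : a * d * a * d = 1) :
    d * c * d * b * a * c * b * d * c * d * b * a * c * b * d * c * d * b * a * c * b = 1 := by
  have h : wprod [a, b, c, d] [3, 2, 3, 1, 0, 2, 1, 3, 2, 3, 1, 0, 2, 1, 3, 2, 3, 1, 0, 2, 1, 4] = 1 := word [a, b, c, d] rfl (by
    intro i hi
    match i, hi with
    | 0, _ => exact i0
    | 1, _ => exact i1
    | 2, _ => exact i2
    | 3, _ => exact i3
    | n + 4, hi => exact absurd hi (by simp)) (by
    intro r hr
    simp only [rels, List.mem_cons, List.not_mem_nil, or_false] at hr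
    rcases hr with rfl | rfl | rfl | rfl | rfl | rfl
    · simpa only [wprod, lv, List.map_cons, List.map_nil, List.prod_cons, List.prod_nil, List.getD_cons_zero, List.getD_cons_succ,
      List.getD_nil, mul_assoc, mul_one] using h0
    · simpa only [wprod, lv, List.map_cons, List.map_nil, List.prod_cons, List.prod_nil, List.getD_cons_zero, List.getD_cons_succ,
      List.getD_nil, mul_assoc, mul_one] using h1
    · simpa only [wprod, lv, List.map_cons, List.map_nil, List.prod_cons, List.prod_nil, List.getD_cons_zero, List.getD_cons_succ,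
      List.getD_nil, mul_assoc, mul_one] using h2
    · simpa only [wprod, lv, List.map_cons, List.map_nil, List.prod_cons, List.prod_nil, List.getD_cons_zero, List.getD_cons_succ,
      List.getD_nil, mul_assoc, mul_one] using h3
    · simpa only [wprod, lv, List.map_cons, List.map_nil, List.prod_cons, List.prod_nil, List.getD_cons_zero, List.getD_cons_succ,
      List.getD_nil, mul_assoc, mul_one] using h4
    · simpa only [wprod, lv, List.map_cons, List.map_nil, List.prod_cons, List.prod_nil, List.getD_cons_zero, List.getD_cons_succ,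
      List.getD_nil, mul_assoc, mul_one] using h5
    )
  simpa only [wprod, lv, List.map_cons, List.map_nil, List.prod_cons, List.prod_nil, List.getD_cons_zero, List.getD_cons_succ,
      List.getD_nil, mul_assoc, mul_one] using h

end L1

/-! ### L2: 129 nodes, 8 columns, 347 entries; letters `a c d e u U w`; conclusion `dudududududu = 1` -/

namespace L2

def T0 : ℕ := 0xf780000001eda0000000000001080000419c00000000000016fc00000041f20fa00000000000000008bb45d000000000000022d800000000020b915d0000001aae00072cc9964c800000000000000009300000000000000000000000092480000000000003d126a93530000000000000000000000134e0000001e690350004ccc00000000000000000008170002c2343fb070000000000000000286e0000004872c1311eb040002834000000000242600088ad80ea53602b00d49ec000000000002a3b51b0000000000000a895442a1f50d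
def T1 : ℕ := 0x1cdc0000000000000e777bc59940016640000002cc40000003df40000000000000000000b2b5956aed57400055c400000000000000000000000000000000000000000000000058fc0000000000001c98f4da2f58d000163200000000000000000000001254aa900000000000000000000000000000000154a00000000000008948001e5400000040b645e0000000000000000000000000160b0004c7683d60900058226360000000002624000b01d0540000000005094000000a900002a3951a0000000000000a898000000000
def T2 : ℕ := 0x16766bd800000000000059a0001667b335600000000000598c0000000000000001660b2f8002cb157aabc0002ca9653ab95942c9f56cab58002c93647b235916c88000b215906c81565ab20002c79562ab0d8dc0000000003522abae4aaae556c001559b16555c000000b1380000015510005888001621aa70002c3d61cb0d5866c2f6160005854000000b09800000160ea9f800000000000054eaa7000000054d4000000a0ed4cc000000a988002a5c000a95cc40001412986800281e000b05542ec11509b03541ec09505b01540ec01501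
def T3 : ℕ := 0x59b5ae2000000000000000000000018e4000b3235d58fa000b30b98aafc0000002de400000000000000015730003dbaade0000005928000f5a8a3c17000000000000000000000000000000000000000000145fb1a557800000092d800268c00000000000000000005896078f3db1200000000000004c8400154b0000000001431b0a800000142d00000026240000005836a7d53bb0644e686c000b0580000000000000000001606b02d812a5e00000050a6c060000000000001523a8f80000000000005462a2e000a888000000000
def T4 : ℕ := 0x97a000000000166cb3580000000000000002cc800000039cc00157f000598400157d000000000157900041d4000000b28c1bc00000000000000000000000000001643000000000163f000000000163a00055800000000000000000000000000000162e00058aec51352aa98002c4ae3e993000000154f0000000000000aa48002a8c0000000000000000000000000000099e800000160d0000002a72000a1180000000000000002c0e000a0c50bc0000000000000000000a080000000000a86547aa14000a840002a0d515a820002a04000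
def T5 : ℕ := 0xb380002cd80000002202cd000053d000000000000000000000000000002cc357cabd800000000000000000015750000002add64e00000018aee5900000000000000000000000000b1f8002ac6000b1c00000000000000002c67249b1958c6c600000000000001628aaa34f244e0000005542c42000000000000000000000000000000005510001614aa1000000000000050eea7a00098fc8d8000000000582800000000000000013170000002c08000000000000130f0000002a4960b000582400160700058140016030005804000000
def T6 : ℕ := 0x9bf51fc000000000000000000000000000000000002da4001661000000000000000059758e565700000000000000000002ae0000b258002ad40000000000000000ab4000000000000000000000000000002c6b634aaf800000000000000000000000000000000000000000227762491e8000000000b10587ea9a00000000000000000000002c2b32f000584c0000000000002c1b53c0005832c17537a9b000000000000000000000000000002a5b60400000000000000005802a4b522000000000000000000000000000000000000000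
def T7 : ℕ := 0x1dd8000000000000000000000000000000000000000cce00000000000000000000000000000000000000000000015580000000000000000000000000000000000000000000000000000000441000000000000000000000000000000000000000000000000000000000000000000000ca000000000000000000000000000000000000000000000000000000000000000000000000000083800000000000000000000000000000000000000000000000000000000000000000000100000000000000000000000000000000000000000
def tabs : List ℕ := [T0, T1, T2, T3, T4, T5, T6, T7]
def dc : ℕ := 0x2aec8aa46168e72a596252895cd2494494a54ab6669b6c5254e66aad924926b55820f47b17410636ee218185555555550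
noncomputable def look (c n : ℕ) : ℕ := lookF tabs 13 8191 c n
noncomputable def dcol (n : ℕ) : ℕ := Nat.land (Nat.shiftRight dc (Nat.mul 3 n)) 7
def inv : List ℕ := [0, 1, 2, 3, 5, 4, 6]
def lab : List ℕ := [0, 1, 2, 3, 4, 5, 6, 7]
def rels : List (List ℕ) := [
  [0, 3, 0, 3],
  [0, 1, 2, 1, 2, 1, 2, 1, 2],
  [1, 3, 1, 3],
  [2, 3, 2, 3, 2, 3],
  [0, 1, 0, 1],
  [0, 2, 0, 2],
  [4, 4, 1, 0],
  [5, 0, 4, 0],
  [5, 1, 4, 1],
  [5, 3, 4, 3],
  [2, 3, 5, 2, 4, 2, 3, 5, 2, 4],
  [6, 0, 6, 1],
  [3, 6, 3, 6],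
  [6, 4, 6, 3, 5],
  [6, 2, 4, 2, 6, 1, 3, 2, 5, 2, 6, 3, 5, 2, 5, 2],
  [6, 2, 1, 2, 6, 2, 1, 2, 6, 2, 1, 2]]
noncomputable def fx (c : ℕ) : Bool := memb [] (nth lab c)
def TM0 : List (Bool × List ℕ) := [(false, [0]), (true, [2, 0, 2]), (true, [1, 0, 1]), (true, [5, 0, 4]), (true, [4, 0, 5]), (true, [3, 0, 3]), (true, [4, 4, 1]), (true, [6, 1, 6])]
def TM1 : List (Bool × List ℕ) := [(false, [1]), (true, [0, 4, 4]), (true, [6, 0, 6]), (true, [3, 1, 3]), (true, [0, 1, 0]), (true, [2, 1, 2, 1, 2, 1, 0, 2]), (true, [4, 1, 5])]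
def TM2 : List (Bool × List ℕ) := [(false, [2]), (true, [0, 2, 0]), (true, [1, 2, 1, 2, 1, 2, 0, 1]), (true, [6, 3, 5, 2, 5, 2, 6, 2, 4, 2, 6, 1, 3, 2, 5])]
def TM3 : List (Bool × List ℕ) := [(false, [3]), (true, [6, 3, 6]), (true, [2, 3, 2, 3, 2]), (true, [4, 3, 5]), (true, [5, 3, 4]), (true, [0, 3, 0]), (true, [1, 3, 1]), (true, [5, 2, 4, 2, 3, 5, 2, 4, 2]), (true, [5, 6, 4, 6]), (true, [6, 5, 6, 4])]
def TM4 : List (Bool × List ℕ) := [(false, [5]), (true, [3, 4, 3]), (true, [0, 1, 5]), (true, [2, 4, 2, 3, 5, 2, 4, 2, 3]), (true, [0, 4, 0]), (true, [5, 0, 1])]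
def TM5 : List (Bool × List ℕ) := [(false, [4]), (true, [0, 5, 0]), (true, [1, 0, 4]), (true, [2, 4, 3, 6, 2, 4, 2, 3, 1, 6, 2, 5, 2, 6, 2]), (true, [3, 2, 5, 2, 4, 3, 2, 5, 2]), (true, [3, 5, 3]), (true, [6, 3, 5, 6])]
def TM6 : List (Bool × List ℕ) := [(false, [6]), (true, [2, 4, 2, 6, 1, 3, 2, 5, 2, 6, 3, 5, 2, 5, 2]), (true, [3, 5, 6, 4]), (true, [3, 6, 3]), (true, [4, 3, 6, 5])]
def TM7 : List (Bool × List ℕ) := [(true, [2, 7, 2]), (true, [0, 7, 0]), (true, [1, 7, 1]), (true, [5, 7, 4]), (true, [6, 2, 4, 2, 6, 1, 3, 2, 5, 2, 6, 3, 5, 2, 5, 2]), (true, [6, 7, 6])]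
def TT : List (List (Bool × List ℕ)) := [TM0, TM1, TM2, TM3, TM4, TM5, TM6, TM7]

theorem tt_ok : allOK 7 inv lab (withInv 7 inv rels) TT 0 = true := by decide +kernel
theorem bits_ok : bitsLt (13 * 129) tabs = true := by decide +kernel

theorem chunk0 : RangeOk look 255 0 1 dcol fx TT 0 1 :=
  RangeOk.of_chunk (S := 1) (pb := 1) (pm := 1) 1 (by decide) rfl (DD := [
  (0, (0, 0x0), (0, 0x0), [(1, 0x0), (0, 0x0), (0, 0x0), (0, 0x0), (0, 0x0), (0, 0x0), (0, 0x0), (0, 0x0)]),
  (0, (1, 0x0), (0, 0x0), [(0, 0x0), (0, 0x0), (0, 0x0), (0, 0x0), (0, 0x0), (0, 0x0), (0, 0x0)]),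
  (0, (0, 0x0), (0, 0x0), [(1, 0x0), (0, 0x0), (0, 0x0), (0, 0x0)]),
  (0, (1, 0x0), (0, 0x0), [(0, 0x0), (0, 0x0), (0, 0x0), (0, 0x0), (0, 0x0), (0, 0x0), (0, 0x0), (0, 0x0), (0, 0x0), (0, 0x0)]),
  (0, (1, 0x0), (0, 0x0), [(0, 0x0), (0, 0x0), (0, 0x0), (0, 0x0), (0, 0x0), (0, 0x0)]),
  (0, (1, 0x0), (0, 0x0), [(0, 0x0), (0, 0x0), (0, 0x0), (0, 0x0), (0, 0x0), (0, 0x0), (0, 0x0)]),
  (0, (1, 0x0), (0, 0x0), [(0, 0x0), (0, 0x0), (0, 0x0), (0, 0x0), (0, 0x0)]),
  (0, (1, 0x0), (0, 0x0), [(0, 0x0), (0, 0x0), (0, 0x0), (0, 0x0), (0, 0x0), (0, 0x0)])]) (by decide +kernel)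
theorem chunk1 : RangeOk look 255 0 1 dcol fx TT 1 129 :=
  RangeOk.of_chunk (S := 128) (pb := 7) (pm := 127) 129 (by decide) rfl (DD := [
  (0, (80, 0xfdf7dfaf3e3b74e7cb8efddaf569d19f263c586fdebb6acd7a74a8d09f3664b95264478b121c27cf5e3b74e5c366ac982f5cb562b52952234484f9e325cb15262c5090c14203), (8, 0x5098e1a223c70c), [(15, 0x1ffe75b961a1b24406880e08080), (11, 0x1df05bad56a3766c5527), (4, 0xcd94e94), (4, 0xd93a33f), (3, 0x1b60c0), (1, 0x70), (1, 0x18), (1, 0x20)]),
  (0, (89, 0x7ffdf7dfaf3e3a72e3bf76cd7ab4e8cf8b05fbd76e5bb566c57ad56a53a5427ce9b22345890e14180f5e3b74e5c376cd5a3262c17ad56a93a64a911a24280f1a2e58a93203c70c1624305080c080), (12, 0xebcf866cb464c73e6cc92), [(16, 0xf9df263c331f335cb0e941420382), (3, 0x1b4e11), (3, 0x12d48d), (2, 0x2528), (1, 0x18), (1, 0x76), (1, 0x3f)]),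
  (0, (49, 0x7df9efd78e9cf970dfbb6ecd396ed7a3325ca8901fbd78e9c355cb15a95095223447cf1c3660b95264068b), (41, 0x7ff3dfb71d7ab464c78705cb76acd8ad56a509b09f396ed19b262c17ad549c5080c10100), [(33, 0x75cf9b15fbd4e94f9d264468b0e0bb6c990a03a64b1424447090e14181), (3, 0x6878c), (1, 0x47), (1, 0x7e)]),
  (0, (78, 0x3ffef7ebcf8efdbaf3dfaf568cf9b2e4c57ef5cb15eb55a94e951a13e74d99223c5870a0c07ef9cb86ed9a3262c16ac54a53a63e74e1b3464c13243c70d18244070c0c080), (15, 0x1f796ebb29eba5c9511e2e58a90), [(21, 0x74e1b7663c16ed4976d59a8488ca0b1414202), (3, 0x12de20), (2, 0x2caf), (2, 0x38e1), (2, 0x2221), (1, 0x11), (1, 0x7c), (1, 0x46), (1, 0x2b), (1, 0x69)]),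
  (0, (85, 0x7efbf3cf8efdbaf3e5c376cd5a7466c98f05fbd76e5bb566c56ab52951a13a64b95264478d162427ae5c366ad19b15eb96ac56a94a84e95222427ce9c3668c97284c911203c68c161c281), (14, 0x3dfae9b7157a73e1c180f1198), [(18, 0x37ebcf35f3a6ec98201424406080c100), (4, 0x7678b15), (3, 0x1ff2a6), (2, 0x38e1), (1, 0xe), (1, 0x3f)]),
  (0, (83, 0x1ffefbf5dfaf4e7cb8f0dfbb6e9d19f365c98b0debb6acd8af5aad4a7467cd992e549870a0c076e9bb66ad19b262c17ae58a54274c8d01f3c70d9a3260b1526488901c345080c10100), (22, 0x3f7cf1b2fd29d2234588fdc2b3a505890e14181), [(17, 0x79d7ab1e0a0f9ebc72b5524445c78c), (1, 0x5c), (1, 0x47), (1, 0x76), (1, 0x5b), (1, 0x25), (1, 0x21)]),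
  (0, (94, 0x3ffcf7ebcf8efdbaf4e7cb86edbb35eacd97263c586fddb76acd8af56a53a54684f9d364c88f1a2c4870a0c07ef9eb970dd9b262c17ae5aa94274c9511d386cd19305cb15244480f1c284880e182840608080), (16, 0xdfa73de992ddb66ab14a4428098d), [(14, 0x3f71c172b4a78d119f3c5060b), (1, 0x68), (1, 0x7d), (1, 0x2b), (1, 0x3a)]),
  (0, (121, 0x7ffdf3dfaf3e3bf6ebd39f2e3bf76dd9af569d19f365c98f160bf7aedcb76acd8af5aad4a74a8d09d3664b95264478d16243850603f7cf5e3b74e1bb66ad19b262c17ae5ab15aa52a13a64a911a2407cf1d386cd19305cb15284c911203c70d18284880e182840608080), (0, 0x0), [(2, 0x27a1), (1, 0x70), (1, 0x61), (1, 0x39), (1, 0x7d), (1, 0xb)])]) (by decide +kernel)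

theorem valid : Valid look 255 0 1 129 dcol fx TT where
  fin := chunk0
  rest := chunk1
  out := fun c n h => by
    have := lookF_ne_zero bits_ok c n h
    exact ⟨this.1, this.2⟩
  bdd := ⟨_, fun c n => lookF_le tabs _ _ c n⟩
  cols := by decide
  pos := by decide

theorem traced : trace look 255 0 0 [2, 4, 2, 4, 2, 4, 2, 4, 2, 4, 2, 4, 7] 0 = true := by decide +kernel

theorem word {G : Type*} [Group G] (gl : List G) (hl : gl.length = 7)
    (hinv : ∀ a < gl.length, lv gl a * lv gl (nth inv a) = 1) (hrel : ∀ r ∈ rels, wprod gl r = 1) :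
    wprod gl ([2, 4, 2, 4, 2, 4, 2, 4, 2, 4, 2, 4, 7].map (nth lab)) = 1 := by
  have h := mem_of_trace gl inv lab [] rels valid (by rw [hl]; exact tt_ok) hinv hrel (⊥ : Subgroup G)
    (by simp) [2, 4, 2, 4, 2, 4, 2, 4, 2, 4, 2, 4, 7] traced
  exact Subgroup.mem_bot.1 h

theorem rel {G : Type*} [Group G] (a c d e u w : G)
    (i0 : a * a = 1)
    (i1 : c * c = 1)
    (i2 : d * d = 1)
    (i3 : e * e = 1)
    (i6 : w * w = 1)
    (h0 : a * e * a * e = 1)
    (h1 : a * c * d * c * d * c * d * c * d = 1)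
    (h2 : c * e * c * e = 1)
    (h3 : d * e * d * e * d * e = 1)
    (h4 : a * c * a * c = 1)
    (h5 : a * d * a * d = 1)
    (h6 : u * u * c * a = 1)
    (h7 : u⁻¹ * a * u * a = 1)
    (h8 : u⁻¹ * c * u * c = 1)
    (h9 : u⁻¹ * e * u * e = 1)
    (h10 : d * e * u⁻¹ * d * u * d * e * u⁻¹ * d * u = 1)
    (h11 : w * a * w * c = 1)
    (h12 : e * w * e * w = 1)
    (h13 : w * u * w * e * u⁻¹ = 1)
    (h14 : w * d * u * d * w * c * e * d * u⁻¹ * d * w * e * u⁻¹ * d * u⁻¹ * d = 1)
    (h15 : w * d * c * d * w * d * c * d * w * d * c * d = 1) :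
    d * u * d * u * d * u * d * u * d * u * d * u = 1 := by
  have h : wprod [a, c, d, e, u, u⁻¹, w] [2, 4, 2, 4, 2, 4, 2, 4, 2, 4, 2, 4, 7] = 1 := word [a, c, d, e, u, u⁻¹, w] rfl (by
    intro i hi
    match i, hi with
    | 0, _ => exact i0
    | 1, _ => exact i1
    | 2, _ => exact i2
    | 3, _ => exact i3
    | 4, _ => exact mul_inv_cancel u
    | 5, _ => exact inv_mul_cancel u
    | 6, _ => exact i6
    | n + 7, hi => exact absurd hi (by simp)) (by
    intro r hr
    simp only [rels, List.mem_cons, List.not_mem_nil, or_false] at hr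
    rcases hr with rfl | rfl | rfl | rfl | rfl | rfl | rfl | rfl | rfl | rfl | rfl | rfl | rfl | rfl | rfl | rfl
    · simpa only [wprod, lv, List.map_cons, List.map_nil, List.prod_cons, List.prod_nil, List.getD_cons_zero, List.getD_cons_succ,
      List.getD_nil, mul_assoc, mul_one] using h0
    · simpa only [wprod, lv, List.map_cons, List.map_nil, List.prod_cons, List.prod_nil, List.getD_cons_zero, List.getD_cons_succ,
      List.getD_nil, mul_assoc, mul_one] using h1
    · simpa only [wprod, lv, List.map_cons, List.map_nil, List.prod_cons, List.prod_nil, List.getD_cons_zero, List.getD_cons_succ,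
      List.getD_nil, mul_assoc, mul_one] using h2
    · simpa only [wprod, lv, List.map_cons, List.map_nil, List.prod_cons, List.prod_nil, List.getD_cons_zero, List.getD_cons_succ,
      List.getD_nil, mul_assoc, mul_one] using h3
    · simpa only [wprod, lv, List.map_cons, List.map_nil, List.prod_cons, List.prod_nil, List.getD_cons_zero, List.getD_cons_succ,
      List.getD_nil, mul_assoc, mul_one] using h4
    · simpa only [wprod, lv, List.map_cons, List.map_nil, List.prod_cons, List.prod_nil, List.getD_cons_zero, List.getD_cons_succ,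
      List.getD_nil, mul_assoc, mul_one] using h5
    · simpa only [wprod, lv, List.map_cons, List.map_nil, List.prod_cons, List.prod_nil, List.getD_cons_zero, List.getD_cons_succ,
      List.getD_nil, mul_assoc, mul_one] using h6
    · simpa only [wprod, lv, List.map_cons, List.map_nil, List.prod_cons, List.prod_nil, List.getD_cons_zero, List.getD_cons_succ,
      List.getD_nil, mul_assoc, mul_one] using h7
    · simpa only [wprod, lv, List.map_cons, List.map_nil, List.prod_cons, List.prod_nil, List.getD_cons_zero, List.getD_cons_succ,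
      List.getD_nil, mul_assoc, mul_one] using h8
    · simpa only [wprod, lv, List.map_cons, List.map_nil, List.prod_cons, List.prod_nil, List.getD_cons_zero, List.getD_cons_succ,
      List.getD_nil, mul_assoc, mul_one] using h9
    · simpa only [wprod, lv, List.map_cons, List.map_nil, List.prod_cons, List.prod_nil, List.getD_cons_zero, List.getD_cons_succ,
      List.getD_nil, mul_assoc, mul_one] using h10
    · simpa only [wprod, lv, List.map_cons, List.map_nil, List.prod_cons, List.prod_nil, List.getD_cons_zero, List.getD_cons_succ,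
      List.getD_nil, mul_assoc, mul_one] using h11
    · simpa only [wprod, lv, List.map_cons, List.map_nil, List.prod_cons, List.prod_nil, List.getD_cons_zero, List.getD_cons_succ,
      List.getD_nil, mul_assoc, mul_one] using h12
    · simpa only [wprod, lv, List.map_cons, List.map_nil, List.prod_cons, List.prod_nil, List.getD_cons_zero, List.getD_cons_succ,
      List.getD_nil, mul_assoc, mul_one] using h13
    · simpa only [wprod, lv, List.map_cons, List.map_nil, List.prod_cons, List.prod_nil, List.getD_cons_zero, List.getD_cons_succ,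
      List.getD_nil, mul_assoc, mul_one] using h14
    · simpa only [wprod, lv, List.map_cons, List.map_nil, List.prod_cons, List.prod_nil, List.getD_cons_zero, List.getD_cons_succ,
      List.getD_nil, mul_assoc, mul_one] using h15
    )
  simpa only [wprod, lv, List.map_cons, List.map_nil, List.prod_cons, List.prod_nil, List.getD_cons_zero, List.getD_cons_succ,
      List.getD_nil, mul_assoc, mul_one] using h

end L2

/-! ### L3: 169 nodes, 9 columns, 489 entries; letters `a c d e u U w`; conclusion `wdcdedcdewUdcdUdcde = 1` -/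

namespace L3

def T0 : ℕ := 0x7d98000000000000000007d800007571d5e000000000000000001e94000225600000007a480000001d8d000000000000000000000000000089260870000000000000000020818915e7e0001e7f000000000000007dde1767dc5f72000000070f5e6f78d40000000000000222b859c0000002226857df5b0001f588880000887c00075440000001f1e814a05388680007d3c0000000000884220f000220e00000008528000883220b882a14600020430000000810214184fe03a00000008812137880e202000203488040000000000000213184c212e000212984a212700000000000000000211b84661188454000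
def T1 : ℕ := 0x1c9600019a36a9000000000006e38000000000000000005a800000001da60000000000227289c40000001c9f0000000000000089a800089940000000000000000000000006979c5c00000008960000716400000000000000000895219286440000000000000000000021897d2e2490000000861c00000000007e04000000197f8911b7e00022426de617b000223e00021730001b3888d40000000000000222d81a40000000000000205f889a15d0000000000222000021567d3e21b0001e1c00000000000000854621500000000000000883c000853220e0000000000000000021458824000882220500021400001f3b8811d3a84f00007c6201980da20184d00000000000884211184bc000883210d00000008496123881a1070000000880a1038458000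
def T2 : ℕ := 0x159b000000000022928a4489d0000000000228c26880005aa0000000227b89e8000000227789d21a40000000000000089be19e6a1e26b00022680001a7f898c0007d91c84000225d6e180007186259866219700022578650000895a1930002253894a250863624e0000000000224b000218800000000002083000224775f400000000008600000890c00085f224085e000088e623885ca17170f217088d216e88c800085aa06788ae22a8589f270002224856e2210002158000221f8875d51000000000021540000000885a14f88500007cc20310000000000000085240000002029811a20a00021440000000850800084f800000000007c64000806df15000213580621330002211844a20f844220d843a20b843212600022078422205841a20384122018408000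
def T3 : ℕ := 0x229676940007a9c00000000008a396a200000000000000000188d000000062421a87a4c0007e54000000000089c21a1666800089b00000000000000000000000008988000897c0000000000896c0000000000000000000000000000000000000000000000000000893618b00000000000000000000000022480002183891a2458604000000000085f400000000000000000000000000000000000000000000085b5e690000000000216488a8000000000000000000001c3a78dc00000000000001d4000000007cfe216000000000000000000000000204a0000000883a1470000000790c0007c8c00080940000001f1c00020210002020000201f000000088061360002200884a1130000000000212b000000000000008822109000000088121050000000845e114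
def T4 : ℕ := 0x228e0000000000000000000005e7c000663dda5000000000000000002270000000000000007db40000000000799e26400022620001d610000000896dd5d000219a6566258756a19500000000001e9100000000000000893c000000224d000000000020870002249000000000000000002182000000061fe24485f8000890a17988fa177000000000022376dbe2350002233000000000000008594000000000000000000000000788800000000000001d1e000221b8868000854c0000000000000221180c9b2e7cb1d2f0000000000220d80a80000000000000000000020408814000000220470e800084ee1380000000000000000000000000000000000088380000000000882800000000000000000848211c00000000000000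
def T5 : ℕ := 0x6ea0000725800000000007a8800000000008a280008a1627c0000000000000089e0000000000075d00006a5e1a00000000000000000000007da00000000000000226000000005d7625b00000000000000896000089580000002255000000000021906944000822c00000000000000000761c000892618600021847a08000000224479f800085fde7969ee17a81d8000000000088dc0000001b3d85bc00085b0000000000000000000000000000215c0002159000000000021570000000886db1d000221a854800085400008539f31000000078b9c30000202f0000000000000080a000000000000001f4100022050001e3c000220484e8000000000000000000000000000000084c8000000210f84a8000000210b00000000000000848400000000000000000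
def T6 : ℕ := 0x8a562948a4c00000022907e3d7978a340000002288000000089f0b886282278869e1a6869400000021a28286270867e26e00000000000a980000000000000000000000001f750000000000219900000000000000000000082000000000000000218e000218c00000008934000892800000000000000000892000000000000000000000000000000000000000000000000000006501c41000000000000000001f2e88ae169000000000000000000000888c0007549a5300000000000000000000000000000000000000000000000000000000000204c8838000852c00000000007c94000809e208850e03f0001e38881400080dc000000220400000000000000000201700000000000000000212d00000000002209842a1240000000847e11a00000008802101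
def T7 : ℕ := 0x134b51a40000000000000078a0000d9800000000000c9c00000000000000000126a00000000000000000066b000000045c8000000000000000000000000000000000000000000000000000000000000000000000000000010890000000000054d000000000000000000000000000000000000000000000000000000000000000000000000000000000000000000000000000000000000043200000000000000000000000000000000000000000000000000000000000000000000000000000000000000000000c440000000000000000000000000000000000000000000000000000000000000000000000000000000000000000000000000000000002120400000000000000000000000000000000000000000000000000000000000000000000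
def T8 : ℕ := 0xf6a0000000000000000000000000e7200000000000000000000000000000000000000000000000000000000000000000000000000000000000000000000000000000000000000000000000000000000000000000000000000000000000000000000000000000000000000000000000000000000000000000000000000000000000000000000000000000000000000000000000000000000000000000000000000000000000000000000000000000000000000000000000000000000000000000000000000000000000
def tabs : List ℕ := [T0, T1, T2, T3, T4, T5, T6, T7, T8]
def dc : ℕ := 0x3666226346256556226522114362632121424353245321452502512224234626104536233051421424122541424216022301262010221544503212400106134000216114564150600310332124212463212321260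
noncomputable def look (c n : ℕ) : ℕ := lookF tabs 14 16383 c n
noncomputable def dcol (n : ℕ) : ℕ := Nat.land (Nat.shiftRight dc (Nat.mul 4 n)) 15
def inv : List ℕ := [0, 1, 2, 3, 5, 4, 6]
def lab : List ℕ := [0, 1, 2, 3, 4, 5, 6, 7, 1]
def rels : List (List ℕ) := [
  [0, 3, 0, 3],
  [0, 1, 2, 1, 2, 1, 2, 1, 2],
  [1, 3, 1, 3],
  [2, 3, 2, 3, 2, 3],
  [0, 1, 0, 1],
  [0, 2, 0, 2],
  [4, 4, 1, 0],
  [5, 0, 4, 0],
  [5, 1, 4, 1],
  [5, 3, 4, 3],
  [2, 3, 5, 2, 4, 2, 3, 5, 2, 4],
  [6, 0, 6, 1],
  [3, 6, 3, 6],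
  [6, 4, 6, 3, 5],
  [6, 2, 4, 2, 6, 1, 3, 2, 5, 2, 6, 3, 5, 2, 5, 2],
  [6, 2, 1, 2, 6, 2, 1, 2, 6, 2, 1, 2],
  [2, 4, 2, 4, 2, 4, 2, 4, 2, 4, 2, 4]]
noncomputable def fx (c : ℕ) : Bool := memb [] (nth lab c)
def TM0 : List (Bool × List ℕ) := [(false, [0]), (true, [2, 0, 2]), (true, [4, 0, 5]), (true, [1, 0, 1]), (true, [5, 0, 4]), (true, [4, 4, 1]), (true, [3, 0, 3]), (true, [6, 1, 6])]
def TM1 : List (Bool × List ℕ) := [(false, [1]), (true, [6, 0, 6]), (true, [0, 1, 0]), (true, [4, 1, 5]), (true, [0, 4, 4]), (true, [2, 1, 2, 1, 2, 1, 0, 2]), (true, [3, 1, 3])]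
def TM2 : List (Bool × List ℕ) := [(false, [2]), (true, [0, 2, 0]), (true, [4, 3, 2, 5, 2, 4, 3, 2, 5]), (true, [3, 2, 3, 2, 3]), (true, [5, 2, 6, 3, 5, 2, 5, 2, 6, 2, 4, 2, 6, 1, 3]), (true, [1, 2, 1, 2, 1, 2, 0, 1])]
def TM3 : List (Bool × List ℕ) := [(false, [3]), (true, [6, 3, 6]), (true, [0, 3, 0]), (true, [1, 3, 1]), (true, [2, 5, 2, 4, 3, 2, 5, 2, 4]), (true, [4, 3, 5]), (true, [5, 3, 4])]
def TM4 : List (Bool × List ℕ) := [(false, [5]), (true, [0, 1, 5]), (true, [1, 4, 1]), (true, [5, 0, 1]), (true, [6, 4, 3, 6]), (true, [0, 4, 0])]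
def TM5 : List (Bool × List ℕ) := [(false, [4]), (true, [4, 1, 0]), (true, [1, 0, 4]), (true, [1, 5, 1]), (true, [3, 5, 3]), (true, [0, 5, 0]), (true, [3, 2, 5, 2, 4, 3, 2, 5, 2]), (true, [6, 3, 5, 6])]
def TM6 : List (Bool × List ℕ) := [(false, [6]), (true, [1, 6, 0]), (true, [3, 5, 6, 4]), (true, [3, 6, 3]), (true, [0, 6, 1]), (true, [2, 1, 2, 6, 2, 1, 2, 6, 2, 1, 2]), (true, [4, 3, 6, 5]), (true, [4, 6, 3, 5]), (true, [7, 6])]
def TM7 : List (Bool × List ℕ) := [(true, [2, 7, 2]), (false, [7]), (true, [1, 7, 1]), (true, [2, 5, 2, 6, 3, 5, 2, 5, 2, 6, 2, 4, 2, 6, 1, 3]), (true, [2, 6, 2, 4, 2, 6, 1, 3, 2, 5, 2, 6, 3, 5, 2, 5]), (true, [5, 7, 4]), (true, [6, 2, 1, 2, 6, 2, 8, 2, 6, 2, 1, 2]), (true, [6, 7, 6]), (false, [1, 7, 1]), (false, [3, 7, 3])]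
def TM8 : List (Bool × List ℕ) := [(true, [7, 1]), (false, [8])]
def TT : List (List (Bool × List ℕ)) := [TM0, TM1, TM2, TM3, TM4, TM5, TM6, TM7, TM8]

theorem tt_ok : allOK 7 inv lab (withInv 7 inv rels) TT 0 = true := by decide +kernel
theorem bits_ok : bitsLt (14 * 169) tabs = true := by decide +kernel

theorem chunk0 : RangeOk look 255 0 1 dcol fx TT 0 1 :=
  RangeOk.of_chunk (S := 1) (pb := 1) (pm := 1) 1 (by decide) rfl (DD := [
  (0, (1, 0x0), (0, 0x0), [(0, 0x0), (0, 0x0), (0, 0x0), (0, 0x0), (0, 0x0), (0, 0x0), (0, 0x0), (0, 0x0)]),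
  (0, (1, 0x0), (0, 0x0), [(0, 0x0), (0, 0x0), (0, 0x0), (0, 0x0), (0, 0x0), (0, 0x0), (0, 0x0)]),
  (0, (1, 0x0), (0, 0x0), [(0, 0x0), (0, 0x0), (0, 0x0), (0, 0x0), (0, 0x0), (0, 0x0)]),
  (0, (0, 0x0), (0, 0x0), [(1, 0x0), (0, 0x0), (0, 0x0), (0, 0x0), (0, 0x0), (0, 0x0), (0, 0x0)]),
  (0, (1, 0x0), (0, 0x0), [(0, 0x0), (0, 0x0), (0, 0x0), (0, 0x0), (0, 0x0), (0, 0x0)]),
  (0, (1, 0x0), (0, 0x0), [(0, 0x0), (0, 0x0), (0, 0x0), (0, 0x0), (0, 0x0), (0, 0x0), (0, 0x0), (0, 0x0)]),
  (0, (0, 0x0), (0, 0x0), [(1, 0x0), (0, 0x0), (0, 0x0), (0, 0x0), (0, 0x0), (0, 0x0), (0, 0x0), (0, 0x0), (0, 0x0)]),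
  (0, (1, 0x0), (0, 0x0), [(0, 0x0), (0, 0x0), (0, 0x0), (0, 0x0), (0, 0x0), (0, 0x0), (0, 0x0), (0, 0x0), (0, 0x0), (0, 0x0)]),
  (0, (1, 0x0), (0, 0x0), [(0, 0x0), (0, 0x0)])]) (by decide +kernel)
theorem chunk1 : RangeOk look 255 0 1 dcol fx TT 1 169 :=
  RangeOk.of_chunk (S := 168) (pb := 8) (pm := 255) 169 (by decide) rfl (DD := [
  (0, (104, 0xa7a6a5a4a3a2a1a09f9e9d9c9b9a999897969594939291908f8e8d8c8b8a89888785848382817f7c7b7a797876747371706e6d6c6b6a69686764636261605c5a59585752514d4c4b4a4746423f3d3b3a353332312e2c2b292422211c1b16131211100c0807060504), (18, 0x75665e4945403e36302f2d2827261a181714), [(25, 0x86807e7d55504e4844392a251f1e190f0e0d0b0a0903020100), (7, 0x776f5453434134), (4, 0x5b4f381d), (3, 0x723c15), (3, 0x5d5637), (2, 0x6520), (1, 0x5f), (1, 0x23)]),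
  (0, (94, 0xa7a6a4a1a09f9d9c9b9a9997969493928f8e8c8b8a89878584838281807f7c7b7977767574736f6e6d6c6b6a66656362615f5e5a5654524f4e4d4c494847464241403e3a383736353231302f2d2a2928272623201e191312110d0a090403), (27, 0x919088867a72675c5955504b443f3b332e2b2422211c15100c0602), [(31, 0xa5a39e71706968645d5b585753433d342c251f1b1a18140f0e0b0807050100), (4, 0x958d514a), (3, 0x7e4517), (3, 0x987d78), (2, 0x391d), (2, 0xa23c), (2, 0x6016)]),
  (0, (64, 0xa6a5a4a09f9e9b99989594908f8e8d888683807d7875726c6b6a68666564625f5e5d5b59554b44403e3a39383635312e2d2c2b29282422211f1d1c1b19161208), (44, 0xa3a29d979693928c8987847f7b777471706f6d69615a5754534e4c484743413d3c343225110f0d0b07050301), [(46, 0xa7a1918b85827c7a7976736e675c58565251504f4d4a4645423f3733302a23201e1a171513100e0c0a0906040200), (6, 0x492f27261814), (3, 0x8a817e), (2, 0x6360), (2, 0x9c9a), (1, 0x3b)]),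
  (0, (113, 0xa5a3a2a19e9d9c9b9a98979391908f8b89888786858483817f7e7d7b7a797877767574737271706f6e6d6a696867666564625d5c5b595857565554535251504f4e4d4a49484544434241403d3c3b3a383734333231302f2e2c2b2827252321201e1c1a181714100f0e0c0b0a0906050201), (19, 0xa7a08e8a82807c6c63605f46352a1613120804), [(22, 0xa69995948d6b615e5a4c473f3e29241f15110d070300), (5, 0xa49f4b2619), (2, 0x362d), (2, 0x3922), (2, 0x928c), (2, 0x961d), (1, 0x1b)]),
  (0, (111, 0xa7a6a5a4a3a2a1a09e9d9c9b9a999794939291908e8d8c8b8988878482807f7c7675747271706f6d6c6a69686664636261605e5d595453524e4c4b4a49474645444342413f3e3d3c3a37353433322c2b2a2726252423221f1e1b1817161514131211100f0d0c0b0908070605020100), (23, 0x9f8f85837e796e6b655b5856514f4d39383129201d0e0a), [(23, 0x968a817d7b7a78775f5a575548403b362f2e2d1a190403), (3, 0x503028), (3, 0x67211c), (2, 0x735c), (2, 0x9895), (1, 0x86)]),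
  (0, (108, 0xa7a5a3a2a19f9e9d9b989796959392918f8c8b8a89888785848382807f7c7b7a797775747271706d6b6a69686765625f5e5b55545351504d4b4a49484746454442403f3e3c3b383533302f2c2a29282725242322201e1c1918171615141312110f0e0b0a0807060503020100), (16, 0x9c9a9994817d787673645d523a371f1b), [(28, 0xa4908d867e6f6e6663615a574e4c43413d39363432311a100d0c0904), (5, 0x564f2e2d21), (3, 0x605c59), (3, 0x582b1d), (2, 0xa66c), (1, 0x26), (1, 0x8e), (1, 0xa0)]),
  (0, (111, 0xa7a3a29d9c9a9991908a8988868584838281807e7d7c7a7978777675737271706e6c6b69676665646361605f5e5d5c5b5a59585756555453504f4e4d4c484746454443413e3d3c3b3a393837363534333231302f2e2b29282725201d1b1a18171615141211100f0e0c0b0a06050201), (21, 0xa6a5a4a19e9b98958d8b6a68624a422c231e190900), [(24, 0xa09f9493928f8c877f7b6f6d52514b492a26220d08070403), (3, 0x24211c), (2, 0x3f1f), (2, 0x8e13), (1, 0x2d), (1, 0x74), (1, 0x96), (1, 0x40), (1, 0x97)]),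
  (0, (154, 0xa7a6a5a4a1a09f9e9c9a99989695949392908f8e8d8c8a8987868584838281807f7e7d7c7b7a7978777675747372706f6e6c6b6a696867666564636261605f5e5d5c5b5a595857565554535251504f4e4c4b4a494847464544434241403f3e3d3c3b3a3938373635343331302f2e2d2c2b2a292827262524232221201f1e1d1c1b1a19181716151411100f0e0d0c0b0a09080706050403020100), (0, 0x0), [(4, 0x918b4d13), (2, 0x9771), (1, 0xa3), (1, 0xa2), (1, 0x9d), (1, 0x32), (1, 0x9b), (1, 0x6d), (1, 0x88), (1, 0x12)]),
  (0, (166, 0xa7a6a5a4a3a2a1a09f9e9d9c9b9a999897969594939291908f8e8d8c8b8a898887868584838281807f7e7d7c7b7a7978777675747372706f6e6d6c6b6a6867666564636261605f5e5d5c5b5a595857565554535251504f4e4d4c4b4a494847464544434241403f3e3d3c3b3a393837363534333231302f2e2d2c2b2a292827262524232221201f1e1d1c1b1a191817161514131211100f0e0d0c0b0a09080706050403020100), (0, 0x0), [(1, 0x71), (1, 0x69)])]) (by decide +kernel)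

theorem valid : Valid look 255 0 1 169 dcol fx TT where
  fin := chunk0
  rest := chunk1
  out := fun c n h => by
    have := lookF_ne_zero bits_ok c n h
    exact ⟨this.1, this.2⟩
  bdd := ⟨_, fun c n => lookF_le tabs _ _ c n⟩
  cols := by decide
  pos := by decide

theorem traced : trace look 255 0 0 [6, 2, 1, 2, 3, 2, 1, 2, 3, 6, 5, 2, 1, 2, 5, 2, 1, 2, 3, 7] 0 = true := by decide +kernel

theorem word {G : Type*} [Group G] (gl : List G) (hl : gl.length = 7)
    (hinv : ∀ a < gl.length, lv gl a * lv gl (nth inv a) = 1) (hrel : ∀ r ∈ rels, wprod gl r = 1) :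
    wprod gl ([6, 2, 1, 2, 3, 2, 1, 2, 3, 6, 5, 2, 1, 2, 5, 2, 1, 2, 3, 7].map (nth lab)) = 1 := by
  have h := mem_of_trace gl inv lab [] rels valid (by rw [hl]; exact tt_ok) hinv hrel (⊥ : Subgroup G)
    (by simp) [6, 2, 1, 2, 3, 2, 1, 2, 3, 6, 5, 2, 1, 2, 5, 2, 1, 2, 3, 7] traced
  exact Subgroup.mem_bot.1 h

theorem rel {G : Type*} [Group G] (a c d e u w : G)
    (i0 : a * a = 1)
    (i1 : c * c = 1)
    (i2 : d * d = 1)
    (i3 : e * e = 1)
    (i6 : w * w = 1)
    (h0 : a * e * a * e = 1)
    (h1 : a * c * d * c * d * c * d * c * d = 1)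
    (h2 : c * e * c * e = 1)
    (h3 : d * e * d * e * d * e = 1)
    (h4 : a * c * a * c = 1)
    (h5 : a * d * a * d = 1)
    (h6 : u * u * c * a = 1)
    (h7 : u⁻¹ * a * u * a = 1)
    (h8 : u⁻¹ * c * u * c = 1)
    (h9 : u⁻¹ * e * u * e = 1)
    (h10 : d * e * u⁻¹ * d * u * d * e * u⁻¹ * d * u = 1)
    (h11 : w * a * w * c = 1)
    (h12 : e * w * e * w = 1)
    (h13 : w * u * w * e * u⁻¹ = 1)
    (h14 : w * d * u * d * w * c * e * d * u⁻¹ * d * w * e * u⁻¹ * d * u⁻¹ * d = 1)
    (h15 : w * d * c * d * w * d * c * d * w * d * c * d = 1)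
    (h16 : d * u * d * u * d * u * d * u * d * u * d * u = 1) :
    w * d * c * d * e * d * c * d * e * w * u⁻¹ * d * c * d * u⁻¹ * d * c * d * e = 1 := by
  have h : wprod [a, c, d, e, u, u⁻¹, w] [6, 2, 1, 2, 3, 2, 1, 2, 3, 6, 5, 2, 1, 2, 5, 2, 1, 2, 3, 7] = 1 := word [a, c, d, e, u, u⁻¹, w] rfl (by
    intro i hi
    match i, hi with
    | 0, _ => exact i0
    | 1, _ => exact i1
    | 2, _ => exact i2
    | 3, _ => exact i3
    | 4, _ => exact mul_inv_cancel u
    | 5, _ => exact inv_mul_cancel u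
    | 6, _ => exact i6
    | n + 7, hi => exact absurd hi (by simp)) (by
    intro r hr
    simp only [rels, List.mem_cons, List.not_mem_nil, or_false] at hr
    rcases hr with rfl | rfl | rfl | rfl | rfl | rfl | rfl | rfl | rfl | rfl | rfl | rfl | rfl | rfl | rfl | rfl | rfl
    · simpa only [wprod, lv, List.map_cons, List.map_nil, List.prod_cons, List.prod_nil, List.getD_cons_zero, List.getD_cons_succ,
      List.getD_nil, mul_assoc, mul_one] using h0
    · simpa only [wprod, lv, List.map_cons, List.map_nil, List.prod_cons, List.prod_nil, List.getD_cons_zero, List.getD_cons_succ,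
      List.getD_nil, mul_assoc, mul_one] using h1
    · simpa only [wprod, lv, List.map_cons, List.map_nil, List.prod_cons, List.prod_nil, List.getD_cons_zero, List.getD_cons_succ,
      List.getD_nil, mul_assoc, mul_one] using h2
    · simpa only [wprod, lv, List.map_cons, List.map_nil, List.prod_cons, List.prod_nil, List.getD_cons_zero, List.getD_cons_succ,
      List.getD_nil, mul_assoc, mul_one] using h3
    · simpa only [wprod, lv, List.map_cons, List.map_nil, List.prod_cons, List.prod_nil, List.getD_cons_zero, List.getD_cons_succ,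
      List.getD_nil, mul_assoc, mul_one] using h4
    · simpa only [wprod, lv, List.map_cons, List.map_nil, List.prod_cons, List.prod_nil, List.getD_cons_zero, List.getD_cons_succ,
      List.getD_nil, mul_assoc, mul_one] using h5
    · simpa only [wprod, lv, List.map_cons, List.map_nil, List.prod_cons, List.prod_nil, List.getD_cons_zero, List.getD_cons_succ,
      List.getD_nil, mul_assoc, mul_one] using h6
    · simpa only [wprod, lv, List.map_cons, List.map_nil, List.prod_cons, List.prod_nil, List.getD_cons_zero, List.getD_cons_succ,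
      List.getD_nil, mul_assoc, mul_one] using h7
    · simpa only [wprod, lv, List.map_cons, List.map_nil, List.prod_cons, List.prod_nil, List.getD_cons_zero, List.getD_cons_succ,
      List.getD_nil, mul_assoc, mul_one] using h8
    · simpa only [wprod, lv, List.map_cons, List.map_nil, List.prod_cons, List.prod_nil, List.getD_cons_zero, List.getD_cons_succ,
      List.getD_nil, mul_assoc, mul_one] using h9
    · simpa only [wprod, lv, List.map_cons, List.map_nil, List.prod_cons, List.prod_nil, List.getD_cons_zero, List.getD_cons_succ,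
      List.getD_nil, mul_assoc, mul_one] using h10
    · simpa only [wprod, lv, List.map_cons, List.map_nil, List.prod_cons, List.prod_nil, List.getD_cons_zero, List.getD_cons_succ,
      List.getD_nil, mul_assoc, mul_one] using h11
    · simpa only [wprod, lv, List.map_cons, List.map_nil, List.prod_cons, List.prod_nil, List.getD_cons_zero, List.getD_cons_succ,
      List.getD_nil, mul_assoc, mul_one] using h12
    · simpa only [wprod, lv, List.map_cons, List.map_nil, List.prod_cons, List.prod_nil, List.getD_cons_zero, List.getD_cons_succ,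
      List.getD_nil, mul_assoc, mul_one] using h13
    · simpa only [wprod, lv, List.map_cons, List.map_nil, List.prod_cons, List.prod_nil, List.getD_cons_zero, List.getD_cons_succ,
      List.getD_nil, mul_assoc, mul_one] using h14
    · simpa only [wprod, lv, List.map_cons, List.map_nil, List.prod_cons, List.prod_nil, List.getD_cons_zero, List.getD_cons_succ,
      List.getD_nil, mul_assoc, mul_one] using h15
    · simpa only [wprod, lv, List.map_cons, List.map_nil, List.prod_cons, List.prod_nil, List.getD_cons_zero, List.getD_cons_succ,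
      List.getD_nil, mul_assoc, mul_one] using h16
    )
  simpa only [wprod, lv, List.map_cons, List.map_nil, List.prod_cons, List.prod_nil, List.getD_cons_zero, List.getD_cons_succ,
      List.getD_nil, mul_assoc, mul_one] using h

end L3

/-! ### L4: 79 nodes, 7 columns, 216 entries; letters `a c d e u U`; conclusion `ddcdudcdudUdcdUdcdedcdea = 1` -/

namespace L4

def T0 : ℕ := 0x54c6bd0000000000000000000000005c000074800000000071e00000000089589400000000000088f88e00072b7ac88d88c6a762888b00088a8890008887bc8877b988688588488388200089681783583400000000000082f82e82a82982682482382181f81d81c81b81a819000000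
def T1 : ℕ := 0x44b4cc8bd00000000000000000000000000000000000084a00000000000073900000000000000000000000000000088e6aa88d62c00000000000000000000000000000000000000079d00000000000000000000089381400000088f81082d00088b80c000000000000885806000000880000802
def T2 : ℕ := 0x2468c28c000000063f8bc8bb2ce8b70008b284d00084c6c90008a084884789e0000000000007347b50008430007b30007af0000000000007aa0000000000007a60000007a383d00000000000079c00079a00000000089481589281389081188e80f88c80d88a80b888809886807884805882803880801
def T3 : ℕ := 0x74b0000000000008a98a87278a100089f0007bd89d89c8987440000008930007c28900000000000000000008418407bf00088b00000088883e88783c8868398380000000000007b5895816000833891812830000000000000825000000822820000000000000000000000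
def T4 : ℕ := 0x3cb5ca8bd0004cd6cc5c58ba0008b584e8b000000054100084973e0000000000000008970007320008938900007b100000088e0005ad00088c5a97a883f0000000000007a27a183b00000000079b00088000000000000000000000000000088d000000827889000000808000000000804000000000
def T5 : ℕ := 0x8c344964834d54c8bd0000000006470000000000000008a500084b00089e0000006bb0000008440000007b400084200000000000000052e00072688b0000000007a472000000000000000000000000000079983600000000083200000083100082c80e82800000080a887000000000883000000000000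
def T6 : ℕ := 0x1b7000000000000000000000000000000000000000118000000000000000000000000000000000000000000000000000000000000000000000000000000000000000000080000000000000000000000000000000000000000000000000000000000000000000000
def tabs : List ℕ := [T0, T1, T2, T3, T4, T5, T6]
def dc : ℕ := 0x15286a51451bad3a9b70072300c204a180c30c00040d14d1511515455450
noncomputable def look (c n : ℕ) : ℕ := lookF tabs 12 4095 c n
noncomputable def dcol (n : ℕ) : ℕ := Nat.land (Nat.shiftRight dc (Nat.mul 3 n)) 7
def inv : List ℕ := [0, 1, 2, 3, 5, 4]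
def lab : List ℕ := [0, 1, 2, 3, 4, 5, 6]
def rels : List (List ℕ) := [
  [0, 3, 0, 3],
  [0, 1, 2, 1, 2, 1, 2, 1, 2],
  [1, 3, 1, 3],
  [2, 3, 2, 3, 2, 3],
  [0, 1, 0, 1],
  [0, 2, 0, 2],
  [4, 4, 1, 0],
  [5, 0, 4, 0],
  [5, 1, 4, 1],
  [5, 3, 4, 3],
  [2, 3, 5, 2, 4, 2, 3, 5, 2, 4],
  [2, 4, 2, 4, 2, 4, 2, 4, 2, 4, 2, 4]]
noncomputable def fx (c : ℕ) : Bool := memb [] (nth lab c)
def TM0 : List (Bool × List ℕ) := [(false, [0]), (true, [3, 0, 3]), (true, [2, 0, 2]), (true, [1, 5, 5]), (true, [5, 0, 4])]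
def TM1 : List (Bool × List ℕ) := [(false, [1]), (true, [0, 1, 0]), (true, [3, 1, 3]), (true, [4, 1, 5])]
def TM2 : List (Bool × List ℕ) := [(false, [2]), (true, [0, 2, 0]), (true, [3, 5, 2, 4, 2, 3, 5, 2, 4]), (true, [3, 2, 3, 2, 3])]
def TM3 : List (Bool × List ℕ) := [(false, [3]), (true, [4, 3, 5]), (true, [0, 3, 0]), (true, [2, 3, 2, 3, 2]), (true, [5, 3, 4])]
def TM4 : List (Bool × List ℕ) := [(false, [5]), (true, [0, 4, 0]), (true, [3, 4, 3]), (true, [0, 1, 5]), (true, [2, 4, 3, 2, 5, 2, 4, 3, 2]), (true, [5, 0, 1]), (true, [1, 4, 1])]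
def TM5 : List (Bool × List ℕ) := [(false, [4]), (true, [4, 1, 0]), (true, [0, 5, 0]), (true, [1, 0, 4]), (true, [2, 3, 5, 2, 4, 2, 3, 5, 2])]
def TM6 : List (Bool × List ℕ) := [(true, [3, 6, 3]), (true, [4, 2, 4, 2, 4, 2, 4, 2, 4, 2, 4, 2]), (true, [5, 6, 4])]
def TT : List (List (Bool × List ℕ)) := [TM0, TM1, TM2, TM3, TM4, TM5, TM6]

theorem tt_ok : allOK 6 inv lab (withInv 6 inv rels) TT 0 = true := by decide +kernel
theorem bits_ok : bitsLt (12 * 79) tabs = true := by decide +kernel

theorem chunk0 : RangeOk look 127 0 1 dcol fx TT 0 1 :=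
  RangeOk.of_chunk (S := 1) (pb := 1) (pm := 1) 1 (by decide) rfl (DD := [
  (0, (1, 0x0), (0, 0x0), [(0, 0x0), (0, 0x0), (0, 0x0), (0, 0x0), (0, 0x0)]),
  (0, (0, 0x0), (0, 0x0), [(1, 0x0), (0, 0x0), (0, 0x0), (0, 0x0)]),
  (0, (0, 0x0), (0, 0x0), [(1, 0x0), (0, 0x0), (0, 0x0), (0, 0x0)]),
  (0, (1, 0x0), (0, 0x0), [(0, 0x0), (0, 0x0), (0, 0x0), (0, 0x0), (0, 0x0)]),
  (0, (1, 0x0), (0, 0x0), [(0, 0x0), (0, 0x0), (0, 0x0), (0, 0x0), (0, 0x0), (0, 0x0), (0, 0x0)]),
  (0, (1, 0x0), (0, 0x0), [(0, 0x0), (0, 0x0), (0, 0x0), (0, 0x0), (0, 0x0)]),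
  (0, (1, 0x0), (0, 0x0), [(0, 0x0), (0, 0x0), (0, 0x0)])]) (by decide +kernel)
theorem chunk1 : RangeOk look 127 0 1 dcol fx TT 1 79 :=
  RangeOk.of_chunk (S := 78) (pb := 7) (pm := 127) 79 (by decide) rfl (DD := [
  (0, (33, 0x4d992e5498d16243850603f7aedd396ed9ab262c17ac4884b922240780), (17, 0x3466b96a950951a24078e1b3464c16), [(21, 0x4770ad315284c70d182c509101c305080c101), (3, 0xf8f9d), (2, 0x243c), (1, 0x2a), (1, 0x27)]),
  (0, (58, 0x26cc911e345890e14180fdf3d76e9cb86cd5a3364c582f5cb54274c95223448501f3c74e1a3260b962a5089018244070c0c100), (8, 0x92b15131e2c281), [(8, 0x96f14921c34504), (2, 0x159b), (1, 0x37), (1, 0x4a)]),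
  (0, (30, 0x25498701eb86ed9ab260b962b54a53a64a911213c74e1b325cb15), (19, 0x1325c78d1213c72509101c305080c10100), [(19, 0x1364417eedd34627c9911e345890e14181), (7, 0xcd6a84680d18), (2, 0x22be), (1, 0x2f)]),
  (0, (43, 0x13664b95264478d121c282f1d3466c572d58ad5294a8d11a3260b931c3460b12202840608080), (15, 0x101fbd76e1bb664bd2213e74a91), [(14, 0x1f284e80f1c36509101e28386), (3, 0x115ab0), (1, 0x16), (1, 0x39), (1, 0x26)]),
  (0, (44, 0x9b262407ef5d3970ddb3464bd6ac54a11a24280e1b3460b15284c911203c70c1620385080c080), (12, 0x95161c16ac582b4e5c689), [(9, 0x4684f19a43a28302), (3, 0x98f19), (3, 0xf9d9f), (2, 0x1725), (2, 0x2447), (2, 0x264b), (1, 0x29)]),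
  (0, (49, 0x478d161c28301fbd76e5c366acd9305cb562b54a12a44680f9e3a70d9a3260a94264480e14243050808080), (7, 0x13643e7498383), [(16, 0x992e54978d17a7425890f1a30588), (3, 0xc5497), (1, 0x22), (1, 0x37), (1, 0x44)]),
  (0, (75, 0x13664b95264478d162428301fbe7af1dba72e1bb668cd93160bd72d58ad529509d325488d121407cf1d386cd19305ca9426488901e3868c16284880e182840608080), (0, 0x0), [(1, 0x35), (1, 0x43), (1, 0x16)])]) (by decide +kernel)

theorem valid : Valid look 127 0 1 79 dcol fx TT where
  fin := chunk0
  rest := chunk1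
  out := fun c n h => by
    have := lookF_ne_zero bits_ok c n h
    exact ⟨this.1, this.2⟩
  bdd := ⟨_, fun c n => lookF_le tabs _ _ c n⟩
  cols := by decide
  pos := by decide

theorem traced : trace look 127 0 0 [2, 2, 1, 2, 4, 2, 1, 2, 4, 2, 5, 2, 1, 2, 5, 2, 1, 2, 3, 2, 1, 2, 3, 0, 6] 0 = true := by decide +kernel

theorem word {G : Type*} [Group G] (gl : List G) (hl : gl.length = 6)
    (hinv : ∀ a < gl.length, lv gl a * lv gl (nth inv a) = 1) (hrel : ∀ r ∈ rels, wprod gl r = 1) :
    wprod gl ([2, 2, 1, 2, 4, 2, 1, 2, 4, 2, 5, 2, 1, 2, 5, 2, 1, 2, 3, 2, 1, 2, 3, 0, 6].map (nth lab)) = 1 := by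
  have h := mem_of_trace gl inv lab [] rels valid (by rw [hl]; exact tt_ok) hinv hrel (⊥ : Subgroup G)
    (by simp) [2, 2, 1, 2, 4, 2, 1, 2, 4, 2, 5, 2, 1, 2, 5, 2, 1, 2, 3, 2, 1, 2, 3, 0, 6] traced
  exact Subgroup.mem_bot.1 h

theorem rel {G : Type*} [Group G] (a c d e u : G)
    (i0 : a * a = 1)
    (i1 : c * c = 1)
    (i2 : d * d = 1)
    (i3 : e * e = 1)
    (h0 : a * e * a * e = 1)
    (h1 : a * c * d * c * d * c * d * c * d = 1)
    (h2 : c * e * c * e = 1)
    (h3 : d * e * d * e * d * e = 1)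
    (h4 : a * c * a * c = 1)
    (h5 : a * d * a * d = 1)
    (h6 : u * u * c * a = 1)
    (h7 : u⁻¹ * a * u * a = 1)
    (h8 : u⁻¹ * c * u * c = 1)
    (h9 : u⁻¹ * e * u * e = 1)
    (h10 : d * e * u⁻¹ * d * u * d * e * u⁻¹ * d * u = 1)
    (h11 : d * u * d * u * d * u * d * u * d * u * d * u = 1) :
    d * d * c * d * u * d * c * d * u * d * u⁻¹ * d * c * d * u⁻¹ * d * c * d * e * d * c * d * e * a = 1 := by
  have h : wprod [a, c, d, e, u, u⁻¹] [2, 2, 1, 2, 4, 2, 1, 2, 4, 2, 5, 2, 1, 2, 5, 2, 1, 2, 3, 2, 1, 2, 3, 0, 6] = 1 := word [a, c, d, e, u, u⁻¹] rfl (by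
    intro i hi
    match i, hi with
    | 0, _ => exact i0
    | 1, _ => exact i1
    | 2, _ => exact i2
    | 3, _ => exact i3
    | 4, _ => exact mul_inv_cancel u
    | 5, _ => exact inv_mul_cancel u
    | n + 6, hi => exact absurd hi (by simp)) (by
    intro r hr
    simp only [rels, List.mem_cons, List.not_mem_nil, or_false] at hr
    rcases hr with rfl | rfl | rfl | rfl | rfl | rfl | rfl | rfl | rfl | rfl | rfl | rfl
    · simpa only [wprod, lv, List.map_cons, List.map_nil, List.prod_cons, List.prod_nil, List.getD_cons_zero, List.getD_cons_succ,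
      List.getD_nil, mul_assoc, mul_one] using h0
    · simpa only [wprod, lv, List.map_cons, List.map_nil, List.prod_cons, List.prod_nil, List.getD_cons_zero, List.getD_cons_succ,
      List.getD_nil, mul_assoc, mul_one] using h1
    · simpa only [wprod, lv, List.map_cons, List.map_nil, List.prod_cons, List.prod_nil, List.getD_cons_zero, List.getD_cons_succ,
      List.getD_nil, mul_assoc, mul_one] using h2
    · simpa only [wprod, lv, List.map_cons, List.map_nil, List.prod_cons, List.prod_nil, List.getD_cons_zero, List.getD_cons_succ,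
      List.getD_nil, mul_assoc, mul_one] using h3
    · simpa only [wprod, lv, List.map_cons, List.map_nil, List.prod_cons, List.prod_nil, List.getD_cons_zero, List.getD_cons_succ,
      List.getD_nil, mul_assoc, mul_one] using h4
    · simpa only [wprod, lv, List.map_cons, List.map_nil, List.prod_cons, List.prod_nil, List.getD_cons_zero, List.getD_cons_succ,
      List.getD_nil, mul_assoc, mul_one] using h5
    · simpa only [wprod, lv, List.map_cons, List.map_nil, List.prod_cons, List.prod_nil, List.getD_cons_zero, List.getD_cons_succ,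
      List.getD_nil, mul_assoc, mul_one] using h6
    · simpa only [wprod, lv, List.map_cons, List.map_nil, List.prod_cons, List.prod_nil, List.getD_cons_zero, List.getD_cons_succ,
      List.getD_nil, mul_assoc, mul_one] using h7
    · simpa only [wprod, lv, List.map_cons, List.map_nil, List.prod_cons, List.prod_nil, List.getD_cons_zero, List.getD_cons_succ,
      List.getD_nil, mul_assoc, mul_one] using h8
    · simpa only [wprod, lv, List.map_cons, List.map_nil, List.prod_cons, List.prod_nil, List.getD_cons_zero, List.getD_cons_succ,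
      List.getD_nil, mul_assoc, mul_one] using h9
    · simpa only [wprod, lv, List.map_cons, List.map_nil, List.prod_cons, List.prod_nil, List.getD_cons_zero, List.getD_cons_succ,
      List.getD_nil, mul_assoc, mul_one] using h10
    · simpa only [wprod, lv, List.map_cons, List.map_nil, List.prod_cons, List.prod_nil, List.getD_cons_zero, List.getD_cons_succ,
      List.getD_nil, mul_assoc, mul_one] using h11
    )
  simpa only [wprod, lv, List.map_cons, List.map_nil, List.prod_cons, List.prod_nil, List.getD_cons_zero, List.getD_cons_succ,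
      List.getD_nil, mul_assoc, mul_one] using h

end L4

/-! ### L5: 54 nodes, 7 columns, 137 entries; letters `a c d e u U`; conclusion `edcdudcdueUdcdUdcdc = 1` -/

namespace L5

def T0 : ℕ := 0x99400000000000000000ab7130030e0030d0000000000c1f06c1704c0c0000000b900000000002e2b80000000000000b6edab66d8b5c0000000
def T1 : ℕ := 0x2ad00000000000000000000c3c00c380000000000000029b000000000000000c4ad3c42d1b8c00c32cd0000000000c1ac700000c0ac300000
def T2 : ℕ := 0xcbc000032bcab28bd400c9323bcaf10000000000c4eed00260002a28740097c0000000a6800a6000a9f00b9711b4b0fb430db3b0bb300000307b2305b1b03b1301b0ad4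
def T3 : ℕ := 0x32ecb00000000c9af400000c7b1cc6a56c52ef000000000000000c32ebc1eea002e900000002a8c0ae7000000000000000002df00309b2a8b0000000000002d5c02c1
def T4 : ℕ := 0x1b3000006c000000000000097c0000315abc00bb800984000025e0030caa800000000029900302002e60000000000c380000000c2800002c9b7000002c50000000000
def T5 : ℕ := 0x7d175001f1003250022e000008a800003140000088800a8c00aaea0003070025c0000000297ba0000000000000002cf002de002cbc200000000c10000000000000
def T6 : ℕ := 0x12f0000000000000e60000000000000000000025000000000000000000000000000000000000000000010000000000000000000000000000000000000000000000000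
def tabs : List ℕ := [T0, T1, T2, T3, T4, T5, T6]
def dc : ℕ := 0x136927526dc75020871d00011a28a88a8ea2aa298
noncomputable def look (c n : ℕ) : ℕ := lookF tabs 10 1023 c n
noncomputable def dcol (n : ℕ) : ℕ := Nat.land (Nat.shiftRight dc (Nat.mul 3 n)) 7
def inv : List ℕ := [0, 1, 2, 3, 5, 4]
def lab : List ℕ := [0, 1, 2, 3, 4, 5, 6]
def rels : List (List ℕ) := [
  [0, 3, 0, 3],
  [0, 1, 2, 1, 2, 1, 2, 1, 2],
  [1, 3, 1, 3],
  [2, 3, 2, 3, 2, 3],
  [0, 1, 0, 1],
  [0, 2, 0, 2],
  [4, 4, 1, 0],
  [5, 0, 4, 0],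
  [5, 1, 4, 1],
  [5, 3, 4, 3],
  [2, 3, 5, 2, 4, 2, 3, 5, 2, 4],
  [2, 4, 2, 4, 2, 4, 2, 4, 2, 4, 2, 4]]
noncomputable def fx (c : ℕ) : Bool := memb [] (nth lab c)
def TM0 : List (Bool × List ℕ) := [(false, [0]), (true, [2, 0, 2])]
def TM1 : List (Bool × List ℕ) := [(false, [1]), (true, [0, 1, 0]), (true, [2, 1, 2, 1, 2, 1, 0, 2])]
def TM2 : List (Bool × List ℕ) := [(false, [2]), (true, [0, 2, 0]), (true, [3, 2, 3, 2, 3])]
def TM3 : List (Bool × List ℕ) := [(false, [3]), (true, [4, 3, 5])]
def TM4 : List (Bool × List ℕ) := [(false, [5]), (true, [3, 4, 3]), (true, [0, 4, 0])]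
def TM5 : List (Bool × List ℕ) := [(false, [4]), (true, [3, 5, 3]), (true, [4, 1, 0]), (true, [1, 0, 4]), (true, [1, 5, 1]), (true, [2, 3, 5, 2, 4, 2, 3, 5, 2]), (true, [2, 4, 2, 4, 2, 4, 2, 4, 2, 4, 2])]
def TM6 : List (Bool × List ℕ) := [(true, [2, 6, 2]), (true, [3, 6, 3]), (true, [4, 3, 2, 5, 2, 4, 3, 2, 5, 2]), (true, [4, 6, 5])]
def TT : List (List (Bool × List ℕ)) := [TM0, TM1, TM2, TM3, TM4, TM5, TM6]

theorem tt_ok : allOK 6 inv lab (withInv 6 inv rels) TT 0 = true := by decide +kernel
theorem bits_ok : bitsLt (10 * 54) tabs = true := by decide +kernel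

theorem chunk0 : RangeOk look 63 0 1 dcol fx TT 0 1 :=
  RangeOk.of_chunk (S := 1) (pb := 1) (pm := 1) 1 (by decide) rfl (DD := [
  (0, (1, 0x0), (0, 0x0), [(0, 0x0), (0, 0x0)]),
  (0, (1, 0x0), (0, 0x0), [(0, 0x0), (0, 0x0), (0, 0x0)]),
  (0, (0, 0x0), (0, 0x0), [(1, 0x0), (0, 0x0), (0, 0x0)]),
  (0, (0, 0x0), (0, 0x0), [(1, 0x0), (0, 0x0)]),
  (0, (1, 0x0), (0, 0x0), [(0, 0x0), (0, 0x0), (0, 0x0)]),
  (0, (1, 0x0), (0, 0x0), [(0, 0x0), (0, 0x0), (0, 0x0), (0, 0x0), (0, 0x0), (0, 0x0), (0, 0x0)]),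
  (0, (1, 0x0), (0, 0x0), [(0, 0x0), (0, 0x0), (0, 0x0), (0, 0x0)])]) (by decide +kernel)
theorem chunk1 : RangeOk look 63 0 1 dcol fx TT 1 54 :=
  RangeOk.of_chunk (S := 53) (pb := 6) (pm := 63) 54 (by decide) rfl (DD := [
  (0, (35, 0x34cf2c70beeb6baa9a279a58a079d71b5544d140f38b289207040), (8, 0x8e17da6585d6), [(9, 0x2c48d3061440c2), (1, 0x24)]),
  (0, (38, 0xd33cb1c2fbadb2aa689e69648e17de75c6da61759551334a2481c40c0), (7, 0x2281240c182), [(6, 0x44f38b141), (1, 0x19), (1, 0x2b)]),
  (0, (17, 0x33cada279a58a075b6995d5248), (16, 0xd31c2fb2b91344f34b1c50c1), [(15, 0x2eaa98e179240e30a184080), (3, 0x1f616), (2, 0x714)]),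
  (0, (29, 0x34c70becae48e28607da6175924503ce34c2861440c2), (12, 0xcf2baaa6899e714240), [(10, 0xb6795d6d94cb201), (2, 0x547)]),
  (0, (35, 0x34cb1beeb6cae9a258e181e6da65859449140f34c2c9205102040), (5, 0x2775538a), [(10, 0xcf0aa489f4c7183), (2, 0x99c), (1, 0x17)]),
  (0, (33, 0x34cf0bacaa99e692385f71a61759349140f38c2871850c2040), (5, 0x2d95b204), [(4, 0x50d2c9), (3, 0x32a1e), (3, 0x22755), (2, 0xad9), (1, 0x20), (1, 0x2f), (1, 0x31)]),
  (0, (49, 0x34cb1c2fbacaeaa689e69638a181f79d71b6996175955134503ce34c2ca2481c61440c2040), (0, 0x0), [(1, 0x12), (1, 0x2d), (1, 0x33), (1, 0x24)])]) (by decide +kernel)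

theorem valid : Valid look 63 0 1 54 dcol fx TT where
  fin := chunk0
  rest := chunk1
  out := fun c n h => by
    have := lookF_ne_zero bits_ok c n h
    exact ⟨this.1, this.2⟩
  bdd := ⟨_, fun c n => lookF_le tabs _ _ c n⟩
  cols := by decide
  pos := by decide

theorem traced : trace look 63 0 0 [3, 2, 1, 2, 4, 2, 1, 2, 4, 3, 5, 2, 1, 2, 5, 2, 1, 2, 1, 6] 0 = true := by decide +kernel

theorem word {G : Type*} [Group G] (gl : List G) (hl : gl.length = 6)
    (hinv : ∀ a < gl.length, lv gl a * lv gl (nth inv a) = 1) (hrel : ∀ r ∈ rels, wprod gl r = 1) :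
    wprod gl ([3, 2, 1, 2, 4, 2, 1, 2, 4, 3, 5, 2, 1, 2, 5, 2, 1, 2, 1, 6].map (nth lab)) = 1 := by
  have h := mem_of_trace gl inv lab [] rels valid (by rw [hl]; exact tt_ok) hinv hrel (⊥ : Subgroup G)
    (by simp) [3, 2, 1, 2, 4, 2, 1, 2, 4, 3, 5, 2, 1, 2, 5, 2, 1, 2, 1, 6] traced
  exact Subgroup.mem_bot.1 h

theorem rel {G : Type*} [Group G] (a c d e u : G)
    (i0 : a * a = 1)
    (i1 : c * c = 1)
    (i2 : d * d = 1)
    (i3 : e * e = 1)
    (h0 : a * e * a * e = 1)
    (h1 : a * c * d * c * d * c * d * c * d = 1)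
    (h2 : c * e * c * e = 1)
    (h3 : d * e * d * e * d * e = 1)
    (h4 : a * c * a * c = 1)
    (h5 : a * d * a * d = 1)
    (h6 : u * u * c * a = 1)
    (h7 : u⁻¹ * a * u * a = 1)
    (h8 : u⁻¹ * c * u * c = 1)
    (h9 : u⁻¹ * e * u * e = 1)
    (h10 : d * e * u⁻¹ * d * u * d * e * u⁻¹ * d * u = 1)
    (h11 : d * u * d * u * d * u * d * u * d * u * d * u = 1) :
    e * d * c * d * u * d * c * d * u * e * u⁻¹ * d * c * d * u⁻¹ * d * c * d * c = 1 := by
  have h : wprod [a, c, d, e, u, u⁻¹] [3, 2, 1, 2, 4, 2, 1, 2, 4, 3, 5, 2, 1, 2, 5, 2, 1, 2, 1, 6] = 1 := word [a, c, d, e, u, u⁻¹] rfl (by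
    intro i hi
    match i, hi with
    | 0, _ => exact i0
    | 1, _ => exact i1
    | 2, _ => exact i2
    | 3, _ => exact i3
    | 4, _ => exact mul_inv_cancel u
    | 5, _ => exact inv_mul_cancel u
    | n + 6, hi => exact absurd hi (by simp)) (by
    intro r hr
    simp only [rels, List.mem_cons, List.not_mem_nil, or_false] at hr
    rcases hr with rfl | rfl | rfl | rfl | rfl | rfl | rfl | rfl | rfl | rfl | rfl | rfl
    · simpa only [wprod, lv, List.map_cons, List.map_nil, List.prod_cons, List.prod_nil, List.getD_cons_zero, List.getD_cons_succ,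
      List.getD_nil, mul_assoc, mul_one] using h0
    · simpa only [wprod, lv, List.map_cons, List.map_nil, List.prod_cons, List.prod_nil, List.getD_cons_zero, List.getD_cons_succ,
      List.getD_nil, mul_assoc, mul_one] using h1
    · simpa only [wprod, lv, List.map_cons, List.map_nil, List.prod_cons, List.prod_nil, List.getD_cons_zero, List.getD_cons_succ,
      List.getD_nil, mul_assoc, mul_one] using h2
    · simpa only [wprod, lv, List.map_cons, List.map_nil, List.prod_cons, List.prod_nil, List.getD_cons_zero, List.getD_cons_succ,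
      List.getD_nil, mul_assoc, mul_one] using h3
    · simpa only [wprod, lv, List.map_cons, List.map_nil, List.prod_cons, List.prod_nil, List.getD_cons_zero, List.getD_cons_succ,
      List.getD_nil, mul_assoc, mul_one] using h4
    · simpa only [wprod, lv, List.map_cons, List.map_nil, List.prod_cons, List.prod_nil, List.getD_cons_zero, List.getD_cons_succ,
      List.getD_nil, mul_assoc, mul_one] using h5
    · simpa only [wprod, lv, List.map_cons, List.map_nil, List.prod_cons, List.prod_nil, List.getD_cons_zero, List.getD_cons_succ,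
      List.getD_nil, mul_assoc, mul_one] using h6
    · simpa only [wprod, lv, List.map_cons, List.map_nil, List.prod_cons, List.prod_nil, List.getD_cons_zero, List.getD_cons_succ,
      List.getD_nil, mul_assoc, mul_one] using h7
    · simpa only [wprod, lv, List.map_cons, List.map_nil, List.prod_cons, List.prod_nil, List.getD_cons_zero, List.getD_cons_succ,
      List.getD_nil, mul_assoc, mul_one] using h8
    · simpa only [wprod, lv, List.map_cons, List.map_nil, List.prod_cons, List.prod_nil, List.getD_cons_zero, List.getD_cons_succ,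
      List.getD_nil, mul_assoc, mul_one] using h9
    · simpa only [wprod, lv, List.map_cons, List.map_nil, List.prod_cons, List.prod_nil, List.getD_cons_zero, List.getD_cons_succ,
      List.getD_nil, mul_assoc, mul_one] using h10
    · simpa only [wprod, lv, List.map_cons, List.map_nil, List.prod_cons, List.prod_nil, List.getD_cons_zero, List.getD_cons_succ,
      List.getD_nil, mul_assoc, mul_one] using h11
    )
  simpa only [wprod, lv, List.map_cons, List.map_nil, List.prod_cons, List.prod_nil, List.getD_cons_zero, List.getD_cons_succ,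
      List.getD_nil, mul_assoc, mul_one] using h

end L5

/-! ### L6: 53 nodes, 7 columns, 142 entries; letters `a c d e u U`; conclusion `dcdudcdudcdudcdu = 1` -/

namespace L6

def T0 : ℕ := 0xccc0000056000000000000db0000005d0001d700089c00000000895125d044888f118000006acc5c00000882f922000000108c0000000107e0f41c8370680000000000209c11
def T1 : ℕ := 0x3deac00027246600000000000000000000000000000000000000000000f7c0000000000000000728000003d70000000000000113607000001126050000011160300000110601000
def T2 : ℕ := 0x46d8d91aa34c688cf1921a43300000218c300000022942e00000000000000000003de000f6c0000000000000000001095e980089d03e2640d89502e2440988d01e2240588500e20401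
def T3 : ℕ := 0x1d14608bd1762c45772d14c00000000fb626c2c0010ac0000000000222c29850f9e2080084c0000000000000210800000000000000000020c8000000020a800
def T4 : ℕ := 0x3b35e2001b817400000230800000000000008aa0000045100113400000000002248007b800000445001104000000011000000082000000000819080000008100000000080905c00000
def T5 : ℕ := 0x1b07e800199bb1000000000006d800000000000aa000000000f8e16c4a000e81ef800000001f4bda88400213c415ae0021244f0000000044b000000004470000020c4430000020b412
def T6 : ℕ := 0x48c0000000000000000000000670000000000000000000000000000000000000000000000000023c0004000000000000000000000000000000000000000000000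
def tabs : List ℕ := [T0, T1, T2, T3, T4, T5, T6]
def dc : ℕ := 0x24924a36db8d411d02001cb1d105455455455450
noncomputable def look (c n : ℕ) : ℕ := lookF tabs 11 2047 c n
noncomputable def dcol (n : ℕ) : ℕ := Nat.land (Nat.shiftRight dc (Nat.mul 3 n)) 7
def inv : List ℕ := [0, 1, 2, 3, 5, 4]
def lab : List ℕ := [0, 1, 2, 3, 4, 5, 6]
def rels : List (List ℕ) := [
  [0, 3, 0, 3],
  [0, 1, 2, 1, 2, 1, 2, 1, 2],
  [1, 3, 1, 3],
  [2, 3, 2, 3, 2, 3],
  [0, 1, 0, 1],
  [0, 2, 0, 2],
  [4, 4, 1, 0],
  [5, 0, 4, 0],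
  [5, 1, 4, 1],
  [5, 3, 4, 3],
  [2, 3, 5, 2, 4, 2, 3, 5, 2, 4]]
noncomputable def fx (c : ℕ) : Bool := memb [] (nth lab c)
def TM0 : List (Bool × List ℕ) := [(false, [0]), (true, [2, 0, 2]), (true, [3, 0, 3]), (true, [1, 5, 5]), (true, [4, 0, 5]), (true, [5, 0, 4])]
def TM1 : List (Bool × List ℕ) := [(false, [1]), (true, [0, 1, 0]), (true, [0, 4, 4]), (true, [5, 1, 4])]
def TM2 : List (Bool × List ℕ) := [(false, [2]), (true, [0, 2, 0])]
def TM3 : List (Bool × List ℕ) := [(false, [3]), (true, [4, 3, 5])]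
def TM4 : List (Bool × List ℕ) := [(false, [5]), (true, [0, 4, 0])]
def TM5 : List (Bool × List ℕ) := [(false, [4]), (true, [4, 1, 0]), (true, [2, 3, 5, 2, 4, 2, 3, 5, 2]), (true, [3, 5, 3]), (true, [0, 5, 0]), (true, [1, 0, 4])]
def TM6 : List (Bool × List ℕ) := [(true, [0, 6, 0]), (true, [2, 4, 2, 3, 5, 2, 4, 2, 3, 5]), (true, [2, 6, 2]), (false, [5, 6, 4])]
def TT : List (List (Bool × List ℕ)) := [TM0, TM1, TM2, TM3, TM4, TM5, TM6]

theorem tt_ok : allOK 6 inv lab (withInv 6 inv rels) TT 0 = true := by decide +kernel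
theorem bits_ok : bitsLt (11 * 53) tabs = true := by decide +kernel

theorem chunk0 : RangeOk look 63 0 1 dcol fx TT 0 1 :=
  RangeOk.of_chunk (S := 1) (pb := 1) (pm := 1) 1 (by decide) rfl (DD := [
  (0, (0, 0x0), (0, 0x0), [(1, 0x0), (0, 0x0), (0, 0x0), (0, 0x0), (0, 0x0), (0, 0x0)]),
  (0, (1, 0x0), (0, 0x0), [(0, 0x0), (0, 0x0), (0, 0x0), (0, 0x0)]),
  (0, (0, 0x0), (0, 0x0), [(1, 0x0), (0, 0x0)]),
  (0, (1, 0x0), (0, 0x0), [(0, 0x0), (0, 0x0)]),
  (0, (1, 0x0), (0, 0x0), [(0, 0x0), (0, 0x0)]),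
  (0, (0, 0x0), (0, 0x0), [(1, 0x0), (0, 0x0), (0, 0x0), (0, 0x0), (0, 0x0), (0, 0x0)]),
  (0, (1, 0x0), (0, 0x0), [(0, 0x0), (0, 0x0), (0, 0x0), (0, 0x0)])]) (by decide +kernel)
theorem chunk1 : RangeOk look 63 0 1 dcol fx TT 1 53 :=
  RangeOk.of_chunk (S := 52) (pb := 6) (pm := 63) 53 (by decide) rfl (DD := [
  (0, (28, 0xcf2c2fb6caeaa279638607d85d44cf38c2ca103081), (8, 0x89e75b699490), [(8, 0x54d2481c6140), (3, 0x31ba4), (2, 0xa66), (1, 0x16), (1, 0x11), (1, 0x1c)]),
  (0, (37, 0x33c2db2baa9a279a59238a181f79c6da6585d55124503ce2ca1c60c2), (4, 0x349141), [(7, 0x32bd6308100), (2, 0xb9d), (1, 0x31), (1, 0x13)]),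
  (0, (20, 0xaa99a58a181f79d71a61759551348f), (16, 0xcf2c70beeb6438c288184080), [(13, 0x2cae89e344d2c91c50c1), (3, 0x1b650)]),
  (0, (31, 0x33cb1c2fbad92389e71b6994d140f38d2ca2481c6143081), (9, 0x2baa9a27960614), [(10, 0xb267dd5d648c100), (2, 0x855)]),
  (0, (33, 0x31badaeaa689e592281f79d6d96165134903cd30b2071440c0), (8, 0xb268e1717551), [(10, 0xcf2c2f38a246081), (1, 0x1a)]),
  (0, (28, 0xc6eb6cae9a279a48e279b69955138d30a248185081), (7, 0x1f5933cb1c3), [(5, 0x20510100), (4, 0xce1717), (3, 0x32c2f), (3, 0x2a958), (1, 0x12), (1, 0x1d)]),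
  (0, (48, 0xcf2c70beeb2baa9a279a58e28607de75c6da6585d65544d240e34c2ca2481c61440c2040), (0, 0x0), [(1, 0x24), (1, 0x2d), (1, 0x11), (1, 0xf)])]) (by decide +kernel)

theorem valid : Valid look 63 0 1 53 dcol fx TT where
  fin := chunk0
  rest := chunk1
  out := fun c n h => by
    have := lookF_ne_zero bits_ok c n h
    exact ⟨this.1, this.2⟩
  bdd := ⟨_, fun c n => lookF_le tabs _ _ c n⟩
  cols := by decide
  pos := by decide

theorem traced : trace look 63 0 0 [2, 1, 2, 4, 2, 1, 2, 4, 2, 1, 2, 4, 2, 1, 2, 4, 6] 0 = true := by decide +kernel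

theorem word {G : Type*} [Group G] (gl : List G) (hl : gl.length = 6)
    (hinv : ∀ a < gl.length, lv gl a * lv gl (nth inv a) = 1) (hrel : ∀ r ∈ rels, wprod gl r = 1) :
    wprod gl ([2, 1, 2, 4, 2, 1, 2, 4, 2, 1, 2, 4, 2, 1, 2, 4, 6].map (nth lab)) = 1 := by
  have h := mem_of_trace gl inv lab [] rels valid (by rw [hl]; exact tt_ok) hinv hrel (⊥ : Subgroup G)
    (by simp) [2, 1, 2, 4, 2, 1, 2, 4, 2, 1, 2, 4, 2, 1, 2, 4, 6] traced
  exact Subgroup.mem_bot.1 h

theorem rel {G : Type*} [Group G] (a c d e u : G)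
    (i0 : a * a = 1)
    (i1 : c * c = 1)
    (i2 : d * d = 1)
    (i3 : e * e = 1)
    (h0 : a * e * a * e = 1)
    (h1 : a * c * d * c * d * c * d * c * d = 1)
    (h2 : c * e * c * e = 1)
    (h3 : d * e * d * e * d * e = 1)
    (h4 : a * c * a * c = 1)
    (h5 : a * d * a * d = 1)
    (h6 : u * u * c * a = 1)
    (h7 : u⁻¹ * a * u * a = 1)
    (h8 : u⁻¹ * c * u * c = 1)
    (h9 : u⁻¹ * e * u * e = 1)
    (h10 : d * e * u⁻¹ * d * u * d * e * u⁻¹ * d * u = 1) :
    d * c * d * u * d * c * d * u * d * c * d * u * d * c * d * u = 1 := by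
  have h : wprod [a, c, d, e, u, u⁻¹] [2, 1, 2, 4, 2, 1, 2, 4, 2, 1, 2, 4, 2, 1, 2, 4, 6] = 1 := word [a, c, d, e, u, u⁻¹] rfl (by
    intro i hi
    match i, hi with
    | 0, _ => exact i0
    | 1, _ => exact i1
    | 2, _ => exact i2
    | 3, _ => exact i3
    | 4, _ => exact mul_inv_cancel u
    | 5, _ => exact inv_mul_cancel u
    | n + 6, hi => exact absurd hi (by simp)) (by
    intro r hr
    simp only [rels, List.mem_cons, List.not_mem_nil, or_false] at hr
    rcases hr with rfl | rfl | rfl | rfl | rfl | rfl | rfl | rfl | rfl | rfl | rfl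
    · simpa only [wprod, lv, List.map_cons, List.map_nil, List.prod_cons, List.prod_nil, List.getD_cons_zero, List.getD_cons_succ,
      List.getD_nil, mul_assoc, mul_one] using h0
    · simpa only [wprod, lv, List.map_cons, List.map_nil, List.prod_cons, List.prod_nil, List.getD_cons_zero, List.getD_cons_succ,
      List.getD_nil, mul_assoc, mul_one] using h1
    · simpa only [wprod, lv, List.map_cons, List.map_nil, List.prod_cons, List.prod_nil, List.getD_cons_zero, List.getD_cons_succ,
      List.getD_nil, mul_assoc, mul_one] using h2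
    · simpa only [wprod, lv, List.map_cons, List.map_nil, List.prod_cons, List.prod_nil, List.getD_cons_zero, List.getD_cons_succ,
      List.getD_nil, mul_assoc, mul_one] using h3
    · simpa only [wprod, lv, List.map_cons, List.map_nil, List.prod_cons, List.prod_nil, List.getD_cons_zero, List.getD_cons_succ,
      List.getD_nil, mul_assoc, mul_one] using h4
    · simpa only [wprod, lv, List.map_cons, List.map_nil, List.prod_cons, List.prod_nil, List.getD_cons_zero, List.getD_cons_succ,
      List.getD_nil, mul_assoc, mul_one] using h5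
    · simpa only [wprod, lv, List.map_cons, List.map_nil, List.prod_cons, List.prod_nil, List.getD_cons_zero, List.getD_cons_succ,
      List.getD_nil, mul_assoc, mul_one] using h6
    · simpa only [wprod, lv, List.map_cons, List.map_nil, List.prod_cons, List.prod_nil, List.getD_cons_zero, List.getD_cons_succ,
      List.getD_nil, mul_assoc, mul_one] using h7
    · simpa only [wprod, lv, List.map_cons, List.map_nil, List.prod_cons, List.prod_nil, List.getD_cons_zero, List.getD_cons_succ,
      List.getD_nil, mul_assoc, mul_one] using h8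
    · simpa only [wprod, lv, List.map_cons, List.map_nil, List.prod_cons, List.prod_nil, List.getD_cons_zero, List.getD_cons_succ,
      List.getD_nil, mul_assoc, mul_one] using h9
    · simpa only [wprod, lv, List.map_cons, List.map_nil, List.prod_cons, List.prod_nil, List.getD_cons_zero, List.getD_cons_succ,
      List.getD_nil, mul_assoc, mul_one] using h10
    )
  simpa only [wprod, lv, List.map_cons, List.map_nil, List.prod_cons, List.prod_nil, List.getD_cons_zero, List.getD_cons_succ,
      List.getD_nil, mul_assoc, mul_one] using h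

end L6

/-! ### L7: 56 nodes, 7 columns, 160 entries; letters `a c d e u U`; conclusion `adcdudcduadcdudcdu = 1` -/

namespace L7

def T0 : ℕ := 0x548000000008e200259cf200000000000000001d700000000197af7000002aed5e92148290d5ba380000054ca8e0000054b000000004df00000000518a2952685000a2e0000000000134ea0501
def T1 : ℕ := 0x4e6000001a3000000f20000000000000000000000000000000002312e8000000000012766f000000002ab494001466a9cd8a2a0000054fa200000054ba1800000000a8d41c00000a8540c00000
def T2 : ℕ := 0xade002ba535ae54ceb8531a6e0000000000000000000000002b2525ac548c00000000000000000000000000000000000489a80002a8511a9d43ea650da9542e6a547a1151683543a0950681513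
def T3 : ℕ := 0x15700055b7c1542b652da81519efd61aa80000000000156a9442f852f9400532a61489fa8000000000052776c0000052e84c00000000000000000000014a8000000000000052b
def T4 : ℕ := 0x29b0f70000029a0000014be4056b000001d2d29000002935638e739c00000abd53ea8000a8d550000009b755400000000002894a00000028745a00000000509938000005058b325800000
def T5 : ℕ := 0x2695d40057184600000000adc00000000a593c2b4000001595b4800a48000004508c347c00000000002018000000028b51a9b354400000a3d53400000000002a400000146ea2000000000004ed
def T6 : ℕ := 0x488000000000000000000000000000000000000000000000000000000000000000000000001000000000000000000000000000000000000000000000000000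
def tabs : List ℕ := [T0, T1, T2, T3, T4, T5, T6]
def dc : ℕ := 0x5554d3adc6eb7544c092090810855155142a2aa280
noncomputable def look (c n : ℕ) : ℕ := lookF tabs 11 2047 c n
noncomputable def dcol (n : ℕ) : ℕ := Nat.land (Nat.shiftRight dc (Nat.mul 3 n)) 7
def inv : List ℕ := [0, 1, 2, 3, 5, 4]
def lab : List ℕ := [0, 1, 2, 3, 4, 5, 6]
def rels : List (List ℕ) := [
  [0, 3, 0, 3],
  [0, 1, 2, 1, 2, 1, 2, 1, 2],
  [1, 3, 1, 3],
  [2, 3, 2, 3, 2, 3],
  [0, 1, 0, 1],
  [0, 2, 0, 2],
  [4, 4, 1, 0],
  [5, 0, 4, 0],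
  [5, 1, 4, 1],
  [5, 3, 4, 3],
  [2, 3, 5, 2, 4, 2, 3, 5, 2, 4]]
noncomputable def fx (c : ℕ) : Bool := memb [] (nth lab c)
def TM0 : List (Bool × List ℕ) := [(false, [0]), (true, [2, 0, 2]), (true, [3, 0, 3]), (true, [1, 5, 5]), (true, [5, 0, 4])]
def TM1 : List (Bool × List ℕ) := [(false, [1]), (true, [0, 1, 0]), (true, [0, 4, 4]), (true, [4, 1, 5]), (true, [5, 1, 4])]
def TM2 : List (Bool × List ℕ) := [(false, [2]), (true, [0, 2, 0])]
def TM3 : List (Bool × List ℕ) := [(false, [3]), (true, [5, 3, 4]), (true, [2, 5, 2, 4, 3, 2, 5, 2, 4]), (true, [4, 3, 5]), (true, [5, 2, 4, 2, 3, 5, 2, 4, 2])]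
def TM4 : List (Bool × List ℕ) := [(false, [5]), (true, [0, 1, 5]), (true, [0, 4, 0]), (true, [3, 4, 3]), (true, [1, 4, 1]), (true, [2, 4, 3, 2, 5, 2, 4, 3, 2])]
def TM5 : List (Bool × List ℕ) := [(false, [4]), (true, [1, 5, 1]), (true, [3, 5, 3]), (true, [4, 1, 0])]
def TM6 : List (Bool × List ℕ) := [(true, [4, 2, 3, 5, 2, 4, 2, 3, 5, 2]), (false, [5, 6, 4])]
def TT : List (List (Bool × List ℕ)) := [TM0, TM1, TM2, TM3, TM4, TM5, TM6]

theorem tt_ok : allOK 6 inv lab (withInv 6 inv rels) TT 0 = true := by decide +kernel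
theorem bits_ok : bitsLt (11 * 56) tabs = true := by decide +kernel

theorem chunk0 : RangeOk look 63 0 1 dcol fx TT 0 1 :=
  RangeOk.of_chunk (S := 1) (pb := 1) (pm := 1) 1 (by decide) rfl (DD := [
  (0, (0, 0x0), (0, 0x0), [(1, 0x0), (0, 0x0), (0, 0x0), (0, 0x0), (0, 0x0)]),
  (0, (1, 0x0), (0, 0x0), [(0, 0x0), (0, 0x0), (0, 0x0), (0, 0x0), (0, 0x0)]),
  (0, (0, 0x0), (0, 0x0), [(1, 0x0), (0, 0x0)]),
  (0, (0, 0x0), (0, 0x0), [(1, 0x0), (0, 0x0), (0, 0x0), (0, 0x0), (0, 0x0)]),
  (0, (1, 0x0), (0, 0x0), [(0, 0x0), (0, 0x0), (0, 0x0), (0, 0x0), (0, 0x0), (0, 0x0)]),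
  (0, (0, 0x0), (0, 0x0), [(0, 0x0), (0, 0x0), (1, 0x0), (0, 0x0)]),
  (0, (1, 0x0), (0, 0x0), [(0, 0x0), (0, 0x0)])]) (by decide +kernel)
theorem chunk1 : RangeOk look 63 0 1 dcol fx TT 1 56 :=
  RangeOk.of_chunk (S := 55) (pb := 6) (pm := 63) 56 (by decide) rfl (DD := [
  (0, (30, 0xd74cf1badb2baa99e696285961551245038d3071440c2), (8, 0x81f6d7593240), [(10, 0xdb279d71a2ca206), (3, 0x308c1), (2, 0xbe8), (1, 0xf), (1, 0x24)]),
  (0, (34, 0xd74cb1beeb6caeaa689e69648607de6da65645034c2481c40c0), (6, 0x6143cb182), [(10, 0xc2275755238a141), (2, 0x8d3), (1, 0x36), (1, 0x1c), (1, 0x33)]),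
  (0, (24, 0xd6db2baa9a279a581f79d71b699617595511), (15, 0x36d32c2489240e30a1c50c1), [(15, 0x33c6fba38533cd2c9184080), (1, 0x8)]),
  (0, (30, 0xdb5d33cb09648e271759551140d30b2892071840c2040), (9, 0x31bedb2aa679a1), [(10, 0xbaba206da6533c5), (3, 0x1f792), (1, 0xe), (1, 0x1d), (1, 0x18)]),
  (0, (27, 0x36d72c6fbaaa669607db61751349138d289205100), (8, 0xae379d71a655), [(11, 0x34cf0b6c9e440c1c3), (3, 0x162c1), (2, 0x3c6), (2, 0xa21), (1, 0x2), (1, 0x22)]),
  (0, (31, 0x34c70bedb2b9e68e181c6da65759540f30b2891c60c2040), (9, 0x35ceea2544d204), [(11, 0x32aa489f758513385), (2, 0xd92), (1, 0x29), (1, 0x1e)]),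
  (0, (53, 0x36d74cf2c70beeb6baa9a279a59238a181f79d71b6996175955134903ce34c2ca2481c61440c2040), (0, 0x0), [(1, 0x2c), (1, 0x11)])]) (by decide +kernel)

theorem valid : Valid look 63 0 1 56 dcol fx TT where
  fin := chunk0
  rest := chunk1
  out := fun c n h => by
    have := lookF_ne_zero bits_ok c n h
    exact ⟨this.1, this.2⟩
  bdd := ⟨_, fun c n => lookF_le tabs _ _ c n⟩
  cols := by decide
  pos := by decide

theorem traced : trace look 63 0 0 [0, 2, 1, 2, 4, 2, 1, 2, 4, 0, 2, 1, 2, 4, 2, 1, 2, 4, 6] 0 = true := by decide +kernel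

theorem word {G : Type*} [Group G] (gl : List G) (hl : gl.length = 6)
    (hinv : ∀ a < gl.length, lv gl a * lv gl (nth inv a) = 1) (hrel : ∀ r ∈ rels, wprod gl r = 1) :
    wprod gl ([0, 2, 1, 2, 4, 2, 1, 2, 4, 0, 2, 1, 2, 4, 2, 1, 2, 4, 6].map (nth lab)) = 1 := by
  have h := mem_of_trace gl inv lab [] rels valid (by rw [hl]; exact tt_ok) hinv hrel (⊥ : Subgroup G)
    (by simp) [0, 2, 1, 2, 4, 2, 1, 2, 4, 0, 2, 1, 2, 4, 2, 1, 2, 4, 6] traced
  exact Subgroup.mem_bot.1 h

theorem rel {G : Type*} [Group G] (a c d e u : G)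
    (i0 : a * a = 1)
    (i1 : c * c = 1)
    (i2 : d * d = 1)
    (i3 : e * e = 1)
    (h0 : a * e * a * e = 1)
    (h1 : a * c * d * c * d * c * d * c * d = 1)
    (h2 : c * e * c * e = 1)
    (h3 : d * e * d * e * d * e = 1)
    (h4 : a * c * a * c = 1)
    (h5 : a * d * a * d = 1)
    (h6 : u * u * c * a = 1)
    (h7 : u⁻¹ * a * u * a = 1)
    (h8 : u⁻¹ * c * u * c = 1)
    (h9 : u⁻¹ * e * u * e = 1)
    (h10 : d * e * u⁻¹ * d * u * d * e * u⁻¹ * d * u = 1) :
    a * d * c * d * u * d * c * d * u * a * d * c * d * u * d * c * d * u = 1 := by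
  have h : wprod [a, c, d, e, u, u⁻¹] [0, 2, 1, 2, 4, 2, 1, 2, 4, 0, 2, 1, 2, 4, 2, 1, 2, 4, 6] = 1 := word [a, c, d, e, u, u⁻¹] rfl (by
    intro i hi
    match i, hi with
    | 0, _ => exact i0
    | 1, _ => exact i1
    | 2, _ => exact i2
    | 3, _ => exact i3
    | 4, _ => exact mul_inv_cancel u
    | 5, _ => exact inv_mul_cancel u
    | n + 6, hi => exact absurd hi (by simp)) (by
    intro r hr
    simp only [rels, List.mem_cons, List.not_mem_nil, or_false] at hr
    rcases hr with rfl | rfl | rfl | rfl | rfl | rfl | rfl | rfl | rfl | rfl | rfl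
    · simpa only [wprod, lv, List.map_cons, List.map_nil, List.prod_cons, List.prod_nil, List.getD_cons_zero, List.getD_cons_succ,
      List.getD_nil, mul_assoc, mul_one] using h0
    · simpa only [wprod, lv, List.map_cons, List.map_nil, List.prod_cons, List.prod_nil, List.getD_cons_zero, List.getD_cons_succ,
      List.getD_nil, mul_assoc, mul_one] using h1
    · simpa only [wprod, lv, List.map_cons, List.map_nil, List.prod_cons, List.prod_nil, List.getD_cons_zero, List.getD_cons_succ,
      List.getD_nil, mul_assoc, mul_one] using h2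
    · simpa only [wprod, lv, List.map_cons, List.map_nil, List.prod_cons, List.prod_nil, List.getD_cons_zero, List.getD_cons_succ,
      List.getD_nil, mul_assoc, mul_one] using h3
    · simpa only [wprod, lv, List.map_cons, List.map_nil, List.prod_cons, List.prod_nil, List.getD_cons_zero, List.getD_cons_succ,
      List.getD_nil, mul_assoc, mul_one] using h4
    · simpa only [wprod, lv, List.map_cons, List.map_nil, List.prod_cons, List.prod_nil, List.getD_cons_zero, List.getD_cons_succ,
      List.getD_nil, mul_assoc, mul_one] using h5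
    · simpa only [wprod, lv, List.map_cons, List.map_nil, List.prod_cons, List.prod_nil, List.getD_cons_zero, List.getD_cons_succ,
      List.getD_nil, mul_assoc, mul_one] using h6
    · simpa only [wprod, lv, List.map_cons, List.map_nil, List.prod_cons, List.prod_nil, List.getD_cons_zero, List.getD_cons_succ,
      List.getD_nil, mul_assoc, mul_one] using h7
    · simpa only [wprod, lv, List.map_cons, List.map_nil, List.prod_cons, List.prod_nil, List.getD_cons_zero, List.getD_cons_succ,
      List.getD_nil, mul_assoc, mul_one] using h8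
    · simpa only [wprod, lv, List.map_cons, List.map_nil, List.prod_cons, List.prod_nil, List.getD_cons_zero, List.getD_cons_succ,
      List.getD_nil, mul_assoc, mul_one] using h9
    · simpa only [wprod, lv, List.map_cons, List.map_nil, List.prod_cons, List.prod_nil, List.getD_cons_zero, List.getD_cons_succ,
      List.getD_nil, mul_assoc, mul_one] using h10
    )
  simpa only [wprod, lv, List.map_cons, List.map_nil, List.prod_cons, List.prod_nil, List.getD_cons_zero, List.getD_cons_succ,
      List.getD_nil, mul_assoc, mul_one] using h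

end L7

/-! ### L8: 73 nodes, 7 columns, 207 entries; letters `a c d e u U`; conclusion `cdcdudcducdcdudcdu = 1` -/

namespace L8

def T0 : ℕ := 0x6476c800000000000000000074100073f00000063c0000000005340000005b70007b30000009987b00006ad7aa72b9910007a600098d98c98b98900080a00098781f98698598498392f0000007939807150000000000000009259249238a092200091e91c91b91a919000000000
def T1 : ℕ := 0x9bf9be00000083b0000000006469489470000008c49ac0006b90000000009a100000000000000000000093a8299918ab98e82598d8a78238a40009347a200000000089e00000000000000089800000000000092a98f91092892698b90c98990a000986907000000982903980901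
def T2 : ℕ := 0x3420000007c60009ba3c89b39b29b09ae0000000009439ab9a89a600000062794100000093f00093e9959939390000009386b49378248a57200009897a300000000000089c00089a00000000092d00000000099091198e90f98c90d98a90b921987908985906983904981902000
def T3 : ℕ := 0x83d9ba0008360000000000008c59ad9ac9440000000008c29a100099f99d99c00000081793c0000000000000000000000000000000009350009330000009310000000009838ae982000000000000000000000000000000000000000000000000000000918916000000
def T4 : ℕ := 0x4c15406c80000000009b56be0000009460009450000000000004b69a10000000000000000000009960000000000000000000008a800000000000000098800000098600000089b00093098200098189500092b91200000092790e00000000000090991f000000905000000000913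
def T5 : ℕ := 0x9be9bc5c50000004485c70007419ad0000000000000000004379420000000007b399800082f00000099200000000098e00000000000000093600098700089e81f00000000000089992e81400098099100000000098d000000000000988920000000984000000000915000
def T6 : ℕ := 0x2a80000000000000000000000002381ac000000000000000000000000000000000000000113000000000000000000000000000000000000000000000000000000000000000000000000080000000000000000000000000000000000000000000000000000000
def tabs : List ℕ := [T0, T1, T2, T3, T4, T5, T6]
def dc : ℕ := 0x136b5124ab6525196dd112a41a40014a200038e0b5155146a2aa288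
noncomputable def look (c n : ℕ) : ℕ := lookF tabs 12 4095 c n
noncomputable def dcol (n : ℕ) : ℕ := Nat.land (Nat.shiftRight dc (Nat.mul 3 n)) 7
def inv : List ℕ := [0, 1, 2, 3, 5, 4]
def lab : List ℕ := [0, 1, 2, 3, 4, 5, 6]
def rels : List (List ℕ) := [
  [0, 3, 0, 3],
  [0, 1, 2, 1, 2, 1, 2, 1, 2],
  [1, 3, 1, 3],
  [2, 3, 2, 3, 2, 3],
  [0, 1, 0, 1],
  [0, 2, 0, 2],
  [4, 4, 1, 0],
  [5, 0, 4, 0],
  [5, 1, 4, 1],
  [5, 3, 4, 3],
  [2, 3, 5, 2, 4, 2, 3, 5, 2, 4]]
noncomputable def fx (c : ℕ) : Bool := memb [] (nth lab c)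
def TM0 : List (Bool × List ℕ) := [(false, [0]), (true, [2, 0, 2]), (true, [1, 0, 1]), (true, [5, 0, 4]), (true, [3, 0, 3]), (true, [1, 5, 5])]
def TM1 : List (Bool × List ℕ) := [(false, [1]), (true, [0, 1, 0]), (true, [0, 4, 4]), (true, [3, 1, 3]), (true, [2, 1, 2, 1, 2, 1, 0, 2])]
def TM2 : List (Bool × List ℕ) := [(false, [2]), (true, [0, 2, 0]), (true, [1, 2, 1, 2, 1, 0, 2, 1]), (true, [3, 5, 2, 4, 2, 3, 5, 2, 4]), (true, [4, 3, 2, 5, 2, 4, 3, 2, 5])]
def TM3 : List (Bool × List ℕ) := [(false, [3]), (true, [4, 3, 5]), (true, [5, 3, 4])]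
def TM4 : List (Bool × List ℕ) := [(false, [5]), (true, [0, 1, 5]), (true, [0, 4, 0]), (true, [1, 4, 1]), (true, [5, 0, 1])]
def TM5 : List (Bool × List ℕ) := [(false, [4]), (true, [4, 1, 0]), (true, [1, 0, 4]), (true, [1, 5, 1]), (true, [2, 3, 5, 2, 4, 2, 3, 5, 2]), (true, [3, 5, 3])]
def TM6 : List (Bool × List ℕ) := [(true, [2, 6, 2]), (true, [2, 3, 5, 2, 4, 2, 3, 5, 2, 4]), (true, [4, 6, 5]), (false, [1, 6, 1])]
def TT : List (List (Bool × List ℕ)) := [TM0, TM1, TM2, TM3, TM4, TM5, TM6]

theorem tt_ok : allOK 6 inv lab (withInv 6 inv rels) TT 0 = true := by decide +kernel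
theorem bits_ok : bitsLt (12 * 73) tabs = true := by decide +kernel

theorem chunk0 : RangeOk look 127 0 1 dcol fx TT 0 1 :=
  RangeOk.of_chunk (S := 1) (pb := 1) (pm := 1) 1 (by decide) rfl (DD := [
  (0, (1, 0x0), (0, 0x0), [(0, 0x0), (0, 0x0), (0, 0x0), (0, 0x0), (0, 0x0), (0, 0x0)]),
  (0, (0, 0x0), (0, 0x0), [(1, 0x0), (0, 0x0), (0, 0x0), (0, 0x0), (0, 0x0)]),
  (0, (1, 0x0), (0, 0x0), [(0, 0x0), (0, 0x0), (0, 0x0), (0, 0x0), (0, 0x0)]),
  (0, (1, 0x0), (0, 0x0), [(0, 0x0), (0, 0x0), (0, 0x0)]),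
  (0, (0, 0x0), (0, 0x0), [(1, 0x0), (0, 0x0), (0, 0x0), (0, 0x0), (0, 0x0)]),
  (0, (1, 0x0), (0, 0x0), [(0, 0x0), (0, 0x0), (0, 0x0), (0, 0x0), (0, 0x0), (0, 0x0)]),
  (0, (1, 0x0), (0, 0x0), [(0, 0x0), (0, 0x0), (0, 0x0), (0, 0x0)])]) (by decide +kernel)
theorem chunk1 : RangeOk look 127 0 1 dcol fx TT 1 73 :=
  RangeOk.of_chunk (S := 72) (pb := 7) (pm := 127) 73 (by decide) rfl (DD := [
  (0, (32, 0x8b121c28301f3c76e5c376ad19305eb13a54078b15224078e1a1c080), (12, 0x5ca12234484e9b3464c13), [(15, 0x11db293e5c90c16284060a10182), (4, 0x7ef59ab), (3, 0x119526), (3, 0xb4e14), (2, 0x1d31), (1, 0x9)]),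
  (0, (34, 0x22c4850603c76e1b3568c98b05eb96ac4278e9c3464c172c50992221c203), (13, 0x478ce59a94e9478b1218100), [(16, 0x86f9eab54991a0203868c1420281), (3, 0x88f9b), (3, 0xfd424), (2, 0x1d15), (1, 0x37)]),
  (0, (25, 0x468b0de3b74d5a3160b94a84278e9c3664b962a4c911), (19, 0x10a03f7cf5c376cb15a0203860a0e14181), [(21, 0x4772cd92f5aa93a54888a0f1a2c4880c10100), (4, 0x467cd18), (1, 0x26), (1, 0x44), (1, 0x41)]),
  (0, (50, 0x23c68b0a03f7cf5c376ccd7ae56a94a84e992a4468909f3a70d193050992224078e1a3058a12203860a10180), (9, 0x4376e9a3262c0b95), [(10, 0x224172b56203c6c101), (2, 0x1a96), (1, 0x3c)]),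
  (0, (47, 0x1121c27ef9e3a72e1bb466c98b05eb962b54a54274c911a24280f1d3668c15243c70b14244050808080), (7, 0x105aad3e70b14), [(12, 0x8d01ebb2e4480d181c303), (2, 0x1b13), (2, 0x2399), (1, 0x25), (1, 0x45)]),
  (0, (44, 0x8f1a1417cedd3970ddb3364c572c56a54274a911a2427ce9a3260b93203c70c16284860a0c101), (12, 0x8b11e2f5498f122234404), [(8, 0x80d5a202a50380), (3, 0xb4e16), (2, 0x219b), (1, 0x3f), (1, 0x3d), (1, 0x30)]),
  (0, (67, 0x11e345890e0c07ef9ebc76e9bb66ad19b262c17ae5ab15a9509d325488d121407cf1d386cd19305cb15284c9101e3868c16284880e182840608080), (0, 0x0), [(2, 0x1caa), (1, 0x42), (1, 0x11), (1, 0x38)])]) (by decide +kernel)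

theorem valid : Valid look 127 0 1 73 dcol fx TT where
  fin := chunk0
  rest := chunk1
  out := fun c n h => by
    have := lookF_ne_zero bits_ok c n h
    exact ⟨this.1, this.2⟩
  bdd := ⟨_, fun c n => lookF_le tabs _ _ c n⟩
  cols := by decide
  pos := by decide

theorem traced : trace look 127 0 0 [1, 2, 1, 2, 4, 2, 1, 2, 4, 1, 2, 1, 2, 4, 2, 1, 2, 4, 6] 0 = true := by decide +kernel

theorem word {G : Type*} [Group G] (gl : List G) (hl : gl.length = 6)
    (hinv : ∀ a < gl.length, lv gl a * lv gl (nth inv a) = 1) (hrel : ∀ r ∈ rels, wprod gl r = 1) :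
    wprod gl ([1, 2, 1, 2, 4, 2, 1, 2, 4, 1, 2, 1, 2, 4, 2, 1, 2, 4, 6].map (nth lab)) = 1 := by
  have h := mem_of_trace gl inv lab [] rels valid (by rw [hl]; exact tt_ok) hinv hrel (⊥ : Subgroup G)
    (by simp) [1, 2, 1, 2, 4, 2, 1, 2, 4, 1, 2, 1, 2, 4, 2, 1, 2, 4, 6] traced
  exact Subgroup.mem_bot.1 h

theorem rel {G : Type*} [Group G] (a c d e u : G)
    (i0 : a * a = 1)
    (i1 : c * c = 1)
    (i2 : d * d = 1)
    (i3 : e * e = 1)
    (h0 : a * e * a * e = 1)
    (h1 : a * c * d * c * d * c * d * c * d = 1)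
    (h2 : c * e * c * e = 1)
    (h3 : d * e * d * e * d * e = 1)
    (h4 : a * c * a * c = 1)
    (h5 : a * d * a * d = 1)
    (h6 : u * u * c * a = 1)
    (h7 : u⁻¹ * a * u * a = 1)
    (h8 : u⁻¹ * c * u * c = 1)
    (h9 : u⁻¹ * e * u * e = 1)
    (h10 : d * e * u⁻¹ * d * u * d * e * u⁻¹ * d * u = 1) :
    c * d * c * d * u * d * c * d * u * c * d * c * d * u * d * c * d * u = 1 := by
  have h : wprod [a, c, d, e, u, u⁻¹] [1, 2, 1, 2, 4, 2, 1, 2, 4, 1, 2, 1, 2, 4, 2, 1, 2, 4, 6] = 1 := word [a, c, d, e, u, u⁻¹] rfl (by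
    intro i hi
    match i, hi with
    | 0, _ => exact i0
    | 1, _ => exact i1
    | 2, _ => exact i2
    | 3, _ => exact i3
    | 4, _ => exact mul_inv_cancel u
    | 5, _ => exact inv_mul_cancel u
    | n + 6, hi => exact absurd hi (by simp)) (by
    intro r hr
    simp only [rels, List.mem_cons, List.not_mem_nil, or_false] at hr
    rcases hr with rfl | rfl | rfl | rfl | rfl | rfl | rfl | rfl | rfl | rfl | rfl
    · simpa only [wprod, lv, List.map_cons, List.map_nil, List.prod_cons, List.prod_nil, List.getD_cons_zero, List.getD_cons_succ,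
      List.getD_nil, mul_assoc, mul_one] using h0
    · simpa only [wprod, lv, List.map_cons, List.map_nil, List.prod_cons, List.prod_nil, List.getD_cons_zero, List.getD_cons_succ,
      List.getD_nil, mul_assoc, mul_one] using h1
    · simpa only [wprod, lv, List.map_cons, List.map_nil, List.prod_cons, List.prod_nil, List.getD_cons_zero, List.getD_cons_succ,
      List.getD_nil, mul_assoc, mul_one] using h2
    · simpa only [wprod, lv, List.map_cons, List.map_nil, List.prod_cons, List.prod_nil, List.getD_cons_zero, List.getD_cons_succ,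
      List.getD_nil, mul_assoc, mul_one] using h3
    · simpa only [wprod, lv, List.map_cons, List.map_nil, List.prod_cons, List.prod_nil, List.getD_cons_zero, List.getD_cons_succ,
      List.getD_nil, mul_assoc, mul_one] using h4
    · simpa only [wprod, lv, List.map_cons, List.map_nil, List.prod_cons, List.prod_nil, List.getD_cons_zero, List.getD_cons_succ,
      List.getD_nil, mul_assoc, mul_one] using h5
    · simpa only [wprod, lv, List.map_cons, List.map_nil, List.prod_cons, List.prod_nil, List.getD_cons_zero, List.getD_cons_succ,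
      List.getD_nil, mul_assoc, mul_one] using h6
    · simpa only [wprod, lv, List.map_cons, List.map_nil, List.prod_cons, List.prod_nil, List.getD_cons_zero, List.getD_cons_succ,
      List.getD_nil, mul_assoc, mul_one] using h7
    · simpa only [wprod, lv, List.map_cons, List.map_nil, List.prod_cons, List.prod_nil, List.getD_cons_zero, List.getD_cons_succ,
      List.getD_nil, mul_assoc, mul_one] using h8
    · simpa only [wprod, lv, List.map_cons, List.map_nil, List.prod_cons, List.prod_nil, List.getD_cons_zero, List.getD_cons_succ,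
      List.getD_nil, mul_assoc, mul_one] using h9
    · simpa only [wprod, lv, List.map_cons, List.map_nil, List.prod_cons, List.prod_nil, List.getD_cons_zero, List.getD_cons_succ,
      List.getD_nil, mul_assoc, mul_one] using h10
    )
  simpa only [wprod, lv, List.map_cons, List.map_nil, List.prod_cons, List.prod_nil, List.getD_cons_zero, List.getD_cons_succ,
      List.getD_nil, mul_assoc, mul_one] using h

end L8

/-! ### L9: 23 nodes, 7 columns, 55 entries; letters `a c d e u U`; conclusion `dcdudcdudcddcdudcdudcda = 1` -/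

namespace L9

def T0 : ℕ := 0x34fb3ca10544c3000000000000000000ca800000078244e400
def T1 : ℕ := 0x6c29800006c72596006b71d75006a71400006970d2f006870400
def T2 : ℕ := 0xd964f6191d763f598dd562f5189d361f4985d160f4181
def T3 : ℕ := 0x0
def T4 : ℕ := 0xc8000000000000018cc40000116c20000000
def T5 : ℕ := 0x1af0000001a80000001a70000001a3000000000
def T6 : ℕ := 0x20000000000000000000000000000000000000000000000
def tabs : List ℕ := [T0, T1, T2, T3, T4, T5, T6]
def dc : ℕ := 0x40455455455455450
noncomputable def look (c n : ℕ) : ℕ := lookF tabs 9 511 c n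
noncomputable def dcol (n : ℕ) : ℕ := Nat.land (Nat.shiftRight dc (Nat.mul 3 n)) 7
def inv : List ℕ := [0, 1, 2, 3, 5, 4]
def lab : List ℕ := [0, 1, 2, 3, 4, 5, 6]
def rels : List (List ℕ) := [
  [0, 3, 0, 3],
  [0, 1, 2, 1, 2, 1, 2, 1, 2],
  [1, 3, 1, 3],
  [2, 3, 2, 3, 2, 3],
  [0, 1, 0, 1],
  [0, 2, 0, 2],
  [4, 4, 1, 0],
  [5, 0, 4, 0],
  [5, 1, 4, 1],
  [5, 3, 4, 3],
  [2, 3, 5, 2, 4, 2, 3, 5, 2, 4]]
noncomputable def fx (c : ℕ) : Bool := memb [] (nth lab c)
def TM0 : List (Bool × List ℕ) := [(false, [0]), (true, [1, 0, 1]), (true, [2, 0, 2]), (true, [4, 4, 1])]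
def TM1 : List (Bool × List ℕ) := [(false, [1]), (true, [2, 1, 2, 0, 1, 2, 1, 2]), (true, [5, 5, 0])]
def TM2 : List (Bool × List ℕ) := [(false, [2])]
def TM3 : List (Bool × List ℕ) := []
def TM4 : List (Bool × List ℕ) := [(false, [5]), (true, [1, 4, 1])]
def TM5 : List (Bool × List ℕ) := []
def TM6 : List (Bool × List ℕ) := [(true, [0, 2, 0, 2])]
def TT : List (List (Bool × List ℕ)) := [TM0, TM1, TM2, TM3, TM4, TM5, TM6]

theorem tt_ok : allOK 6 inv lab (withInv 6 inv rels) TT 0 = true := by decide +kernel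
theorem bits_ok : bitsLt (9 * 23) tabs = true := by decide +kernel

theorem chunk0 : RangeOk look 31 0 1 dcol fx TT 0 1 :=
  RangeOk.of_chunk (S := 1) (pb := 1) (pm := 1) 1 (by decide) rfl (DD := [
  (0, (1, 0x0), (0, 0x0), [(0, 0x0), (0, 0x0), (0, 0x0), (0, 0x0)]),
  (0, (1, 0x0), (0, 0x0), [(0, 0x0), (0, 0x0), (0, 0x0)]),
  (0, (0, 0x0), (0, 0x0), [(1, 0x0)]),
  (0, (1, 0x0), (0, 0x0), []),
  (0, (1, 0x0), (0, 0x0), [(0, 0x0), (0, 0x0)]),
  (0, (1, 0x0), (0, 0x0), []),
  (0, (1, 0x0), (0, 0x0), [(0, 0x0)])]) (by decide +kernel)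
theorem chunk1 : RangeOk look 31 0 1 dcol fx TT 1 23 :=
  RangeOk.of_chunk (S := 22) (pb := 5) (pm := 31) 23 (by decide) rfl (DD := [
  (0, (12, 0xab9ac5a92839483), (2, 0x293), [(5, 0x128bcc1), (1, 0x0), (1, 0x10), (1, 0x2)]),
  (0, (7, 0x4e4e51cc2), (6, 0x2b16a4a1), [(7, 0x520f62080), (1, 0x3), (1, 0xb)]),
  (0, (3, 0x5693), (10, 0x2507314831040), [(9, 0x117b56939461)]),
  (0, (22, 0x2b49ca307b9ac5a928398a418820), (0, 0x0), []),
  (0, (17, 0x15a4e5183dac5a92829020), (0, 0x0), [(4, 0x71cc2), (1, 0x3)]),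
  (0, (18, 0x2b49ca307358a4a0c520820), (4, 0x7ace3), []),
  (0, (21, 0x15a4a307b9ac5a928398a418820), (0, 0x0), [(1, 0x13)])]) (by decide +kernel)

theorem valid : Valid look 31 0 1 23 dcol fx TT where
  fin := chunk0
  rest := chunk1
  out := fun c n h => by
    have := lookF_ne_zero bits_ok c n h
    exact ⟨this.1, this.2⟩
  bdd := ⟨_, fun c n => lookF_le tabs _ _ c n⟩
  cols := by decide
  pos := by decide

theorem traced : trace look 31 0 0 [2, 1, 2, 4, 2, 1, 2, 4, 2, 1, 2, 2, 1, 2, 4, 2, 1, 2, 4, 2, 1, 2, 0, 6] 0 = true := by decide +kernel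

theorem word {G : Type*} [Group G] (gl : List G) (hl : gl.length = 6)
    (hinv : ∀ a < gl.length, lv gl a * lv gl (nth inv a) = 1) (hrel : ∀ r ∈ rels, wprod gl r = 1) :
    wprod gl ([2, 1, 2, 4, 2, 1, 2, 4, 2, 1, 2, 2, 1, 2, 4, 2, 1, 2, 4, 2, 1, 2, 0, 6].map (nth lab)) = 1 := by
  have h := mem_of_trace gl inv lab [] rels valid (by rw [hl]; exact tt_ok) hinv hrel (⊥ : Subgroup G)
    (by simp) [2, 1, 2, 4, 2, 1, 2, 4, 2, 1, 2, 2, 1, 2, 4, 2, 1, 2, 4, 2, 1, 2, 0, 6] traced
  exact Subgroup.mem_bot.1 h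

theorem rel {G : Type*} [Group G] (a c d e u : G)
    (i0 : a * a = 1)
    (i1 : c * c = 1)
    (i2 : d * d = 1)
    (i3 : e * e = 1)
    (h0 : a * e * a * e = 1)
    (h1 : a * c * d * c * d * c * d * c * d = 1)
    (h2 : c * e * c * e = 1)
    (h3 : d * e * d * e * d * e = 1)
    (h4 : a * c * a * c = 1)
    (h5 : a * d * a * d = 1)
    (h6 : u * u * c * a = 1)
    (h7 : u⁻¹ * a * u * a = 1)
    (h8 : u⁻¹ * c * u * c = 1)
    (h9 : u⁻¹ * e * u * e = 1)
    (h10 : d * e * u⁻¹ * d * u * d * e * u⁻¹ * d * u = 1) :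
    d * c * d * u * d * c * d * u * d * c * d * d * c * d * u * d * c * d * u * d * c * d * a = 1 := by
  have h : wprod [a, c, d, e, u, u⁻¹] [2, 1, 2, 4, 2, 1, 2, 4, 2, 1, 2, 2, 1, 2, 4, 2, 1, 2, 4, 2, 1, 2, 0, 6] = 1 := word [a, c, d, e, u, u⁻¹] rfl (by
    intro i hi
    match i, hi with
    | 0, _ => exact i0
    | 1, _ => exact i1
    | 2, _ => exact i2
    | 3, _ => exact i3
    | 4, _ => exact mul_inv_cancel u
    | 5, _ => exact inv_mul_cancel u
    | n + 6, hi => exact absurd hi (by simp)) (by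
    intro r hr
    simp only [rels, List.mem_cons, List.not_mem_nil, or_false] at hr
    rcases hr with rfl | rfl | rfl | rfl | rfl | rfl | rfl | rfl | rfl | rfl | rfl
    · simpa only [wprod, lv, List.map_cons, List.map_nil, List.prod_cons, List.prod_nil, List.getD_cons_zero, List.getD_cons_succ,
      List.getD_nil, mul_assoc, mul_one] using h0
    · simpa only [wprod, lv, List.map_cons, List.map_nil, List.prod_cons, List.prod_nil, List.getD_cons_zero, List.getD_cons_succ,
      List.getD_nil, mul_assoc, mul_one] using h1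
    · simpa only [wprod, lv, List.map_cons, List.map_nil, List.prod_cons, List.prod_nil, List.getD_cons_zero, List.getD_cons_succ,
      List.getD_nil, mul_assoc, mul_one] using h2
    · simpa only [wprod, lv, List.map_cons, List.map_nil, List.prod_cons, List.prod_nil, List.getD_cons_zero, List.getD_cons_succ,
      List.getD_nil, mul_assoc, mul_one] using h3
    · simpa only [wprod, lv, List.map_cons, List.map_nil, List.prod_cons, List.prod_nil, List.getD_cons_zero, List.getD_cons_succ,
      List.getD_nil, mul_assoc, mul_one] using h4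
    · simpa only [wprod, lv, List.map_cons, List.map_nil, List.prod_cons, List.prod_nil, List.getD_cons_zero, List.getD_cons_succ,
      List.getD_nil, mul_assoc, mul_one] using h5
    · simpa only [wprod, lv, List.map_cons, List.map_nil, List.prod_cons, List.prod_nil, List.getD_cons_zero, List.getD_cons_succ,
      List.getD_nil, mul_assoc, mul_one] using h6
    · simpa only [wprod, lv, List.map_cons, List.map_nil, List.prod_cons, List.prod_nil, List.getD_cons_zero, List.getD_cons_succ,
      List.getD_nil, mul_assoc, mul_one] using h7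
    · simpa only [wprod, lv, List.map_cons, List.map_nil, List.prod_cons, List.prod_nil, List.getD_cons_zero, List.getD_cons_succ,
      List.getD_nil, mul_assoc, mul_one] using h8
    · simpa only [wprod, lv, List.map_cons, List.map_nil, List.prod_cons, List.prod_nil, List.getD_cons_zero, List.getD_cons_succ,
      List.getD_nil, mul_assoc, mul_one] using h9
    · simpa only [wprod, lv, List.map_cons, List.map_nil, List.prod_cons, List.prod_nil, List.getD_cons_zero, List.getD_cons_succ,
      List.getD_nil, mul_assoc, mul_one] using h10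
    )
  simpa only [wprod, lv, List.map_cons, List.map_nil, List.prod_cons, List.prod_nil, List.getD_cons_zero, List.getD_cons_succ,
      List.getD_nil, mul_assoc, mul_one] using h

end L9

/-! ### L10: 111 nodes, 7 columns, 304 entries; letters `a b c d e q`; conclusion `bcdebcdebcdebcdebcdebcdebcdebcde = 1` -/

namespace L10

def T0 : ℕ := 0x95e0005e86dd66a4e500056700056e00000086d94f8ec7690000000007da00000000000000073f6d50000008df7dc00000000000093100000084700092c0000000000007d300000000000000084d91e0000000000000000008c900091191090f8c490e90d00000000000083e9030000000000000008b80000000000000000000000000000000000008af8ae8ad8ab8aa0000000000000000000000000008a4000000000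
def T1 : ℕ := 0x95d5670000004ea0000000000000007d20000007d08eb0007cc00000000094400000093f00086193d85e93b00000085b9340000007b192f92e92d8d792b0009269258d40008d10008cf00000000091b91a0008cb0009138489128c78c68c590f8c30000009079068c100000090300082200000000091c89d8b70009188990000009148958b28b09108918ac00090c88d0000009088898a80009048858a3000900881
def T2 : ℕ := 0x95c95b95a0005d995800066600000000000094e8e90008e76658e400000093f0000007d374f7bc7d18dd0000007b60006440000000000006c90000000006c18d592492285092100000000073984b0009186b273300000000000000073100082b0000000000009038be7268bd8bb00000091d89e00000091989a8b400091589600000091189200000090d88e00000090988a0000009058860008a5901882000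
def T3 : ℕ := 0x95f3e53e795d0006e946b00036c00095800095194f8ed0008ea94d94b0000000000000000007c093e93d8e10008e09398dc9348db9330000000000007430007c50007428549258d30000000009208ce0000008379180008ca7b000083200000000000082d0009090008280008bf0000009019008ba91e89f00000091a89b0008b591689700000091289300000090e88f00000090a88b8a90009068870000009028838a2000
def T4 : ℕ := 0x9604637df00000000000000095a9580004ed5e76568ee86c94f0000000008e66e48e56c75e100000000000000093b8de0009380000000000009307577457c60000009297a70000000000009218d084e91e8cd79d00084a0009167959128c87c400082e7910000008c278984190600000078500000091f8a08b983791b89c0000009178988b38329138948b182c90f89000000090b88c0008289078888a6823903884000000000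
def T5 : ℕ := 0x9570000000000000000000009479469458e29430000000000000000000000000000000000000000008da0008d80008d6000000000000000000000000000000000000000000000000000000000000000000000000000000000000000000000000000000000000000000000000000000000000000000000000000000000000000000000000000000000000000000000000000000000
def T6 : ℕ := 0x2de0000000000000000000000000000000000000002500000000000000000000000000000000000000000001bc000000000000000000000000000000000000000000000000000000000121000000000000000000000000000000000000000000000000000000000000000000000000000080000000000000000000000000000000000000000000000000000000000000000000000000000000000000000000000000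
def tabs : List ℕ := [T0, T1, T2, T3, T4, T5, T6]
def dc : ℕ := 0x1182d252275b11376d3516cc2e32c42483096944e025a8610010193102dc68c68c68c68c68c68c68c688
noncomputable def look (c n : ℕ) : ℕ := lookF tabs 12 4095 c n
noncomputable def dcol (n : ℕ) : ℕ := Nat.land (Nat.shiftRight dc (Nat.mul 3 n)) 7
def inv : List ℕ := [0, 1, 2, 3, 4, 5]
def lab : List ℕ := [0, 1, 2, 3, 4, 5, 6]
def rels : List (List ℕ) := [
  [0, 1, 0, 1, 0, 1],
  [0, 4, 0, 4],
  [1, 2, 1, 2, 1, 2],
  [1, 3, 1, 3],
  [1, 4, 1, 4],
  [0, 2, 3, 2, 3, 2, 3, 2, 3],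
  [2, 4, 2, 4],
  [3, 4, 3, 4, 3, 4],
  [0, 2, 0, 2],
  [0, 3, 0, 3],
  [0, 5, 0, 5],
  [2, 5, 2, 5],
  [3, 5, 3, 5, 4, 3, 2, 3, 4, 0],
  [4, 5, 4, 5, 2],
  [5, 3, 2, 3, 5, 3, 2, 3, 0],
  [1, 0, 2, 1, 3, 2, 3, 4, 3, 2, 3, 4, 1, 0, 2, 1, 5, 4]]
noncomputable def fx (c : ℕ) : Bool := memb [] (nth lab c)
def TM0 : List (Bool × List ℕ) := [(false, [0]), (true, [2, 0, 2]), (true, [3, 0, 3]), (true, [1, 0, 1, 0, 1]), (true, [3, 5, 3, 5, 4, 3, 2, 3, 4]), (true, [4, 0, 4]), (true, [5, 0, 5])]
def TM1 : List (Bool × List ℕ) := [(false, [1]), (true, [3, 1, 3]), (true, [4, 1, 4]), (true, [0, 2, 1, 3, 2, 3, 4, 3, 2, 3, 4, 1, 0, 2, 1, 5, 4])]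
def TM2 : List (Bool × List ℕ) := [(false, [2]), (true, [4, 2, 4]), (true, [1, 2, 1, 2, 1]), (true, [0, 2, 0]), (true, [3, 2, 3, 2, 3, 2, 0, 3]), (true, [5, 4, 5, 4])]
def TM3 : List (Bool × List ℕ) := [(false, [3]), (true, [1, 3, 1]), (true, [4, 3, 4, 3, 4]), (true, [0, 3, 0]), (true, [2, 3, 2, 3, 2, 3, 0, 2])]
def TM4 : List (Bool × List ℕ) := [(false, [4]), (true, [1, 4, 1]), (true, [0, 4, 0]), (true, [3, 4, 3, 4, 3]), (true, [1, 0, 2, 1, 3, 2, 3, 4, 3, 2, 3, 4, 1, 0, 2, 1, 5]), (true, [2, 4, 2]), (true, [5, 4, 5, 2])]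
def TM5 : List (Bool × List ℕ) := [(false, [5])]
def TM6 : List (Bool × List ℕ) := [(true, [1, 6, 1]), (true, [2, 6, 2]), (true, [3, 0, 3, 0]), (true, [3, 6, 3]), (true, [4, 6, 4])]
def TT : List (List (Bool × List ℕ)) := [TM0, TM1, TM2, TM3, TM4, TM5, TM6]

theorem tt_ok : allOK 6 inv lab (withInv 6 inv rels) TT 0 = true := by decide +kernel
theorem bits_ok : bitsLt (12 * 111) tabs = true := by decide +kernel

theorem chunk0 : RangeOk look 127 0 1 dcol fx TT 0 1 :=
  RangeOk.of_chunk (S := 1) (pb := 1) (pm := 1) 1 (by decide) rfl (DD := [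
  (0, (1, 0x0), (0, 0x0), [(0, 0x0), (0, 0x0), (0, 0x0), (0, 0x0), (0, 0x0), (0, 0x0), (0, 0x0)]),
  (0, (0, 0x0), (0, 0x0), [(1, 0x0), (0, 0x0), (0, 0x0), (0, 0x0)]),
  (0, (1, 0x0), (0, 0x0), [(0, 0x0), (0, 0x0), (0, 0x0), (0, 0x0), (0, 0x0), (0, 0x0)]),
  (0, (1, 0x0), (0, 0x0), [(0, 0x0), (0, 0x0), (0, 0x0), (0, 0x0), (0, 0x0)]),
  (0, (1, 0x0), (0, 0x0), [(0, 0x0), (0, 0x0), (0, 0x0), (0, 0x0), (0, 0x0), (0, 0x0), (0, 0x0)]),
  (0, (1, 0x0), (0, 0x0), [(0, 0x0)]),
  (0, (1, 0x0), (0, 0x0), [(0, 0x0), (0, 0x0), (0, 0x0), (0, 0x0), (0, 0x0)])]) (by decide +kernel)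
theorem chunk1 : RangeOk look 127 0 1 dcol fx TT 1 111 :=
  RangeOk.of_chunk (S := 110) (pb := 7) (pm := 127) 111 (by decide) rfl (DD := [
  (0, (72, 0xdbb3565c78705bb566bd6ab529d09f325ca931e344850603f7af1dba72d9ab466c98af509d325448501f3c70d9a3260b962a50992222c509101c305080c080), (11, 0x1aef4886dd72d58a94a3), [(15, 0x1a7466bb4a730567480f1c34602), (4, 0xc9728a4), (4, 0xcf7e6be), (1, 0x45), (1, 0x62), (1, 0x38), (1, 0x58)]),
  (0, (47, 0x1b766bd19f2e4c78b0dfbd6ecd8af56a529b324c882f5db970dda3252a1223427cf1d3258a8d1424281), (28, 0xd55a9d09d2a345890a03f6cd58af569d3223860a101820200), [(29, 0x66c176e5a8f0df3c74cd72d58a929b345c992223c70b0e18182), (3, 0x1465a0), (2, 0x27b0), (1, 0x69)]),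
  (0, (54, 0x36ecd7ab4e5c582fdebb6ab55a74a64b931e345890a0c072e1bb460bd72d58a94274c94f9e3668b13243c70b141c303), (19, 0x1a33e6c772a3d78e99a43a64a911a24281), [(24, 0xc96ecd7a13e6ca90f99234280e182e5080c1010100), (6, 0x2c3b6cc55a2), (3, 0x139fb5), (2, 0x21a9), (1, 0x51), (1, 0x61)]),
  (0, (47, 0x1b7465c786ed9b15eb55a93e4478d161c178edd376ccd82e5ab15a94e951a2386cc14264078c161c203), (26, 0x3669c582fdbb54a8cd9725f3968a10a03c68b121c28302), [(27, 0x1ab25eb94e84e992a23d70c98a43e74c972a446891014080), (6, 0x33427ed57a6), (2, 0x35c0), (1, 0x2a), (1, 0x67)]),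
  (0, (41, 0x6ad3a33e6c772ddaa94e951a1365ca93221c27ef9ebc6acd6aa52911a14064c0d1824080), (21, 0x6dcb92ecf991e0bb70c98253e6cb931e2c383), [(31, 0x1b35dfb35eb559d1603a6ed98af56a13a23c74d162a4888e1418282), (8, 0x8d1131c2840404), (4, 0xc57972c), (2, 0x1cb4), (1, 0x60), (1, 0x61), (1, 0x58)]),
  (0, (101, 0x6dd9af569d19f365c98f160bf7aedcb76aa53a54684f9d3664b95264478b0e0c07ef9ebc76e9cb86ed9ab466c98b05eb96ac56a94a84e992a446890a03e78e9c3668c982e58a9426488901e3868c16284880e182840608080), (5, 0x61b362bd5), [(4, 0xad1a242)]),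
  (0, (105, 0x6dd9af4e8cf9b2e4c78b0e0bf7aedbb566c57ad56a53a54684f9d325ca93223c68b121c28301fbe7af1dba70ddb3568cd93160bd72d58ad529509d325488d1214078e9c3668c982e58a9426488901e3868c16284880e182840608080), (0, 0x0), [(1, 0x5c), (1, 0x4d), (1, 0x6a), (1, 0x1f), (1, 0x39)])]) (by decide +kernel)

theorem valid : Valid look 127 0 1 111 dcol fx TT where
  fin := chunk0
  rest := chunk1
  out := fun c n h => by
    have := lookF_ne_zero bits_ok c n h
    exact ⟨this.1, this.2⟩
  bdd := ⟨_, fun c n => lookF_le tabs _ _ c n⟩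
  cols := by decide
  pos := by decide

theorem traced : trace look 127 0 0 [1, 2, 3, 4, 1, 2, 3, 4, 1, 2, 3, 4, 1, 2, 3, 4, 1, 2, 3, 4, 1, 2, 3, 4, 1, 2, 3, 4, 1, 2, 3, 4, 6] 0 = true := by decide +kernel

theorem word {G : Type*} [Group G] (gl : List G) (hl : gl.length = 6)
    (hinv : ∀ a < gl.length, lv gl a * lv gl (nth inv a) = 1) (hrel : ∀ r ∈ rels, wprod gl r = 1) :
    wprod gl ([1, 2, 3, 4, 1, 2, 3, 4, 1, 2, 3, 4, 1, 2, 3, 4, 1, 2, 3, 4, 1, 2, 3, 4, 1, 2, 3, 4, 1, 2, 3, 4, 6].map (nth lab)) = 1 := by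
  have h := mem_of_trace gl inv lab [] rels valid (by rw [hl]; exact tt_ok) hinv hrel (⊥ : Subgroup G)
    (by simp) [1, 2, 3, 4, 1, 2, 3, 4, 1, 2, 3, 4, 1, 2, 3, 4, 1, 2, 3, 4, 1, 2, 3, 4, 1, 2, 3, 4, 1, 2, 3, 4, 6] traced
  exact Subgroup.mem_bot.1 h

theorem rel {G : Type*} [Group G] (a b c d e q : G)
    (i0 : a * a = 1)
    (i1 : b * b = 1)
    (i2 : c * c = 1)
    (i3 : d * d = 1)
    (i4 : e * e = 1)
    (i5 : q * q = 1)
    (h0 : a * b * a * b * a * b = 1)
    (h1 : a * e * a * e = 1)
    (h2 : b * c * b * c * b * c = 1)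
    (h3 : b * d * b * d = 1)
    (h4 : b * e * b * e = 1)
    (h5 : a * c * d * c * d * c * d * c * d = 1)
    (h6 : c * e * c * e = 1)
    (h7 : d * e * d * e * d * e = 1)
    (h8 : a * c * a * c = 1)
    (h9 : a * d * a * d = 1)
    (h10 : a * q * a * q = 1)
    (h11 : c * q * c * q = 1)
    (h12 : d * q * d * q * e * d * c * d * e * a = 1)
    (h13 : e * q * e * q * c = 1)
    (h14 : q * d * c * d * q * d * c * d * a = 1)
    (h15 : b * a * c * b * d * c * d * e * d * c * d * e * b * a * c * b * q * e = 1) :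
    b * c * d * e * b * c * d * e * b * c * d * e * b * c * d * e * b * c * d * e * b * c * d * e * b * c * d * e * b * c * d * e = 1 := by
  have h : wprod [a, b, c, d, e, q] [1, 2, 3, 4, 1, 2, 3, 4, 1, 2, 3, 4, 1, 2, 3, 4, 1, 2, 3, 4, 1, 2, 3, 4, 1, 2, 3, 4, 1, 2, 3, 4, 6] = 1 := word [a, b, c, d, e, q] rfl (by
    intro i hi
    match i, hi with
    | 0, _ => exact i0
    | 1, _ => exact i1
    | 2, _ => exact i2
    | 3, _ => exact i3
    | 4, _ => exact i4
    | 5, _ => exact i5
    | n + 6, hi => exact absurd hi (by simp)) (by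
    intro r hr
    simp only [rels, List.mem_cons, List.not_mem_nil, or_false] at hr
    rcases hr with rfl | rfl | rfl | rfl | rfl | rfl | rfl | rfl | rfl | rfl | rfl | rfl | rfl | rfl | rfl | rfl
    · simpa only [wprod, lv, List.map_cons, List.map_nil, List.prod_cons, List.prod_nil, List.getD_cons_zero, List.getD_cons_succ,
      List.getD_nil, mul_assoc, mul_one] using h0
    · simpa only [wprod, lv, List.map_cons, List.map_nil, List.prod_cons, List.prod_nil, List.getD_cons_zero, List.getD_cons_succ,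
      List.getD_nil, mul_assoc, mul_one] using h1
    · simpa only [wprod, lv, List.map_cons, List.map_nil, List.prod_cons, List.prod_nil, List.getD_cons_zero, List.getD_cons_succ,
      List.getD_nil, mul_assoc, mul_one] using h2
    · simpa only [wprod, lv, List.map_cons, List.map_nil, List.prod_cons, List.prod_nil, List.getD_cons_zero, List.getD_cons_succ,
      List.getD_nil, mul_assoc, mul_one] using h3
    · simpa only [wprod, lv, List.map_cons, List.map_nil, List.prod_cons, List.prod_nil, List.getD_cons_zero, List.getD_cons_succ,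
      List.getD_nil, mul_assoc, mul_one] using h4
    · simpa only [wprod, lv, List.map_cons, List.map_nil, List.prod_cons, List.prod_nil, List.getD_cons_zero, List.getD_cons_succ,
      List.getD_nil, mul_assoc, mul_one] using h5
    · simpa only [wprod, lv, List.map_cons, List.map_nil, List.prod_cons, List.prod_nil, List.getD_cons_zero, List.getD_cons_succ,
      List.getD_nil, mul_assoc, mul_one] using h6
    · simpa only [wprod, lv, List.map_cons, List.map_nil, List.prod_cons, List.prod_nil, List.getD_cons_zero, List.getD_cons_succ,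
      List.getD_nil, mul_assoc, mul_one] using h7
    · simpa only [wprod, lv, List.map_cons, List.map_nil, List.prod_cons, List.prod_nil, List.getD_cons_zero, List.getD_cons_succ,
      List.getD_nil, mul_assoc, mul_one] using h8
    · simpa only [wprod, lv, List.map_cons, List.map_nil, List.prod_cons, List.prod_nil, List.getD_cons_zero, List.getD_cons_succ,
      List.getD_nil, mul_assoc, mul_one] using h9
    · simpa only [wprod, lv, List.map_cons, List.map_nil, List.prod_cons, List.prod_nil, List.getD_cons_zero, List.getD_cons_succ,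
      List.getD_nil, mul_assoc, mul_one] using h10
    · simpa only [wprod, lv, List.map_cons, List.map_nil, List.prod_cons, List.prod_nil, List.getD_cons_zero, List.getD_cons_succ,
      List.getD_nil, mul_assoc, mul_one] using h11
    · simpa only [wprod, lv, List.map_cons, List.map_nil, List.prod_cons, List.prod_nil, List.getD_cons_zero, List.getD_cons_succ,
      List.getD_nil, mul_assoc, mul_one] using h12
    · simpa only [wprod, lv, List.map_cons, List.map_nil, List.prod_cons, List.prod_nil, List.getD_cons_zero, List.getD_cons_succ,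
      List.getD_nil, mul_assoc, mul_one] using h13
    · simpa only [wprod, lv, List.map_cons, List.map_nil, List.prod_cons, List.prod_nil, List.getD_cons_zero, List.getD_cons_succ,
      List.getD_nil, mul_assoc, mul_one] using h14
    · simpa only [wprod, lv, List.map_cons, List.map_nil, List.prod_cons, List.prod_nil, List.getD_cons_zero, List.getD_cons_succ,
      List.getD_nil, mul_assoc, mul_one] using h15
    )
  simpa only [wprod, lv, List.map_cons, List.map_nil, List.prod_cons, List.prod_nil, List.getD_cons_zero, List.getD_cons_succ,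
      List.getD_nil, mul_assoc, mul_one] using h

end L10

end Cfsg.Agent.ThType.RelCerts
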