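import Cfsg.Agent.ThType.SetupInst
import Cfsg.Agent.ThType.CollapseY
import Cfsg.Agent.ThType.HexB

/-!
Project R05, glue: from the C-side (`Norm`, `RelC`) and the involution `w` (`YRel`, commuting with
`s` and `t`) to the generator `b`.

`C(s)` has order `7 * 168` or `7 * 360` (`CentSeven`); the second case and the bad hexagon are
excluded by the collapse certificates (`CollapseY`), the good hexagon gives `b` (`HexB`).
-/

set_option autoImplicit false

namespace Cfsg.Agent.ThType.SetupGlue

open Cfsg.Agent.ThType.SpinData Cfsg.Agent.ThType.CSideModel Cfsg.Agent.ThType.CSideBasis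
  Cfsg.Agent.ThType.SqRules Cfsg.Agent.ThType.CSideTab Cfsg.Agent.ThType.CSideRel
  Cfsg.Agent.ThType.SetupInst Cfsg.Agent.Th.Base Cfsg.Agent.ThType.RelD

variable {G : Type*} [Group G] {z : G} {S : SpinAt G z} {x : Fin 8 → G} {d e s t u w : G}

theorem ne_c (hx : QB S x) : z ≠ x 0 := by
  intro h
  have h1 := hx.pi_x 0
  rw [← h, pi_z] at h1
  exact absurd (congrFun h1 0) (by decide)

/-- the 7-local setup -/
theorem setup' (h : Norm S x d e s t u) (hS : SqRules S) (hR : RelC z (x 0) d e s t u)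
    (hy : YRel z (x 0) d e u w) (ws : w * s = s * w) : CentSeven.Setup s z (x 0) d :=
  setup h hS hR ⟨w, ws, by
    rw [inv_eq_of_mul_eq_one_right hy.yy]
    exact hy.ya⟩

/-- `|C(s)| = 7 * 168` -/
theorem card_eq [Finite G] (h : Norm S x d e s t u) (hS : SqRules S)
    (hR : RelC z (x 0) d e s t u) (hy : YRel z (x 0) d e u w) (ws : w * s = s * w) :
    Nat.card (Subgroup.centralizer ({s} : Set G)) = 7 * 168 := by
  have hT := setup' h hS hR hy ws
  rcases hT.card_cases with h1 | h1
  · exact h1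
  · exact absurd (CollapseY.eq_A hR hy (CentSevenWords.pow_four hT h1 w ws hy.yy hy.ya).2)
      (ne_c h.gens.qb)

/-- the good hexagon -/
theorem good [Finite G] (h : Norm S x d e s t u) (hS : SqRules S)
    (hR : RelC z (x 0) d e s t u) (hy : YRel z (x 0) d e u w) (ws : w * s = s * w) :
    (((x 0 * (d * x 0 * d))⁻¹ * w * (x 0 * (d * x 0 * d))) * d) ^ 6 = 1 := by
  rcases CentSevenWords.pow_six (setup' h hS hR hy ws) (card_eq h hS hR hy ws) w ws hy.yy hy.ya
    with h1 | h1
  · exact absurd (CollapseY.eq_B hR hy h1) (ne_c h.gens.qb)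
  · exact h1

/-- **the generator `b`** -/
theorem exists_b [Finite G] (h : Norm S x d e s t u) (hS : SqRules S)
    (hR : RelC z (x 0) d e s t u) (hy : YRel z (x 0) d e u w) (ws : w * s = s * w)
    (wt : w * t = t * w) :
    ∃ b : G, b * b = 1 ∧ (z * b) ^ 3 = 1 ∧ (b * x 0) ^ 3 = 1 ∧ b * d = d * b ∧ b * e = e * b ∧
      b * s = s * b ∧ b * t = t * b ∧ b * (z * x 0) * b = w :=
  HexB.exists_b hR hy ws wt (good h hS hR hy ws)

end Cfsg.Agent.ThType.SetupGlue
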