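import Cfsg.Agent.ThType.CSideMain
import Cfsg.Agent.ThType.CentSevenWords

/-!
Project R05, [INST]: the elements `s, a = z, c = x 0, d` of the C-side (`Norm S x d e s t u`) satisfy
`CentSeven.Setup`, given the fusion `z ~ x 0` in `C(s)`.

* `comm_cycle`: a permutation in `A₉` commuting with the 7-cycle of `s` is a power of it;
* `mem_closure_of_comm`: `C_Q(s) = ⟨c, d c d⟩`;
* `hC`: `C(s) ∩ C(z) = ⟨s⟩ ⟨c, d c d⟩`;
* `setup`: the structure `CentSeven.Setup s z (x 0) d`.
-/

set_option autoImplicit false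

namespace Cfsg.Agent.ThType.SetupInst

open Cfsg.Agent.ThType.SpinData Cfsg.Agent.ThType.CSideModel Cfsg.Agent.ThType.CSideBasis
  Cfsg.Agent.ThType.SqRules Cfsg.Agent.ThType.CSideWords Cfsg.Agent.ThType.CSideTab
  Cfsg.Agent.ThType.CSideRel Equiv Subgroup

/-- the 7-cycle of `s` -/
def sg : Perm (Fin 9) where
  toFun := ![1, 6, 4, 5, 3, 0, 2, 7, 8]
  invFun := ![5, 0, 6, 4, 2, 3, 1, 7, 8]
  left_inv := by decide
  right_inv := by decide

theorem sg_orbit : ∀ k : Fin 9, k.1 < 7 → ∃ i : Fin 7, (sg ^ i.1) 0 = k := by decide +kernel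

theorem sg_fix : ∀ k : Fin 9, ¬ k.1 < 7 → sg k = k := by decide +kernel

theorem sg_zero : sg 0 ≠ 0 := by decide

theorem two_left : ∀ j k : Fin 9, ¬ j.1 < 7 → ¬ k.1 < 7 → j = k ∨ (j = 7 ∧ k = 8) ∨ (j = 8 ∧ k = 7) := by
  decide

/-- the centralizer of the 7-cycle in `A₉` -/
theorem comm_cycle (p : Perm (Fin 9)) (hp : Perm.sign p = 1) (hc : p * sg = sg * p) :
    ∃ i : ℕ, p = sg ^ i := by
  have key : ∀ τ : Perm (Fin 9), τ * sg = sg * τ → Perm.sign τ = 1 → τ 0 = 0 → τ = 1 := by
    intro τ h1 h2 h3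
    have hlt : ∀ j : Fin 9, j.1 < 7 → τ j = j := by
      intro j hj
      obtain ⟨i, hi⟩ := sg_orbit j hj
      have h4 : τ * sg ^ i.1 = sg ^ i.1 * τ := (show Commute τ sg from h1).pow_right i.1
      have h5 := congrArg (fun q : Perm (Fin 9) => q 0) h4
      simp only [Perm.mul_apply, h3, hi] at h5
      exact h5
    have hge : ∀ j : Fin 9, ¬ j.1 < 7 → ¬ (τ j).1 < 7 := by
      intro j hj h4
      have h5 := hlt _ h4
      exact hj (by rw [← τ.injective h5]; exact h4)
    by_cases h7 : τ 7 = 7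
    · ext j
      by_cases hj : j.1 < 7
      · rw [hlt j hj]; rfl
      · rcases two_left j 7 hj (by decide) with h4 | h4 | h4
        · rw [h4, h7]; rfl
        · exact absurd h4.2 (by decide)
        · rw [h4.1]
          rcases two_left (τ 8) 8 (hge 8 (by decide)) (by decide) with h5 | h5 | h5
          · rw [h5]; rfl
          · exact absurd (τ.injective (h5.1.trans h7.symm)) (by decide)
          · exact absurd h5.2 (by decide)
    · exfalso
      have h78 : τ 7 = 8 := by
        rcases two_left (τ 7) 7 (hge 7 (by decide)) (by decide) with h5 | h5 | h5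
        · exact absurd h5 h7
        · exact absurd h5.2 (by decide)
        · exact h5.1
      have h87 : τ 8 = 7 := by
        rcases two_left (τ 8) 8 (hge 8 (by decide)) (by decide) with h5 | h5 | h5
        · exact absurd (τ.injective (h5.trans h78.symm)) (by decide)
        · exact h5.1
        · exact absurd h5.2 (by decide)
      have h9 : τ = swap 7 8 := by
        ext j
        by_cases hj : j.1 < 7
        · rw [hlt j hj, swap_apply_of_ne_of_ne]
          · rintro rfl; exact absurd hj (by decide)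
          · rintro rfl; exact absurd hj (by decide)
        · rcases two_left j 7 hj (by decide) with h4 | h4 | h4
          · rw [h4, h78, swap_apply_left]
          · exact absurd h4.2 (by decide)
          · rw [h4.1, h87, swap_apply_right]
      rw [h9, Perm.sign_swap (by decide)] at h2
      exact absurd h2 (by decide)
  by_cases h0 : (p 0).1 < 7
  · obtain ⟨i, hi⟩ := sg_orbit _ h0
    have hcs : Commute (sg ^ i.1)⁻¹ sg := ((Commute.refl sg).pow_left i.1).inv_left
    have h1 : (sg ^ i.1)⁻¹ * p = 1 := by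
      refine key _ (hcs.mul_left hc) ?_ ?_
      · rw [map_mul, map_inv, map_pow, hp, show Perm.sign sg = 1 by decide +kernel, one_pow,
          inv_one, one_mul]
      · rw [Perm.mul_apply, Perm.inv_eq_iff_eq, hi]
    exact ⟨i.1, by rw [← mul_one (sg ^ i.1), ← h1, mul_inv_cancel_left]⟩
  · exfalso
    have h1 := congrArg (fun q : Perm (Fin 9) => q 0) hc
    simp only [Perm.mul_apply, sg_fix _ h0] at h1
    exact sg_zero (p.injective h1)

variable {G : Type*} [Group G] {z : G} {S : SpinAt G z} {x : Fin 8 → G} {d e s t u : G}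

theorem phi_s (h : Gens S x d e s t u) : (S.φ s).1 = sg := by
  ext j
  rw [h.s.perm j]
  revert j
  decide +kernel

theorem land_of_vec {m n : ℕ} (h : vec m = vec n) : Nat.land m 255 = Nat.land n 255 := by
  apply Nat.eq_of_testBit_eq
  intro i
  have e1 : ∀ k : ℕ, (Nat.land k 255).testBit i = (k.testBit i && Nat.testBit 255 i) :=
    fun k => Nat.testBit_and k 255 i
  rw [e1, e1]
  by_cases hi : i < 8
  · have h1 := congrFun h ⟨i, hi⟩
    simp only [vec] at h1
    have h2 : m.testBit i = n.testBit i := by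
      revert h1
      cases m.testBit i <;> cases n.testBit i <;> simp
    rw [h2]
  · have h2 : Nat.testBit 255 i = false := by
      apply Nat.testBit_lt_two_pow
      calc 255 < 2 ^ 8 := by norm_num
        _ ≤ 2 ^ i := Nat.pow_le_pow_right (by norm_num) (by omega)
    rw [h2, Bool.and_false, Bool.and_false]

theorem ι_mod (n : ℕ) : ι z x n = ι z x (n % 512) := by
  apply ι_congr
  intro i hi
  rw [show (512 : ℕ) = 2 ^ 9 by norm_num, Nat.testBit_mod_two_pow]
  simp [hi]

theorem fix_check : ∀ n < 512, Nat.land (app (tabL 4) n) 255 = Nat.land n 255 →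
    n = 0 ∨ n = 1 ∨ n = 246 ∨ n = nmul 1 246 ∨ n = 256 ∨ n = nmul 256 1 ∨ n = nmul 256 246 ∨
      n = nmul 256 (nmul 1 246) := by
  decide +kernel

/-- `C_Q(s) = ⟨c, d c d⟩` -/
theorem mem_closure_of_comm (h : Norm S x d e s t u) (hS : SqRules S) {q : G} (hq : q ∈ S.Q)
    (hs : s * q = q * s) : q ∈ closure ({x 0, d * x 0 * d} : Set G) := by
  obtain ⟨n, hn⟩ := exists_code h.gens.qb hq
  rw [ι_mod] at hn
  set m := n % 512 with hm
  have hm' : m < 512 := Nat.mod_lt _ (by norm_num)
  have hd : d⁻¹ = d := inv_eq_of_mul_eq_one_right (h.d2 hS)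
  have h1 := h.gens.s.acts.conj h.gens.qb.basis m
  rw [← hn, hs, mul_inv_cancel_right] at h1
  have h2 : vec (app (tabL 4) m) = vec m := by
    rw [← pi_ι h.gens.qb, ← pi_ι h.gens.qb, ← h1, ← hn]
  have hc : x 0 ∈ closure ({x 0, d * x 0 * d} : Set G) := subset_closure (by simp)
  have hf : d * x 0 * d ∈ closure ({x 0, d * x 0 * d} : Set G) := subset_closure (by simp)
  have c1 := gens_conj h.gens (w := [2]) (by decide) 1
  have x0 : ι z x 1 = x 0 := ι_gen (z := z) (x := x) 0
  simp only [wval, gl, mul_one, x0, hd, show wact tabL [2] 1 = 246 by decide +kernel] at c1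
  have hz : z ∈ closure ({x 0, d * x 0 * d} : Set G) := by
    have h3 := h.acd hS
    have h4 : (x 0 * d) ^ 4 = (x 0 * (d * x 0 * d)) * (x 0 * (d * x 0 * d)) := by
      simp only [pow_succ, pow_zero, one_mul, mul_assoc]
    rw [h4] at h3
    rw [← h3]
    exact mul_mem (mul_mem hc hf) (mul_mem hc hf)
  have n1 : ι z x 1 ∈ closure ({x 0, d * x 0 * d} : Set G) := by rw [x0]; exact hc
  have n2 : ι z x 246 ∈ closure ({x 0, d * x 0 * d} : Set G) := by rw [← c1]; exact hf
  have n3 : ι z x 256 ∈ closure ({x 0, d * x 0 * d} : Set G) := by rw [ι_z]; exact hz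
  rw [hn]
  have hb := h.gens.qb.basis
  rcases fix_check m hm' (land_of_vec h2) with h5 | h5 | h5 | h5 | h5 | h5 | h5 | h5 <;> rw [h5]
  · rw [ι_zero]; exact one_mem _
  · exact n1
  · exact n2
  · rw [ι_nmul hb]; exact mul_mem n1 n2
  · exact n3
  · rw [ι_nmul hb]; exact mul_mem n3 n1
  · rw [ι_nmul hb]; exact mul_mem n3 n2
  · rw [ι_nmul hb, ι_nmul hb]; exact mul_mem n3 (mul_mem n1 n2)

theorem phi_pow (S : SpinAt G z) {g : G} (hg : g * z = z * g) : ∀ i : ℕ, S.φ (g ^ i) = S.φ g ^ i
  | 0 => by rw [pow_zero, pow_zero, phi_one]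
  | i + 1 => by
      have h1 : g ^ i * z = z * g ^ i := (show Commute g z from hg).pow_left i
      rw [pow_succ, pow_succ, S.φ_mul _ _ h1 hg, phi_pow S hg i]

/-- `C(s) ∩ C(z) = ⟨s⟩ ⟨c, d c d⟩` -/
theorem hC (h : Norm S x d e s t u) (hS : SqRules S) (g : G) (hs : g * s = s * g)
    (hz : g * z = z * g) :
    ∃ i : ℤ, ∃ y ∈ closure ({x 0, d * x 0 * d} : Set G), g = s ^ i * y := by
  have hsz : s * z = z * s := h.gens.s.acts.z_comm
  have h1 : S.φ g * S.φ s = S.φ s * S.φ g := by
    rw [← S.φ_mul _ _ hz hsz, ← S.φ_mul _ _ hsz hz, hs]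
  have h2 : (S.φ g).1 * sg = sg * (S.φ g).1 := by
    rw [← phi_s h.gens]
    exact congrArg Subtype.val h1
  obtain ⟨i, hi⟩ := comm_cycle _ (Perm.mem_alternatingGroup.1 (S.φ g).2) h2
  have h3 : S.φ g = S.φ (s ^ i) := by
    rw [phi_pow S hsz]
    apply Subtype.ext
    rw [hi, SubmonoidClass.coe_pow, phi_s h.gens]
  have hsi : s ^ i * z = z * s ^ i := (show Commute s z from hsz).pow_left i
  have h4 : (s ^ i)⁻¹ * g ∈ S.Q := by
    rw [← S.φ_eq_one _ (mul_comm_z (inv_comm_z hsi) hz), S.φ_mul _ _ (inv_comm_z hsi) hz,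
      phi_inv S hsi, h3, inv_mul_cancel]
  have h5 : s * ((s ^ i)⁻¹ * g) = ((s ^ i)⁻¹ * g) * s := by
    have h6 : Commute s ((s ^ i)⁻¹ * g) :=
      (((Commute.refl s).pow_right i).inv_right).mul_right (show Commute s g from hs.symm)
    exact h6
  refine ⟨(i : ℤ), _, mem_closure_of_comm h hS h4 h5, ?_⟩
  rw [zpow_natCast, mul_inv_cancel_left]

/-- the input of `CentSeven` -/
theorem setup (h : Norm S x d e s t u) (hS : SqRules S)
    (hR : Cfsg.Agent.Th.Base.RelC z (x 0) d e s t u)
    (hfus : ∃ y : G, y * s = s * y ∧ y * z * y⁻¹ = x 0) : CentSeven.Setup s z (x 0) d where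
  s7 := by
    have : Fact (Nat.Prime 7) := ⟨by norm_num⟩
    apply orderOf_eq_prime h.s7
    rintro rfl
    have h1 := phi_s h.gens
    rw [phi_one] at h1
    exact sg_zero (by rw [← h1]; rfl)
  cs := (c_comm h.gens.s (by decide)).symm
  c2 := h.gens.qb.basis.sq 0
  d2 := h.d2 hS
  ds := by
    have h1 := hR.sd2
    have h2 := h.d2 hS
    rw [pow_two] at h1
    have h3 : d * s * d = s⁻¹ * ((s * d) * (s * d)) * 1 := by group
    rw [h3, h1, mul_one, mul_one]
  ha := by
    rw [← h.acd hS]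
    simp only [pow_succ, pow_zero, one_mul, mul_assoc]
  a2 := S.z_sq
  a1 := S.z_ne
  hC := hC h hS
  fus := hfus

end Cfsg.Agent.ThType.SetupInst
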