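import Mathlib.GroupTheory.Sylow
import Mathlib.GroupTheory.PGroup
import Mathlib.Tactic

/-!
# Elements of order 7 commuting with involutions: abstract part

A finite group `G` with `7³ ∤ |G|` and two commuting elements `s`, `y` of order 7 with `y ∉ ⟨s⟩`: every
element of order 7 is conjugate to some `s^i y^j` (`exists_conj_eq`). With a few conjugations this
shows that every element of order 7 commutes with an involution (`exists_involution`).
-/

set_option autoImplicit false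

namespace Cfsg.Agent.ThType.SevenAbstract

variable {G : Type*} [Group G]

/-- the subgroup `⟨s, y⟩` for commuting elements `s`, `y` of exponent 7 -/
def grp (s y : G) (hs : s ^ 7 = 1) (hy : y ^ 7 = 1) (hsy : Commute s y) : Subgroup G where
  carrier := {x | ∃ i j : ℕ, x = s ^ i * y ^ j}
  mul_mem' := by
    rintro _ _ ⟨i, j, rfl⟩ ⟨i', j', rfl⟩
    refine ⟨i + i', j + j', ?_⟩
    rw [pow_add, pow_add]
    have := (hsy.pow_pow i' j).eq
    calc s ^ i * y ^ j * (s ^ i' * y ^ j') = s ^ i * (y ^ j * s ^ i') * y ^ j' := by group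
      _ = s ^ i * (s ^ i' * y ^ j) * y ^ j' := by rw [this]
      _ = _ := by group
  one_mem' := ⟨0, 0, by simp⟩
  inv_mem' := by
    rintro _ ⟨i, j, rfl⟩
    refine ⟨6 * i, 6 * j, ?_⟩
    rw [inv_eq_iff_mul_eq_one]
    have := (hsy.pow_pow (6 * i) j).eq
    calc s ^ i * y ^ j * (s ^ (6 * i) * y ^ (6 * j)) = s ^ i * (y ^ j * s ^ (6 * i)) * y ^ (6 * j) := by group
      _ = s ^ i * (s ^ (6 * i) * y ^ j) * y ^ (6 * j) := by rw [this]
      _ = s ^ (7 * i) * y ^ (7 * j) := by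
        rw [← mul_assoc, ← pow_add, mul_assoc, ← pow_add]
        congr 2 <;> ring
      _ = 1 := by rw [pow_mul, pow_mul, hs, hy, one_pow, one_pow, one_mul]

theorem mem_grp {s y : G} {hs : s ^ 7 = 1} {hy : y ^ 7 = 1} {hsy : Commute s y} {x : G} :
    x ∈ grp s y hs hy hsy ↔ ∃ i j : ℕ, x = s ^ i * y ^ j := Iff.rfl

theorem pow_seven {s y : G} (hs : s ^ 7 = 1) (hy : y ^ 7 = 1) (hsy : Commute s y) {x : G}
    (hx : x ∈ grp s y hs hy hsy) : x ^ 7 = 1 := by
  obtain ⟨i, j, rfl⟩ := hx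
  rw [(hsy.pow_pow i j).mul_pow, ← pow_mul, ← pow_mul, mul_comm i 7, mul_comm j 7, pow_mul, pow_mul, hs, hy,
    one_pow, one_pow, one_mul]

theorem isPGroup_grp {s y : G} (hs : s ^ 7 = 1) (hy : y ^ 7 = 1) (hsy : Commute s y) :
    IsPGroup 7 (grp s y hs hy hsy) := by
  intro x
  refine ⟨1, ?_⟩
  apply Subtype.ext
  rw [pow_one]
  exact pow_seven hs hy hsy x.2

/-- every element of order 7 is conjugate to an element of `⟨s, y⟩` -/
theorem exists_conj_eq [Finite G] {s y : G} (hs : s ^ 7 = 1) (hs1 : s ≠ 1) (hy : y ^ 7 = 1) (hsy : Commute s y)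
    (hns : y ∉ Subgroup.zpowers s) (h49 : ¬ 7 ^ 3 ∣ Nat.card G) {k : G} (hk : orderOf k = 7) :
    ∃ g : G, ∃ i j : ℕ, g * k * g⁻¹ = s ^ i * y ^ j := by
  classical
  have : Fact (Nat.Prime 7) := ⟨by norm_num⟩
  obtain ⟨Q, hQ⟩ := (isPGroup_grp hs hy hsy).exists_le_sylow
  -- the cardinality of `Q` is at most 49
  have hcardQ : ∃ n, n ≤ 2 ∧ Nat.card Q = 7 ^ n := by
    obtain ⟨n, hn⟩ := IsPGroup.iff_card.1 Q.isPGroup'
    refine ⟨n, ?_, hn⟩
    by_contra hlt
    push Not at hlt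
    apply h49
    refine (pow_dvd_pow 7 hlt).trans ?_
    rw [← hn]
    exact Subgroup.card_subgroup_dvd_card _
  have hle : Nat.card Q ≤ Nat.card (grp s y hs hy hsy) := by
    obtain ⟨n, hn2, hn⟩ := hcardQ
    obtain ⟨m, hm⟩ := IsPGroup.iff_card.1 (isPGroup_grp hs hy hsy)
    have hsmem : s ∈ grp s y hs hy hsy := ⟨1, 0, by simp⟩
    have hymem : y ∈ grp s y hs hy hsy := ⟨0, 1, by simp⟩
    have horder : orderOf s = 7 := orderOf_eq_prime hs hs1
    have hlt : Subgroup.zpowers s < grp s y hs hy hsy := by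
      refine lt_of_le_of_ne (Subgroup.zpowers_le.2 hsmem) ?_
      intro heq
      apply hns
      rw [heq]
      exact hymem
    have h7 : Nat.card (Subgroup.zpowers s) = 7 := by rw [Nat.card_zpowers, horder]
    have hlt' : Nat.card (Subgroup.zpowers s) < Nat.card (grp s y hs hy hsy) := by
      apply Set.ncard_lt_ncard (s := (Subgroup.zpowers s : Set G)) (t := (grp s y hs hy hsy : Set G))
      exact hlt
    rw [h7, hm] at hlt'
    have hm2 : 2 ≤ m := by
      by_contra hcon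
      have : m ≤ 1 := by omega
      have := Nat.pow_le_pow_right (n := 7) (by norm_num) this
      omega
    rw [hn, hm]
    exact Nat.pow_le_pow_right (by norm_num) (hn2.trans hm2)
  have heq : grp s y hs hy hsy = (Q : Subgroup G) := by
    apply Subgroup.eq_of_le_of_card_ge hQ
    exact hle
  -- conjugate `k` into `Q`
  have hkp : IsPGroup 7 (Subgroup.zpowers k) := by
    apply IsPGroup.of_card (n := 1)
    rw [Nat.card_zpowers, hk, pow_one]
  obtain ⟨R, hR⟩ := hkp.exists_le_sylow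
  obtain ⟨g, hg⟩ := MulAction.exists_smul_eq G R Q
  refine ⟨g, ?_⟩
  have hkR : k ∈ (R : Subgroup G) := hR (Subgroup.mem_zpowers k)
  have hkQ : g * k * g⁻¹ ∈ (Q : Subgroup G) := by
    rw [← hg, Sylow.coe_subgroup_smul]
    exact Subgroup.smul_mem_pointwise_smul _ (MulAut.conj g) _ hkR
  rw [← heq] at hkQ
  exact hkQ

/-- `x` commutes with an involution -/
def CI (x : G) : Prop := ∃ σ : G, orderOf σ = 2 ∧ σ * x = x * σ

theorem CI.pow {x : G} (h : CI x) (n : ℕ) : CI (x ^ n) := by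
  obtain ⟨σ, h2, hc⟩ := h
  exact ⟨σ, h2, ((show Commute σ x from hc).pow_right n).eq⟩

theorem CI.of_conj {x y g : G} (h : CI x) (hg : x * g = g * y) : CI y := by
  obtain ⟨σ, h2, hc⟩ := h
  refine ⟨g⁻¹ * σ * g, ?_, ?_⟩
  · rw [← h2]
    have : g⁻¹ * σ * g = g⁻¹ * σ * (g⁻¹)⁻¹ := by rw [inv_inv]
    rw [this]
    exact orderOf_injective (MulAut.conj g⁻¹).toMonoidHom (MulAut.conj g⁻¹).injective σ
  · have hy : y = g⁻¹ * x * g := by rw [mul_assoc, hg]; group
    rw [hy]
    calc g⁻¹ * σ * g * (g⁻¹ * x * g) = g⁻¹ * (σ * x) * g := by group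
      _ = g⁻¹ * (x * σ) * g := by rw [hc]
      _ = g⁻¹ * x * g * (g⁻¹ * σ * g) := by group

theorem solve : ∀ i < 7, ∀ j < 7, i = 0 ∨ ∃ k < 7, (k * i) % 7 = j := by decide

/-- Every element of order 7 commutes with an involution. -/
theorem exists_involution [Finite G] {s y t a gY g2 g6 : G} {n₁ n₂ n₃ : ℕ} (hs : s ^ 7 = 1) (hs1 : s ≠ 1) (hy : y ^ 7 = 1)
    (hsy : s * y = y * s) (h49 : ¬ 7 ^ 3 ∣ Nat.card G) (ha : orderOf a = 2) (has : a * s = s * a)
    (hay : a * y ≠ y * a) (hts : s * t = t * s ^ 2) (hty : y * t = t * y)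
    (hgY : s ^ n₁ * gY = gY * y) (hg2 : s ^ n₂ * g2 = g2 * (s * y ^ 2)) (hg6 : s ^ n₃ * g6 = g6 * (s * y ^ 6))
    {k : G} (hk : orderOf k = 7) : CI k := by
  have hns : y ∉ Subgroup.zpowers s := by
    rintro ⟨n, rfl⟩
    apply hay
    exact ((show Commute a s from has).zpow_right n).eq
  have hC : Commute s y := hsy
  have hCs : CI s := ⟨a, ha, has⟩
  have hCy : CI y := (hCs.pow n₁).of_conj hgY
  have hC2 : CI (s * y ^ 2) := (hCs.pow n₂).of_conj hg2
  have hC6 : CI (s * y ^ 6) := (hCs.pow n₃).of_conj hg6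
  -- conjugation by `t` multiplies the slope by 4
  have hstep : ∀ n m : ℕ, (4 * n) % 7 = m → CI (s * y ^ n) → CI (s * y ^ m) := by
    intro n m hnm h
    have h1 : CI (s ^ 2 * y ^ n) := by
      refine h.of_conj (g := t) ?_
      have : y ^ n * t = t * y ^ n := ((show Commute y t from hty).pow_left n).eq
      rw [mul_assoc, this, ← mul_assoc, hts, mul_assoc]
    have h2 := h1.pow 4
    rw [((hC.pow_pow 2 n)).mul_pow, ← pow_mul, ← pow_mul] at h2
    have h3 : s ^ (2 * 4) = s := by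
      rw [show 2 * 4 = 7 + 1 by norm_num, pow_succ, hs, one_mul]
    have h4 : y ^ (n * 4) = y ^ m := by
      rw [pow_eq_pow_mod (n * 4) hy, mul_comm, hnm]
    rw [h3, h4] at h2
    exact h2
  have hC1 : CI (s * y ^ 1) := hstep 2 1 (by norm_num) hC2
  have hC4 : CI (s * y ^ 4) := hstep 1 4 (by norm_num) hC1
  have hC3 : CI (s * y ^ 3) := hstep 6 3 (by norm_num) hC6
  have hC5 : CI (s * y ^ 5) := hstep 3 5 (by norm_num) hC3
  have hall : ∀ n < 7, CI (s * y ^ n) := by
    intro n hn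
    interval_cases n
    · simpa using hCs
    · exact hC1
    · exact hC2
    · exact hC3
    · exact hC4
    · exact hC5
    · exact hC6
  obtain ⟨g, i, j, hg⟩ := exists_conj_eq hs hs1 hy hC hns h49 hk
  have hP : CI (s ^ i * y ^ j) := by
    rw [pow_eq_pow_mod i hs, pow_eq_pow_mod j hy]
    rcases solve (i % 7) (Nat.mod_lt _ (by norm_num)) (j % 7) (Nat.mod_lt _ (by norm_num)) with h0 | ⟨n, hn, hnj⟩
    · rw [h0, pow_zero, one_mul]
      exact hCy.pow _
    · have := (hall n hn).pow (i % 7)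
      rw [(hC.pow_right n).mul_pow, ← pow_mul, pow_eq_pow_mod (n * (i % 7)) hy, hnj] at this
      exact this
  refine hP.of_conj (g := g) ?_
  rw [← hg]
  group

end Cfsg.Agent.ThType.SevenAbstract
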