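/-
Elements of order 7 in the presented Thompson group: kernel checks with the 248-dimensional matrices over F_3.
-/
import Cfsg.Agent.Th.Hom248
import Cfsg.Agent.ThType.SevenData

set_option autoImplicit false

namespace Cfsg.Agent.ThType.SevenBase

open Cfsg.Agent.Th Cfsg.Agent.Th.MatEngine Cfsg.Agent.Th.Words248 Cfsg.Agent.Th.Gen248 Cfsg.Agent.Th.Hom248
  Cfsg.Agent.ThType.SevenData

set_option maxRecDepth 100000
set_option maxHeartbeats 400000

/-- `x` is the packed matrix of `g` -/
def Rep (x : ℕ) (g : GL (Fin 248) (ZMod 3)) : Prop :=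
  Ok x ∧ mat x = (g : Matrix (Fin 248) (Fin 248) (ZMod 3))

theorem Rep.eq {x : ℕ} {g h : GL (Fin 248) (ZMod 3)} (hg : Rep x g) (hh : Rep x h) : g = h :=
  Units.ext (hg.2.symm.trans hh.2)

theorem rep_word (w : Wd) : Rep (evN false w) (evG w) := (evN_spec w).1

theorem Rep.of_beq {x y : ℕ} {g : GL (Fin 248) (ZMod 3)} (h : Rep x g) (hxy : Nat.beq x y = true) : Rep y g := by
  rw [← Nat.eq_of_beq_eq_true hxy]
  exact h

theorem Rep.mul {x y : ℕ} {g h : GL (Fin 248) (ZMod 3)} (hx : Rep x g) (hy : Rep y h) :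
    Rep (Words248.mul x y) (g * h) := by
  refine ⟨(mul_spec hx.1 hy.1).1, ?_⟩
  rw [(mul_spec hx.1 hy.1).2, hx.2, hy.2]
  rfl

/-- `y = c b d c d`, an element of order 7 commuting with `s` -/
def wy : Wd := (.mul (.mul (.mul (.mul (.g .c) (.g .b)) (.g .d)) (.g .c)) (.g .d))

theorem ck_my : Nat.beq (evN false wy) (expd my) = true := by decide +kernel

theorem rep_my : Rep (expd my) (evG wy) := (rep_word wy).of_beq ck_my

theorem ck_y7 : Nat.beq (powN (expd my) 7) idm = true := by decide +kernel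

theorem ck_sy : Nat.beq (Words248.mul (pm .s) (expd my)) (Words248.mul (expd my) (pm .s)) = true := by decide +kernel

theorem ck_ay : Nat.beq (Words248.mul (pm .a) (expd my)) (Words248.mul (expd my) (pm .a)) = false := by decide +kernel

theorem ck_a : Nat.beq (evN false (.g .a)) (evN false .one) = false := by decide +kernel

theorem ck_s : Nat.beq (evN false (.g .s)) (evN false .one) = false := by decide +kernel

theorem y7 : evG wy ^ 7 = 1 := by
  have h1 : Rep (powN (expd my) 7) (evG wy ^ 7) := by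
    have := powN_spec rep_my.1 7
    exact ⟨this.1, by rw [this.2, rep_my.2]; rfl⟩
  exact (h1.of_beq ck_y7).eq ⟨idm_spec.1, idm_spec.2⟩

theorem rep_pow {x : ℕ} {g : GL (Fin 248) (ZMod 3)} (h : Rep x g) (n : ℕ) : Rep (powN x n) (g ^ n) := by
  have := powN_spec h.1 n
  exact ⟨this.1, by rw [this.2, h.2]; rfl⟩

theorem sy : evG (.g .s) * evG wy = evG wy * evG (.g .s) := by
  have h1 := (rep_word (.g .s)).mul rep_my
  have h2 := rep_my.mul (rep_word (.g .s))
  exact (h1.of_beq ck_sy).eq h2

theorem ay : evG (.g .a) * evG wy ≠ evG wy * evG (.g .a) := by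
  intro h
  have h1 := (rep_word (.g .a)).mul rep_my
  have h2 := rep_my.mul (rep_word (.g .a))
  have h3 : Words248.mul (pm .a) (expd my) = Words248.mul (expd my) (pm .a) := by
    apply mat_injective h1.1 h2.1
    rw [h1.2, h2.2, h]
  have h4 := ck_ay
  rw [h3] at h4
  simp at h4


end Cfsg.Agent.ThType.SevenBase
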