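/-
Elements of order 7 in the presented Thompson group: kernel checks with the 248-dimensional matrices over F_3.
-/
import Cfsg.Agent.ThType.SevenBase

set_option autoImplicit false

namespace Cfsg.Agent.ThType.SevenG2

open Cfsg.Agent.Th Cfsg.Agent.Th.MatEngine Cfsg.Agent.Th.Words248 Cfsg.Agent.Th.Gen248 Cfsg.Agent.Th.Hom248
  Cfsg.Agent.ThType.SevenData Cfsg.Agent.ThType.SevenBase

set_option maxRecDepth 100000
set_option maxHeartbeats 400000

/-- first part of the word `esudcdubUdSUsesdusTe` -/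
def wg2_1 : Wd := (.mul (.mul (.mul (.mul (.mul (.mul (.mul (.mul (.mul (.g .e) (.g .s)) (.g .u)) (.g .d)) (.g .c)) (.g .d)) (.g .u)) (.g .b)) (.g .U)) (.g .d))

/-- second part of the word `esudcdubUdSUsesdusTe` -/
def wg2_2 : Wd := (.mul (.mul (.mul (.mul (.mul (.mul (.mul (.mul (.mul (.g .S) (.g .U)) (.g .s)) (.g .e)) (.g .s)) (.g .d)) (.g .u)) (.g .s)) (.g .T)) (.g .e))

/-- the conjugating word `esudcdubUdSUsesdusTe` -/
def g2 : Wd := .mul wg2_1 wg2_2

theorem ck_g2_1 : Nat.beq (evN false wg2_1) (expd mg2_1) = true := by decide +kernel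

theorem ck_g2_2 : Nat.beq (Words248.mul (expd mg2_1) (evN false wg2_2)) (expd mg2_2) = true := by decide +kernel

theorem rep_g2 : Rep (expd mg2_2) (evG g2) :=
  (((rep_word wg2_1).of_beq ck_g2_1).mul (rep_word wg2_2)).of_beq ck_g2_2

theorem ck_g2 : Nat.beq (Words248.mul (evN false (.pow (.g .s) 1)) (expd mg2_2))
    (Words248.mul (expd mg2_2) (Words248.mul (pm .s) (powN (expd my) 2))) = true := by
  decide +kernel

theorem e2 : evG (.g .s) ^ 1 * evG g2 = evG g2 * (evG (.g .s) * evG wy ^ 2) := by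
  have h1 := (rep_word (.pow (.g .s) 1)).mul rep_g2
  exact (h1.of_beq ck_g2).eq (rep_g2.mul ((rep_word (.g .s)).mul (rep_pow rep_my 2)))


end Cfsg.Agent.ThType.SevenG2
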