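/-
Elements of order 7 in the presented Thompson group: kernel checks with the 248-dimensional matrices over F_3.
-/
import Cfsg.Agent.ThType.SevenBase

set_option autoImplicit false

namespace Cfsg.Agent.ThType.SevenG6

open Cfsg.Agent.Th Cfsg.Agent.Th.MatEngine Cfsg.Agent.Th.Words248 Cfsg.Agent.Th.Gen248 Cfsg.Agent.Th.Hom248
  Cfsg.Agent.ThType.SevenData Cfsg.Agent.ThType.SevenBase

set_option maxRecDepth 100000
set_option maxHeartbeats 400000

/-- first part of the word `edubaUbSUdSUSdusdbuabUdec` -/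
def wg6_1 : Wd := (.mul (.mul (.mul (.mul (.mul (.mul (.mul (.mul (.mul (.mul (.mul (.g .e) (.g .d)) (.g .u)) (.g .b)) (.g .a)) (.g .U)) (.g .b)) (.g .S)) (.g .U)) (.g .d)) (.g .S)) (.g .U))

/-- second part of the word `edubaUbSUdSUSdusdbuabUdec` -/
def wg6_2 : Wd := (.mul (.mul (.mul (.mul (.mul (.mul (.mul (.mul (.mul (.mul (.mul (.mul (.g .S) (.g .d)) (.g .u)) (.g .s)) (.g .d)) (.g .b)) (.g .u)) (.g .a)) (.g .b)) (.g .U)) (.g .d)) (.g .e)) (.g .c))

/-- the conjugating word `edubaUbSUdSUSdusdbuabUdec` -/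
def g6 : Wd := .mul wg6_1 wg6_2

theorem ck_g6_1 : Nat.beq (evN false wg6_1) (expd mg6_1) = true := by decide +kernel

theorem ck_g6_2 : Nat.beq (Words248.mul (expd mg6_1) (evN false wg6_2)) (expd mg6_2) = true := by decide +kernel

theorem rep_g6 : Rep (expd mg6_2) (evG g6) :=
  (((rep_word wg6_1).of_beq ck_g6_1).mul (rep_word wg6_2)).of_beq ck_g6_2

theorem ck_g6 : Nat.beq (Words248.mul (evN false (.pow (.g .s) 2)) (expd mg6_2))
    (Words248.mul (expd mg6_2) (Words248.mul (pm .s) (powN (expd my) 6))) = true := by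
  decide +kernel

theorem e6 : evG (.g .s) ^ 2 * evG g6 = evG g6 * (evG (.g .s) * evG wy ^ 6) := by
  have h1 := (rep_word (.pow (.g .s) 2)).mul rep_g6
  exact (h1.of_beq ck_g6).eq (rep_g6.mul ((rep_word (.g .s)).mul (rep_pow rep_my 6)))


end Cfsg.Agent.ThType.SevenG6
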