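/-
Elements of order 7 in the presented Thompson group: kernel checks with the 248-dimensional matrices over F_3.
-/
import Cfsg.Agent.ThType.SevenBase

set_option autoImplicit false

namespace Cfsg.Agent.ThType.SevenGY

open Cfsg.Agent.Th Cfsg.Agent.Th.MatEngine Cfsg.Agent.Th.Words248 Cfsg.Agent.Th.Gen248 Cfsg.Agent.Th.Hom248
  Cfsg.Agent.ThType.SevenData Cfsg.Agent.ThType.SevenBase

set_option maxRecDepth 100000
set_option maxHeartbeats 400000

/-- first part of the word `ubududubSududUTsdusbUdubu` -/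
def wgY_1 : Wd := (.mul (.mul (.mul (.mul (.mul (.mul (.mul (.mul (.mul (.mul (.mul (.g .u) (.g .b)) (.g .u)) (.g .d)) (.g .u)) (.g .d)) (.g .u)) (.g .b)) (.g .S)) (.g .u)) (.g .d)) (.g .u))

/-- second part of the word `ubududubSududUTsdusbUdubu` -/
def wgY_2 : Wd := (.mul (.mul (.mul (.mul (.mul (.mul (.mul (.mul (.mul (.mul (.mul (.mul (.g .d) (.g .U)) (.g .T)) (.g .s)) (.g .d)) (.g .u)) (.g .s)) (.g .b)) (.g .U)) (.g .d)) (.g .u)) (.g .b)) (.g .u))

/-- the conjugating word `ubududubSududUTsdusbUdubu` -/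
def gY : Wd := .mul wgY_1 wgY_2

theorem ck_gY_1 : Nat.beq (evN false wgY_1) (expd mgY_1) = true := by decide +kernel

theorem ck_gY_2 : Nat.beq (Words248.mul (expd mgY_1) (evN false wgY_2)) (expd mgY_2) = true := by decide +kernel

theorem rep_gY : Rep (expd mgY_2) (evG gY) :=
  (((rep_word wgY_1).of_beq ck_gY_1).mul (rep_word wgY_2)).of_beq ck_gY_2

theorem ck_gY : Nat.beq (Words248.mul (evN false (.pow (.g .s) 2)) (expd mgY_2)) (Words248.mul (expd mgY_2) (expd my)) = true := by
  decide +kernel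

theorem eY : evG (.g .s) ^ 2 * evG gY = evG gY * evG wy := by
  have h1 := (rep_word (.pow (.g .s) 2)).mul rep_gY
  exact (h1.of_beq ck_gY).eq (rep_gY.mul rep_my)


end Cfsg.Agent.ThType.SevenGY
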