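import Cfsg.Prelude.Def_Sporadic
import Cfsg.Agent.ThType.SevenGY
import Cfsg.Agent.ThType.SevenG2
import Cfsg.Agent.ThType.SevenG6
import Cfsg.Agent.ThType.SevenAbstract

/-!
# Every element of order 7 of the presented Thompson group commutes with an involution

Conditional on `IsTh Spor.Th` (order and simplicity, S1700), given as a hypothesis.
-/

set_option autoImplicit false

namespace Cfsg.Agent.ThType.Seven

open Cfsg.Agent.Th.Gen248 Cfsg.Agent.Th.Hom248 Cfsg.Agent.ThType.SevenBase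
  Cfsg.Agent.ThType.SevenGY Cfsg.Agent.ThType.SevenG2 Cfsg.Agent.ThType.SevenG6 Cfsg.Agent.ThType.SevenAbstract

/-- the value of a word in the presented Thompson group -/
noncomputable def W (w : Wd) : Cfsg.Spor.Th := PresentedGroup.mk _ (toFree w)

theorem rho_W (w : Wd) : rho (W w) = evG w := rho_mk w

theorem W_mul (x y : Wd) : W (.mul x y) = W x * W y := map_mul _ _ _

theorem W_inv (x : Wd) : W (.inv x) = (W x)⁻¹ := map_inv _ _

theorem W_pow (x : Wd) (n : ℕ) : W (.pow x n) = W x ^ n := map_pow _ _ _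

theorem W_one : W .one = 1 := map_one _

/-- the 248-dimensional representation is faithful -/
theorem rho_injective (h : Cfsg.IsTh Cfsg.Spor.Th) : Function.Injective rho := by
  have := h.1
  rw [← MonoidHom.ker_eq_bot_iff]
  rcases IsSimpleGroup.eq_bot_or_eq_top_of_normal rho.ker inferInstance with h1 | h1
  · exact h1
  · exfalso
    apply evG_ne ck_a
    have h2 : W (.g .a) ∈ rho.ker := by rw [h1]; trivial
    rw [MonoidHom.mem_ker, rho_W] at h2
    rw [h2]
    rfl

theorem W_eq (h : Cfsg.IsTh Cfsg.Spor.Th) {v w : Wd} (hvw : evG v = evG w) : W v = W w := by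
  apply rho_injective h
  rw [rho_W, rho_W]
  exact hvw

theorem W_ne {v w : Wd} (hvw : evG v ≠ evG w) : W v ≠ W w := by
  intro heq
  apply hvw
  rw [← rho_W, ← rho_W, heq]

/-- Every element of order 7 of `Spor.Th` commutes with an involution. -/
theorem exists_involution_Th (h : Cfsg.IsTh Cfsg.Spor.Th) {k : Cfsg.Spor.Th} (hk : orderOf k = 7) :
    ∃ σ : Cfsg.Spor.Th, orderOf σ = 2 ∧ σ * k = k * σ := by
  have : Finite Cfsg.Spor.Th := Nat.finite_of_card_ne_zero (by rw [h.2]; norm_num)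
  have hrel : ∀ w ∈ ws, W w = 1 := by
    intro w hw
    apply PresentedGroup.mk_eq_one_iff.2
    apply Subgroup.subset_normalClosure
    right
    rw [Set.mem_ofPred_eq, extra_eq]
    exact List.mem_map_of_mem hw
  have ra : W w1 = 1 := hrel w1 (by simp [ws])
  have rs : W w15 = 1 := hrel w15 (by simp [ws])
  have rsa : W w16 = 1 := hrel w16 (by simp [ws])
  have rtb : W w23 = 1 := hrel w23 (by simp [ws])
  have rtc : W w24 = 1 := hrel w24 (by simp [ws])
  have rtd : W w25 = 1 := hrel w25 (by simp [ws])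
  have rst : W w27 = 1 := hrel w27 (by simp [ws])
  have hcomm : ∀ p q : Cfsg.Spor.Th, p⁻¹ * q⁻¹ * p * q = 1 → p * q = q * p := by
    intro p q hpq
    have h1 : q * p * (p⁻¹ * q⁻¹ * p * q) = p * q := by group
    rw [← h1, hpq, mul_one]
  have htb : W (.g .t) * W (.g .b) = W (.g .b) * W (.g .t) := by
    apply hcomm
    rw [← rtb]
    simp only [w23, W_mul, W_inv]
  have htc : W (.g .t) * W (.g .c) = W (.g .c) * W (.g .t) := by
    apply hcomm
    rw [← rtc]
    simp only [w24, W_mul, W_inv]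
  have htd : W (.g .t) * W (.g .d) = W (.g .d) * W (.g .t) := by
    apply hcomm
    rw [← rtd]
    simp only [w25, W_mul, W_inv]
  have hsa : W (.g .s) * W (.g .a) = W (.g .a) * W (.g .s) := by
    apply hcomm
    rw [← rsa]
    simp only [w16, W_mul, W_inv]
  refine exists_involution (s := W (.g .s)) (y := W wy) (t := W (.g .t)) (a := W (.g .a)) (gY := W gY) (g2 := W g2)
    (g6 := W g6) (n₁ := 2) (n₂ := 1) (n₃ := 2) ?_ ?_ ?_ ?_ ?_ ?_ ?_ ?_ ?_ ?_ ?_ ?_ ?_ hk
  · rw [← W_pow]; exact rs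
  · rw [← W_one]; exact W_ne (evG_ne ck_s)
  · rw [← W_pow, ← W_one]; exact W_eq h y7
  · rw [← W_mul, ← W_mul]; exact W_eq h sy
  · rw [h.2]; norm_num
  · apply orderOf_eq_prime
    · rw [← W_pow]; exact ra
    · rw [← W_one]; exact W_ne (evG_ne ck_a)
  · exact hsa.symm
  · rw [← W_mul, ← W_mul]; exact W_ne ay
  · have h1 : (W (.g .t))⁻¹ * W (.g .s) * W (.g .t) * (W (.g .s) ^ 2)⁻¹ = 1 := by
      rw [← rst]
      simp only [w27, W_mul, W_inv, W_pow]
    rw [mul_inv_eq_one] at h1
    rw [← h1]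
    group
  · have hb : Commute (W (.g .b)) (W (.g .t)) := htb.symm
    have hc : Commute (W (.g .c)) (W (.g .t)) := htc.symm
    have hd : Commute (W (.g .d)) (W (.g .t)) := htd.symm
    have : W wy = W (.g .c) * W (.g .b) * W (.g .d) * W (.g .c) * W (.g .d) := by
      simp only [wy, W_mul]
    rw [this]
    exact ((((hc.mul_left hb).mul_left hd).mul_left hc).mul_left hd).eq
  · rw [← W_pow, ← W_mul, ← W_mul]; exact W_eq h eY
  · rw [← W_pow, ← W_pow, ← W_mul, ← W_mul, ← W_mul]; exact W_eq h e2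
  · rw [← W_pow, ← W_pow, ← W_mul, ← W_mul, ← W_mul]; exact W_eq h e6

end Cfsg.Agent.ThType.Seven
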