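import Mathlib.GroupTheory.SpecificGroups.Alternating
import Mathlib.LinearAlgebra.Matrix.ToLin
import Mathlib.Data.ZMod.Basic
import Mathlib.Tactic

/-!
# Thompson type (project R05): the interface for the action of `A₉` on `Q/⟨z⟩`

`SpinAt G z` packages, for an involution `z` of `G` with `C_G(z)` of shape `2^(1+8).A₉` of spin type,
the subgroup `Q = O₂(C_G(z))`, the map `φ : C_G(z) → A₉` with kernel `Q`, and coordinates
`π : Q → F₂⁸` on `Q/⟨z⟩` in which the seven 3-cycles `(0 1 k+2)` act by the explicit matrices `X k`,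
the squaring map is the explicit quadratic form `q0` and the commutator map its polar form `b0`.
Everything is stated with total functions on `G` and membership hypotheses.
-/

set_option autoImplicit false

namespace Cfsg.Agent.ThType.SpinData

open Equiv

/-- the vector space `F₂⁸` -/
abbrev V : Type := Fin 8 → ZMod 2

/-- the 3-cycle `0 → 1 → k+2 → 0` as a permutation of `Fin 9` -/
def cycPerm (k : Fin 7) : Perm (Fin 9) := swap 0 1 * swap 1 ⟨k.1 + 2, by omega⟩

/-- the 3-cycle `0 → 1 → k+2 → 0` as an element of `A₉` -/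
def cyc (k : Fin 7) : alternatingGroup (Fin 9) :=
  ⟨cycPerm k, by
    rw [Equiv.Perm.mem_alternatingGroup]
    revert k
    decide⟩

/-- rows of the matrices `X k`, bit `j` of `rows k i` is the entry `(i, j)` -/
def rows : Fin 7 → Fin 8 → ℕ :=
  ![![9, 5, 14, 1, 160, 96, 32, 208],
    ![72, 134, 18, 41, 144, 64, 96, 16],
    ![10, 7, 8, 12, 48, 16, 224, 80],
    ![2, 3, 10, 13, 176, 80, 192, 64],
    ![3, 1, 12, 4, 32, 48, 128, 192],
    ![11, 4, 6, 5, 128, 112, 160, 144],
    ![8, 6, 2, 9, 148, 72, 97, 18]]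

/-- the explicit matrix of the 3-cycle `cyc k` on the spin module; `X k` for `k ≤ 5` (letters `≤ 7`)
leaves the span `E8` of the first four coordinate vectors invariant -/
def X (k : Fin 7) : Matrix (Fin 8) (Fin 8) (ZMod 2) :=
  Matrix.of fun i j => if (rows k i).testBit j.1 then 1 else 0

/-- the invariant quadratic form -/
def q0 (v : V) : ZMod 2 := v 0 * v 4 + v 1 * v 5 + v 2 * v 6 + v 3 * v 7

/-- the polar form of `q0` -/
def b0 (v w : V) : ZMod 2 :=
  v 0 * w 4 + v 4 * w 0 + v 1 * w 5 + v 5 * w 1 + v 2 * w 6 + v 6 * w 2 + v 3 * w 7 + v 7 * w 3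

theorem b0_eq (v w : V) : q0 (v + w) = q0 v + q0 w + b0 v w := by
  simp only [q0, b0, Pi.add_apply]
  ring

/-- The 2-local data at an involution `z` of Thompson type. -/
structure SpinAt (G : Type*) [Group G] (z : G) where
  /-- `O₂(C_G(z))` -/
  Q : Subgroup G
  /-- the map `C_G(z) → A₉` (only its values on `C_G(z)` matter) -/
  φ : G → alternatingGroup (Fin 9)
  /-- coordinates on `Q/⟨z⟩` (only its values on `Q` matter) -/
  π : G → V
  /-- the representation of `A₉` on `F₂⁸` -/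
  ρ : alternatingGroup (Fin 9) →* Matrix (Fin 8) (Fin 8) (ZMod 2)
  z_ne : z ≠ 1
  z_sq : z * z = 1
  Q_le : ∀ x ∈ Q, x * z = z * x
  z_mem : z ∈ Q
  φ_mul : ∀ x y : G, x * z = z * x → y * z = z * y → φ (x * y) = φ x * φ y
  φ_surj : ∀ g : alternatingGroup (Fin 9), ∃ x : G, x * z = z * x ∧ φ x = g
  φ_eq_one : ∀ x : G, x * z = z * x → (φ x = 1 ↔ x ∈ Q)
  π_mul : ∀ x ∈ Q, ∀ y ∈ Q, π (x * y) = π x + π y
  π_surj : ∀ v : V, ∃ x ∈ Q, π x = v
  π_eq_zero : ∀ x ∈ Q, (π x = 0 ↔ x = 1 ∨ x = z)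
  sq : ∀ x ∈ Q, x * x = if q0 (π x) = 0 then 1 else z
  comm : ∀ x ∈ Q, ∀ y ∈ Q, x * y = (if b0 (π x) (π y) = 0 then 1 else z) * (y * x)
  ρ_cyc : ∀ k : Fin 7, ρ (cyc k) = X k
  act : ∀ c : G, c * z = z * c → ∀ x ∈ Q, π (c * x * c⁻¹) = (ρ (φ c)).mulVec (π x)

/-- first checks: `X k` has order three without fixed vectors, the alternating relations hold,
and `q0` is invariant -/
theorem X_sq (k : Fin 7) : X k * X k = X k + 1 := by
  revert k; decide +kernel

theorem X_mul_X (k l : Fin 7) (h : k ≠ l) : (X k * X l) * (X k * X l) = 1 := by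
  revert k l; decide +kernel

/-- `X k` acts without nonzero fixed vectors and preserves `q0`. -/
theorem q0_X (k : Fin 7) (v : V) : q0 ((X k).mulVec v) = q0 v := by
  revert k v; decide +kernel

theorem b0_X (k : Fin 7) (v w : V) : b0 ((X k).mulVec v) ((X k).mulVec w) = b0 v w := by
  have h := b0_eq ((X k).mulVec v) ((X k).mulVec w)
  rw [← Matrix.mulVec_add, q0_X, q0_X, q0_X, b0_eq] at h
  exact (add_left_cancel h).symm

end Cfsg.Agent.ThType.SpinData
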