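import Cfsg.Agent.ThType.SpinData
import Cfsg.Agent.CharactersDeep.SchurAltPerm
import Mathlib.Tactic

/-!
# Finite facts about the explicit spin module of `A₉` (project R05, helper935)

letter map on the 135 singular vectors, transitivity, large orbits of the stabiliser of `e0`.
-/

set_option autoImplicit false

namespace Cfsg.Agent.ThType.SpinFacts

open Equiv Cfsg.Agent.ThType.SpinData

/-! ### generation of `A₉` by the 3-cycles `(0 1 k+2)` -/

theorem closure_cyc : Subgroup.closure (Set.range cyc) = ⊤ := by
  rw [eq_top_iff]
  intro g _
  have h := Cfsg.Agent.CharactersDeep.SchurAltPerm.alternating_le_closure_x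
    (o := (0 : Fin 9)) (l := 1) (by decide)
    ((Subgroup.closure (Set.range cyc)).map (alternatingGroup (Fin 9)).subtype) (by
      intro c hc0 hc1
      obtain ⟨k, rfl⟩ : ∃ k : Fin 7, c = ⟨k.1 + 2, by omega⟩ := by
        refine ⟨⟨c.1 - 2, by omega⟩, ?_⟩
        apply Fin.ext
        have h0 : c.1 ≠ 0 := fun h => hc0 (Fin.ext h)
        have h1 : c.1 ≠ 1 := fun h => hc1 (Fin.ext h)
        show c.1 = c.1 - 2 + 2
        omega
      refine ⟨cyc k, Subgroup.subset_closure ⟨k, rfl⟩, ?_⟩
      show cycPerm k = _
      revert k
      decide)
  obtain ⟨g', hg', he⟩ := h g.2
  have : g' = g := Subtype.ext he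
  rwa [← this]

/-! ### masks -/

/-- the vector with bit mask `m` -/
def vec (m : ℕ) : V := fun i => if m.testBit i.1 then 1 else 0

/-- the bit mask of a vector -/
def msk (v : V) : ℕ :=
  (v 0).val + 2 * (v 1).val + 4 * (v 2).val + 8 * (v 3).val + 16 * (v 4).val + 32 * (v 5).val +
    64 * (v 6).val + 128 * (v 7).val

theorem msk_lt (v : V) : msk v < 256 := by
  have h : ∀ i, (v i).val < 2 := fun i => ZMod.val_lt (v i)
  have := h 0; have := h 1; have := h 2; have := h 3; have := h 4; have := h 5; have := h 6
  have := h 7
  unfold msk; omega

theorem vec_msk (v : V) : vec (msk v) = v := by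
  revert v; decide +kernel

theorem msk_vec : ∀ m < 256, msk (vec m) = m := by
  decide +kernel

/-- tables of the action of the seven 3-cycles on masks -/
def tab : Fin 7 → ℕ := ![
  25851131492400718897952680369120524025546656017056276893295021282800834633722615353899069040091562755154508099321043270198420023083273004927501588445130230305019417629798426409373282570667391544565981074537844425523095469516073650598972610443163201811885149996818104529882341791253026481065268318131490400927531995695115459321053831285583293852589150859138456515761420363692711415034337950072861070548221076750893640567058907974426688234501478222701225118744116312070446469780409136056892867157125850450176549131430836531261343740691044589233295648372251217928610666824185570790197959097365679185011491859564226415360,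
  21540729574458216455109432226100890382638767160370209736685804265242729648063085068026884010971949027333631185288677053326383934914206648310796200545157803510988868632616698223914513742027841265931506016790308764863830019747715894523784579754573915588991035125747196296736271218367593837949599568941362511526726423422974701263955878600664996825910270146288737365778366794246744488814243817262065311891441915946872576954616878724190006518901374140963724201715947070135610915624374988471444003655554304683410084061462831612037668654131659207968983530642109276402049571744901645529012233399548451726788725885922020034560,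
  12925814273224853255259070617161190498441422421668082804765769771358780312312514457370531934479093257282749402141890678036277621645970213432935944103003796192674733433826239959812612737474192508839190674866423201933241085966195962943381245221401151131985391318075897041202682389761134098607306010705511314517755638945744977208985060979357508853402152660263687937155300830744213429937509987680898528201455849443413471077574474739617461096714066796760653382318372097967968732974323021508176599468383586515328159380953031248316542710145276969620104789368793138262755310306727193807083871145615218794660009974878018142720,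
  19387254525875442301406174064213758591999815916818187440792918131647582666476145168643473989178410918943190305133916974442173357740706977221409584927550868540802285304763426922893359171433454838386455587564348005796994718308712365313676261722639358086873421587530131854640054896950252723857351708640408340083242548989363873366405292563598899195305368922415180457174314895954894931640011048615676489454181969990429511554754287921090739775479509622542756821406455178736754299749805209736062482878618210398211516853786567790859162430222434993975777683541729506446358670502967822131894849687693644109049358538167978232320,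
  11405510935513620400095845879434314424721036602161977666378899576494810527931197573245201423832016144221118432342595985447315910691045819916448200457807310163201096700192140843731568533602014081327752500803648171364770041679350010785852452883025437897682795424595089549049805846140994478121503258645003230824813681351121080556756820868432387779465759752580499978967254442371812390228308321027602343410361711975289080555502353492939061434158929735899715413604438064367239000013295606143532137521627570297957654540027389952222420350418902252481068647315121760879878408700830505288255713379545588759983384086344259142400,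
  6466858912231328784084153246067694000050836082886714752988189938890795275960465964403307037194974364827444648036528423180872360448466057517553934875609319614116548245732081825310568253057694268047527654364743564547919649825192401423789324909187502113683661367961837144281625092667605606788001725242902735407918459361792571637271180870004519654998474096816478722482524594707995091746486917658877122637961537553045053073696193674664647986838559420745173152530715041679167157673132322925271614270700798888514614088588930667741518650762622850592111689786289239867204671365580750791455459928347668150129126794519879420160,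
  10744963960882170731124785985440245561378501616016977660160328119137681847994517595506191870427018890925344811552029332952041472126667725345473295312088533485512419031937309013369589255570401486022220097900311294507442808617361471415279478686079260035022482148765415398402012261705828724209207819389841527459310314925319877996465751943074973403321949117868705405652007309285505994816737179158476967184195323294383562564125721533778448175762546750881561499045695394744012812000093723786374268356153978780685693511343431340269535847722517324480750226957228758009436326214371437935166692155896723573823823358948448552960]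

/-- action on masks -/
def ap (k : Fin 7) (m : ℕ) : ℕ := (tab k / 256 ^ m) % 256

theorem ap_lt (k : Fin 7) (m : ℕ) : ap k m < 256 := Nat.mod_lt _ (by norm_num)

/-- parity -/
def parN (x : ℕ) : ℕ := (x + x / 2 + x / 4 + x / 8 + x / 16 + x / 32 + x / 64 + x / 128) % 2

theorem par_eq : ∀ x < 256, (∑ j : Fin 8, (if x.testBit j.1 then (1 : ZMod 2) else 0)) =
    if parN x = 1 then 1 else 0 := by
  decide +kernel

theorem ap_check : ∀ k : Fin 7, ∀ m < 256, ∀ i : Fin 8,
    (ap k m).testBit i.1 = Nat.beq (parN ((rows k i) &&& m)) 1 := by
  decide +kernel

theorem rows_lt : ∀ (k : Fin 7) (i : Fin 8), rows k i < 256 := by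
  decide +kernel

theorem vec_ap (k : Fin 7) (m : ℕ) (hm : m < 256) : vec (ap k m) = (X k).mulVec (vec m) := by
  funext i
  have h1 : ((X k).mulVec (vec m)) i =
      ∑ j : Fin 8, (if ((rows k i) &&& m).testBit j.1 then (1 : ZMod 2) else 0) := by
    simp only [Matrix.mulVec, dotProduct, X, Matrix.of_apply, vec, Nat.testBit_and]
    refine Finset.sum_congr rfl fun j _ => ?_
    by_cases ha : (rows k i).testBit j.1 <;> by_cases hb : m.testBit j.1 <;> simp [ha, hb]
  have hlt : (rows k i) &&& m < 256 := lt_of_le_of_lt Nat.and_le_left (rows_lt k i)
  rw [h1, par_eq _ hlt]
  show (if (ap k m).testBit i.1 then (1 : ZMod 2) else 0) = _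
  rw [ap_check k m hm i]
  by_cases h : parN ((rows k i) &&& m) = 1
  · rw [if_pos h, if_pos (by rw [Nat.beq_eq]; exact h)]
  · rw [if_neg h, if_neg (by rw [Nat.beq_eq]; exact h)]

/-- the quadratic form on masks -/
def qN (m : ℕ) : ℕ := parN ((m % 16) &&& (m / 16))

theorem q0_vec : ∀ m < 256, (q0 (vec m) = 0 ↔ qN m = 0) := by
  decide +kernel

/-! ### the letter map -/

/-- table of the letters of the singular vectors (hexadecimal digits) -/
def ltab : ℕ := 74143779155975046034863864465713462325810625134233016137193063331091333424360866414194010445781565675491884550848170787475466859227345126416608422558311782860471962158830327051982140831825880605838544413531401913404594119189766007936098994220589235223881075268360142236692083179112202921917902988994138376329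

/-- letter of a mask -/
def ltN (m : ℕ) : ℕ := (ltab / 16 ^ m) % 16

/-- the letter of a nonzero singular vector (junk otherwise) -/
def lt (v : V) : Fin 9 := ⟨ltN (msk v) % 9, Nat.mod_lt _ (by norm_num)⟩

theorem lt_vec_ap : ∀ k : Fin 7, ∀ m < 256, m ≠ 0 → qN m = 0 →
    (⟨ltN (ap k m) % 9, Nat.mod_lt _ (by norm_num)⟩ : Fin 9) =
      cycPerm k ⟨ltN m % 9, Nat.mod_lt _ (by norm_num)⟩ := by
  decide +kernel

theorem lt_eight_masks : ∀ m < 256, m ≠ 0 → qN m = 0 → (ltN m % 9 = 8 ↔ m < 16) := by
  decide +kernel

theorem vec_zero : vec 0 = 0 := by decide +kernel

theorem msk_zero : msk 0 = 0 := by decide +kernel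

theorem msk_ne_zero {v : V} (hv : v ≠ 0) : msk v ≠ 0 := by
  intro h
  apply hv
  rw [← vec_msk v, h, vec_zero]

theorem lt_X (k : Fin 7) (v : V) (h0 : q0 v = 0) (hv : v ≠ 0) :
    lt ((X k).mulVec v) = cycPerm k (lt v) := by
  have hm := msk_lt v
  have h1 : (X k).mulVec v = vec (ap k (msk v)) := by rw [vec_ap _ _ hm, vec_msk]
  have h2 := lt_vec_ap k (msk v) hm (msk_ne_zero hv) ((q0_vec _ hm).1 (by rw [vec_msk]; exact h0))
  rw [← show (⟨ltN (msk v) % 9, Nat.mod_lt _ (by norm_num)⟩ : Fin 9) = lt v from rfl, ← h2, h1]
  apply Fin.ext
  show ltN (msk (vec (ap k (msk v)))) % 9 = ltN (ap k (msk v)) % 9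
  rw [msk_vec _ (ap_lt _ _)]

/-- the span of the first four coordinate vectors -/
def W8 (v : V) : Prop := v 4 = 0 ∧ v 5 = 0 ∧ v 6 = 0 ∧ v 7 = 0

instance (v : V) : Decidable (W8 v) := by unfold W8; infer_instance

theorem W8_vec : ∀ m < 256, (W8 (vec m) ↔ m < 16) := by
  decide +kernel

theorem lt_eq_eight_iff (v : V) (h0 : q0 v = 0) (hv : v ≠ 0) : lt v = 8 ↔ W8 v := by
  have hm := msk_lt v
  have h1 := lt_eight_masks (msk v) hm (msk_ne_zero hv)
    ((q0_vec _ hm).1 (by rw [vec_msk]; exact h0))
  have h2 := W8_vec (msk v) hm
  rw [vec_msk] at h2
  rw [h2, ← h1]
  constructor
  · intro h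
    exact congrArg Fin.val h
  · intro h
    exact Fin.ext h

/-! ### reachability on masks -/

/-- membership test -/
def memb (x : ℕ) : List ℕ → Bool
  | [] => false
  | y :: ys => if Nat.beq x y then true else memb x ys

theorem memb_iff (x : ℕ) (L : List ℕ) : memb x L = true ↔ x ∈ L := by
  induction L with
  | nil => simp [memb]
  | cons y ys ih =>
    unfold memb
    by_cases h : Nat.beq x y = true
    · rw [if_pos h]
      rw [Nat.beq_eq] at h
      simp [h]
    · rw [if_neg h, ih]
      rw [Nat.beq_eq] at h
      simp [h]

/-- add the images of the list under `f` -/
def addAll (f : ℕ → ℕ) : List ℕ → List ℕ → List ℕ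
  | [], acc => acc
  | x :: xs, acc => addAll f xs (if memb (f x) acc then acc else f x :: acc)

/-- orbit computation -/
def orb (fs : List (ℕ → ℕ)) : ℕ → List ℕ → List ℕ
  | 0, L => L
  | n + 1, L => orb fs n (fs.foldl (fun acc f => addAll f L acc) L)

theorem addAll_prop (P : ℕ → Prop) (f : ℕ → ℕ) (hf : ∀ x, P x → P (f x)) :
    ∀ (L acc : List ℕ), (∀ x ∈ L, P x) → (∀ x ∈ acc, P x) → ∀ x ∈ addAll f L acc, P x := by
  intro L
  induction L with
  | nil => intro acc _ h2; exact h2
  | cons y ys ih =>
    intro acc h1 h2
    unfold addAll
    refine ih _ (fun x hx => h1 x (List.mem_cons_of_mem _ hx)) ?_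
    split_ifs
    · exact h2
    · intro x hx
      rcases List.mem_cons.1 hx with rfl | hx
      · exact hf _ (h1 y (List.mem_cons_self ..))
      · exact h2 x hx

theorem addAll_nodup (f : ℕ → ℕ) : ∀ (L acc : List ℕ), acc.Nodup → (addAll f L acc).Nodup := by
  intro L
  induction L with
  | nil => intro acc h; exact h
  | cons y ys ih =>
    intro acc h
    unfold addAll
    refine ih _ ?_
    by_cases hm : memb (f y) acc = true
    · rw [if_pos hm]; exact h
    · rw [if_neg hm]
      rw [List.nodup_cons]
      exact ⟨fun h' => hm ((memb_iff _ _).2 h'), h⟩

theorem fold_prop (P : ℕ → Prop) (L : List ℕ) (hL : ∀ x ∈ L, P x) : ∀ (fs : List (ℕ → ℕ))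
    (_ : ∀ f ∈ fs, ∀ x, P x → P (f x)) (acc : List ℕ) (_ : ∀ x ∈ acc, P x),
    ∀ x ∈ fs.foldl (fun acc f => addAll f L acc) acc, P x := by
  intro fs
  induction fs with
  | nil => intro _ acc h; exact h
  | cons f fs ih =>
    intro hf acc h
    rw [List.foldl_cons]
    exact ih (fun g hg => hf g (List.mem_cons_of_mem _ hg)) _
      (addAll_prop P f (hf f (List.mem_cons_self ..)) L acc hL h)

theorem fold_nodup (L : List ℕ) : ∀ (fs : List (ℕ → ℕ)) (acc : List ℕ) (_ : acc.Nodup),
    (fs.foldl (fun acc f => addAll f L acc) acc).Nodup := by
  intro fs
  induction fs with
  | nil => intro acc h; exact h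
  | cons f fs ih =>
    intro acc h
    rw [List.foldl_cons]
    exact ih _ (addAll_nodup f L acc h)

theorem orb_prop (P : ℕ → Prop) (fs : List (ℕ → ℕ)) (hf : ∀ f ∈ fs, ∀ x, P x → P (f x)) :
    ∀ (n : ℕ) (L : List ℕ), (∀ x ∈ L, P x) → ∀ x ∈ orb fs n L, P x := by
  intro n
  induction n with
  | zero => intro L h; exact h
  | succ n ih =>
    intro L h
    exact ih _ (fold_prop P L h fs hf L h)

theorem orb_nodup (fs : List (ℕ → ℕ)) : ∀ (n : ℕ) (L : List ℕ), L.Nodup → (orb fs n L).Nodup := by
  intro n
  induction n with
  | zero => intro L h; exact h
  | succ n ih =>
    intro L h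
    exact ih _ (fold_nodup L fs L h)

theorem reach_all : ∀ m < 256, m ≠ 0 → qN m = 0 →
    memb m (orb [ap 0, ap 1, ap 2, ap 3, ap 4, ap 5, ap 6] 4 [1]) = true := by
  decide +kernel

/-- four elements of the stabiliser of the mask `1` -/
def st : List (ℕ → ℕ) :=
  [fun m => ap 3 (ap 0 m), fun m => ap 5 (ap 1 m), fun m => ap 4 (ap 2 m),
    fun m => ap 3 (ap 2 (ap 1 (ap 0 m)))]

theorem st_fix : ∀ f ∈ st, f 1 = 1 := by
  intro f hf
  simp only [st, List.mem_cons, List.not_mem_nil, or_false] at hf
  rcases hf with rfl | rfl | rfl | rfl <;> decide +kernel

theorem orb_large : ∀ m < 256, m ≠ 0 → qN m = 0 → 16 ≤ m → 15 ≤ (orb st 3 [m]).length := by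
  decide +kernel

end Cfsg.Agent.ThType.SpinFacts
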